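import Groth.Agent.H54.Weighting
import Mathlib.AlgebraicGeometry.Morphisms.UniversallyOpen
import Mathlib.Topology.Semicontinuity.Defs

/-!
# Consequences for positive weightings
-/

universe u

open AlgebraicGeometry CategoryTheory Limits Topology Filter

namespace Groth.Agent.H54.Weighting

open GeomLift MorphismProperty

variable {X Y : Scheme.{u}} {f : X ⟶ Y} [LocallyQuasiFinite f] [LocallyOfFiniteType f] {w : X → ℤ}

theorem isWeighting_baseChange (hw : MoreMor.IsWeighting f w) {X' Y' : Scheme.{u}} {f' : X' ⟶ Y'}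
    {h : X' ⟶ X} {g : Y' ⟶ Y} (hc : IsPullback h f' f g) : MoreMor.IsWeighting f' (w ∘ h) := by
  intro V e _ U hU
  exact isLocallyConstant_baseChange f hw ((IsPullback.of_hasPullback f' e).paste_horiz hc) U.ι

variable {k : Type u} [Field k] [IsAlgClosed k] {xb : Spec (CommRingCat.of k) ⟶ X}

/-- Near the base point the integral over the isolating piece equals the weight of the point. -/
lemma Datum.eventually_integral_eq (hw : MoreMor.IsWeighting f w) (D : Datum f xb) :
    ∀ᶠ v in 𝓝 (pt D.η), MoreMor.fibreIntegral (D.j ≫ pullback.snd f D.a)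
      (fun p => w (pullback.fst f D.a (D.j p))) v = w (pt xb) := by
  have h := isLocallyConstant_openImmersion hw D.a D.j D.fin
  letI : Unique (Lift (D.j ≫ pullback.snd f D.a) D.η) :=
    ⟨⟨⟨D.p, D.hp_snd⟩⟩, fun q => Subtype.ext (D.uniq q.1 q.2)⟩
  filter_upwards [h.eventually_eq (pt D.η)] with v hv
  rw [hv, fibreIntegral_eq_sum, finsum_unique]
  show w (pullback.fst f D.a (D.j (pt D.p))) = w (pt xb)
  exact congrArg (fun m => w (pt m)) D.hp_fst

omit [IsAlgClosed k] [LocallyQuasiFinite f] [LocallyOfFiniteType f] in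
lemma Datum.apply_fst (D : Datum f xb) :
    pullback.fst f D.a (D.j (pt D.p)) = pt xb :=
  congrArg pt D.hp_fst

omit [IsAlgClosed k] [LocallyQuasiFinite f] [LocallyOfFiniteType f] in
lemma Datum.apply_snd (D : Datum f xb) :
    (D.j ≫ pullback.snd f D.a) (pt D.p) = pt D.η :=
  congrArg pt D.hp_snd

theorem upperSemicontinuous (hw : MoreMor.IsWeighting f w) (hpos : ∀ x, 0 ≤ w x) :
    UpperSemicontinuous w := by
  intro x c hc
  obtain ⟨K, _, _, xb, rfl⟩ := exists_pt_eq x
  obtain ⟨D⟩ := nonempty_datum f xb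
  obtain ⟨N, hN, hNo, hηN⟩ := eventually_nhds_iff.mp (D.eventually_integral_eq hw)
  have hopen : IsOpen ((D.j ≫ pullback.fst f D.a) '' ((D.j ≫ pullback.snd f D.a) ⁻¹' N)) :=
    (D.j ≫ pullback.fst f D.a).isOpenMap _ (hNo.preimage (D.j ≫ pullback.snd f D.a).continuous)
  refine Filter.mem_of_superset (hopen.mem_nhds ⟨pt D.p, ?_, D.apply_fst⟩) ?_
  · show (D.j ≫ pullback.snd f D.a) (pt D.p) ∈ N
    rw [D.apply_snd]; exact hηN
  rintro _ ⟨p, hp, rfl⟩
  show w _ < c
  refine lt_of_le_of_lt ?_ hc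
  rw [← hN _ hp]
  obtain ⟨L, _, _, ζ, hζ⟩ := exists_pt_eq ((D.j ≫ pullback.snd f D.a) p)
  have := finite_lift (D.j ≫ pullback.snd f D.a) ζ
    (Scheme.Hom.finite_preimage_singleton (D.j ≫ pullback.snd f D.a) _)
  obtain ⟨s, hs⟩ := exists_lift (D.j ≫ pullback.snd f D.a) ζ p hζ.symm
  rw [← hζ, ← hs]
  exact fibreIntegral_nonneg_single (D.j ≫ pullback.snd f D.a) ζ
    (fun q => w (pullback.fst f D.a (D.j q))) (fun q => hpos _) s

theorem isOpenMap_of_pos (hw : MoreMor.IsWeighting f w) (hpos : ∀ x, 0 < w x) : IsOpenMap f := by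
  intro W hW
  rw [isOpen_iff_mem_nhds]
  rintro _ ⟨x, hx, rfl⟩
  obtain ⟨K, _, _, xb, rfl⟩ := exists_pt_eq x
  obtain ⟨D⟩ := nonempty_datum f xb
  let π := D.j ≫ pullback.snd f D.a
  have hsub := eventually_fibre_mem π.isClosedMap
    (hW.preimage (D.j ≫ pullback.fst f D.a).continuous) (v := pt D.η) fun p hp => by
      obtain ⟨q, rfl⟩ := exists_lift π D.η p hp
      show pullback.fst f D.a (D.j (pt q.1)) ∈ W
      rw [D.uniq q.1 q.2, D.apply_fst]; exact hx
  have hne : ∀ᶠ v in 𝓝 (pt D.η), ∃ p, π p = v := by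
    filter_upwards [D.eventually_integral_eq hw] with v hv
    by_contra hcon
    have : IsEmpty {p : D.P // π p = v} := ⟨fun p => hcon ⟨p.1, p.2⟩⟩
    rw [FibreIntegral.fibreIntegral_eq, finsum_of_isEmpty] at hv
    exact (hpos (pt xb)).ne hv
  have hηy : D.a (pt D.η) = f (pt xb) := congrArg pt D.hη
  rw [← hηy]
  refine Filter.mem_of_superset (D.a.isOpenMap.image_mem_nhds (hsub.and hne)) ?_
  rintro _ ⟨v, ⟨hv, p, rfl⟩, rfl⟩
  refine ⟨_, hv p rfl, ?_⟩
  have := congrArg (fun m => (D.j ≫ m) p) (pullback.condition (f := f) (g := D.a))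
  simpa [π] using this

theorem universallyOpen_of_pos (hw : MoreMor.IsWeighting f w) (hpos : ∀ x, 0 < w x) :
    UniversallyOpen f := by
  refine ⟨MorphismProperty.universally_mk' _ _ fun {T} g _ => ?_⟩
  have : LocallyQuasiFinite (pullback.fst g f) := inferInstance
  exact isOpenMap_of_pos (f := pullback.fst g f) (w := w ∘ pullback.snd g f)
    (isWeighting_baseChange hw (IsPullback.of_hasPullback g f).flip) fun x => hpos _

section Separated

variable [IsSeparated f] (hw : MoreMor.IsWeighting f w) (hpos : ∀ x, 0 ≤ w x)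
  (hfin : ∀ y : Y, (f ⁻¹' {y}).Finite) {K : Type u} [Field K] [IsAlgClosed K]
  (ξ : Spec (CommRingCat.of K) ⟶ Y)

include hw hfin in
/-- For a separated morphism there is an etale neighbourhood over which the integral dominates disjoint
finite pieces of constant integral. -/
theorem exists_separated_pieces [Fintype (Lift f ξ)] :
    ∃ (W : Scheme.{u}) (φ : W ⟶ Y) (_ : Etale φ) (η : Spec (CommRingCat.of K) ⟶ W)
      (Q : Lift f ξ → Scheme.{u}) (i : ∀ s, Q s ⟶ pullback f φ)
      (_ : ∀ s, IsOpenImmersion (i s)) (_ : ∀ s, IsFinite (i s ≫ pullback.snd f φ)),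
      η ≫ φ = ξ ∧ ∀ᶠ v in 𝓝 (pt η),
        MoreMor.fibreIntegral f w (pt ξ) = MoreMor.fibreIntegral (pullback.snd f φ)
          ((⋃ s, Set.range (i s)).indicator fun t => w (pullback.fst f φ t)) v ∧
        MoreMor.fibreIntegral f w (φ v) =
          MoreMor.fibreIntegral (pullback.snd f φ) (fun t => w (pullback.fst f φ t)) v ∧
        (pullback.snd f φ ⁻¹' {v}).Finite := by
  classical
  let D : ∀ s : Lift f ξ, Datum f s.1 := fun s => (nonempty_datum f _).some
  obtain ⟨W, φ, hφ, η, c, hη, hca, hcη⟩ := exists_common (𝟙 Y) ξ (fun s => (D s).V) (fun s => (D s).a)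
    (fun s => (D s).η) (fun s => by rw [(D s).hη, s.2, Category.comp_id])
  replace hca : ∀ s, c s ≫ (D s).a = φ := fun s => (hca s).trans (Category.comp_id _)
  let π := pullback.snd f φ
  let σ : Lift f ξ → (Spec (CommRingCat.of K) ⟶ pullback f φ) := fun s =>
    pullback.lift s.1 η (by rw [s.2, hη])
  have hσ1 : ∀ s, σ s ≫ π = η := fun s => pullback.lift_snd _ _ _
  have hσ2 : ∀ s, σ s ≫ pullback.fst f φ = s.1 := fun s => pullback.lift_fst _ _ _
  let i := fun s => (D s).piece φ (c s) (hca s)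
  have hinj : Function.Injective σ := fun s s' h => Subtype.ext (by rw [← hσ2, h, hσ2])
  have huniq : ∀ s q, q ≫ π = η → pt q ∈ Set.range (i s) → q = σ s := fun s q hq hm =>
    pullback.hom_ext (by rw [(D s).uniq_piece _ _ _ (hcη s) q hq hm, hσ2]) (hq.trans (hσ1 s).symm)
  have hfinπ : ∀ v, (π ⁻¹' {v}).Finite := fun v =>
    finite_fibre_of_isPullback (IsPullback.of_hasPullback f φ) v (hfin _)
  refine ⟨W, φ, hφ, η, _, i, fun s => inferInstance, fun s => inferInstance, hη, ?_⟩
  have hconst : ∀ᶠ v in 𝓝 (pt η), ∀ s, MoreMor.fibreIntegral (i s ≫ π)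
      (fun p => w (pullback.fst f φ (i s p))) v = w (pt s.1) := by
    refine eventually_all.mpr fun s => ?_
    filter_upwards [((D s).isLocallyConstant_piece φ (c s) (hca s) hw).eventually_eq (pt η)] with v hv
    rw [hv]
    have hm : pt (σ s) ∈ Set.range (i s) := (D s).mem_range_piece _ _ _ (hcη s) _ (hσ2 s) (hσ1 s)
    let q := IsOpenImmersion.lift (i s) (σ s) (range_subset_of_pt_mem _ _ hm)
    have hq : q ≫ i s = σ s := IsOpenImmersion.lift_fac _ _ _
    letI : Unique (Lift (i s ≫ π) η) :=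
      ⟨⟨⟨q, by rw [reassoc_of% hq, hσ1]⟩⟩, fun r => Subtype.ext (by
        show r.1 = q
        rw [← cancel_mono (i s), hq]
        exact huniq s _ (by rw [Category.assoc]; exact r.2) ⟨pt r.1, rfl⟩)⟩
    rw [fibreIntegral_eq_sum, finsum_unique]
    show w (pt ((q ≫ i s) ≫ pullback.fst f φ)) = w (pt s.1)
    rw [hq, hσ2]
  have hfξ : MoreMor.fibreIntegral f w (pt ξ) = ∑ s : Lift f ξ, w (pt s.1) := by
    rw [fibreIntegral_eq_sum, finsum_eq_sum_of_fintype]
  filter_upwards [hconst, eventually_sum_eq π _ i σ huniq hσ1 hinj ⊤ (fun _ => trivial)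
    (fun t => w (pullback.fst f φ t))] with v h1 h2
  refine ⟨?_, (fibreIntegral_baseChange (IsPullback.of_hasPullback f φ) w v (hfin _)).symm, hfinπ v⟩
  rw [hfξ, ← Finset.sum_congr rfl fun s _ => h1 s, h2]
  simp
  rfl

include hw hfin hpos in
theorem lowerSemicontinuous_integral : LowerSemicontinuous (MoreMor.fibreIntegral f w) := by
  intro y c hc
  obtain ⟨K, _, _, ξ, rfl⟩ := exists_pt_eq y
  have := finite_lift f ξ (hfin _)
  let := Fintype.ofFinite (Lift f ξ)
  obtain ⟨W, φ, _, η, Q, i, _, _, hη, h⟩ := exists_separated_pieces hw hfin ξ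
  show ∀ᶠ y in 𝓝 (pt ξ), c < MoreMor.fibreIntegral f w y
  rw [← hη, pt_comp] at hc ⊢
  refine Filter.mem_of_superset (φ.isOpenMap.image_mem_nhds h) ?_
  rintro _ ⟨v, ⟨h1, h2, h3⟩, rfl⟩
  show c < _
  refine lt_of_lt_of_le hc ?_
  rw [← show φ (pt η) = pt ξ from congrArg pt hη] at h1
  rw [h1, h2]
  exact fibreIntegral_mono _ v h3 fun t _ => Set.indicator_le_self' (fun a _ => hpos _) t

end Separated

end Groth.Agent.H54.Weighting
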