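import Groth.Prelude.Def_MoreMor
import Mathlib.AlgebraicGeometry.Morphisms.ClosedImmersion
import Mathlib.AlgebraicGeometry.Morphisms.FormallyUnramified
import Mathlib.AlgebraicGeometry.Morphisms.Etale
import Mathlib.RingTheory.Etale.Basic

/-!
# Formally etale morphisms by infinitesimal lifting
-/

universe u

open AlgebraicGeometry CategoryTheory Limits

namespace Groth.Agent.H54.FormalEtale

lemma surjective_specMap_mk (A : Type u) [CommRing A] (I : Ideal A) (hI : I ^ 2 = ⊥) :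
    Surjective (Spec.map (CommRingCat.ofHom (Ideal.Quotient.mk I))) := by
  refine ⟨fun p => ?_⟩
  have hle : I ≤ p.asIdeal := p.isPrime.le_of_pow_le (by rw [hI]; exact bot_le)
  have hp : p ∈ Set.range (PrimeSpectrum.comap (Ideal.Quotient.mk I)) := by
    rw [range_comap_of_surjective _ _ Ideal.Quotient.mk_surjective,
      Ideal.mk_ker]
    exact hle
  exact hp

variable {X Y Z X' S' : Scheme.{u}}

lemma smooth_of_comp_mono (f : X ⟶ Y) (g : Y ⟶ Z) [Mono g]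
    (h : MoreMor.IsFormallySmoothHom (f ≫ g)) : MoreMor.IsFormallySmoothHom f := by
  intro A _ I hI a b w
  obtain ⟨l, h₁, h₂⟩ := h A I hI a (b ≫ g) (by rw [reassoc_of% w])
  exact ⟨l, h₁, by rw [← cancel_mono g, Category.assoc, h₂]⟩

lemma comp (f : X ⟶ Y) (g : Y ⟶ Z) (hf : MoreMor.IsFormallyEtaleHom f)
    (hg : MoreMor.IsFormallyEtaleHom g) : MoreMor.IsFormallyEtaleHom (f ≫ g) := by
  intro A _ I hI a b w
  obtain ⟨m, ⟨hm₁, hm₂⟩, hmu⟩ := hg A I hI (a ≫ f) b (by rw [Category.assoc]; exact w)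
  obtain ⟨l, ⟨hl₁, hl₂⟩, hlu⟩ := hf A I hI a m hm₁
  refine ⟨l, ⟨hl₁, by rw [reassoc_of% hl₂, hm₂]⟩, fun l' hl' => hlu l' ⟨hl'.1, ?_⟩⟩
  exact hmu _ ⟨by rw [reassoc_of% hl'.1], by rw [Category.assoc]; exact hl'.2⟩

lemma comp_smooth (f : X ⟶ Y) (g : Y ⟶ Z) (hf : MoreMor.IsFormallySmoothHom f)
    (hg : MoreMor.IsFormallySmoothHom g) : MoreMor.IsFormallySmoothHom (f ≫ g) := by
  intro A _ I hI a b w
  obtain ⟨m, hm₁, hm₂⟩ := hg A I hI (a ≫ f) b (by rw [Category.assoc]; exact w)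
  obtain ⟨l, hl₁, hl₂⟩ := hf A I hI a m hm₁
  exact ⟨l, hl₁, by rw [reassoc_of% hl₂, hm₂]⟩

lemma of_comp (f : X ⟶ Y) (g : Y ⟶ Z) (hg : MoreMor.IsFormallyEtaleHom g)
    (h : MoreMor.IsFormallyEtaleHom (f ≫ g)) : MoreMor.IsFormallyEtaleHom f := by
  intro A _ I hI a b w
  obtain ⟨l, ⟨hl₁, hl₂⟩, hlu⟩ := h A I hI a (b ≫ g) (by rw [reassoc_of% w])
  obtain ⟨m, _, hmu⟩ := hg A I hI (a ≫ f) (b ≫ g) (by rw [reassoc_of% w, Category.assoc])
  have hlf : l ≫ f = b := by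
    rw [hmu (l ≫ f) ⟨by rw [reassoc_of% hl₁], by rw [Category.assoc]; exact hl₂⟩,
      hmu b ⟨w, rfl⟩]
  exact ⟨l, ⟨hl₁, hlf⟩, fun l' hl' => hlu l' ⟨hl'.1, by rw [reassoc_of% hl'.2]⟩⟩

lemma baseChange {f : X ⟶ Y} {g : S' ⟶ Y} {g' : X' ⟶ X} {f' : X' ⟶ S'}
    (hsq : IsPullback g' f' f g) (hf : MoreMor.IsFormallyEtaleHom f) :
    MoreMor.IsFormallyEtaleHom f' := by
  intro A _ I hI a b w
  obtain ⟨l, ⟨hl₁, hl₂⟩, hlu⟩ := hf A I hI (a ≫ g') (b ≫ g)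
    (by rw [Category.assoc, hsq.w, reassoc_of% w])
  refine ⟨hsq.lift l b hl₂, ⟨hsq.hom_ext ?_ ?_, by simp⟩, fun l' hl' => hsq.hom_ext ?_ ?_⟩
  · simpa using hl₁
  · simpa using w
  · simpa using hlu (l' ≫ g') ⟨by rw [reassoc_of% hl'.1],
      by rw [Category.assoc, hsq.w, reassoc_of% hl'.2]⟩
  · simpa using hl'.2

lemma of_isOpenImmersion (j : X ⟶ Y) [IsOpenImmersion j] : MoreMor.IsFormallyEtaleHom j := by
  intro A _ I hI a b w
  have hs := surjective_specMap_mk A I hI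
  have hr : Set.range b ⊆ Set.range j := by
    rintro _ ⟨p, rfl⟩
    obtain ⟨q, rfl⟩ := hs.surj p
    exact ⟨a q, by rw [← Scheme.Hom.comp_apply, ← w, Scheme.Hom.comp_apply]⟩
  refine ⟨IsOpenImmersion.lift j b hr, ⟨?_, IsOpenImmersion.lift_fac _ _ _⟩, fun l hl => ?_⟩
  · rw [← cancel_mono j, Category.assoc, IsOpenImmersion.lift_fac]; exact w
  · rw [← cancel_mono j, IsOpenImmersion.lift_fac]; exact hl.2

lemma resLE {f : X ⟶ Y} (hf : MoreMor.IsFormallyEtaleHom f) (U : X.Opens) (V : Y.Opens)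
    (h : U ≤ f ⁻¹ᵁ V) : MoreMor.IsFormallyEtaleHom (f.resLE V U h) := by
  refine of_comp _ V.ι (of_isOpenImmersion _) ?_
  rw [Scheme.Hom.resLE_comp_ι]
  exact comp _ _ (of_isOpenImmersion _) hf

lemma resLE_smooth {f : X ⟶ Y} (hf : MoreMor.IsFormallySmoothHom f) (U : X.Opens) (V : Y.Opens)
    (h : U ≤ f ⁻¹ᵁ V) : MoreMor.IsFormallySmoothHom (f.resLE V U h) := by
  refine smooth_of_comp_mono _ V.ι ?_
  rw [Scheme.Hom.resLE_comp_ι]
  exact comp_smooth _ _ (fun A _ I hI a b w => (of_isOpenImmersion U.ι A I hI a b w).exists) hf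

/-- Lifting against a square zero closed immersion with affine target. -/
lemma existsUnique_lift_of_isAffine {f : X ⟶ Y} (hf : MoreMor.IsFormallyEtaleHom f)
    {T T' : Scheme.{u}} (t : T ⟶ T') [IsClosedImmersion t] [IsAffine T']
    (hI : RingHom.ker t.appTop.hom ^ 2 = ⊥) (a : T ⟶ X) (b : T' ⟶ Y) (w : t ≫ b = a ≫ f) :
    ∃! l : T' ⟶ X, t ≫ l = a ∧ l ≫ f = b := by
  obtain ⟨I, e, he⟩ := IsClosedImmersion.Spec_iff.mp
    (inferInstance : IsClosedImmersion (t ≫ T'.isoSpec.hom))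
  have hJ : I ^ 2 = ⊥ := by
    rw [pow_two, eq_bot_iff, Ideal.mul_le]
    intro x hx y hy
    have key : ∀ z ∈ I, T'.isoSpec.hom.appTop ((Scheme.ΓSpecIso Γ(T', ⊤)).inv z) ∈
        RingHom.ker t.appTop.hom := by
      intro z hz
      rw [RingHom.mem_ker]
      have h2 : (t ≫ T'.isoSpec.hom).appTop ((Scheme.ΓSpecIso Γ(T', ⊤)).inv z) =
          (e.hom ≫ Spec.map (CommRingCat.ofHom (Ideal.Quotient.mk I))).appTop
            ((Scheme.ΓSpecIso Γ(T', ⊤)).inv z) := by rw [he]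
      have h3 : (Spec.map (CommRingCat.ofHom (Ideal.Quotient.mk I))).appTop
          ((Scheme.ΓSpecIso Γ(T', ⊤)).inv z) = 0 := by
        have h4 := congr($(Scheme.ΓSpecIso_inv_naturality (CommRingCat.ofHom (Ideal.Quotient.mk I))).hom z)
        simp only [CommRingCat.hom_comp, RingHom.comp_apply, CommRingCat.hom_ofHom,
          Ideal.Quotient.eq_zero_iff_mem.mpr hz, map_zero] at h4
        exact h4.symm
      simp only [Scheme.Hom.comp_appTop, CommRingCat.comp_apply, h3, map_zero] at h2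
      exact h2
    have h5 := Ideal.mul_mem_mul (key x hx) (key y hy)
    rw [← pow_two, hI, Ideal.mem_bot, ← map_mul, ← map_mul] at h5
    have : IsIso T'.isoSpec.hom.appTop := inferInstanceAs (IsIso (T'.isoSpec.hom.app ⊤))
    have hb1 : Function.Injective (T'.isoSpec.hom.appTop) := (ConcreteCategory.bijective_of_isIso _).1
    have hb2 : Function.Injective ((Scheme.ΓSpecIso Γ(T', ⊤)).inv) :=
      (ConcreteCategory.bijective_of_isIso _).1
    exact (Ideal.mem_bot).mpr (hb2 (hb1 (by rw [h5, map_zero, map_zero])))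
  have he' : t = e.hom ≫ Spec.map (CommRingCat.ofHom (Ideal.Quotient.mk I)) ≫ T'.isoSpec.inv := by
    rw [← Category.assoc, ← he, Category.assoc, Iso.hom_inv_id, Category.comp_id]
  obtain ⟨l, ⟨hl₁, hl₂⟩, hlu⟩ := hf Γ(T', ⊤) I hJ (e.inv ≫ a) (T'.isoSpec.inv ≫ b) (by
    rw [Category.assoc, ← w, he', Category.assoc, Category.assoc, Iso.inv_hom_id_assoc])
  refine ⟨T'.isoSpec.hom ≫ l, ⟨?_, by simp [hl₂]⟩, fun l' hl' => ?_⟩
  · simp [he', hl₁]
  · have h6 : Spec.map (CommRingCat.ofHom (Ideal.Quotient.mk I)) ≫ T'.isoSpec.inv ≫ l' = e.inv ≫ a := by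
      rw [← hl'.1, he', Category.assoc, Category.assoc, Iso.inv_hom_id_assoc]
    rw [← hlu (T'.isoSpec.inv ≫ l') ⟨h6, by rw [Category.assoc, hl'.2]⟩, Iso.hom_inv_id_assoc]

section Glue

variable {T T' : Scheme.{u}} (t : T ⟶ T') (f : X ⟶ Y) (a : T ⟶ X) (b : T' ⟶ Y)

/-- `l` is a lift of the square over the open `W` of `T'`. -/
def IsLift (W : T'.Opens) (l : (W : Scheme.{u}) ⟶ X) : Prop :=
  (t.resLE W (t ⁻¹ᵁ W) le_rfl) ≫ l = (t ⁻¹ᵁ W).ι ≫ a ∧ l ≫ f = W.ι ≫ b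

lemma isLift_restrict {W W' : T'.Opens} (h : W' ≤ W) {l : (W : Scheme.{u}) ⟶ X}
    (hl : IsLift t f a b W l) : IsLift t f a b W' (T'.homOfLE h ≫ l) := by
  refine ⟨?_, by rw [Category.assoc, hl.2, Scheme.homOfLE_ι_assoc]⟩
  have h1 : t.resLE W' (t ⁻¹ᵁ W') le_rfl ≫ T'.homOfLE h =
      T.homOfLE (t.preimage_mono h) ≫ t.resLE W (t ⁻¹ᵁ W) le_rfl := by
    rw [← cancel_mono W.ι]; simp
  rw [reassoc_of% h1, hl.1, Scheme.homOfLE_ι_assoc]

lemma isLift_restrict_global {W : T'.Opens} {l : T' ⟶ X} (h₁ : t ≫ l = a) (h₂ : l ≫ f = b) :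
    IsLift t f a b W (W.ι ≫ l) :=
  ⟨by rw [Scheme.Hom.resLE_comp_ι_assoc, h₁], by rw [Category.assoc, h₂]⟩

/-- If each point has a neighbourhood on whose affine opens lifts exist uniquely, then so does a global
lift. -/
lemma existsUnique_lift_of_local
    (H : ∀ p : T', ∃ W : T'.Opens, p ∈ W ∧
      ∀ W' : T'.Opens, IsAffineOpen W' → W' ≤ W → ∃! l, IsLift t f a b W' l) :
    ∃! l : T' ⟶ X, t ≫ l = a ∧ l ≫ f = b := by
  choose W hpW hW using H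
  let Good (V : T'.Opens) : Prop := IsAffineOpen V ∧ ∃ p, V ≤ W p
  have hbasis : ∀ (p : T') (V : T'.Opens), p ∈ V → ∃ V', Good V' ∧ p ∈ V' ∧ V' ≤ V := by
    intro p V hp
    obtain ⟨_, ⟨V', hV', rfl⟩, hpV', hle⟩ := T'.isBasis_affineOpens.exists_subset_of_mem_open
      (show p ∈ ((V ⊓ W p : T'.Opens) : Set T') from ⟨hp, hpW p⟩) (V ⊓ W p).isOpen
    exact ⟨V', ⟨hV', p, fun x hx => (hle hx).2⟩, hpV', fun x hx => (hle hx).1⟩
  have huniq : ∀ (V : T'.Opens), Good V → ∀ l₁ l₂, IsLift t f a b V l₁ → IsLift t f a b V l₂ →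
      l₁ = l₂ := fun V ⟨hV, p, hp⟩ l₁ l₂ h₁ h₂ => (hW p V hV hp).unique h₁ h₂
  choose g hg _ using fun (V : {V : T'.Opens // Good V}) =>
    hW V.2.2.choose V.1 V.2.1 V.2.2.choose_spec
  let 𝒰 : T'.OpenCover :=
    { I₀ := {V : T'.Opens // Good V}
      X := fun V => V.1
      f := fun V => V.1.ι
      mem₀ := by
        rw [Scheme.presieve₀_mem_precoverage_iff]
        refine ⟨fun x => ?_, inferInstance⟩
        obtain ⟨V, hV, hxV, -⟩ := hbasis x ⊤ trivial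
        exact ⟨⟨V, hV⟩, by simpa using hxV⟩ }
  have hcompat : ∀ i j, pullback.fst (𝒰.f i) (𝒰.f j) ≫ g i = pullback.snd _ _ ≫ g j := by
    intro i j
    refine Scheme.hom_ext_of_forall _ _ fun z => ?_
    let q : pullback (𝒰.f i) (𝒰.f j) ⟶ T' := pullback.fst _ _ ≫ i.1.ι
    have hzi : q z ∈ i.1 := (pullback.fst (𝒰.f i) (𝒰.f j) z).2
    have hq2 : q = pullback.snd _ _ ≫ j.1.ι := pullback.condition
    have hzj : q z ∈ j.1 := by
      rw [hq2]; exact (pullback.snd (𝒰.f i) (𝒰.f j) z).2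
    obtain ⟨V, hV, hzV, hVle⟩ := hbasis (q z) (i.1 ⊓ j.1) ⟨hzi, hzj⟩
    refine ⟨q ⁻¹ᵁ V, hzV, ?_⟩
    have h1 : (q ⁻¹ᵁ V).ι ≫ pullback.fst (𝒰.f i) (𝒰.f j) =
        q.resLE V (q ⁻¹ᵁ V) le_rfl ≫ T'.homOfLE (hVle.trans inf_le_left) := by
      rw [← cancel_mono i.1.ι]
      simp only [Category.assoc, Scheme.homOfLE_ι, Scheme.Hom.resLE_comp_ι]
      rfl
    have h2 : (q ⁻¹ᵁ V).ι ≫ pullback.snd (𝒰.f i) (𝒰.f j) =
        q.resLE V (q ⁻¹ᵁ V) le_rfl ≫ T'.homOfLE (hVle.trans inf_le_right) := by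
      rw [← cancel_mono j.1.ι]
      simp only [Category.assoc, Scheme.homOfLE_ι, Scheme.Hom.resLE_comp_ι]
      rw [hq2]
    rw [reassoc_of% h1, reassoc_of% h2,
      huniq V hV _ _ (isLift_restrict t f a b (hVle.trans inf_le_left) (hg i))
        (isLift_restrict t f a b (hVle.trans inf_le_right) (hg j))]
  refine ⟨𝒰.glueMorphisms g hcompat, ⟨?_, ?_⟩, fun l hl => ?_⟩
  · refine Scheme.hom_ext_of_forall _ _ fun x => ?_
    obtain ⟨V, hV, hxV, -⟩ := hbasis (t x) ⊤ trivial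
    refine ⟨t ⁻¹ᵁ V, hxV, ?_⟩
    have h0 : V.ι ≫ 𝒰.glueMorphisms g hcompat = g ⟨V, hV⟩ :=
      Scheme.Cover.ι_glueMorphisms 𝒰 g hcompat ⟨V, hV⟩
    rw [← (hg ⟨V, hV⟩).1, ← h0, Scheme.Hom.resLE_comp_ι_assoc]
  · refine 𝒰.hom_ext _ _ fun i => ?_
    rw [Scheme.Cover.ι_glueMorphisms_assoc]
    exact (hg i).2
  · refine 𝒰.hom_ext _ _ fun i => ?_
    rw [Scheme.Cover.ι_glueMorphisms]
    exact huniq i.1 i.2 _ _ (isLift_restrict_global t f a b hl.1 hl.2) (hg i)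

end Glue

lemma ker_comp_isIso {A B C : CommRingCat.{u}} (φ : A ⟶ B) (ψ : B ⟶ C) [IsIso ψ] :
    RingHom.ker (φ ≫ ψ).hom = RingHom.ker φ.hom := by
  rw [CommRingCat.hom_comp]
  exact RingHom.ker_comp_of_injective _ (ConcreteCategory.bijective_of_isIso ψ).1

lemma resLE_ker_sq {T T' : Scheme.{u}} (t : T ⟶ T') [IsClosedImmersion t]
    (hk : t.ker * t.ker = ⊥) {W : T'.Opens} (hW : IsAffineOpen W) :
    RingHom.ker (t.resLE W (t ⁻¹ᵁ W) le_rfl).appTop.hom ^ 2 = ⊥ := by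
  have h1 : ∀ {V : T'.Opens}, IsAffineOpen V →
      RingHom.ker (t.app V).hom * RingHom.ker (t.app V).hom = ⊥ := fun {V} hV => by
    have := congr(($hk).ideal ⟨V, hV⟩)
    simpa using this
  rw [Scheme.Hom.resLE_eq_morphismRestrict, morphismRestrict_appTop, pow_two]
  have e := ker_comp_isIso (t.app (W.ι ''ᵁ ⊤))
    (T.presheaf.map (eqToHom (image_morphismRestrict_preimage t W ⊤)).op)
  exact (congrArg₂ (· * ·) e e).trans (h1 (W.ι_image_top.symm ▸ hW))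

/-- Formally etale morphisms lift uniquely along all first order thickenings. -/
theorem existsUnique_lift {f : X ⟶ Y} (hf : MoreMor.IsFormallyEtaleHom f)
    {T T' : Scheme.{u}} (t : T ⟶ T') (ht : MoreMor.IsFirstOrderThickening t)
    (a : T ⟶ X) (b : T' ⟶ Y) (w : t ≫ b = a ≫ f) :
    ∃! l : T' ⟶ X, t ≫ l = a ∧ l ≫ f = b := by
  have := ht.1.1
  refine existsUnique_lift_of_local t f a b fun p => ⟨⊤, trivial, fun W hW _ => ?_⟩
  have : IsAffine (W : Scheme.{u}) := hW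
  have : IsClosedImmersion (t.resLE W (t ⁻¹ᵁ W) le_rfl) := by
    rw [Scheme.Hom.resLE_eq_morphismRestrict]; infer_instance
  exact existsUnique_lift_of_isAffine hf _ (resLE_ker_sq t ht.2 hW) _ _
    (by rw [Scheme.Hom.resLE_comp_ι_assoc, w, Category.assoc])

end Groth.Agent.H54.FormalEtale
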