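import Groth.Prelude.Def_MoreMor
import Groth.Agent.S4621
import Mathlib.AlgebraicGeometry.Fiber

/-!
# Section components and base change
-/

universe u

open CategoryTheory CategoryTheory.Limits AlgebraicGeometry

namespace Groth.Agent.H54.SectionComp

/-- Over a field, the component of a rational point is geometrically connected. -/
theorem mem_component_iff {k K : Type u} [Field k] [Field K] [Algebra k K] {Z Z' : Scheme.{u}}
    (f : Z ⟶ Spec (CommRingCat.of k)) (h : Spec (CommRingCat.of k) ⟶ Z) (w : h ≫ f = 𝟙 _)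
    (π : Z' ⟶ Z) (p : Z' ⟶ Spec (CommRingCat.of K))
    (hp : IsPullback π p f (Spec.map (CommRingCat.ofHom (algebraMap k K))))
    (pt : ↥(Spec (CommRingCat.of k))) (z z₀ : Z') (hz₀ : π z₀ = h pt) :
    z ∈ connectedComponent z₀ ↔ π z ∈ connectedComponent (h pt) := by
  constructor
  · intro hz
    have := π.continuous.image_connectedComponent_subset z₀ ⟨z, hz, rfl⟩
    rwa [hz₀] at this
  · intro hz
    have : GeometricallyConnected (𝟙 (Spec (CommRingCat.of k))) := by
      refine ⟨fun L _ y W fst snd hW => ?_⟩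
      have : IsIso snd := hW.isIso_snd_of_isIso
      exact (Scheme.homeoOfIso (asIso snd)).symm.surjective.connectedSpace (Scheme.homeoOfIso (asIso snd)).symm.continuous
    have hc := Groth.Agent.S4621.result (K := K) f (𝟙 _) h w pt
    let e : Z' ≅ FBase.bc f K := hp.isoPullback
    have he : ∀ a : Z', FBase.bcπ f K (e.hom a) = π a := fun a => by
      rw [← Scheme.Hom.comp_apply]
      exact congrArg (fun q : Z' ⟶ Z => q a) hp.isoPullback_hom_fst
    have h1 : _root_.IsConnected (π ⁻¹' connectedComponent (h pt)) := by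
      have hset : π ⁻¹' connectedComponent (h pt) =
          (Scheme.homeoOfIso e) ⁻¹' (FBase.bcπ f K ⁻¹' connectedComponent (h pt)) := by
        ext a
        rw [Set.mem_preimage, Set.mem_preimage, Set.mem_preimage, ← he a]
        rfl
      rw [hset, Homeomorph.isConnected_preimage]
      exact hc
    exact h1.isPreconnected.subset_connectedComponent
      (show z₀ ∈ π ⁻¹' connectedComponent (h pt) by
        rw [Set.mem_preimage, hz₀]
        exact mem_connectedComponent) hz

theorem fiberι_mem_iff {X Y : Scheme.{u}} (f : X ⟶ Y) (y : Y) (a b : f.fiber y) :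
    f.fiberι y a ∈ connectedComponentIn (f ⁻¹' {y}) (f.fiberι y b) ↔ a ∈ connectedComponent b := by
  rw [connectedComponentIn_eq_image (show f.fiberι y b ∈ f ⁻¹' {y} from (f.fiberHomeo y b).2)]
  have h1 : f.fiberHomeo y '' connectedComponent b = connectedComponent (f.fiberHomeo y b) := by
    have := (f.fiberHomeo y).image_connectedComponentIn (Set.mem_univ b)
    rwa [connectedComponentIn_univ, Set.image_univ, (f.fiberHomeo y).range_coe,
      connectedComponentIn_univ] at this
  constructor
  · rintro ⟨c, hc, hca⟩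
    rw [show (⟨f.fiberι y b, (f.fiberHomeo y b).2⟩ : ↥(f ⁻¹' {y})) = f.fiberHomeo y b from rfl,
      ← h1] at hc
    obtain ⟨a', ha', rfl⟩ := hc
    rwa [← (f.fiberι y).isEmbedding.injective (hca : f.fiberι y a' = f.fiberι y a)]
  · intro ha
    exact ⟨f.fiberHomeo y a, h1.subset ⟨a, ha, rfl⟩, rfl⟩

theorem result {X Y X' Y' : Scheme.{u}} (f : X ⟶ Y) (s : Y ⟶ X) (hs : s ≫ f = 𝟙 Y)
    (f' : X' ⟶ Y') (g' : X' ⟶ X) (g : Y' ⟶ Y) (hc : IsPullback g' f' f g)
    (s' : Y' ⟶ X') (hs' : s' ≫ f' = 𝟙 Y') (hs'g : s' ≫ g' = g ≫ s) :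
    MoreMor.sectionComponents f' s' = g' ⁻¹' MoreMor.sectionComponents f s := by
  ext x'
  show x' ∈ connectedComponentIn (f' ⁻¹' {f' x'}) (s' (f' x')) ↔
    g' x' ∈ connectedComponentIn (f ⁻¹' {f (g' x')}) (s (f (g' x')))
  have hy : f (g' x') = g (f' x') := congrArg (fun q : X' ⟶ Y => q x') hc.w
  rw [hy]
  generalize hy' : f' x' = y'
  obtain ⟨a, rfl⟩ : ∃ a, f'.fiberι y' a = x' :=
    (f'.range_fiberι y').ge (show x' ∈ f' ⁻¹' {y'} from hy')
  obtain ⟨b, hb⟩ : ∃ b, f'.fiberι y' b = s' y' := (f'.range_fiberι y').ge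
    (show f' (s' y') = y' from (Scheme.Hom.comp_apply s' f' y').symm.trans (congrArg (fun q : Y' ⟶ Y' => q y') hs'))
  let π : f'.fiber y' ⟶ f.fiber (g y') :=
    pullback.map _ _ _ _ g' (Spec.map (g.residueFieldMap y')) g hc.w.symm (by simp)
  have sq := isPullback_fiberToSpecResidueField_of_isPullback hc y'
  have hπ : ∀ c, f.fiberι (g y') (π c) = g' (f'.fiberι y' c) := fun c => by
    rw [← Scheme.Hom.comp_apply, ← Scheme.Hom.comp_apply]
    exact congrArg (fun q : f'.fiber y' ⟶ X => q c) (pullback.lift_fst _ _ _)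
  let h : Spec (Y.residueField (g y')) ⟶ f.fiber (g y') :=
    pullback.lift (Y.fromSpecResidueField (g y') ≫ s) (𝟙 _) (by rw [Category.assoc, hs]; simp)
  let pt : ↥(Spec (Y.residueField (g y'))) := IsLocalRing.closedPoint _
  have hpt : f.fiberι (g y') (h pt) = s (g y') := by
    rw [← Scheme.Hom.comp_apply]
    refine (congrArg (fun q : Spec (Y.residueField (g y')) ⟶ X => q pt) (pullback.lift_fst _ _ _)).trans ?_
    rw [Scheme.Hom.comp_apply, Scheme.fromSpecResidueField_apply]
  have hbπ : π b = h pt := (f.fiberι (g y')).isEmbedding.injective (by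
    rw [hπ, hb, hpt, ← Scheme.Hom.comp_apply, hs'g, Scheme.Hom.comp_apply])
  rw [← hb, ← hπ a, ← hpt, fiberι_mem_iff, fiberι_mem_iff]
  let _ : Algebra (Y.residueField (g y')) (Y'.residueField y') := (g.residueFieldMap y').hom.toAlgebra
  exact mem_component_iff (k := Y.residueField (g y')) (K := Y'.residueField y')
    (f.fiberToSpecResidueField (g y')) h (pullback.lift_snd _ _ _) π
    (f'.fiberToSpecResidueField y') sq pt a b hbπ

end Groth.Agent.H54.SectionComp
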