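import Groth.Agent.H54.ThickBasic
import Groth.Agent.Lib.Lim.Thickening
import Mathlib.AlgebraicGeometry.Morphisms.Integral

/-!
# Affine and integral morphisms of thickenings
-/

universe u

open AlgebraicGeometry CategoryTheory Limits

namespace Groth.Agent.H54.ThickAffine

variable {X X' S S' : Scheme.{u}} {iX : X ⟶ X'} {iS : S ⟶ S'} {f : X ⟶ S} {f' : X' ⟶ S'}

theorem isAffineHom_iff [IsClosedImmersion iX] [Surjective iX] [IsClosedImmersion iS]
    (w : iX ≫ f' = f ≫ iS) : IsAffineHom f ↔ IsAffineHom f' := by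
  refine ⟨fun _ => ⟨fun V hV => ?_⟩, fun _ => ?_⟩
  · have h1 : IsAffineOpen (f ⁻¹ᵁ iS ⁻¹ᵁ V) := (hV.preimage iS).preimage f
    rw [← Scheme.Hom.comp_preimage, ← w, Scheme.Hom.comp_preimage] at h1
    have : IsAffine (iX ⁻¹ᵁ (f' ⁻¹ᵁ V)).toScheme := h1
    have : IsClosedImmersion (iX ∣_ (f' ⁻¹ᵁ V)) := IsZariskiLocalAtTarget.restrict ‹_› _
    have : Surjective (iX ∣_ (f' ⁻¹ᵁ V)) := IsZariskiLocalAtTarget.restrict ‹_› _
    exact Lib.Lim.Thickening.isAffine_of_surjective (iX ∣_ (f' ⁻¹ᵁ V))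
  · have : IsAffineHom (f ≫ iS) := by rw [← w]; infer_instance
    exact MorphismProperty.of_postcomp (W' := @IsSeparated) @IsAffineHom f iS inferInstance ‹_›

theorem isIntegralHom_iff [IsClosedImmersion iX] [Surjective iX] [IsClosedImmersion iS]
    (w : iX ≫ f' = f ≫ iS) : IsIntegralHom f ↔ IsIntegralHom f' := by
  rw [IsIntegralHom.iff_universallyClosed_and_isAffineHom, IsIntegralHom.iff_universallyClosed_and_isAffineHom,
    ThickBasic.universallyClosed_iff w, isAffineHom_iff w]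

end Groth.Agent.H54.ThickAffine
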