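import Groth.Prelude.Def_MoreMor
import Mathlib.AlgebraicGeometry.QuasiAffine
import Mathlib.AlgebraicGeometry.ZariskisMainTheorem
import Mathlib.AlgebraicGeometry.Morphisms.Immersion
import Mathlib.AlgebraicGeometry.Morphisms.Separated

/-!
# Ind-quasi-affine schemes and morphisms
-/

universe u

open AlgebraicGeometry CategoryTheory Limits

namespace Groth.Agent.H54.IndQAff

variable {X Y Z : Scheme.{u}}

lemma isQuasiAffine_of_open_le {U W : X.Opens} (h : U ≤ W) (hU : IsCompact (U : Set X))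
    (hW : Scheme.IsQuasiAffine (W : Scheme.{u})) : Scheme.IsQuasiAffine (U : Scheme.{u}) := by
  have : CompactSpace (U : Scheme.{u}) := isCompact_iff_compactSpace.mp hU
  exact Scheme.IsQuasiAffine.of_isImmersion (X.homOfLE h)

/-- A quasi-compact quasi-separated scheme covered by quasi-affine non-vanishing loci of global
functions is quasi-affine. -/
lemma isQuasiAffine_of_basicOpens (X : Scheme.{u}) [CompactSpace X] [QuasiSeparatedSpace X]
    (H : ∀ x : X, ∃ s : Γ(X, ⊤), x ∈ X.basicOpen s ∧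
      Scheme.IsQuasiAffine (X.basicOpen s : Scheme.{u})) : X.IsQuasiAffine := by
  refine .of_forall_exists_mem_basicOpen _ fun x => ?_
  obtain ⟨s, hxs, hq⟩ := H x
  obtain ⟨_, ⟨_, ⟨r, hr, rfl⟩, rfl⟩, hxr, -⟩ :=
    (Scheme.IsQuasiAffine.isBasis_basicOpen (X.basicOpen s : Scheme.{u})).exists_subset_of_mem_open
      (Set.mem_univ (⟨x, hxs⟩ : (X.basicOpen s : Scheme.{u}))) isOpen_univ
  have himg : (X.basicOpen s).ι ''ᵁ (X.basicOpen s).toScheme.basicOpen r =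
      X.basicOpen ((X.basicOpen s).topIso.hom r) := by
    refine Eq.trans ?_ (Scheme.Opens.ι_image_basicOpen_topIso_inv _ _)
    exact congrArg (fun z => (X.basicOpen s).ι ''ᵁ (X.basicOpen s).toScheme.basicOpen z)
      ((Iso.hom_inv_id_apply (X.basicOpen s).topIso r).symm)
  have := isLocalization_basicOpen_of_qcqs (U := (⊤ : X.Opens)) isCompact_univ isQuasiSeparated_univ s
  obtain ⟨⟨t, ⟨_, n, rfl⟩⟩, ht⟩ :=
    IsLocalization.surj (Submonoid.powers s) ((X.basicOpen s).topIso.hom r)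
  have hu : IsUnit (algebraMap Γ(X, ⊤) Γ(X, X.basicOpen s) (s ^ n)) :=
    IsLocalization.map_units (M := Submonoid.powers s) _ (⟨s ^ n, n, rfl⟩ : Submonoid.powers s)
  have key : X.basicOpen (t * s) = X.basicOpen ((X.basicOpen s).topIso.hom r) := by
    have h1 : X.basicOpen ((X.basicOpen s).topIso.hom r *
        algebraMap Γ(X, ⊤) Γ(X, X.basicOpen s) (s ^ n)) =
        X.basicOpen (algebraMap Γ(X, ⊤) Γ(X, X.basicOpen s) t) := congrArg X.basicOpen ht
    rw [Scheme.basicOpen_mul, Scheme.basicOpen_of_isUnit _ hu, inf_eq_left.mpr (X.basicOpen_le _)] at h1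
    rw [h1, RingHom.algebraMap_toAlgebra, Scheme.basicOpen_res, Scheme.basicOpen_mul, inf_comm]
  refine ⟨t * s, ?_, ?_⟩
  · rw [key, ← himg]
    exact hr.image_of_isOpenImmersion _
  · rw [key, ← himg]
    exact ⟨⟨x, hxs⟩, hxr, rfl⟩

lemma isIndQuasiAffineHom_le {f : X ⟶ Y} (hf : MoreMor.IsIndQuasiAffineHom f) {V : Y.Opens}
    (hV : IsAffineOpen V) {U : X.Opens} (hle : U ≤ f ⁻¹ᵁ V) (hU : IsCompact (U : Set X)) :
    Scheme.IsQuasiAffine (U : Scheme.{u}) := by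
  have h1 : IsCompact ((f ⁻¹ᵁ V).ι ⁻¹ᵁ U : Set (f ⁻¹ᵁ V : Scheme.{u})) := by
    rw [(f ⁻¹ᵁ V).ι.isOpenEmbedding.isInducing.isCompact_iff]
    show IsCompact ((f ⁻¹ᵁ V).ι '' ((f ⁻¹ᵁ V).ι ⁻¹' U))
    rw [Set.image_preimage_eq_of_subset]
    · exact hU
    · rw [Scheme.Opens.range_ι]
      exact hle
  have h2 := hf V hV _ h1
  have : CompactSpace (U : Scheme.{u}) := isCompact_iff_compactSpace.mp hU
  let k : (U : Scheme.{u}) ⟶ ((f ⁻¹ᵁ V).ι ⁻¹ᵁ U : (f ⁻¹ᵁ V : Scheme.{u}).Opens) :=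
    IsOpenImmersion.lift (((f ⁻¹ᵁ V).ι ⁻¹ᵁ U).ι ≫ (f ⁻¹ᵁ V).ι) U.ι (by
      rintro _ ⟨⟨x, hx⟩, rfl⟩
      exact ⟨⟨⟨x, hle hx⟩, hx⟩, rfl⟩)
  have hk : k ≫ (((f ⁻¹ᵁ V).ι ⁻¹ᵁ U).ι ≫ (f ⁻¹ᵁ V).ι) = U.ι := IsOpenImmersion.lift_fac _ _ _
  have : IsImmersion (k ≫ (((f ⁻¹ᵁ V).ι ⁻¹ᵁ U).ι ≫ (f ⁻¹ᵁ V).ι)) := by rw [hk]; infer_instance
  have : IsImmersion k := .of_comp k (((f ⁻¹ᵁ V).ι ⁻¹ᵁ U).ι ≫ (f ⁻¹ᵁ V).ι)
  exact Scheme.IsQuasiAffine.of_isImmersion k

lemma isIndQuasiAffineHom_of_le {f : X ⟶ Y}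
    (H : ∀ (V : Y.Opens), IsAffineOpen V → ∀ U : X.Opens, U ≤ f ⁻¹ᵁ V → IsCompact (U : Set X) →
      Scheme.IsQuasiAffine (U : Scheme.{u})) : MoreMor.IsIndQuasiAffineHom f := by
  intro V hV U hU
  have h1 := H V hV ((f ⁻¹ᵁ V).ι ''ᵁ U) (by
    rintro _ ⟨⟨x, hx⟩, _, rfl⟩; exact hx) (hU.image (f ⁻¹ᵁ V).ι.continuous)
  have : CompactSpace (U : Scheme.{u}) := isCompact_iff_compactSpace.mp hU
  exact Scheme.IsQuasiAffine.of_isImmersion ((f ⁻¹ᵁ V).ι.isoImage U).hom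

/-- Being ind-quasi-affine is local on the target. -/
lemma isIndQuasiAffineHom_of_cover {f : X ⟶ Y}
    (H : ∀ y : Y, ∃ W : Y.Opens, y ∈ W ∧ ∀ U : X.Opens, U ≤ f ⁻¹ᵁ W → IsCompact (U : Set X) →
      Scheme.IsQuasiAffine (U : Scheme.{u})) : MoreMor.IsIndQuasiAffineHom f := by
  refine isIndQuasiAffineHom_of_le fun V hV U hle hU => ?_
  have : CompactSpace (U : Scheme.{u}) := isCompact_iff_compactSpace.mp hU
  have key : ∀ u : (U : Scheme.{u}), ∃ s : Γ(U, ⊤), u ∈ U.toScheme.basicOpen s ∧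
      Scheme.IsQuasiAffine (U.toScheme.basicOpen s : Scheme.{u}) := by
    rintro ⟨x, hx⟩
    obtain ⟨W, hxW, hW⟩ := H (f x)
    obtain ⟨h, hhW, hxh⟩ := hV.exists_basicOpen_le ⟨f x, hxW⟩ (hle hx)
    let s := U.topIso.inv (f.appLE V U hle h)
    have hs : U.ι ''ᵁ U.toScheme.basicOpen s = U ⊓ f ⁻¹ᵁ Y.basicOpen h := by
      rw [Scheme.Opens.ι_image_basicOpen_topIso_inv, Scheme.Hom.appLE, CommRingCat.comp_apply,
        Scheme.basicOpen_res, Scheme.preimage_basicOpen]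
    refine ⟨s, ?_, ?_⟩
    · have : x ∈ U.ι ''ᵁ U.toScheme.basicOpen s := by rw [hs]; exact ⟨hx, hxh⟩
      obtain ⟨y, hy, hyx⟩ := this
      exact (U.ι.isOpenEmbedding.injective (a₁ := y) (a₂ := ⟨x, hx⟩) hyx) ▸ hy
    · have hc : IsCompact (U.toScheme.basicOpen s : Set U.toScheme) :=
        isCompact_basicOpen _ isCompact_univ _
      have h2 := hW (U.ι ''ᵁ U.toScheme.basicOpen s)
        (by rw [hs]; exact inf_le_right.trans (f.preimage_mono hhW)) (hc.image U.ι.continuous)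
      have : CompactSpace (U.toScheme.basicOpen s : Scheme.{u}) := isCompact_iff_compactSpace.mp hc
      exact Scheme.IsQuasiAffine.of_isImmersion (U.ι.isoImage (U.toScheme.basicOpen s)).hom
  have : QuasiSeparatedSpace (U : Scheme.{u}) := by
    choose s hs hq using key
    refine .of_isOpenCover (U := fun u => U.toScheme.basicOpen (s u))
      (eq_top_iff.mpr fun u _ => TopologicalSpace.Opens.mem_iSup.mpr ⟨_, hs u⟩)
      (fun _ => ?_) (fun u => ?_)
    · exact isRetrocompact_basicOpen _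
    · have := hq u
      have : QuasiSeparatedSpace (U.toScheme.basicOpen (s u) : Scheme.{u}) := inferInstance
      exact (isQuasiSeparated_iff_quasiSeparatedSpace _ (U.toScheme.basicOpen (s u)).isOpen).mpr this
  exact isQuasiAffine_of_basicOpens _ key

/-- A quasi-compact scheme which is ind-quasi-affine over a quasi-affine scheme is quasi-affine. -/
lemma isQuasiAffine_of_hom [CompactSpace X] [Y.IsQuasiAffine] {f : X ⟶ Y}
    (hf : MoreMor.IsIndQuasiAffineHom f) : X.IsQuasiAffine := by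
  have key : ∀ x : X, ∃ r : Γ(Y, ⊤), x ∈ X.basicOpen (f.appTop r) ∧
      IsAffineOpen (Y.basicOpen r) := by
    intro x
    obtain ⟨_, ⟨_, ⟨r, hr, rfl⟩, rfl⟩, hxr, -⟩ := (Scheme.IsQuasiAffine.isBasis_basicOpen
      Y).exists_subset_of_mem_open (Set.mem_univ (f x)) isOpen_univ
    exact ⟨r, by rw [← Scheme.preimage_basicOpen_top]; exact hxr, hr⟩
  have hqa : ∀ r : Γ(Y, ⊤), IsAffineOpen (Y.basicOpen r) →
      Scheme.IsQuasiAffine (X.basicOpen (f.appTop r) : Scheme.{u}) := fun r hr =>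
    isIndQuasiAffineHom_le hf hr (Scheme.preimage_basicOpen_top f r).ge
      (isCompact_basicOpen _ isCompact_univ _)
  have : QuasiSeparatedSpace X := by
    choose r hxr hr using key
    refine .of_isOpenCover (U := fun x => X.basicOpen (f.appTop (r x)))
      (eq_top_iff.mpr fun x _ => TopologicalSpace.Opens.mem_iSup.mpr ⟨_, hxr x⟩)
      (fun _ => isRetrocompact_basicOpen _) (fun x => ?_)
    have := hqa _ (hr x)
    have h2 : QuasiSeparatedSpace (X.basicOpen (f.appTop (r x)) : Scheme.{u}) := inferInstance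
    exact (isQuasiSeparated_iff_quasiSeparatedSpace _ (X.basicOpen _).isOpen).mpr h2
  refine isQuasiAffine_of_basicOpens X fun x => ?_
  obtain ⟨r, hxr, hr⟩ := key x
  exact ⟨_, hxr, hqa r hr⟩

lemma comp {f : X ⟶ Y} {g : Y ⟶ Z} (hf : MoreMor.IsIndQuasiAffineHom f)
    (hg : MoreMor.IsIndQuasiAffineHom g) : MoreMor.IsIndQuasiAffineHom (f ≫ g) := by
  refine isIndQuasiAffineHom_of_le fun W hW U hle hU => ?_
  obtain ⟨V, hUV, hVc, hVW⟩ : ∃ V : Y.Opens, U ≤ f ⁻¹ᵁ V ∧ IsCompact (V : Set Y) ∧ V ≤ g ⁻¹ᵁ W := by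
    have hc := hU.image f.continuous
    have : ∀ y ∈ f '' U, ∃ V : Y.affineOpens, y ∈ (V : Y.Opens) ∧ (V : Y.Opens) ≤ g ⁻¹ᵁ W := by
      rintro _ ⟨x, hx, rfl⟩
      obtain ⟨_, ⟨V, hV, rfl⟩, hxV, hVle⟩ :=
        Y.isBasis_affineOpens.exists_subset_of_mem_open (hle hx) (g ⁻¹ᵁ W).isOpen
      exact ⟨⟨V, hV⟩, hxV, hVle⟩
    choose V hyV hVle using this
    obtain ⟨t, ht⟩ := hc.elim_finite_subcover (fun y : f '' U => ((V y.1 y.2 : Y.Opens) : Set Y))
      (fun _ => (V _ _ : Y.Opens).isOpen) (fun y hy => Set.mem_iUnion.mpr ⟨⟨y, hy⟩, hyV y hy⟩)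
    refine ⟨⨆ y ∈ t, (V y.1 y.2 : Y.Opens), fun x hx => ?_, ?_, ?_⟩
    · have := ht ⟨x, hx, rfl⟩
      simpa using this
    · simp only [TopologicalSpace.Opens.coe_iSup]
      exact t.finite_toSet.isCompact_biUnion fun y _ => (V y.1 y.2).2.isCompact
    · exact iSup₂_le fun y _ => hVle y.1 y.2
  have hq := isIndQuasiAffineHom_le hg hW hVW hVc
  have : CompactSpace (U : Scheme.{u}) := isCompact_iff_compactSpace.mp hU
  refine isQuasiAffine_of_hom (f := f.resLE V U hUV) (isIndQuasiAffineHom_of_le fun V' hV' U' hle' hU' => ?_)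
  have h3 := isIndQuasiAffineHom_le hf (hV'.image_of_isOpenImmersion V.ι) (U := U.ι ''ᵁ U')
    (by
      rintro _ ⟨y, hy, rfl⟩
      refine ⟨f.resLE V U hUV y, hle' hy, ?_⟩
      exact congrArg (fun k => k.base y) (Scheme.Hom.resLE_comp_ι f hUV))
    (hU'.image U.ι.continuous)
  have : CompactSpace (U' : Scheme.{u}) := isCompact_iff_compactSpace.mp hU'
  exact Scheme.IsQuasiAffine.of_isImmersion (U.ι.isoImage U').hom

lemma of_comp {f : X ⟶ Y} {g : Y ⟶ Z} (h : MoreMor.IsIndQuasiAffineHom (f ≫ g)) :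
    MoreMor.IsIndQuasiAffineHom f := by
  refine isIndQuasiAffineHom_of_cover fun y => ?_
  obtain ⟨_, ⟨W, hW, rfl⟩, hyW, -⟩ :=
    Z.isBasis_affineOpens.exists_subset_of_mem_open (Set.mem_univ (g y)) isOpen_univ
  exact ⟨g ⁻¹ᵁ W, hyW, fun U hle hU => isIndQuasiAffineHom_le h hW hle hU⟩

lemma of_isImmersion (f : X ⟶ Y) [IsImmersion f] : MoreMor.IsIndQuasiAffineHom f := by
  refine isIndQuasiAffineHom_of_le fun V hV U hle hU => ?_
  have : IsAffine (V : Scheme.{u}) := hV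
  have : CompactSpace (U : Scheme.{u}) := isCompact_iff_compactSpace.mp hU
  have : IsImmersion (f.resLE V U hle) := by
    have : IsImmersion (f.resLE V U hle ≫ V.ι) := by
      rw [Scheme.Hom.resLE_comp_ι]; infer_instance
    exact .of_comp (f.resLE V U hle) V.ι
  exact Scheme.IsQuasiAffine.of_isImmersion (f.resLE V U hle)

lemma of_isQuasiAffineHom {f : X ⟶ Y} (hf : MoreMor.IsQuasiAffineHom f) :
    MoreMor.IsIndQuasiAffineHom f :=
  isIndQuasiAffineHom_of_le fun V hV _ hle hU => isQuasiAffine_of_open_le hle hU (hf.2 V hV)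

lemma of_locallyQuasiFinite (f : X ⟶ Y) [IsSeparated f] [LocallyQuasiFinite f]
    [LocallyOfFiniteType f] : MoreMor.IsIndQuasiAffineHom f := by
  refine isIndQuasiAffineHom_of_le fun V hV U hle hU => ?_
  have : IsAffine (V : Scheme.{u}) := hV
  have : CompactSpace (U : Scheme.{u}) := isCompact_iff_compactSpace.mp hU
  have : IsSeparated (f.resLE V U hle) := by delta Scheme.Hom.resLE; infer_instance
  have : LocallyOfFiniteType (f.resLE V U hle) := by delta Scheme.Hom.resLE; infer_instance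
  have : QuasiCompact (f.resLE V U hle) := (quasiCompact_iff_compactSpace _).mpr inferInstance
  have : IsAffine (f.resLE V U hle).normalization :=
    isAffine_of_isAffineHom (f.resLE V U hle).fromNormalization
  exact Scheme.IsQuasiAffine.of_isImmersion (f.resLE V U hle).toNormalization

lemma baseChange {S' X' : Scheme.{u}} {f : X ⟶ Y} {f' : X' ⟶ S'} {g' : X' ⟶ X} {g : S' ⟶ Y}
    (hc : IsPullback g' f' f g) (hf : MoreMor.IsIndQuasiAffineHom f) :
    MoreMor.IsIndQuasiAffineHom f' := by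
  refine isIndQuasiAffineHom_of_cover fun y => ?_
  obtain ⟨_, ⟨V, hV, rfl⟩, hyV, -⟩ :=
    Y.isBasis_affineOpens.exists_subset_of_mem_open (Set.mem_univ (g y)) isOpen_univ
  obtain ⟨_, ⟨V', hV', rfl⟩, hyV', hle'⟩ :=
    S'.isBasis_affineOpens.exists_subset_of_mem_open hyV (g ⁻¹ᵁ V).isOpen
  refine ⟨V', hyV', fun U hle hU => ?_⟩
  obtain ⟨U0, hU0c, hU0le, hsub⟩ : ∃ U0 : X.Opens, IsCompact (U0 : Set X) ∧ U0 ≤ f ⁻¹ᵁ V ∧
      U ≤ g' ⁻¹ᵁ U0 := by
    have hc' := hU.image g'.continuous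
    have : ∀ x ∈ g' '' U, ∃ W : X.affineOpens, x ∈ (W : X.Opens) ∧ (W : X.Opens) ≤ f ⁻¹ᵁ V := by
      rintro _ ⟨x, hx, rfl⟩
      have h1 : g' x ∈ f ⁻¹ᵁ V := by
        show f (g' x) ∈ V
        rw [← Scheme.Hom.comp_apply, hc.w, Scheme.Hom.comp_apply]
        exact hle' (hle hx)
      obtain ⟨_, ⟨W, hW, rfl⟩, hxW, hWle⟩ :=
        X.isBasis_affineOpens.exists_subset_of_mem_open h1 (f ⁻¹ᵁ V).isOpen
      exact ⟨⟨W, hW⟩, hxW, hWle⟩
    choose W hxW hWle using this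
    obtain ⟨t, ht⟩ := hc'.elim_finite_subcover (fun y : g' '' U => ((W y.1 y.2 : X.Opens) : Set X))
      (fun _ => (W _ _ : X.Opens).isOpen) (fun y hy => Set.mem_iUnion.mpr ⟨⟨y, hy⟩, hxW y hy⟩)
    refine ⟨⨆ y ∈ t, (W y.1 y.2 : X.Opens), ?_, iSup₂_le fun y _ => hWle y.1 y.2, fun x hx => ?_⟩
    · simp only [TopologicalSpace.Opens.coe_iSup]
      exact t.finite_toSet.isCompact_biUnion fun y _ => (W y.1 y.2).2.isCompact
    · have := ht ⟨x, hx, rfl⟩
      simpa using this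
  have : Scheme.IsQuasiAffine (U0 : Scheme.{u}) := isIndQuasiAffineHom_le hf hV hU0le hU0c
  set W' := g' ⁻¹ᵁ U0 ⊓ f' ⁻¹ᵁ V'
  have hsq := Scheme.Hom.isPullback_resLE hc (US := V) (UT := V') (UX := U0) hle' hU0le
    (UY := W') rfl
  have : IsAffine (V : Scheme.{u}) := hV
  have : IsAffine (V' : Scheme.{u}) := hV'
  have : IsAffineHom (g.resLE V V' hle') := isAffineHom_of_isAffine _
  have : IsAffineHom (g'.resLE U0 W' inf_le_left) :=
    MorphismProperty.of_isPullback hsq.flip ‹IsAffineHom (g.resLE V V' hle')›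
  exact isQuasiAffine_of_open_le (W := W') (le_inf hsub hle) hU
    (Scheme.IsQuasiAffine.of_isAffineHom (g'.resLE U0 W' inf_le_left))

lemma iff_qcqs {f : X ⟶ Y} :
    MoreMor.IsIndQuasiAffineHom f ↔ ∀ (V : Y.Opens), IsCompact (V : Set Y) →
      IsQuasiSeparated (V : Set Y) → ∀ (U : X.Opens) (hUV : U ≤ f ⁻¹ᵁ V), IsCompact (U : Set X) →
        MoreMor.IsQuasiAffineHom (f.resLE V U hUV) := by
  constructor
  · intro hf V hVc hVq U hUV hU
    have : CompactSpace (U : Scheme.{u}) := isCompact_iff_compactSpace.mp hU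
    have : QuasiSeparatedSpace (V : Scheme.{u}) :=
      (isQuasiSeparated_iff_quasiSeparatedSpace _ V.isOpen).mp hVq
    have : QuasiCompact (f.resLE V U hUV) := inferInstance
    refine ⟨this, fun W hW => ?_⟩
    have hc : IsCompact ((f.resLE V U hUV) ⁻¹ᵁ W : Set U) :=
      (f.resLE V U hUV).isCompact_preimage hW.isCompact
    have h3 := isIndQuasiAffineHom_le hf (hW.image_of_isOpenImmersion V.ι)
      (U := U.ι ''ᵁ ((f.resLE V U hUV) ⁻¹ᵁ W))
      (by
        rintro _ ⟨y, hy, rfl⟩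
        refine ⟨f.resLE V U hUV y, hy, ?_⟩
        exact congrArg (fun k => k.base y) (Scheme.Hom.resLE_comp_ι f hUV))
      (hc.image U.ι.continuous)
    have : CompactSpace ((f.resLE V U hUV) ⁻¹ᵁ W : Scheme.{u}) := isCompact_iff_compactSpace.mp hc
    exact Scheme.IsQuasiAffine.of_isImmersion (U.ι.isoImage _).hom
  · intro H
    refine isIndQuasiAffineHom_of_le fun V hV U hle hU => ?_
    have : IsAffine (V : Scheme.{u}) := hV
    have h := (H V hV.isCompact hV.isQuasiSeparated U hle hU).2 ⊤ (isAffineOpen_top _)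
    have : CompactSpace (U : Scheme.{u}) := isCompact_iff_compactSpace.mp hU
    have h' : Scheme.IsQuasiAffine ((⊤ : U.toScheme.Opens) : Scheme.{u}) := h
    exact Scheme.IsQuasiAffine.of_isImmersion (U.toScheme.topIso.inv)

end Groth.Agent.H54.IndQAff
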