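import Mathlib.RingTheory.Etale.Basic
import Mathlib.RingTheory.Ideal.Pure
import Mathlib.RingTheory.Ideal.IdempotentFG
import Mathlib.RingTheory.Idempotents
import Mathlib.RingTheory.Flat.Stability
import Mathlib.RingTheory.FiniteType
import Mathlib.LinearAlgebra.TensorProduct.Tower
import Mathlib.RingTheory.TensorProduct.Maps

/-!
# Flat, formally unramified algebras of finite type are formally etale
-/

universe u

namespace Groth.Agent.H54.FlatUnramified

open scoped TensorProduct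

variable {B' C : Type u} [CommRing B'] [CommRing C] [Algebra B' C] (I : Ideal B')
  (σ : C →ₐ[B'] B' ⧸ I)

lemma map_le_ker : I.map (algebraMap B' C) ≤ RingHom.ker σ := by
  rw [Ideal.map_le_iff_le_comap]
  intro a ha
  rw [Ideal.mem_comap, RingHom.mem_ker, AlgHom.commutes, Ideal.Quotient.algebraMap_eq]
  exact Ideal.Quotient.eq_zero_iff_mem.mpr ha

lemma exists_sub_mem (z : C) :
    ∃ c : B', Ideal.Quotient.mk I c = σ z ∧ z - algebraMap B' C c ∈ RingHom.ker σ := by
  obtain ⟨c, hc⟩ := Ideal.Quotient.mk_surjective (σ z)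
  refine ⟨c, hc, ?_⟩
  rw [RingHom.mem_ker, map_sub, AlgHom.commutes, Ideal.Quotient.algebraMap_eq, hc, sub_self]

lemma ker_le_sq [Algebra.FormallyUnramified B' C] :
    RingHom.ker σ ≤ RingHom.ker σ * RingHom.ker σ ⊔ I.map (algebraMap B' C) := by
  set K : Ideal C := RingHom.ker σ
  set L := K * K ⊔ I.map (algebraMap B' C)
  have hI : ∀ a ∈ I, (Algebra.ofId B' (C ⧸ L)) a = 0 := fun a ha => by
    change Ideal.Quotient.mk L (algebraMap B' C a) = 0
    exact Ideal.Quotient.eq_zero_iff_mem.mpr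
      (Submodule.mem_sup_right (Ideal.mem_map_of_mem _ ha))
  let g₂ : C →ₐ[B'] C ⧸ L := (Ideal.Quotient.liftₐ I (Algebra.ofId B' (C ⧸ L)) hI).comp σ
  have hn : IsNilpotent (K.map (Ideal.Quotient.mk L)) := by
    refine ⟨2, ?_⟩
    rw [Ideal.zero_eq_bot, eq_bot_iff, pow_two, ← Ideal.map_mul]
    exact (Ideal.map_mono le_sup_left).trans (le_of_eq (Ideal.map_quotient_self L))
  have key : Ideal.Quotient.mkₐ B' L = g₂ := by
    refine Algebra.FormallyUnramified.ext _ hn fun z => ?_
    obtain ⟨c, hc, hz⟩ := exists_sub_mem I σ z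
    rw [Ideal.Quotient.eq]
    have h2 : g₂ z = Ideal.Quotient.mk L (algebraMap B' C c) := by
      simp only [g₂, AlgHom.comp_apply, ← hc, Ideal.Quotient.liftₐ_apply]
      rfl
    rw [h2, Ideal.Quotient.mkₐ_eq_mk, ← map_sub]
    exact Ideal.mem_map_of_mem _ hz
  intro k hk
  have h1 : Ideal.Quotient.mk L k = g₂ k := by rw [← key]; rfl
  rw [show g₂ k = 0 by simp [g₂, RingHom.mem_ker.mp hk]] at h1
  exact Ideal.Quotient.eq_zero_iff_mem.mp h1

lemma exists_fg [Algebra.FiniteType B' C] :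
    ∃ L : Ideal C, L.FG ∧ RingHom.ker σ = L ⊔ I.map (algebraMap B' C) := by
  classical
  obtain ⟨s, hs⟩ := (‹Algebra.FiniteType B' C›).out
  choose c hc hmem using exists_sub_mem I σ
  let L : Ideal C := Ideal.span (↑(s.image fun z => z - algebraMap B' C (c z)) : Set C)
  refine ⟨L, ⟨_, rfl⟩, le_antisymm ?_ (sup_le ?_ (map_le_ker I σ))⟩
  · set J := L ⊔ I.map (algebraMap B' C)
    have hall : ∀ z : C, ∃ b : B', Ideal.Quotient.mk J z = Ideal.Quotient.mk J (algebraMap B' C b) := by
      intro z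
      have hz : z ∈ Algebra.adjoin B' (↑s : Set C) := by rw [hs]; trivial
      induction hz using Algebra.adjoin_induction with
      | mem x hx =>
        refine ⟨c x, Ideal.Quotient.eq.mpr (Submodule.mem_sup_left (Ideal.subset_span ?_))⟩
        exact Finset.mem_coe.mpr (Finset.mem_image_of_mem _ hx)
      | algebraMap b => exact ⟨b, rfl⟩
      | add x y _ _ hx hy =>
        obtain ⟨a, ha⟩ := hx
        obtain ⟨b, hb⟩ := hy
        exact ⟨a + b, by simp only [map_add, ha, hb]⟩
      | mul x y _ _ hx hy =>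
        obtain ⟨a, ha⟩ := hx
        obtain ⟨b, hb⟩ := hy
        exact ⟨a * b, by simp only [map_mul, ha, hb]⟩
    intro z hz
    obtain ⟨b, hb⟩ := hall z
    have h1 : z - algebraMap B' C b ∈ J := Ideal.Quotient.eq.mp hb
    have h2 : z - algebraMap B' C b ∈ RingHom.ker σ := by
      refine sup_le ?_ (map_le_ker I σ) h1
      rw [Ideal.span_le, Finset.coe_image]
      rintro _ ⟨x, _, rfl⟩
      exact hmem x
    have h3 : b ∈ I := by
      have h4 := sub_mem hz h2
      rw [sub_sub_cancel, RingHom.mem_ker, AlgHom.commutes, Ideal.Quotient.algebraMap_eq] at h4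
      exact Ideal.Quotient.eq_zero_iff_mem.mp h4
    have := add_mem h1 (Submodule.mem_sup_right (Ideal.mem_map_of_mem _ h3) :
      algebraMap B' C b ∈ J)
    rwa [sub_add_cancel] at this
  · rw [Ideal.span_le, Finset.coe_image]
    rintro _ ⟨x, _, rfl⟩
    exact hmem x

/-- A flat unramified algebra of finite type with a section modulo a square zero ideal has a lifted
section. -/
lemma exists_section [Module.Flat B' C] [Algebra.FormallyUnramified B' C]
    [Algebra.FiniteType B' C] (hI : I ^ 2 = ⊥) :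
    ∃ τ : C →ₐ[B'] B', (Ideal.Quotient.mkₐ B' I).comp τ = σ := by
  set J := I.map (algebraMap B' C) with hJ
  have hJ2 : J * J = ⊥ := by rw [hJ, ← Ideal.map_mul, ← pow_two, hI, Ideal.map_bot]
  obtain ⟨L, hLfg, hK⟩ := exists_fg I σ
  set K : Ideal C := RingHom.ker σ
  have hKbar : IsIdempotentElem (K.map (Ideal.Quotient.mk J)) := by
    refine le_antisymm Ideal.mul_le_left ?_
    refine (Ideal.map_mono (ker_le_sq I σ)).trans ?_
    rw [Ideal.map_sup, Ideal.map_quotient_self, sup_bot_eq, Ideal.map_mul]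
  have hKfg : (K.map (Ideal.Quotient.mk J)).FG := by
    rw [hK, Ideal.map_sup, Ideal.map_quotient_self, sup_bot_eq]
    exact hLfg.map _
  obtain ⟨eb, heb, hKe⟩ := ((K.map (Ideal.Quotient.mk J)).isIdempotentElem_iff_of_fg hKfg).mp hKbar
  have hnil : ∀ x ∈ RingHom.ker (Ideal.Quotient.mk J), IsNilpotent x := fun x hx => ⟨2, by
    have := Ideal.mul_mem_mul (Ideal.mk_ker (I := J) ▸ hx) (Ideal.mk_ker (I := J) ▸ hx)
    rw [hJ2, Ideal.mem_bot] at this
    rw [pow_two, this]⟩
  obtain ⟨e, he, hee⟩ := exists_isIdempotentElem_eq_of_ker_isNilpotent (Ideal.Quotient.mk J) hnil eb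
    (Ideal.Quotient.mk_surjective eb) heb
  set E : Ideal C := Ideal.span {e}
  have hKE : K = E ⊔ J := by
    have h1 : (K.map (Ideal.Quotient.mk J)).comap (Ideal.Quotient.mk J) = K ⊔ J :=
      (Ideal.comap_map_of_surjective' _ Ideal.Quotient.mk_surjective K).trans (by rw [Ideal.mk_ker])
    rw [sup_eq_left.mpr (map_le_ker I σ), hKe, ← hee, Ideal.submodule_span_eq, ← Set.image_singleton,
      ← Ideal.map_span, Ideal.comap_map_of_surjective' _ Ideal.Quotient.mk_surjective, Ideal.mk_ker] at h1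
    exact h1.symm
  have hEp : E.Pure := by
    refine Ideal.Pure.of_isIdempotentElem ⟨{e}, by simp [E]⟩ ?_
    show Ideal.span {e} * Ideal.span {e} = Ideal.span {e}
    rw [Ideal.span_singleton_mul_span_singleton, he.eq]
  have : Module.Flat B' (C ⧸ E) := Module.Flat.trans B' C (C ⧸ E)
  set ψ := Algebra.ofId B' (C ⧸ E)
  have hsub : ∀ z : C, ∃ c : B', ∃ w ∈ J, Ideal.Quotient.mk E z = ψ c + Ideal.Quotient.mk E w := by
    intro z
    obtain ⟨c, -, hz⟩ := exists_sub_mem I σ z
    have hz' : z - algebraMap B' C c ∈ E ⊔ J := hKE ▸ hz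
    obtain ⟨u, hu, w, hw, huw⟩ := Submodule.mem_sup.mp hz'
    refine ⟨c, w, hw, ?_⟩
    rw [show z = u + w + algebraMap B' C c by rw [huw]; abel, map_add, map_add,
      Ideal.Quotient.eq_zero_iff_mem.mpr hu]
    simp [ψ, Algebra.ofId_apply, add_comm]
  have hsurjJ : ∀ w ∈ J, ∃ c ∈ I, Ideal.Quotient.mk E w = ψ c := by
    intro w hw
    induction hw using Submodule.span_induction with
    | mem x hx =>
      obtain ⟨a, ha, rfl⟩ := hx
      exact ⟨a, ha, rfl⟩
    | zero => exact ⟨0, I.zero_mem, by simp⟩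
    | add x y _ _ hx hy =>
      obtain ⟨a, ha, hxa⟩ := hx
      obtain ⟨b, hb, hyb⟩ := hy
      exact ⟨a + b, add_mem ha hb, by simp [hxa, hyb]⟩
    | smul r x hx hxa =>
      obtain ⟨a, ha, hxa⟩ := hxa
      obtain ⟨c, w, hw, hr⟩ := hsub r
      refine ⟨c * a, I.mul_mem_left _ ha, ?_⟩
      have hwa : w * algebraMap B' C a = 0 := by
        have := Ideal.mul_mem_mul hw (Ideal.mem_map_of_mem (algebraMap B' C) ha)
        rwa [← hJ, hJ2, Ideal.mem_bot] at this
      have hwa' : Ideal.Quotient.mk E w * ψ a = 0 := by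
        show Ideal.Quotient.mk E w * Ideal.Quotient.mk E (algebraMap B' C a) = 0
        rw [← map_mul, hwa, map_zero]
      rw [smul_eq_mul, map_mul, hr, hxa, add_mul, hwa', add_zero, map_mul]
  have hψ : Function.Surjective ψ := by
    intro z
    obtain ⟨z, rfl⟩ := Ideal.Quotient.mk_surjective z
    obtain ⟨c, w, hw, hz⟩ := hsub z
    obtain ⟨a, -, ha⟩ := hsurjJ w hw
    exact ⟨c + a, by rw [map_add, hz, ha]⟩
  have hNI : RingHom.ker ψ ≤ I := by
    intro n hn
    have h1 : algebraMap B' C n ∈ E := Ideal.Quotient.eq_zero_iff_mem.mp hn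
    have h2 : algebraMap B' C n ∈ K := hKE ▸ Submodule.mem_sup_left h1
    rw [RingHom.mem_ker, AlgHom.commutes, Ideal.Quotient.algebraMap_eq] at h2
    exact Ideal.Quotient.eq_zero_iff_mem.mp h2
  have : (RingHom.ker ψ).Pure :=
    Module.Flat.of_linearEquiv (Ideal.quotientKerAlgEquivOfSurjective hψ).toLinearEquiv
  have hN : RingHom.ker ψ = ⊥ := by
    rw [eq_bot_iff, ← hI, pow_two]
    calc RingHom.ker ψ = RingHom.ker ψ ⊓ I := (inf_eq_left.mpr hNI).symm
      _ = RingHom.ker ψ * I := Ideal.inf_eq_mul_of_pure _ _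
      _ ≤ I * I := Ideal.mul_mono_left hNI
  have hinj : Function.Injective ψ := (RingHom.injective_iff_ker_eq_bot _).mpr hN
  let e' := AlgEquiv.ofBijective ψ ⟨hinj, hψ⟩
  refine ⟨e'.symm.toAlgHom.comp (Ideal.Quotient.mkₐ B' E), AlgHom.ext fun z => ?_⟩
  obtain ⟨c, hc⟩ := hψ (Ideal.Quotient.mk E z)
  have h1 : e'.symm (Ideal.Quotient.mk E z) = c := by
    rw [← hc]; exact e'.symm_apply_apply c
  show Ideal.Quotient.mk I (e'.symm (Ideal.Quotient.mk E z)) = σ z
  rw [h1]
  have h2 : z - algebraMap B' C c ∈ K :=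
    hKE ▸ Submodule.mem_sup_left (Ideal.Quotient.eq.mp hc.symm)
  rw [RingHom.mem_ker, map_sub, sub_eq_zero, AlgHom.commutes, Ideal.Quotient.algebraMap_eq] at h2
  exact h2.symm

theorem formallyEtale_of_flat (R B : Type u) [CommRing R] [CommRing B] [Algebra R B]
    [Module.Flat R B] [Algebra.FormallyUnramified R B] [Algebra.FiniteType R B] :
    Algebra.FormallyEtale R B := by
  rw [Algebra.FormallyEtale.iff_comp_bijective]
  intro B' _ _ I hI
  refine ⟨Algebra.FormallyUnramified.iff_comp_injective.mp inferInstance I hI, fun g => ?_⟩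
  let σ : B' ⊗[R] B →ₐ[B'] B' ⧸ I :=
    Algebra.TensorProduct.lift (Algebra.ofId B' (B' ⧸ I)) g (fun _ _ => .all _ _)
  obtain ⟨τ, hτ⟩ := exists_section I σ hI
  refine ⟨(τ.restrictScalars R).comp Algebra.TensorProduct.includeRight, AlgHom.ext fun b => ?_⟩
  have := congr($hτ ((1 : B') ⊗ₜ[R] b))
  simpa [σ] using this

end Groth.Agent.H54.FlatUnramified
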