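import Groth.Agent.H54.FormalEtale

/-!
# Formally etale morphisms are detected affine locally
-/

universe u

open AlgebraicGeometry CategoryTheory Limits

namespace Groth.Agent.H54.FormalEtaleLocal

lemma specMap_iff {R S : CommRingCat.{u}} (φ : R ⟶ S) :
    MoreMor.IsFormallyEtaleHom (Spec.map φ) ↔
      letI := φ.hom.toAlgebra
      Algebra.FormallyEtale R S := by
  let := φ.hom.toAlgebra
  rw [Algebra.FormallyEtale.iff_comp_bijective]
  constructor
  · intro h B _ _ I hI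
    have key : ∀ g : S →ₐ[R] B, φ ≫ CommRingCat.ofHom g.toRingHom =
        CommRingCat.ofHom (algebraMap R B) := fun g => CommRingCat.hom_ext g.comp_algebraMap
    have hsq : ∀ g : S →ₐ[R] B ⧸ I,
        Spec.map (CommRingCat.ofHom (Ideal.Quotient.mk I)) ≫ Spec.map (CommRingCat.ofHom (algebraMap R B)) =
          Spec.map (CommRingCat.ofHom g.toRingHom) ≫ Spec.map φ := by
      intro g
      rw [← Spec.map_comp, ← Spec.map_comp]
      congr 1
      exact CommRingCat.hom_ext g.comp_algebraMap.symm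
    refine ⟨fun g₁ g₂ hg => ?_, fun g => ?_⟩
    · have hgl : ∀ g : S →ₐ[R] B, (Ideal.Quotient.mkₐ R I).comp g = (Ideal.Quotient.mkₐ R I).comp g₁ →
          Spec.map (CommRingCat.ofHom (Ideal.Quotient.mk I)) ≫ Spec.map (CommRingCat.ofHom g.toRingHom) =
            Spec.map (CommRingCat.ofHom ((Ideal.Quotient.mkₐ R I).comp g₁).toRingHom) ∧
          Spec.map (CommRingCat.ofHom g.toRingHom) ≫ Spec.map φ =
            Spec.map (CommRingCat.ofHom (algebraMap R B)) := by
        intro g e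
        refine ⟨?_, by rw [← Spec.map_comp, key]⟩
        rw [← Spec.map_comp, ← e]
        rfl
      have := (h B I hI _ _ (hsq ((Ideal.Quotient.mkₐ R I).comp g₁))).unique
        (hgl g₁ rfl) (hgl g₂ hg.symm)
      rw [Spec.map_inj] at this
      exact AlgHom.ext fun x => congr($this x)
    · obtain ⟨l, ⟨hl₁, hl₂⟩, -⟩ := h B I hI _ _ (hsq g)
      obtain ⟨g', rfl⟩ := Spec.map_surjective l
      rw [← Spec.map_comp, Spec.map_inj] at hl₁ hl₂
      refine ⟨⟨g'.hom, fun r => congr($hl₂ r)⟩, AlgHom.ext fun s => congr($hl₁ s)⟩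
  · intro h A _ I hI a b w
    obtain ⟨α, rfl⟩ := Spec.map_surjective a
    obtain ⟨β, rfl⟩ := Spec.map_surjective b
    rw [← Spec.map_comp, ← Spec.map_comp, Spec.map_inj] at w
    let : Algebra R A := β.hom.toAlgebra
    let α' : S →ₐ[R] A ⧸ I := ⟨α.hom, fun r => congr($w.symm r)⟩
    obtain ⟨g, hg⟩ := (h I hI).2 α'
    have hgφ : φ ≫ CommRingCat.ofHom g.toRingHom = β := CommRingCat.hom_ext g.comp_algebraMap
    refine ⟨Spec.map (CommRingCat.ofHom g.toRingHom), ⟨?_, by rw [← Spec.map_comp, hgφ]⟩,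
      fun l hl => ?_⟩
    · rw [← Spec.map_comp]
      congr 1
      ext x
      exact congr($hg x)
    · obtain ⟨g', rfl⟩ := Spec.map_surjective l
      obtain ⟨hl₁, hl₂⟩ := hl
      rw [← Spec.map_comp, Spec.map_inj] at hl₁ hl₂
      let g'' : S →ₐ[R] A := ⟨g'.hom, fun r => congr($hl₂ r)⟩
      have : g'' = g := (h I hI).1 (by
        rw [hg]; exact AlgHom.ext fun s => congr($hl₁ s))
      congr 1
      ext x
      exact congr($this x)

variable {X Y : Scheme.{u}} {f : X ⟶ Y}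

lemma appLE_of_isFormallyEtaleHom (hf : MoreMor.IsFormallyEtaleHom f) {U : X.Opens} {V : Y.Opens}
    (hU : IsAffineOpen U) (hV : IsAffineOpen V) (hUV : U ≤ f ⁻¹ᵁ V) :
    MoreMor.IsFormallyEtaleHom (Spec.map (f.appLE V U hUV)) := by
  refine FormalEtale.of_comp _ hV.fromSpec (FormalEtale.of_isOpenImmersion _) ?_
  rw [hV.SpecMap_appLE_fromSpec f hU hUV]
  exact FormalEtale.comp _ _ (FormalEtale.of_isOpenImmersion _) hf

/-- A morphism which is formally etale on a family of affine charts around every point of the source is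
formally etale. -/
lemma of_forall_exists_affine
    (H : ∀ x : X, ∃ (U : X.Opens) (V : Y.Opens) (_ : IsAffineOpen U) (_ : IsAffineOpen V)
      (hUV : U ≤ f ⁻¹ᵁ V), x ∈ U ∧ MoreMor.IsFormallyEtaleHom (Spec.map (f.appLE V U hUV))) :
    MoreMor.IsFormallyEtaleHom f := by
  intro A _ I hI a b w
  set t := Spec.map (CommRingCat.ofHom (Ideal.Quotient.mk I)) with ht
  have hts := FormalEtale.surjective_specMap_mk A I hI
  have : IsClosedImmersion t :=
    IsClosedImmersion.spec_of_surjective _ Ideal.Quotient.mk_surjective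
  refine FormalEtale.existsUnique_lift_of_local t f a b fun p => ?_
  obtain ⟨q, rfl⟩ := hts.surj p
  obtain ⟨U, V, hU, hV, hUV, hxU, hFE⟩ := H (a q)
  obtain ⟨W, hWopen, hW⟩ := t.isClosedEmbedding.isInducing.isOpen_iff.mp (a ⁻¹ᵁ U).isOpen
  refine ⟨⟨W, hWopen⟩ ⊓ b ⁻¹ᵁ V, ⟨?_, ?_⟩, fun W' hW' hle => ?_⟩
  · show q ∈ t ⁻¹' W
    rw [hW]; exact hxU
  · show b (t q) ∈ V
    rw [← Scheme.Hom.comp_apply, w, Scheme.Hom.comp_apply]
    exact hUV hxU
  have hWa : t ⁻¹ᵁ W' ≤ a ⁻¹ᵁ U := fun x hx => by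
    have : x ∈ t ⁻¹' W := (hle hx).1
    rwa [hW] at this
  have hra : Set.range ((t ⁻¹ᵁ W').ι ≫ a) ⊆ Set.range hU.fromSpec := by
    rw [hU.range_fromSpec]
    rintro _ ⟨⟨x, hx⟩, rfl⟩
    exact hWa hx
  have hrb : Set.range (W'.ι ≫ b) ⊆ Set.range hV.fromSpec := by
    rw [hV.range_fromSpec]
    rintro _ ⟨⟨x, hx⟩, rfl⟩
    exact (hle hx).2
  set t' := t.resLE W' (t ⁻¹ᵁ W') le_rfl with ht'
  have : IsAffine (W' : Scheme.{u}) := hW'
  have : IsClosedImmersion t' := by
    rw [ht', Scheme.Hom.resLE_eq_morphismRestrict]; infer_instance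
  have hsq : t.ker * t.ker = ⊥ := by
    refine Scheme.IdealSheafData.ext_of_isAffine ?_
    have hker : RingHom.ker t.appTop.hom ^ 2 = ⊥ := by
      rw [eq_bot_iff, pow_two, Ideal.mul_le]
      intro x hx y hy
      set e := (Scheme.ΓSpecIso (CommRingCat.of A)).hom
      have key : ∀ z, z ∈ RingHom.ker t.appTop.hom → e z ∈ I := fun z hz => by
        have h4 := congr($(Scheme.ΓSpecIso_naturality (CommRingCat.ofHom (Ideal.Quotient.mk I))).hom z)
        simp only [CommRingCat.hom_comp, RingHom.comp_apply, CommRingCat.hom_ofHom] at h4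
        rw [RingHom.mem_ker.mp hz, map_zero] at h4
        exact Ideal.Quotient.eq_zero_iff_mem.mp h4.symm
      have h5 := Ideal.mul_mem_mul (key x hx) (key y hy)
      rw [← pow_two, hI, Ideal.mem_bot, ← map_mul] at h5
      have he : Function.Injective e := (ConcreteCategory.bijective_of_isIso _).1
      exact Ideal.mem_bot.mpr (he (by rw [h5, map_zero]))
    rw [pow_two] at hker
    simp only [Scheme.IdealSheafData.ideal_mul, Scheme.IdealSheafData.ideal_bot, Scheme.Hom.ker_apply,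
      Pi.mul_apply, Pi.bot_apply]
    exact hker
  obtain ⟨l, ⟨hl₁, hl₂⟩, hlu⟩ := FormalEtale.existsUnique_lift_of_isAffine hFE t'
    (FormalEtale.resLE_ker_sq t hsq hW') (IsOpenImmersion.lift _ _ hra) (IsOpenImmersion.lift _ _ hrb)
    (by
      rw [← cancel_mono hV.fromSpec, Category.assoc, Category.assoc, IsOpenImmersion.lift_fac,
        hV.SpecMap_appLE_fromSpec f hU hUV, IsOpenImmersion.lift_fac_assoc,
        Scheme.Hom.resLE_comp_ι_assoc, w, Category.assoc])
  refine ⟨l ≫ hU.fromSpec, ⟨?_, ?_⟩, fun m hm => ?_⟩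
  · rw [reassoc_of% hl₁, IsOpenImmersion.lift_fac]
  · rw [Category.assoc, ← hV.SpecMap_appLE_fromSpec f hU hUV, reassoc_of% hl₂,
      IsOpenImmersion.lift_fac]
  · have hrm : Set.range m ⊆ Set.range hU.fromSpec := by
      rw [hU.range_fromSpec]
      rintro _ ⟨⟨y, hy⟩, rfl⟩
      obtain ⟨x, rfl⟩ := hts.surj y
      have h7 : t' ⟨x, hy⟩ = ⟨t x, hy⟩ := Subtype.ext (by simp [t'])
      show m ⟨t x, hy⟩ ∈ U
      rw [← h7]
      have h6 : (t' ≫ m) ⟨x, hy⟩ = ((t ⁻¹ᵁ W').ι ≫ a) ⟨x, hy⟩ := congrArg (fun k => k.base ⟨x, hy⟩) hm.1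
      exact h6 ▸ hWa hy
    rw [← hlu (IsOpenImmersion.lift _ _ hrm) ⟨?_, ?_⟩, IsOpenImmersion.lift_fac]
    · rw [← cancel_mono hU.fromSpec, Category.assoc, IsOpenImmersion.lift_fac,
        IsOpenImmersion.lift_fac]
      exact hm.1
    · rw [← cancel_mono hV.fromSpec, Category.assoc, hV.SpecMap_appLE_fromSpec f hU hUV,
        IsOpenImmersion.lift_fac_assoc, IsOpenImmersion.lift_fac]
      exact hm.2

theorem iff_affineLocally :
    MoreMor.IsFormallyEtaleHom f ↔ ∀ (U : X.Opens) (V : Y.Opens) (_ : IsAffineOpen U)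
      (_ : IsAffineOpen V) (hUV : U ≤ f ⁻¹ᵁ V),
      letI := (f.appLE V U hUV).hom.toAlgebra
      Algebra.FormallyEtale Γ(Y, V) Γ(X, U) := by
  refine ⟨fun hf U V hU hV hUV => (specMap_iff _).mp (appLE_of_isFormallyEtaleHom hf hU hV hUV),
    fun H => of_forall_exists_affine fun x => ?_⟩
  obtain ⟨_, ⟨V, hV, rfl⟩, hxV, -⟩ :=
    Y.isBasis_affineOpens.exists_subset_of_mem_open (Set.mem_univ (f x)) isOpen_univ
  obtain ⟨_, ⟨U, hU, rfl⟩, hxU, hUV⟩ :=
    X.isBasis_affineOpens.exists_subset_of_mem_open hxV (f ⁻¹ᵁ V).isOpen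
  exact ⟨U, V, hU, hV, hUV, hxU, (specMap_iff _).mpr (H U V hU hV hUV)⟩

end Groth.Agent.H54.FormalEtaleLocal
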