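import Mathlib.AlgebraicGeometry.Morphisms.UniversallyInjective
import Mathlib.AlgebraicGeometry.Morphisms.UniversallyOpen
import Mathlib.AlgebraicGeometry.Morphisms.UniversallyClosed
import Mathlib.AlgebraicGeometry.Morphisms.QuasiSeparated
import Mathlib.AlgebraicGeometry.Morphisms.QuasiFinite
import Mathlib.AlgebraicGeometry.Morphisms.ClosedImmersion
import Mathlib.AlgebraicGeometry.Morphisms.Integral
import Mathlib.AlgebraicGeometry.PullbackCarrier
import Mathlib.AlgebraicGeometry.Morphisms.Flat

/-!
# Properties of morphisms along surjective closed immersions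
-/

universe u

open AlgebraicGeometry CategoryTheory Limits

namespace Groth.Agent.H54.ThickBasic

lemma of_comp_mono {P : MorphismProperty Scheme.{u}} [P.IsStableUnderBaseChange]
    {X Y Z : Scheme.{u}} (f : X ⟶ Y) (g : Y ⟶ Z) [Mono g] (h : P (f ≫ g)) : P f := by
  have hsq : IsPullback (𝟙 X) f (f ≫ g) g := by
    refine IsPullback.of_isLimit' ⟨by simp⟩ (PullbackCone.IsLimit.mk _ (fun s => s.fst)
      (fun s => by simp) (fun s => ?_) (fun s m h₁ _ => by simpa using h₁))
    rw [← cancel_mono g, Category.assoc]
    exact s.condition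
  exact MorphismProperty.of_isPullback hsq h

lemma universallyOpen_of_comp_surjective {X Y Z : Scheme.{u}} (f : X ⟶ Y) (g : Y ⟶ Z)
    [UniversallyOpen (f ≫ g)] [Surjective f] : UniversallyOpen g := by
  constructor
  intro X' Y' i₁ i₂ f' H
  have h := UniversallyOpen.universally_isOpenMap (f := f ≫ g) _ _ _
    ((IsPullback.of_hasPullback i₁ f).paste_horiz H)
  have hs : Function.Surjective (pullback.fst i₁ f) :=
    (MorphismProperty.of_isPullback (P := @Surjective.{u}) (IsPullback.of_hasPullback i₁ f).flip
      ‹Surjective f›).1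
  intro U hU
  have : f' '' U = (pullback.fst i₁ f ≫ f') '' ((pullback.fst i₁ f) ⁻¹' U) := by
    rw [Scheme.Hom.comp_base, TopCat.coe_comp, Set.image_comp, Set.image_preimage_eq _ hs]
  rw [this]
  exact h _ (hU.preimage (Scheme.Hom.continuous _))

lemma universallyInjective_of_comp_surjective {X Y Z : Scheme.{u}} (f : X ⟶ Y) (g : Y ⟶ Z)
    [UniversallyInjective (f ≫ g)] [Surjective f] : UniversallyInjective g := by
  constructor
  intro X' Y' i₁ i₂ f' H
  have h := UniversallyInjective.universally_injective (f := f ≫ g) _ _ _
    ((IsPullback.of_hasPullback i₁ f).paste_horiz H)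
  have hs : Function.Surjective (pullback.fst i₁ f) :=
    (MorphismProperty.of_isPullback (P := @Surjective.{u}) (IsPullback.of_hasPullback i₁ f).flip
      ‹Surjective f›).1
  intro a b hab
  obtain ⟨a, rfl⟩ := hs a
  obtain ⟨b, rfl⟩ := hs b
  exact congrArg _ (h (by simpa using hab))

lemma quasiCompact_of_comp_surjective {X Y Z : Scheme.{u}} (f : X ⟶ Y) (g : Y ⟶ Z)
    [QuasiCompact (f ≫ g)] [Surjective f] : QuasiCompact g := by
  refine ⟨fun U hU hU' => ?_⟩
  have h := (f ≫ g).isCompact_preimage (U := ⟨U, hU⟩) hU'
  have h' := h.image f.continuous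
  rw [show g ⁻¹' U = f '' ((f ≫ g) ⁻¹' U) by
    rw [Scheme.Hom.comp_base, TopCat.coe_comp, Set.preimage_comp,
      Set.image_preimage_eq _ f.surjective]]
  exact h'

lemma quasiSeparated_of_comp_surjective {X Y Z : Scheme.{u}} (f : X ⟶ Y) (g : Y ⟶ Z)
    [IsClosedImmersion f] [Surjective f] [QuasiSeparated (f ≫ g)] : QuasiSeparated g := by
  constructor
  have h : QuasiCompact (pullback.diagonal (f ≫ g) ≫
      pullback.map (f ≫ g) (f ≫ g) g g f f (𝟙 Z) (by simp) (by simp)) := by
    have : QuasiCompact (pullback.map (f ≫ g) (f ≫ g) g g f f (𝟙 Z) (by simp) (by simp)) :=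
      MorphismProperty.pullbackMap (P := @QuasiCompact) inferInstance inferInstance rfl rfl
    infer_instance
  have heq : pullback.diagonal (f ≫ g) ≫
      pullback.map (f ≫ g) (f ≫ g) g g f f (𝟙 Z) (by simp) (by simp) =
      f ≫ pullback.diagonal g := by
    apply pullback.hom_ext
    · simp only [Category.assoc, pullback.map, pullback.lift_fst, pullback.diagonal_fst,
        pullback.diagonal_fst_assoc, Category.comp_id]
    · simp only [Category.assoc, pullback.map, pullback.lift_snd, pullback.diagonal_snd,
        pullback.diagonal_snd_assoc, Category.comp_id]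
  rw [heq] at h
  exact quasiCompact_of_comp_surjective f _

section Square

variable {X X' S S' : Scheme.{u}} {iX : X ⟶ X'} {iS : S ⟶ S'} {f : X ⟶ S} {f' : X' ⟶ S'}

lemma quasiCompact_iff [IsClosedImmersion iX] [Surjective iX] [IsClosedImmersion iS]
    (w : iX ≫ f' = f ≫ iS) : QuasiCompact f ↔ QuasiCompact f' := by
  constructor
  · intro h
    have : QuasiCompact (iX ≫ f') := w ▸ inferInstance
    exact quasiCompact_of_comp_surjective iX f'
  · intro h
    exact of_comp_mono (P := @QuasiCompact) f iS (w ▸ inferInstance)

lemma quasiSeparated_iff [IsClosedImmersion iX] [Surjective iX] [IsClosedImmersion iS]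
    (w : iX ≫ f' = f ≫ iS) : QuasiSeparated f ↔ QuasiSeparated f' := by
  constructor
  · intro h
    have : QuasiSeparated (iX ≫ f') := w ▸ inferInstance
    exact quasiSeparated_of_comp_surjective iX f'
  · intro h
    exact of_comp_mono (P := @QuasiSeparated) f iS (w ▸ inferInstance)

lemma universallyClosed_iff [IsClosedImmersion iX] [Surjective iX] [IsClosedImmersion iS]
    (w : iX ≫ f' = f ≫ iS) : UniversallyClosed f ↔ UniversallyClosed f' := by
  constructor
  · intro h
    have : UniversallyClosed (iX ≫ f') := w ▸ inferInstance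
    exact UniversallyClosed.of_comp_surjective iX f'
  · intro h
    exact of_comp_mono (P := @UniversallyClosed) f iS (w ▸ inferInstance)

lemma universallyInjective_iff [IsClosedImmersion iX] [Surjective iX] [IsClosedImmersion iS]
    (w : iX ≫ f' = f ≫ iS) : UniversallyInjective f ↔ UniversallyInjective f' := by
  constructor
  · intro h
    have : UniversallyInjective (iX ≫ f') :=
      w ▸ MorphismProperty.comp_mem @UniversallyInjective _ _ h inferInstance
    exact universallyInjective_of_comp_surjective iX f'
  · intro h
    exact of_comp_mono (P := @UniversallyInjective) f iS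
      (w ▸ MorphismProperty.comp_mem @UniversallyInjective _ _ inferInstance h)

lemma universallyOpen_of_surjective_closedImmersion {X Y : Scheme.{u}} (i : X ⟶ Y)
    [IsClosedImmersion i] [Surjective i] : UniversallyOpen i := by
  constructor
  intro X' Y' i₁ i₂ f' H
  have h1 : IsClosedImmersion f' := MorphismProperty.of_isPullback H.flip ‹IsClosedImmersion i›
  have h2 : Surjective f' := MorphismProperty.of_isPullback H.flip ‹Surjective i›
  exact (f'.isClosedEmbedding.isEmbedding.toHomeomorphOfSurjective f'.surjective).isOpenMap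

lemma universallyOpen_iff [IsClosedImmersion iX] [Surjective iX] [IsClosedImmersion iS]
    [Surjective iS] (w : iX ≫ f' = f ≫ iS) : UniversallyOpen f ↔ UniversallyOpen f' := by
  have hX := universallyOpen_of_surjective_closedImmersion iX
  have hS := universallyOpen_of_surjective_closedImmersion iS
  constructor
  · intro h
    have : UniversallyOpen (iX ≫ f') := w ▸ inferInstance
    exact universallyOpen_of_comp_surjective iX f'
  · intro h
    exact of_comp_mono (P := @UniversallyOpen) f iS (w ▸ inferInstance)

lemma locallyQuasiFinite_iff [IsClosedImmersion iX] [Surjective iX] [IsClosedImmersion iS]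
    [LocallyOfFiniteType f] [LocallyOfFiniteType f']
    (w : iX ≫ f' = f ≫ iS) : LocallyQuasiFinite f ↔ LocallyQuasiFinite f' := by
  constructor
  · intro h
    have h' : LocallyQuasiFinite (iX ≫ f') := w ▸ inferInstance
    rw [locallyQuasiFinite_iff_isDiscrete_preimage_singleton]
    intro y
    have h1 := (iX ≫ f').isDiscrete_preimage_singleton y
    rw [show f' ⁻¹' {y} = iX '' ((iX ≫ f') ⁻¹' {y}) by
      rw [Scheme.Hom.comp_base, TopCat.coe_comp, Set.preimage_comp,
        Set.image_preimage_eq _ iX.surjective]]
    exact h1.image iX.isClosedEmbedding.isInducing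
  · intro h
    have : LocallyQuasiFinite (f ≫ iS) := w ▸ inferInstance
    exact LocallyQuasiFinite.of_comp f iS

end Square

end Groth.Agent.H54.ThickBasic
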