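import Groth.Agent.H54.ThickAlg
import Groth.Agent.H54.ThickBasic
import Mathlib.AlgebraicGeometry.Morphisms.FormallyUnramified
import Mathlib.AlgebraicGeometry.Morphisms.FiniteType
import Mathlib.AlgebraicGeometry.Morphisms.Immersion
import Mathlib.AlgebraicGeometry.ZariskisMainTheorem

/-!
# Local properties along thickenings with cartesian squares
-/

universe u

open AlgebraicGeometry CategoryTheory Limits

namespace Groth.Agent.H54.ThickLocal

variable {X X' Y Y' : Scheme.{u}} {iX : X ⟶ X'} {iY : Y ⟶ Y'} {f : X ⟶ Y} {f' : X' ⟶ Y'}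

/-- On affine opens, the base change of a closed immersion is cut out by the extended ideal. -/
lemma ker_app_eq_map (hc : IsPullback iX f f' iY) [IsClosedImmersion iY]
    {V : Y'.Opens} (hV : IsAffineOpen V) {U : X'.Opens} (hU : IsAffineOpen U) (hUV : U ≤ f' ⁻¹ᵁ V) :
    Function.Surjective (iX.app U) ∧
      RingHom.ker (iX.app U).hom = (RingHom.ker (iY.app V).hom).map (f'.appLE V U hUV).hom := by
  have : IsClosedImmersion iX := MorphismProperty.of_isPullback hc.flip ‹IsClosedImmersion iY›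
  refine ⟨iX.app_surjective U hU, ?_⟩
  have hUY : iX ⁻¹ᵁ U = iX ⁻¹ᵁ U ⊓ f ⁻¹ᵁ (iY ⁻¹ᵁ V) := by
    refine le_antisymm (le_inf le_rfl ?_) inf_le_left
    rw [← Scheme.Hom.comp_preimage, ← hc.w, Scheme.Hom.comp_preimage]
    exact iX.preimage_mono hUV
  have hpo := (isIso_pushoutSection_iff hc (US := V) (UT := iY ⁻¹ᵁ V) (UX := U) le_rfl hUV hUY).mp
    (isIso_pushoutSection_of_isAffineOpen hc le_rfl hUV hUY hV (hV.preimage iY) hU)
  rw [← Scheme.Hom.app_eq_appLE, ← Scheme.Hom.app_eq_appLE] at hpo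
  set φ := f'.appLE V U hUV
  apply le_antisymm
  · intro b hb
    set J := (RingHom.ker (iY.app V).hom).map φ.hom
    let q : Γ(X', U) ⟶ CommRingCat.of (Γ(X', U) ⧸ J) := CommRingCat.ofHom (Ideal.Quotient.mk J)
    have hsurj : Function.Surjective (iY.app V).hom := iY.app_surjective V hV
    have hle : RingHom.ker (iY.app V).hom ≤ RingHom.ker ((Ideal.Quotient.mk J).comp φ.hom) := by
      intro a ha
      rw [RingHom.mem_ker, RingHom.comp_apply, Ideal.Quotient.eq_zero_iff_mem]
      exact Ideal.mem_map_of_mem _ ha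
    let r : Γ(Y, iY ⁻¹ᵁ V) ⟶ CommRingCat.of (Γ(X', U) ⧸ J) := CommRingCat.ofHom
      ((iY.app V).hom.liftOfRightInverse _ (Function.rightInverse_surjInv hsurj)
        ⟨(Ideal.Quotient.mk J).comp φ.hom, hle⟩ : _ →+* Γ(X', U) ⧸ J)
    have hr : φ ≫ q = iY.app V ≫ r := by
      ext a
      exact ((iY.app V).hom.liftOfRightInverse_comp_apply _ (Function.rightInverse_surjInv hsurj)
        ⟨(Ideal.Quotient.mk J).comp φ.hom, hle⟩ a).symm
    have h1 : iX.app U ≫ hpo.desc q r hr = q := hpo.inl_desc q r hr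
    have h2 : (iX.app U ≫ hpo.desc q r hr).hom b = q.hom b := by rw [h1]
    rw [CommRingCat.hom_comp, RingHom.comp_apply, hb, map_zero] at h2
    exact Ideal.Quotient.eq_zero_iff_mem.mp h2.symm
  · rw [Ideal.map_le_iff_le_comap]
    intro a ha
    have h2 := congr($(hpo.w).hom a)
    rw [CommRingCat.hom_comp, CommRingCat.hom_comp, RingHom.comp_apply, RingHom.comp_apply,
      RingHom.mem_ker.mp ha, map_zero] at h2
    exact h2

lemma le_nilradical_of_surjective {Y Y' : Scheme.{u}} (iY : Y ⟶ Y') [IsClosedImmersion iY]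
    [Surjective iY] {V : Y'.Opens} (hV : IsAffineOpen V) :
    RingHom.ker (iY.app V).hom ≤ nilradical Γ(Y', V) := by
  intro a ha
  refine mem_nilradical.mpr ((Scheme.isNilpotent_iff_basicOpen_eq_bot_of_isCompact hV.isCompact a).mpr ?_)
  have h1 : iY ⁻¹ᵁ (Y'.basicOpen a) = ⊥ := by
    rw [Scheme.preimage_basicOpen, RingHom.mem_ker.mp ha]
    exact Scheme.basicOpen_zero _ _
  ext y
  simp only [TopologicalSpace.Opens.coe_bot, Set.mem_empty_iff_false, iff_false]
  intro hy
  obtain ⟨x, rfl⟩ := iY.surjective y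
  have h2 : x ∈ iY ⁻¹ᵁ (Y'.basicOpen a) := hy
  rw [h1] at h2
  exact h2

lemma isNilpotent_ker_app {Y Y' : Scheme.{u}} (iY : Y ⟶ Y') [IsClosedImmersion iY]
    (h : IsNilpotent iY.ker) {V : Y'.Opens} (hV : IsAffineOpen V) :
    IsNilpotent (RingHom.ker (iY.app V).hom) := by
  obtain ⟨n, hn⟩ := h
  refine ⟨n, ?_⟩
  have h1 := congr(($hn).ideal ⟨V, hV⟩)
  simpa using h1

section

variable (hc : IsPullback iX f f' iY) [IsClosedImmersion iY]
include hc

lemma formallyUnramified_algebra [FormallyUnramified f] {V : Y'.Opens} (hV : IsAffineOpen V)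
    {U : X'.Opens} (hU : IsAffineOpen U) (hUV : U ≤ f' ⁻¹ᵁ V) :
    letI := (f'.appLE V U hUV).hom.toAlgebra
    Algebra.FormallyUnramified Γ(Y', V)
      (Γ(X', U) ⧸ (RingHom.ker (iY.app V).hom).map (algebraMap Γ(Y', V) Γ(X', U))) := by
  obtain ⟨hs, hk⟩ := ker_app_eq_map hc hV hU hUV
  have hFU : ((f ≫ iY).appLE V (iX ⁻¹ᵁ U)
      (by rw [← hc.w, Scheme.Hom.comp_preimage]; exact iX.preimage_mono hUV)).hom.FormallyUnramified := by
    have : IsClosedImmersion iX := MorphismProperty.of_isPullback hc.flip ‹IsClosedImmersion iY›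
    have : IsIso (pullback.diagonal iY) := (pullback.isIso_diagonal_iff iY).mpr inferInstance
    have : FormallyUnramified iY := inferInstance
    have : FormallyUnramified (f ≫ iY) := MorphismProperty.comp_mem _ _ _ ‹FormallyUnramified f› this
    exact (f ≫ iY).formallyUnramified_appLE hV (hU.preimage iX) _
  have heq : f'.appLE V U hUV ≫ iX.app U = (f ≫ iY).appLE V (iX ⁻¹ᵁ U)
      (by rw [← hc.w, Scheme.Hom.comp_preimage]; exact iX.preimage_mono hUV) := by
    simp only [Scheme.Hom.app_eq_appLE, Scheme.Hom.appLE_comp_appLE, hc.w]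
  rw [← heq, CommRingCat.hom_comp] at hFU
  algebraize [(f'.appLE V U hUV).hom, (iX.app U).hom, (iX.app U).hom.comp (f'.appLE V U hUV).hom]
  let e := (Ideal.quotientEquivAlgOfEq Γ(Y', V) hk.symm).trans
    (Ideal.quotientKerAlgEquivOfSurjective (f := IsScalarTower.toAlgHom Γ(Y', V) Γ(X', U) _) hs)
  exact Algebra.FormallyUnramified.of_equiv e.symm

lemma finiteType_algebra [LocallyOfFiniteType f] {V : Y'.Opens} (hV : IsAffineOpen V)
    {U : X'.Opens} (hU : IsAffineOpen U) (hUV : U ≤ f' ⁻¹ᵁ V) :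
    letI := (f'.appLE V U hUV).hom.toAlgebra
    Algebra.FiniteType Γ(Y', V)
      (Γ(X', U) ⧸ (RingHom.ker (iY.app V).hom).map (algebraMap Γ(Y', V) Γ(X', U))) := by
  obtain ⟨hs, hk⟩ := ker_app_eq_map hc hV hU hUV
  have hFU : ((f ≫ iY).appLE V (iX ⁻¹ᵁ U)
      (by rw [← hc.w, Scheme.Hom.comp_preimage]; exact iX.preimage_mono hUV)).hom.FiniteType := by
    have : IsClosedImmersion iX := MorphismProperty.of_isPullback hc.flip ‹IsClosedImmersion iY›
    exact (f ≫ iY).finiteType_appLE hV (hU.preimage iX) _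
  have heq : f'.appLE V U hUV ≫ iX.app U = (f ≫ iY).appLE V (iX ⁻¹ᵁ U)
      (by rw [← hc.w, Scheme.Hom.comp_preimage]; exact iX.preimage_mono hUV) := by
    simp only [Scheme.Hom.app_eq_appLE, Scheme.Hom.appLE_comp_appLE, hc.w]
  rw [← heq, CommRingCat.hom_comp] at hFU
  algebraize [(f'.appLE V U hUV).hom, (iX.app U).hom, (iX.app U).hom.comp (f'.appLE V U hUV).hom]
  let e := (Ideal.quotientEquivAlgOfEq Γ(Y', V) hk.symm).trans
    (Ideal.quotientKerAlgEquivOfSurjective (f := IsScalarTower.toAlgHom Γ(Y', V) Γ(X', U) _) hs)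
  exact ‹Algebra.FiniteType Γ(Y', V) _›.equiv e.symm

lemma formallyUnramified_iff_of_isNilpotent (h : IsNilpotent iY.ker) :
    FormallyUnramified f ↔ FormallyUnramified f' := by
  refine ⟨fun hf => ⟨fun {V} hV {U} hU hUV => ?_⟩,
    fun hf => MorphismProperty.of_isPullback hc hf⟩
  let := (f'.appLE V U hUV).hom.toAlgebra
  have := formallyUnramified_algebra hc hV hU hUV
  exact ThickAlg.formallyUnramified_of_isNilpotent _ (isNilpotent_ker_app iY h hV)

lemma formallyUnramified_iff_of_locallyOfFiniteType [Surjective iY] [LocallyOfFiniteType f'] :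
    FormallyUnramified f ↔ FormallyUnramified f' := by
  refine ⟨fun hf => ⟨fun {V} hV {U} hU hUV => ?_⟩,
    fun hf => MorphismProperty.of_isPullback hc hf⟩
  let := (f'.appLE V U hUV).hom.toAlgebra
  have := formallyUnramified_algebra hc hV hU hUV
  have h1 : (f'.appLE V U hUV).hom.FiniteType := f'.finiteType_appLE hV hU hUV
  have : Algebra.FiniteType Γ(Y', V) Γ(X', U) := h1
  exact ThickAlg.formallyUnramified_of_le_nilradical _ (le_nilradical_of_surjective iY hV)

lemma locallyOfFiniteType_iff_of_isNilpotent (h : IsNilpotent iY.ker) :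
    LocallyOfFiniteType f ↔ LocallyOfFiniteType f' := by
  refine ⟨fun hf => ⟨fun {V} hV {U} hU hUV => ?_⟩,
    fun hf => MorphismProperty.of_isPullback hc hf⟩
  let := (f'.appLE V U hUV).hom.toAlgebra
  have := finiteType_algebra hc hV hU hUV
  exact ThickAlg.finiteType_of_isNilpotent _ (isNilpotent_ker_app iY h hV)

lemma mono_of_isNilpotent (h : IsNilpotent iY.ker) [Mono f] : Mono f' := by
  have hFU : FormallyUnramified f' :=
    (formallyUnramified_iff_of_isNilpotent hc h).mp inferInstance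
  refine ⟨fun {Z} g₁ g₂ hg => ?_⟩
  refine Scheme.hom_ext_of_forall _ _ fun z => ?_
  obtain ⟨_, ⟨V, hV, rfl⟩, hzV, -⟩ := Y'.isBasis_affineOpens.exists_subset_of_mem_open
    (Set.mem_univ ((g₁ ≫ f') z)) isOpen_univ
  obtain ⟨_, ⟨W, hW, rfl⟩, hzW, hWV : W ≤ (g₁ ≫ f') ⁻¹ᵁ V⟩ :=
    Z.isBasis_affineOpens.exists_subset_of_mem_open hzV ((g₁ ≫ f') ⁻¹ᵁ V).isOpen
  refine ⟨W, hzW, ?_⟩
  have : IsAffine (W : Scheme.{u}) := hW
  have hb : IsPullback (pullback.fst ((Scheme.Opens.ι W) ≫ g₁ ≫ f') iY) (pullback.snd ((Scheme.Opens.ι W) ≫ g₁ ≫ f') iY)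
      ((Scheme.Opens.ι W) ≫ g₁ ≫ f') iY := IsPullback.of_hasPullback _ _
  refine FormallyUnramified.hom_ext (pullback.fst ((Scheme.Opens.ι W) ≫ g₁ ≫ f') iY) ?_ f' ?_
    (by simp only [Category.assoc, hg])
  · have hle : (⊤ : (W : Scheme.{u}).Opens) ≤ ((Scheme.Opens.ι W) ≫ g₁ ≫ f') ⁻¹ᵁ V := by
      rintro ⟨x, hx⟩ -
      exact hWV hx
    obtain ⟨n, hn⟩ := isNilpotent_ker_app iY h hV
    refine ⟨n, Scheme.IdealSheafData.ext_of_isAffine ?_⟩
    simp only [Scheme.IdealSheafData.ideal_pow, Scheme.Hom.ker_apply, Pi.pow_apply,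
      (ker_app_eq_map hb hV (isAffineOpen_top _) hle).2, ← Ideal.map_pow, hn]
    simp
  · let a₁ := hc.lift (pullback.fst ((Scheme.Opens.ι W) ≫ g₁ ≫ f') iY ≫ (Scheme.Opens.ι W) ≫ g₁)
      (pullback.snd ((Scheme.Opens.ι W) ≫ g₁ ≫ f') iY) (by simpa using hb.w)
    let a₂ := hc.lift (pullback.fst ((Scheme.Opens.ι W) ≫ g₁ ≫ f') iY ≫ (Scheme.Opens.ι W) ≫ g₂)
      (pullback.snd ((Scheme.Opens.ι W) ≫ g₁ ≫ f') iY) (by simpa [← hg] using hb.w)
    have : a₁ = a₂ := by
      rw [← cancel_mono f]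
      simp [a₁, a₂]
    simpa [a₁, a₂] using congr($this ≫ iX)

lemma mono_iff_of_isNilpotent (h : IsNilpotent iY.ker) : Mono f ↔ Mono f' :=
  ⟨fun _ => mono_of_isNilpotent hc h, fun _ => hc.mono_snd_of_mono⟩

lemma mono_of_locallyOfFiniteType [Surjective iY] [LocallyOfFiniteType f'] [Mono f] : Mono f' := by
  have : IsClosedImmersion iX := MorphismProperty.of_isPullback hc.flip ‹IsClosedImmersion iY›
  have : Surjective iX := MorphismProperty.of_isPullback hc.flip ‹Surjective iY›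
  have hFU : FormallyUnramified f' :=
    (formallyUnramified_iff_of_locallyOfFiniteType hc).mp inferInstance
  have hUI : UniversallyInjective f' := (ThickBasic.universallyInjective_iff hc.w).mp inferInstance
  have hs : Surjective (pullback.diagonal f') := (UniversallyInjective.iff_diagonal f').mp hUI
  have : IsIso (pullback.diagonal f') :=
    (isIso_iff_isOpenImmersion_and_epi_base _).mpr
      ⟨inferInstance, (TopCat.epi_iff_surjective _).mpr hs.surj⟩
  exact (pullback.isIso_diagonal_iff f').mp this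

lemma isClosedImmersion_of_thickening [Surjective iY] [LocallyOfFiniteType f']
    [IsClosedImmersion f] : IsClosedImmersion f' := by
  have : IsClosedImmersion iX := MorphismProperty.of_isPullback hc.flip ‹IsClosedImmersion iY›
  have : Surjective iX := MorphismProperty.of_isPullback hc.flip ‹Surjective iY›
  have hm := mono_of_locallyOfFiniteType hc
  have hu : UniversallyClosed f' := (ThickBasic.universallyClosed_iff hc.w).mp inferInstance
  have : IsProper f' := { }
  exact (IsClosedImmersion.iff_isProper_and_mono f').mpr ⟨this, hm⟩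

lemma isImmersion_of_thickening [Surjective iY] [LocallyOfFiniteType f'] [IsImmersion f] :
    IsImmersion f' := by
  have : Surjective iX := MorphismProperty.of_isPullback hc.flip ‹Surjective iY›
  obtain ⟨U, hUopen, hU⟩ :=
    iY.isClosedEmbedding.isInducing.isOpen_iff.mp f.coborderRange.isOpen
  let U' : Y'.Opens := ⟨U, hUopen⟩
  have hpre : iY ⁻¹ᵁ U' = f.coborderRange := TopologicalSpace.Opens.ext hU
  have hrange : Set.range f ⊆ (f.coborderRange : Set Y) := subset_coborder
  have hle : (⊤ : X'.Opens) ≤ f' ⁻¹ᵁ U' := by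
    rintro x' -
    obtain ⟨x, rfl⟩ := iX.surjective x'
    have h1 : f x ∈ iY ⁻¹ᵁ U' := hpre ▸ hrange ⟨x, rfl⟩
    show f' (iX x) ∈ U'
    rw [← Scheme.Hom.comp_apply, hc.w]
    exact h1
  have hUY : (⊤ : X.Opens) = iX ⁻¹ᵁ ⊤ ⊓ f ⁻¹ᵁ f.coborderRange := by
    refine (eq_top_iff.mpr fun x _ => ⟨trivial, hrange ⟨x, rfl⟩⟩).symm
  have hc' := Scheme.Hom.isPullback_resLE hc (US := U') (UT := f.coborderRange) (UX := ⊤)
    hpre.ge hle hUY
  have : IsClosedImmersion (iY.resLE U' f.coborderRange hpre.ge) := by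
    have : ∀ (W : Y.Opens) (h : iY ⁻¹ᵁ U' = W), IsClosedImmersion (iY.resLE U' W h.ge) := by
      rintro W rfl
      rw [Scheme.Hom.resLE_eq_morphismRestrict]
      infer_instance
    exact this _ hpre
  have : Surjective (iY.resLE U' f.coborderRange hpre.ge) := by
    refine ⟨fun ⟨y, hy⟩ => ?_⟩
    obtain ⟨x, rfl⟩ := iY.surjective y
    exact ⟨⟨x, hpre.le hy⟩, Subtype.ext (by simp)⟩
  have : IsClosedImmersion (f.resLE f.coborderRange ⊤ (hUY.le.trans inf_le_right)) := by
    have h1 : f.resLE f.coborderRange ⊤ (hUY.le.trans inf_le_right) =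
        (X.topIso.hom ≫ f.liftCoborder) := by
      rw [← cancel_mono f.coborderRange.ι]
      simp
    rw [h1]
    infer_instance
  have h2 : IsClosedImmersion (f'.resLE U' ⊤ hle) := isClosedImmersion_of_thickening hc'
  have h3 : f' = X'.topIso.inv ≫ f'.resLE U' ⊤ hle ≫ U'.ι := by simp
  rw [h3]
  infer_instance

end

end Groth.Agent.H54.ThickLocal
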