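import Groth.Agent.H54.ChevNoeth
import Groth.Agent.Lib.Lim.Approx.Integral
import Groth.Agent.Lib.Lim.Approx.Main
import Groth.Agent.Lib.Lim.FPDescend
import Groth.Agent.Lib.Lim.ResField
import Groth.Agent.Lib.Lim.Props
import Mathlib.AlgebraicGeometry.Morphisms.Integral

/-!
# Chevalley's theorem

A scheme receiving a universally closed surjection from an affine scheme is affine.
-/

set_option autoImplicit false
set_option linter.style.haveILetI false
universe u

open CategoryTheory CategoryTheory.Limits AlgebraicGeometry TopologicalSpace Opposite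

namespace Groth.Agent.H54.Chevalley

open Groth.Agent.Lib

variable {X S : Scheme.{u}}

lemma isSeparated_of_surjective (f : X ⟶ S) [Surjective f] [UniversallyClosed f] [X.IsSeparated] :
    S.IsSeparated := by
  constructor
  set t := terminal.from S
  let e : X ⟶ pullback t t := f ≫ pullback.diagonal t
  have hrange : Set.range (pullback.diagonal t) = Set.range e := by
    ext z
    constructor
    · rintro ⟨s, rfl⟩
      obtain ⟨x, rfl⟩ := f.surjective s
      exact ⟨x, rfl⟩
    · rintro ⟨x, rfl⟩
      exact ⟨f x, rfl⟩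
  let ff : pullback (f ≫ t) (f ≫ t) ⟶ pullback t t :=
    pullback.map (f ≫ t) (f ≫ t) t t f f (𝟙 _) (Category.comp_id _) (Category.comp_id _)
  have hff : pullback.diagonal (f ≫ t) ≫ ff = e := by
    apply pullback.hom_ext <;>
      simp only [ff, e, pullback.map, Category.assoc, pullback.lift_fst, pullback.lift_snd,
        pullback.diagonal_fst_assoc, pullback.diagonal_snd_assoc, pullback.diagonal_fst,
        pullback.diagonal_snd, Category.comp_id]
  haveI : IsSeparated (f ≫ t) := by
    rw [show f ≫ t = terminal.from X from terminal.comp_from f]; infer_instance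
  haveI : UniversallyClosed ff :=
    MorphismProperty.pullbackMap (P := @UniversallyClosed) ‹UniversallyClosed f› ‹UniversallyClosed f› rfl rfl
  have hcl : IsClosed (Set.range (pullback.diagonal t)) := by
    rw [hrange, ← hff]
    exact (pullback.diagonal (f ≫ t) ≫ ff).isClosedMap.isClosed_range
  haveI : IsClosedImmersion (pullback.diagonal t) := IsClosedImmersion.of_isPreimmersion _ hcl
  exact ⟨inferInstance⟩

/-- The finitely presented finite case. -/
theorem isAffine_of_finite_fp (f : X ⟶ S) [IsFinite f] [LocallyOfFinitePresentation f] [Surjective f]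
    [IsAffine X] [CompactSpace S] [QuasiSeparatedSpace S] : IsAffine S := by
  obtain ⟨A⟩ := Lim.Approx.Main.exists_approx (S := S)
  haveI : IsCofiltered A.Iᵒᵖ := by
    haveI : IsFiltered A.I := isFiltered_of_directed_le_nonempty A.I
    infer_instance
  haveI : IsLocallyNoetherian (Spec (CommRingCat.of (ULift.{u, 0} ℤ))) := by
    haveI : IsNoetherianRing (ULift.{u, 0} ℤ) :=
      isNoetherianRing_of_surjective ℤ _ (ULift.ringEquiv.symm : ℤ ≃+* ULift.{u, 0} ℤ).toRingHom
        (ULift.ringEquiv.symm : ℤ ≃+* ULift.{u, 0} ℤ).surjective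
    infer_instance
  haveI hN : ∀ i, IsNoetherian (A.D.obj i) := fun i => by
    haveI := A.lft i
    haveI := LocallyOfFiniteType.isLocallyNoetherian (IsTerminal.from specULiftZIsTerminal (A.D.obj i))
    exact ⟨⟩
  obtain ⟨i₀, X₀, f₀, g, hc, hq, hlfp, hpb⟩ := Lim.FPDescend.exists_descent A.isLimit f
  obtain ⟨i, φ, hfin⟩ := Lim.Props.isFinite_descends A.D A.cone A.isLimit (fun _ _ a => A.affine a)
    i₀ inferInstance inferInstance f₀ hc hq inferInstance f g hpb inferInstance
  have hpb' := Lim.FPDescend.move (c := A.cone) hpb φ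
  set f₁ := pullback.snd f₀ (A.D.map φ)
  haveI : IsFinite f₁ := hfin
  haveI : CompactSpace ↥(pullback f₀ (A.D.map φ)) := Lim.FPDescend.compactSpace_stage f₀ φ
  haveI : QuasiSeparatedSpace ↥(pullback f₀ (A.D.map φ)) :=
    Lim.FPDescend.quasiSeparatedSpace_stage f₀ φ
  let O : (A.D.obj i).Opens := ⟨(Set.range f₁)ᶜ, f₁.isClosedMap.isClosed_range.isOpen_compl⟩
  haveI : CompactSpace O.toScheme :=
    isCompact_iff_compactSpace.mp (TopologicalSpace.NoetherianSpace.isCompact _)
  have hempty : IsEmpty ↥(pullback O.ι (A.cone.π.app i)) := ⟨fun z => by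
    obtain ⟨x, hx⟩ := f.surjective (pullback.snd O.ι (A.cone.π.app i) z)
    have h1 := congr(($(pullback.condition (f := O.ι) (g := A.cone.π.app i))) z)
    have h2 := congr(($(hpb'.w)) x)
    simp only [Scheme.Hom.comp_apply] at h1 h2
    exact (pullback.fst O.ι (A.cone.π.app i) z).2 ⟨_, h2.trans ((congrArg (A.cone.π.app i) hx).trans h1.symm)⟩⟩
  obtain ⟨j, ψ, hj⟩ := Lim.ResField.exists_isEmpty A.D A.cone A.isLimit i O.ι hempty
  have hpb2 := Lim.FPDescend.move (c := A.cone) hpb' ψ
  haveI : CompactSpace ↥(pullback f₁ (A.D.map ψ)) := Lim.FPDescend.compactSpace_stage f₁ ψ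
  haveI : QuasiSeparatedSpace ↥(pullback f₁ (A.D.map ψ)) :=
    Lim.FPDescend.quasiSeparatedSpace_stage f₁ ψ
  set f₂ := pullback.snd f₁ (A.D.map ψ)
  haveI : Surjective f₂ := ⟨fun s => by
    have hs : A.D.map ψ s ∈ Set.range f₁ := by
      by_contra hcon
      obtain ⟨z, -, -⟩ := Scheme.Pullback.exists_preimage_pullback (f := O.ι) (g := A.D.map ψ)
        (⟨A.D.map ψ s, hcon⟩ : O.toScheme) s rfl
      exact hj.elim z
    obtain ⟨x, hx⟩ := hs
    obtain ⟨z, -, hz⟩ := Scheme.Pullback.exists_preimage_pullback (f := f₁) (g := A.D.map ψ) x s hx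
    exact ⟨z, hz⟩⟩
  have hlim := Lim.Basic.isLimitBcCone A.isLimit hpb2
  haveI : IsAffine (Lim.Basic.bcCone hpb2.w).pt := ‹IsAffine X›
  haveI : ∀ {a b : Over j} (χ : a ⟶ b), IsAffineHom ((Lim.Basic.bcDiagram A.D f₂).map χ) := fun χ =>
    Lim.Basic.bcDiagram_map_prop A.D f₂ @IsAffineHom (fun _ => inferInstance) χ
  haveI := Lim.Basic.compactSpace_bcDiagram A.D f₂
  haveI := Lim.Basic.quasiSeparatedSpace_bcDiagram A.D f₂
  obtain ⟨k, hk⟩ := Scheme.exists_isAffine_of_isLimit (Lim.Basic.bcDiagram A.D f₂) _ hlim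
  haveI : IsAffine (pullback f₂ (A.D.map k.hom)) := hk
  haveI : Surjective (pullback.snd f₂ (A.D.map k.hom)) := inferInstance
  haveI : IsFinite f₂ := inferInstance
  haveI : IsAffine (A.D.obj k.left) :=
    ChevNoeth.isAffine_of_finite_surjective (pullback.snd f₂ (A.D.map k.hom))
  haveI : IsAffineHom (A.cone.π.app k.left) := Lim.Basic.isAffineHom_π A.isLimit k.left
  exact isAffine_of_isAffineHom (A.cone.π.app k.left)

/-- Chevalley's theorem. -/
theorem isAffine_of_universallyClosed (f : X ⟶ S) [IsAffine X] [Surjective f] [UniversallyClosed f] :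
    IsAffine S := by
  haveI : CompactSpace S :=
    ⟨by rw [← f.surjective.range_eq]; exact isCompact_range f.continuous⟩
  haveI := isSeparated_of_surjective f
  haveI : IsAffineHom (f ≫ terminal.from S) := inferInstance
  haveI : IsAffineHom f := IsAffineHom.of_comp f (terminal.from S)
  haveI : IsIntegralHom f :=
    IsIntegralHom.iff_universallyClosed_and_isAffineHom.mpr ⟨inferInstance, inferInstance⟩
  obtain ⟨R, hR⟩ := Lim.Approx.Integral.exists_finiteApprox f
  haveI : IsAffine R.cone.pt := ‹IsAffine X›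
  obtain ⟨k, hk⟩ := Scheme.exists_isAffine_of_isLimit R.D R.cone R.isLimit
  haveI := hR k
  haveI : Surjective (R.t.app k) := by
    haveI : Surjective (R.π.app k ≫ R.t.app k) := by rw [R.w]; infer_instance
    exact Surjective.of_comp (R.π.app k) (R.t.app k)
  exact @isAffine_of_finite_fp (R.D.obj k) S (R.t.app k) _ (R.lfp k) _ hk _ _

end Groth.Agent.H54.Chevalley
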