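import Groth.Agent.Lib.LCFin.FibreDepth
import Groth.Agent.Lib.Depth.SES
import Groth.Agent.Lib.Depth.Assoc
import Groth.Agent.Lib.Pure.UI
import Groth.Prelude.Def_EGA4b
import Mathlib.RingTheory.Flat.Stability
import Mathlib.RingTheory.Ideal.KrullsHeightTheorem

/-!
# Depth and dimension of `N ⊗ M` for a flat local homomorphism
-/

universe u

open TensorProduct IsLocalRing LocCoh
open scoped Pointwise

namespace Groth.Agent.H54.DepthFlat

section Equivs

variable {A B : Type u} [CommRing A] [CommRing B] [Algebra A B]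
  {M : Type u} [AddCommGroup M] [Module A M]
  {N : Type u} [AddCommGroup N] [Module B N] [Module A N] [IsScalarTower A B N]

/-- Tensoring commutes with reduction modulo an element of the base. -/
theorem quot_smul_right (x : A) :
    Nonempty (QuotSMulTop (algebraMap A B x) (N ⊗[A] M) ≃ₗ[B] N ⊗[A] QuotSMulTop x M) := by
  let q := (x • (⊤ : Submodule A M)).mkQ
  let Φ : N ⊗[A] M →ₗ[B] N ⊗[A] QuotSMulTop x M := AlgebraTensorModule.map LinearMap.id q
  have hΦ : ∀ z, Φ z = q.lTensor N z := fun z => by
    induction z using TensorProduct.induction_on with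
    | zero => simp
    | add a b ha hb => rw [map_add, map_add, ha, hb]
    | tmul a b => rfl
  have hs : Function.Surjective Φ := fun z => by
    obtain ⟨w, rfl⟩ := LinearMap.lTensor_surjective N (Submodule.mkQ_surjective _) z
    exact ⟨w, hΦ w⟩
  have hex : Function.Exact ((LinearMap.lsmul A M x).lTensor N) (q.lTensor N) := by
    refine lTensor_exact N ?_ (Submodule.mkQ_surjective _)
    rw [LinearMap.exact_iff, Submodule.ker_mkQ]
    ext m
    rw [Submodule.mem_smul_pointwise_iff_exists]
    simp [eq_comm]
  have hmul : ∀ z : N ⊗[A] M, (LinearMap.lsmul A M x).lTensor N z = algebraMap A B x • z := fun z => by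
    induction z using TensorProduct.induction_on with
    | zero => simp
    | add a b ha hb => rw [map_add, ha, hb, smul_add]
    | tmul a b => simp [TensorProduct.smul_tmul']
  refine ⟨(Submodule.quotEquivOfEq _ (LinearMap.ker Φ) ?_).trans (LinearMap.quotKerEquivOfSurjective Φ hs)⟩
  ext z
  rw [LinearMap.mem_ker, hΦ, Submodule.mem_smul_pointwise_iff_exists]
  constructor
  · rintro ⟨w, -, rfl⟩
    exact (hex _).2 ⟨w, hmul w⟩
  · intro h
    obtain ⟨w, hw⟩ := (hex z).1 h
    exact ⟨w, trivial, (hmul w).symm.trans hw⟩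

/-- Tensoring commutes with reduction modulo an element of the algebra. -/
theorem quot_smul_left (y : B) :
    Nonempty (QuotSMulTop y (N ⊗[A] M) ≃ₗ[B] QuotSMulTop y N ⊗[A] M) := by
  let q := (y • (⊤ : Submodule B N)).mkQ
  let Φ : N ⊗[A] M →ₗ[B] QuotSMulTop y N ⊗[A] M := AlgebraTensorModule.map q LinearMap.id
  have hΦ : ∀ z, Φ z = (q.restrictScalars A).rTensor M z := fun z => by
    induction z using TensorProduct.induction_on with
    | zero => simp
    | add a b ha hb => rw [map_add, map_add, ha, hb]
    | tmul a b => rfl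
  have hs : Function.Surjective Φ := fun z => by
    obtain ⟨w, rfl⟩ := LinearMap.rTensor_surjective M (g := q.restrictScalars A) (Submodule.mkQ_surjective _) z
    exact ⟨w, hΦ w⟩
  let v : N →ₗ[A] N := (LinearMap.lsmul B N y).restrictScalars A
  have hex : Function.Exact (v.rTensor M) ((q.restrictScalars A).rTensor M) := by
    refine rTensor_exact M ?_ (Submodule.mkQ_surjective _)
    intro n
    show q n = 0 ↔ _
    rw [Submodule.mkQ_apply, Submodule.Quotient.mk_eq_zero, Submodule.mem_smul_pointwise_iff_exists]
    exact ⟨fun ⟨w, _, hw⟩ => ⟨w, hw⟩, fun ⟨w, hw⟩ => ⟨w, trivial, hw⟩⟩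
  have hmul : ∀ z : N ⊗[A] M, v.rTensor M z = y • z := fun z => by
    induction z using TensorProduct.induction_on with
    | zero => simp
    | add a b ha hb => rw [map_add, ha, hb, smul_add]
    | tmul a b => rfl
  refine ⟨(Submodule.quotEquivOfEq _ (LinearMap.ker Φ) ?_).trans (LinearMap.quotKerEquivOfSurjective Φ hs)⟩
  ext z
  rw [LinearMap.mem_ker, hΦ, Submodule.mem_smul_pointwise_iff_exists]
  constructor
  · rintro ⟨w, -, rfl⟩
    exact (hex _).2 ⟨w, hmul w⟩
  · intro h
    obtain ⟨w, hw⟩ := (hex z).1 h
    exact ⟨w, trivial, (hmul w).symm.trans hw⟩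

omit [Algebra A B] [Module A N] [IsScalarTower A B N] in
/-- Reduction modulo an ideal and modulo an element commute. -/
theorem quot_comm (J : Ideal B) (y : B) :
    Nonempty (QuotSMulTop y (N ⧸ J • (⊤ : Submodule B N)) ≃ₗ[B]
      QuotSMulTop y N ⧸ J • (⊤ : Submodule B (QuotSMulTop y N))) := by
  let S := J • (⊤ : Submodule B N)
  let T := y • (⊤ : Submodule B N)
  let e1 : QuotSMulTop y (N ⧸ S) ≃ₗ[B] N ⧸ S ⊔ T :=
    (Submodule.quotEquivOfEq _ _ (by
      rw [Submodule.map_pointwise_smul, Submodule.map_top, Submodule.range_mkQ])).trans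
      (Submodule.quotientQuotientEquivQuotientSup S T)
  let e2 : (QuotSMulTop y N ⧸ J • (⊤ : Submodule B (QuotSMulTop y N))) ≃ₗ[B] N ⧸ T ⊔ S :=
    (Submodule.quotEquivOfEq _ _ (by
      rw [Submodule.map_smul'', Submodule.map_top, Submodule.range_mkQ])).trans
      (Submodule.quotientQuotientEquivQuotientSup T S)
  exact ⟨e1.trans ((Submodule.quotEquivOfEq _ _ (sup_comm _ _)).trans e2.symm)⟩

end Equivs

variable {A B : Type u} [CommRing A] [IsLocalRing A] [CommRing B] [IsLocalRing B] [Algebra A B]
  [IsLocalHom (algebraMap A B)]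

theorem map_maximalIdeal_le : (maximalIdeal A).map (algebraMap A B) ≤ maximalIdeal B :=
  IsLocalRing.map_maximalIdeal_le (algebraMap A B)

section

variable {M : Type u} [AddCommGroup M] [Module A M]
  {N : Type u} [AddCommGroup N] [Module B N] [Module A N] [IsScalarTower A B N]

instance finite_tensor [Module.Finite B N] [Module.Finite A M] : Module.Finite B (N ⊗[A] M) :=
  Module.Finite.equiv (AlgebraTensorModule.cancelBaseChange A B B N M)

theorem nontrivial_fibre [Module.Finite B N] [Nontrivial N] : Nontrivial (EGA4.FibMod A B N) :=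
  Submodule.Quotient.nontrivial_iff.2 (Lib.Depth.Basic.smul_top_ne_top fun h =>
    (maximalIdeal.isMaximal B).ne_top (top_le_iff.1 (h.symm.trans_le map_maximalIdeal_le)))

theorem mem_smul_top_iff (J : Ideal A) (z : N) :
    z ∈ J • (⊤ : Submodule A N) ↔ z ∈ J.map (algebraMap A B) • (⊤ : Submodule B N) := by
  rw [← Submodule.restrictScalars_mem A (J.map (algebraMap A B) • (⊤ : Submodule B N)),
    Ideal.smul_restrictScalars, Submodule.restrictScalars_top]

/-- An element of `M` with annihilator `m_A` embeds the closed fibre of `N` in `N ⊗ M`. -/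
theorem exists_injective_fibre [Module.Flat A N] (g₀ : M)
    (hg₀ : LinearMap.ker (LinearMap.toSpanSingleton A M g₀) = maximalIdeal A) :
    ∃ φ : EGA4.FibMod A B N →ₗ[B] N ⊗[A] M, Function.Injective φ := by
  let φ₀ : N →ₗ[B] N ⊗[A] M :=
    { toFun := fun n => n ⊗ₜ g₀, map_add' := fun a b => TensorProduct.add_tmul a b g₀,
      map_smul' := fun b n => rfl }
  have hker : LinearMap.ker φ₀ = EGA4.mB A B • (⊤ : Submodule B N) := by
    ext z
    rw [LinearMap.mem_ker, ← mem_smul_top_iff]
    let t : A →ₗ[A] M := LinearMap.toSpanSingleton A M g₀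
    have hex : Function.Exact ((maximalIdeal A).subtype.lTensor N) (t.lTensor N) :=
      Module.Flat.lTensor_exact N (LinearMap.exact_iff.2 (by rw [Submodule.range_subtype]; exact hg₀))
    have h1 : φ₀ z = t.lTensor N (z ⊗ₜ (1 : A)) := by simp [φ₀, t]
    rw [h1]
    constructor
    · intro h
      obtain ⟨w, hw⟩ := (hex _).1 h
      have h2 := congrArg (TensorProduct.rid A N) hw
      rw [TensorProduct.rid_tmul, one_smul] at h2
      rw [← h2]
      clear * -
      induction w using TensorProduct.induction_on with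
      | zero => simp
      | add a b ha hb => rw [map_add, map_add]; exact Submodule.add_mem _ ha hb
      | tmul n r => simpa using Submodule.smul_mem_smul r.2 Submodule.mem_top
    · intro h
      refine Submodule.smul_induction_on h (fun r hr n _ => ?_) fun x y hx hy => ?_
      · have : t r = 0 := LinearMap.mem_ker.1 (show r ∈ LinearMap.ker t by rw [hg₀]; exact hr)
        rw [TensorProduct.smul_tmul, LinearMap.lTensor_tmul, smul_eq_mul, mul_one, this,
          TensorProduct.tmul_zero]
      · rw [TensorProduct.add_tmul, map_add, hx, hy, add_zero]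
  refine ⟨Submodule.liftQ _ φ₀ hker.ge, ?_⟩
  rw [← LinearMap.ker_eq_bot, Submodule.ker_liftQ_eq_bot']
  exact hker.symm

theorem nontrivial_tensor [Module.Flat A N] [Module.Finite B N] [Nontrivial N] [Module.Finite A M]
    [Nontrivial M] : Nontrivial (N ⊗[A] M) := by
  by_contra hc
  rw [not_nontrivial_iff_subsingleton] at hc
  have hI : maximalIdeal A • (⊤ : Submodule A M) ≠ ⊤ :=
    Lib.Depth.Basic.smul_top_ne_top (maximalIdeal.isMaximal A).ne_top
  have := Submodule.Quotient.nontrivial_iff.2 hI
  obtain ⟨m, hm⟩ := exists_ne (0 : M ⧸ maximalIdeal A • (⊤ : Submodule A M))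
  obtain ⟨φ, hφ⟩ := exists_injective_fibre (A := A) (B := B) (N := N) (M := M ⧸ maximalIdeal A • (⊤ : Submodule A M)) m (by
    refine le_antisymm (fun r hr => ?_) fun r hr => ?_
    · by_contra hu
      have hu' : IsUnit r := not_not.1 fun h => hu h
      exact hm (hu'.smul_eq_zero.1 (LinearMap.mem_ker.1 hr))
    · obtain ⟨x, rfl⟩ := Submodule.Quotient.mk_surjective _ m
      rw [LinearMap.mem_ker, LinearMap.toSpanSingleton_apply, ← Submodule.Quotient.mk_smul,
        Submodule.Quotient.mk_eq_zero]
      exact Submodule.smul_mem_smul hr Submodule.mem_top)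
  have : Subsingleton (N ⊗[A] (M ⧸ maximalIdeal A • (⊤ : Submodule A M))) :=
    (LinearMap.lTensor_surjective N (Submodule.mkQ_surjective _)).subsingleton
  have := nontrivial_fibre (A := A) (B := B) (N := N)
  exact not_subsingleton (EGA4.FibMod A B N) hφ.subsingleton

end

variable [IsNoetherianRing A] [IsNoetherianRing B]

theorem depth_tensor_aux : ∀ (a b : ℕ) (M : Type u) [AddCommGroup M] [Module A M] [Module.Finite A M]
    [Nontrivial M] (N : Type u) [AddCommGroup N] [Module B N] [Module A N] [IsScalarTower A B N]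
    [Module.Finite B N] [Nontrivial N] [Module.Flat A N], depth A M = a →
      depth B (EGA4.FibMod A B N) = b → depth B (N ⊗[A] M) = (a + b : ℕ) := by
  intro a
  induction a with
  | zero =>
    intro b
    induction b with
    | zero =>
      intro M _ _ _ _ N _ _ _ _ _ _ _ hM hN
      have := nontrivial_tensor (A := A) (B := B) (M := M) (N := N)
      have := nontrivial_fibre (A := A) (B := B) (N := N)
      obtain ⟨hp, g₀, hg₀⟩ := isAssociatedPrime_iff.mp
        ((Lib.Depth.Assoc.depth_eq_zero_iff M).1 (by exact_mod_cast hM))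
      obtain ⟨φ, hφ⟩ := exists_injective_fibre (B := B) (N := N) g₀ (by
        rw [hg₀]; ext r; simp [Submodule.mem_colon_singleton])
      rw [show ((0 + 0 : ℕ) : ℕ∞) = 0 from rfl, Lib.Depth.Assoc.depth_eq_zero_iff]
      exact IsAssociatedPrime.map_of_injective φ
        ((Lib.Depth.Assoc.depth_eq_zero_iff (EGA4.FibMod A B N)).1 (by exact_mod_cast hN)) hφ
    | succ b ih =>
      intro M _ _ _ _ N _ _ _ _ _ _ _ hM hN
      have := nontrivial_fibre (A := A) (B := B) (N := N)
      have := nontrivial_tensor (A := A) (B := B) (M := M) (N := N)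
      obtain ⟨y, hy, hyreg, -⟩ := Lib.Depth.Basic.exists_isSMulRegular_of_succ_le
        (M := EGA4.FibMod A B N) (Lib.Depth.Basic.smul_top_ne_top (maximalIdeal.isMaximal B).ne_top)
        (I := maximalIdeal B) (n := b) hN.ge
      obtain ⟨hregN, hflat⟩ := Lib.LCFin.FibreDepth.regular_flat_of_fibre_module (A := A) (M := N) y hyreg
      obtain ⟨e⟩ := quot_comm (N := N) (EGA4.mB A B) y
      have hN' : depth B (EGA4.FibMod A B (QuotSMulTop y N)) = b := by
        rw [← Lib.Depth.Basic.depth_congr e]
        refine (ENat.add_left_injective_of_ne_top ENat.one_ne_top) ?_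
        show _ + 1 = (b : ℕ∞) + 1
        rw [depth, Lib.Depth.SES.idealDepth_quotSMulTop _ hy hyreg, ← depth, hN, Nat.cast_succ]
      have : Nontrivial (QuotSMulTop y N) :=
        Submodule.Quotient.nontrivial_iff.2 (by
          rw [← Submodule.ideal_span_singleton_smul]
          exact Lib.Depth.Basic.smul_top_ne_top fun h => (maximalIdeal.isMaximal B).ne_top
            (top_le_iff.1 (h.symm.trans_le ((Ideal.span_singleton_le_iff_mem _).2 hy))))
      have key := ih M (QuotSMulTop y N) hM hN'
      have hregT : IsSMulRegular (N ⊗[A] M) y := by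
        intro z w hzw
        let v : N →ₗ[A] N := (LinearMap.lsmul B N y).restrictScalars A
        have hmul : ∀ z : N ⊗[A] M, v.rTensor M z = y • z := fun z => by
          induction z using TensorProduct.induction_on with
          | zero => simp
          | add a b ha hb => rw [map_add, ha, hb, smul_add]
          | tmul a b => rfl
        refine Lib.Pure.UI.of_flat_right v ((y • (⊤ : Submodule B N)).mkQ.restrictScalars A)
          hregN ?_ (Submodule.mkQ_surjective _) M (by rw [hmul, hmul]; exact hzw)
        intro n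
        show Submodule.Quotient.mk n = 0 ↔ _
        rw [Submodule.Quotient.mk_eq_zero, Submodule.mem_smul_pointwise_iff_exists]
        exact ⟨fun ⟨w, _, hw⟩ => ⟨w, hw⟩, fun ⟨w, hw⟩ => ⟨w, trivial, hw⟩⟩
      obtain ⟨e'⟩ := quot_smul_left (A := A) (M := M) (N := N) y
      rw [depth, ← Lib.Depth.SES.idealDepth_quotSMulTop _ hy hregT, ← depth, Lib.Depth.Basic.depth_congr e', key]
      push_cast
      ring
  | succ a ih =>
    intro b M _ _ _ _ N _ _ _ _ _ _ _ hM hN
    obtain ⟨x, hx, hxreg, -⟩ := Lib.Depth.Basic.exists_isSMulRegular_of_succ_le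
      (M := M) (Lib.Depth.Basic.smul_top_ne_top (maximalIdeal.isMaximal A).ne_top)
      (I := maximalIdeal A) (n := a) hM.ge
    have hM' : depth A (QuotSMulTop x M) = a := by
      refine (ENat.add_left_injective_of_ne_top ENat.one_ne_top) ?_
      show _ + 1 = (a : ℕ∞) + 1
      rw [depth, Lib.Depth.SES.idealDepth_quotSMulTop _ hx hxreg, ← depth, hM, Nat.cast_succ]
    have : Nontrivial (QuotSMulTop x M) :=
      Submodule.Quotient.nontrivial_iff.2 (by
        rw [← Submodule.ideal_span_singleton_smul]
        exact Lib.Depth.Basic.smul_top_ne_top fun h => (maximalIdeal.isMaximal A).ne_top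
          (top_le_iff.1 (h.symm.trans_le ((Ideal.span_singleton_le_iff_mem _).2 hx))))
    have key := ih b (QuotSMulTop x M) N hM' hN
    have hx' : algebraMap A B x ∈ maximalIdeal B := map_maximalIdeal_le (Ideal.mem_map_of_mem _ hx)
    have hregT : IsSMulRegular (N ⊗[A] M) (algebraMap A B x) := by
      intro z w hzw
      refine Module.Flat.lTensor_preserves_injective_linearMap (M := N) (LinearMap.lsmul A M x) hxreg ?_
      have hmul : ∀ z : N ⊗[A] M, (LinearMap.lsmul A M x).lTensor N z = algebraMap A B x • z := fun z => by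
        induction z using TensorProduct.induction_on with
        | zero => simp
        | add a b ha hb => rw [map_add, ha, hb, smul_add]
        | tmul a b => simp [TensorProduct.smul_tmul']
      rw [hmul, hmul]; exact hzw
    obtain ⟨e'⟩ := quot_smul_right (B := B) (N := N) (M := M) x
    rw [depth, ← Lib.Depth.SES.idealDepth_quotSMulTop _ hx' hregT, ← depth, Lib.Depth.Basic.depth_congr e', key]
    push_cast
    ring

/-- The depth of `N ⊗ M` for `N` flat over the base. -/
theorem depth_tensor (M : Type u) [AddCommGroup M] [Module A M] [Module.Finite A M]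
    (N : Type u) [AddCommGroup N] [Module B N] [Module A N] [IsScalarTower A B N]
    [Module.Finite B N] [Module.Flat A N] :
    depth B (N ⊗[A] M) = depth A M + depth B (EGA4.FibMod A B N) := by
  have hz : ∀ {R : Type u} [CommRing R] [IsLocalRing R] (P : Type u) [AddCommGroup P] [Module R P]
      [Subsingleton P], depth R P = ⊤ := fun {R} _ _ P _ _ _ => Lib.Depth.Basic.idealDepth_subsingleton
  rcases subsingleton_or_nontrivial M with hM | hM
  · rw [hz M, hz (N ⊗[A] M), top_add]
  rcases subsingleton_or_nontrivial N with hN | hN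
  · have : Subsingleton (EGA4.FibMod A B N) := (Submodule.mkQ_surjective _).subsingleton
    rw [hz (EGA4.FibMod A B N), hz (N ⊗[A] M), add_top]
  · have := nontrivial_fibre (A := A) (B := B) (N := N)
    obtain ⟨a, ha⟩ := ENat.ne_top_iff_exists.1 (Lib.Depth.Assoc.depth_ne_top (R := A) M)
    obtain ⟨b, hb⟩ := ENat.ne_top_iff_exists.1 (Lib.Depth.Assoc.depth_ne_top (R := B) (EGA4.FibMod A B N))
    rw [← ha, ← hb, depth_tensor_aux a b M N ha.symm hb.symm, Nat.cast_add]

end Groth.Agent.H54.DepthFlat
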