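import Groth.Agent.H54.TorPoly
import Groth.Agent.Lib.DR.TorDim
import Mathlib.RingTheory.LocalProperties.Exactness
import Mathlib.RingTheory.Localization.BaseChange
import Mathlib.CategoryTheory.Abelian.LeftDerived

/-!
# Tor dimension along ring maps
-/

universe u

open CategoryTheory CategoryTheory.Limits CategoryTheory.Pretriangulated
open Groth.Agent.Lib.DR
open Groth.Agent.Lib.DR.Basic Groth.Agent.Lib.DR.FiniteComplex Groth.Agent.Lib.DR.PseudoCoherent
open Groth.Agent.Lib.DR.TorAmp Groth.Agent.Lib.DR.BaseChange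
open Groth.Agent.H54.PCRestrict
open scoped TensorProduct MonoidalCategory

attribute [local instance] HasDerivedCategory.standard

namespace Groth.Agent.H54.TorDimHom

variable {A : Type u} [CommRing A]

/-- Tor as exactness after tensoring a resolution. -/
lemma subsingleton_tor_iff (M N : Type u) [AddCommGroup M] [Module A M] [AddCommGroup N] [Module A N]
    (P : ProjectiveResolution (ModuleCat.of A N)) (p : ℕ) :
    Subsingleton (DRing.Tor A (p + 1) M N) ↔
      Function.Exact ((P.complex.d (p + 2) (p + 1)).hom.lTensor M) ((P.complex.d (p + 1) p).hom.lTensor M) := by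
  let F := MonoidalCategory.tensorLeft (ModuleCat.of A M)
  let C := (F.mapHomologicalComplex (ComplexShape.down ℕ)).obj P.complex
  let e : ((CategoryTheory.Tor (ModuleCat.{u} A) (p + 1)).obj (ModuleCat.of A M)).obj (ModuleCat.of A N) ≅
      C.homology (p + 1) := P.isoLeftDerivedObj F (p + 1)
  have h : C.ExactAt (p + 1) ↔
      Function.Exact ((P.complex.d (p + 2) (p + 1)).hom.lTensor M) ((P.complex.d (p + 1) p).hom.lTensor M) := by
    rw [HomologicalComplex.exactAt_iff' C (p + 2) (p + 1) p (by simp) (by simp),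
      ShortComplex.ShortExact.moduleCat_exact_iff_function_exact]
    rfl
  rw [← h, HomologicalComplex.exactAt_iff_isZero_homology]
  exact ⟨fun hs => (ModuleCat.isZero_of_subsingleton _).of_iso e.symm,
    fun hz => ModuleCat.subsingleton_of_isZero (hz.of_iso e)⟩

lemma hasTorDimLE_iff_exact (M : Type u) [AddCommGroup M] [Module A M] (d : ℕ) :
    DRing.HasTorDimLE A d M ↔ ∀ (N : ModuleCat.{u} A) (P : ProjectiveResolution N) (p : ℕ), d ≤ p →
      Function.Exact ((P.complex.d (p + 2) (p + 1)).hom.lTensor M) ((P.complex.d (p + 1) p).hom.lTensor M) := by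
  constructor
  · exact fun h N P p hp => (subsingleton_tor_iff M N P p).1 (h N (p + 1) (by lia))
  · intro h N _ _ p hp
    obtain ⟨q, rfl⟩ : ∃ q, p = q + 1 := ⟨p - 1, by lia⟩
    obtain ⟨P⟩ : Nonempty (ProjectiveResolution (ModuleCat.of A N)) := ⟨projectiveResolution _⟩
    exact (subsingleton_tor_iff M N P q).2 (h _ P q (by lia))

variable {B : Type u} [CommRing B] [Algebra A B]

lemma exact_lTensor_iff (S : Type u) [AddCommGroup S] [Module B S] [Module A S] [IsScalarTower A B S]
    {P₁ P₂ P₃ : Type u} [AddCommGroup P₁] [Module A P₁] [AddCommGroup P₂] [Module A P₂] [AddCommGroup P₃]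
    [Module A P₃] (f : P₁ →ₗ[A] P₂) (g : P₂ →ₗ[A] P₃) :
    Function.Exact ((f.baseChange B).lTensor S) ((g.baseChange B).lTensor S) ↔
      Function.Exact (f.lTensor S) (g.lTensor S) := by
  let e := fun (P : Type u) [AddCommGroup P] [Module A P] =>
    (TensorProduct.AlgebraTensorModule.cancelBaseChange A B B S P).toAddEquiv
  have key : ∀ {P Q : Type u} [AddCommGroup P] [Module A P] [AddCommGroup Q] [Module A Q] (h : P →ₗ[A] Q)
      (x : S ⊗[B] (B ⊗[A] P)), h.lTensor S (e P x) = e Q ((h.baseChange B).lTensor S x) := by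
    intro P Q _ _ _ _ h x
    induction x using TensorProduct.induction_on with
    | zero => simp [e]
    | add x y hx hy => simp only [map_add, hx, hy]
    | tmul s y =>
      induction y using TensorProduct.induction_on with
      | zero => simp [e]
      | add x y hx hy => simp only [TensorProduct.tmul_add, map_add, hx, hy]
      | tmul b p => simp [e]
  exact (Function.Exact.iff_of_ladder_addEquiv (e P₁) (e P₂) (e P₃)
    (f₁₂ := ((f.baseChange B).lTensor S).toAddMonoidHom) (f₂₃ := ((g.baseChange B).lTensor S).toAddMonoidHom)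
    (g₁₂ := (f.lTensor S).toAddMonoidHom) (g₂₃ := (g.lTensor S).toAddMonoidHom)
    (AddMonoidHom.ext fun x => key f x) (AddMonoidHom.ext fun x => key g x)).symm

/-- A flat `B`-module has tor dimension over `A` at most that of `B`. -/
theorem hasTorDimLE_of_flat {d : ℕ} (hB : DRing.HasTorDimLE A d B) (S : Type u) [AddCommGroup S] [Module B S]
    [Module A S] [IsScalarTower A B S] [Module.Flat B S] : DRing.HasTorDimLE A d S := by
  rw [hasTorDimLE_iff_exact] at hB ⊢
  intro N P p hp
  refine (exact_lTensor_iff (B := B) S _ _).1 (Module.Flat.lTensor_exact S ?_)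
  rw [LinearMap.baseChange_eq_ltensor, LinearMap.baseChange_eq_ltensor]
  exact hB N P p hp

/-- Tor dimension is local on the algebra. -/
theorem hasTorDimLE_of_localizations {ι : Type} (f : ι → B) (hf : Ideal.span (Set.range f) = ⊤) {d : ℕ}
    (Bf : ι → Type u) [∀ i, CommRing (Bf i)] [∀ i, Algebra B (Bf i)] [∀ i, Algebra A (Bf i)]
    [∀ i, IsScalarTower A B (Bf i)] [∀ i, IsLocalization.Away (f i) (Bf i)]
    (h : ∀ i, DRing.HasTorDimLE A d (Bf i)) : DRing.HasTorDimLE A d B := by
  simp only [hasTorDimLE_iff_exact] at h ⊢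
  intro N P p hp
  rw [← LinearMap.baseChange_eq_ltensor, ← LinearMap.baseChange_eq_ltensor]
  choose k hk using fun r : Set.range f => r.2
  let X := fun j : ℕ => B ⊗[A] P.complex.X j
  let L := fun (j : ℕ) (r : Set.range f) => TensorProduct.mk B (Bf (k r)) (X j) 1
  have hL : ∀ (j : ℕ) (r : Set.range f), IsLocalizedModule (Submonoid.powers (r : B)) (L j r) := fun j r => by
    have : IsLocalization (Submonoid.powers (r : B)) (Bf (k r)) := by
      rw [← hk r]; exact inferInstanceAs (IsLocalization.Away (f (k r)) (Bf (k r)))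
    exact (isLocalizedModule_iff_isBaseChange (Submonoid.powers (r : B)) (Bf (k r)) _).mpr
      (TensorProduct.isBaseChange B (X j) (Bf (k r)))
  refine exact_of_isLocalized_span (R := B) (Set.range f) hf (fun r => Bf (k r) ⊗[B] X (p + 2)) (fun r => L (p + 2) r)
    (fun r => Bf (k r) ⊗[B] X (p + 1)) (fun r => L (p + 1) r) (fun r => Bf (k r) ⊗[B] X p) (fun r => L p r)
    ((P.complex.d (p + 2) (p + 1)).hom.baseChange B) ((P.complex.d (p + 1) p).hom.baseChange B) fun r => ?_
  have hmap : ∀ {i j : ℕ} (F : X i →ₗ[B] X j),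
      IsLocalizedModule.map (Submonoid.powers (r : B)) (L i r) (L j r) F = F.lTensor (Bf (k r)) := by
    intro i j F
    refine IsLocalizedModule.linearMap_ext (Submonoid.powers (r : B)) (L i r) (L j r) (LinearMap.ext fun x => ?_)
    exact IsLocalizedModule.map_apply (Submonoid.powers (r : B)) (L i r) (L j r) F x
  rw [hmap, hmap]
  exact (exact_lTensor_iff (Bf (k r)) _ _).2 (h (k r) N P p hp)

/-- Restriction to `A` of a complex of finite tor amplitude over `B`. -/
theorem bdd_flat_res_of_torDim {d : ℕ} (hB : DRing.HasTorDimLE A d B) {a b : ℤ} {X : Dual.D B}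
    (h : Bdd (flat B) a b X) : Bdd (flat A) (a - d) b ((DRing.restrictD (algebraMap A B)).obj X) := by
  obtain ⟨E, hE, hp, ⟨e⟩⟩ := h
  refine (bdd_induction good_flat (fun Y => Bdd (flat A) (a - d) b ((DRing.restrictD (algebraMap A B)).obj Y))
    (fun hY => bdd_zero good_flat ((DRing.restrictD (algebraMap A B)).map_isZero hY) _ _)
    (fun T hT h₁ h₃ => bdd_flat_ext _ ((DRing.restrictD (algebraMap A B)).map_distinguished _ hT) h₁ h₃)
    E a b hE hp fun S i hi hi' ⟨eS⟩ => ?_).of_iso ((DRing.restrictD (algebraMap A B)).mapIso e)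
  let _ : Module A S := Module.compHom S (algebraMap A B)
  have : IsScalarTower A B S := IsScalarTower.of_algebraMap_smul fun _ _ => rfl
  have : Module.Flat B S := good_flat.iso eS.symm (hp i)
  have h0 : Bdd (flat A) (-(d : ℤ)) 0 (Dual.inD A S) := (TorDim.hasTorDimLE_iff S d).1 (hasTorDimLE_of_flat hB S)
  refine Bdd.of_iso ((h0.shift good_flat (-i) (-(d : ℤ) + i) i (by lia) (by lia)).of_iso
    (singleShift (ModuleCat.of A S) (-i) i 0 (by lia))) ?_ |>.mono (by lia) hi'
  exact (ExactPush.mapSingle (res (algebraMap A B)) S i).symm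

/-- Restriction of scalars in a scalar tower. -/
def towerEquiv (C : Type u) [AddCommGroup C] [Module B C] [Module A C] [IsScalarTower A B C] :
    ((res (algebraMap A B)).obj (ModuleCat.of B C) : Type u) ≃ₗ[A] C where
  toFun x := x
  invFun x := x
  left_inv _ := rfl
  right_inv _ := rfl
  map_add' _ _ := rfl
  map_smul' a x := algebraMap_smul B a (show C from x)

/-- Tor dimensions add up. -/
theorem hasTorDimLE_trans {C : Type u} [CommRing C] [Algebra B C] [Algebra A C] [IsScalarTower A B C] {d e : ℕ}
    (hB : DRing.HasTorDimLE A d B) (hC : DRing.HasTorDimLE B e C) : DRing.HasTorDimLE A (d + e) C := by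
  rw [TorDim.hasTorDimLE_iff] at hC ⊢
  let r := (towerEquiv (A := A) (B := B) C).toModuleIso
  exact ((bdd_flat_res_of_torDim hB hC).mono (by lia) le_rfl).of_iso
    (ExactPush.mapSingle (res (algebraMap A B)) (ModuleCat.of B C) 0 ≪≫ (sgl A 0).mapIso r)

/-- Change of the base to a localization. -/
theorem hasTorDimLE_localization {A' : Type u} [CommRing A'] [Algebra A A'] (S : Submonoid A) [IsLocalization S A']
    (M : Type u) [AddCommGroup M] [Module A M] [Module A' M] [IsScalarTower A A' M] {d : ℕ}
    (h : DRing.HasTorDimLE A d M) : DRing.HasTorDimLE A' d M := by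
  rw [TorDim.hasTorDimLE_iff] at h ⊢
  have : Module.Flat A A' := IsLocalization.flat A' S
  have hid : IsLocalizedModule S (LinearMap.id : M →ₗ[A] M) :=
    { map_units := fun s => by
        rw [Module.End.isUnit_iff]
        have hu := IsLocalization.map_units A' s
        have : (fun x : M => (s : A) • x) = fun x => hu.unit • x :=
          funext fun x => (algebraMap_smul A' (s : A) x).symm
        show Function.Bijective (fun x : M => (s : A) • x)
        rw [this]
        exact MulAction.bijective hu.unit
      surj := fun y => ⟨⟨y, 1⟩, one_smul _ y⟩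
      exists_of_eq := fun h => ⟨1, congrArg _ h⟩ }
  have hb := (isLocalizedModule_iff_isBaseChange S A' _).mp hid
  exact (FlatBC.bdd_inD (ext_flat _) h).of_iso ((sgl A' 0).mapIso hb.equiv.toModuleIso)

end Groth.Agent.H54.TorDimHom
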