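import Groth.Agent.H54.SmoothPerf
import Groth.Agent.Lib.Koszul.Basic
import Groth.Prelude.Def_LCI2
import Groth.Prelude.Def_Mor2
import Mathlib.RingTheory.Localization.Algebra
import Mathlib.AlgebraicGeometry.Morphisms.ClosedImmersion

/-!
# Quotients by Koszul-regular sequences are perfect
-/

universe u

open CategoryTheory CategoryTheory.Limits CategoryTheory.Pretriangulated AlgebraicGeometry
open Groth.Agent.Lib.DR
open Groth.Agent.Lib.DR.Basic Groth.Agent.Lib.DR.FiniteComplex Groth.Agent.Lib.DR.PseudoCoherent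
open Groth.Agent.Lib.DR.TorAmp Groth.Agent.Lib.DR.BaseChange
open Groth.Agent.H54.PCRestrict

attribute [local instance] HasDerivedCategory.standard

namespace Groth.Agent.H54.KoszulPerf

open Groth.Agent.Lib.Koszul.Basic in
theorem pf_koszul (A : Type u) [CommRing A] :
    ∀ l : List A, Perfect.Pf (DerivedCategory.Q.obj (Koszul.koszul A l))
  | [] => Perfect.Pf.of_iso (K := Dual.inD A A)
      ⟨0, 0, bdd_single good_fproj (M := ModuleCat.of A A) ⟨inferInstanceAs (Module.Finite A A),
        inferInstanceAs (Module.Projective A A)⟩ 0⟩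
      ((DerivedCategory.singleFunctorIsoCompQ (ModuleCat.{u} A) 0).app (ModuleCat.of A A))
  | f :: l => Perfect.pf₃ _
      (DerivedCategory.mappingCone_triangle_distinguished (f • 𝟙 (Koszul.koszul A l)))
      (pf_koszul A l) (pf_koszul A l)

open Groth.Agent.Lib.Koszul.Basic in
theorem pf_quot_of_koszulRegular {A : Type u} [CommRing A] (l : List A)
    (h : ∀ i : ℤ, i ≠ 0 → IsZero ((Koszul.koszul A l).homology i)) :
    Perfect.Pf (Dual.inD A (A ⧸ Ideal.ofList l)) := by
  let K := DerivedCategory.Q.obj (Koszul.koszul A l)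
  have hK : ∀ i : ℤ, i ≠ 0 → IsZero ((DerivedCategory.homologyFunctor (ModuleCat.{u} A) i).obj K) :=
    fun i hi => (h i hi).of_iso ((DerivedCategory.homologyFunctorFactors _ i).app _)
  have : K.IsGE 0 := (DerivedCategory.isGE_iff K 0).2 fun i hi => hK i hi.ne
  have : K.IsLE 0 := (DerivedCategory.isLE_iff K 0).2 fun i hi => hK i hi.ne'
  obtain ⟨M, ⟨e⟩⟩ := DerivedCategory.exists_iso_singleFunctor_obj_of_isGE_of_isLE K 0
  obtain ⟨q⟩ := nonempty_homology_zero (ModuleCat.of A A) l
  have hM : M ≅ ModuleCat.of A (A ⧸ Ideal.ofList l) :=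
    ((DerivedCategory.singleFunctorCompHomologyFunctorIso (ModuleCat.{u} A) 0).app M).symm ≪≫ (DerivedCategory.homologyFunctor _ 0).mapIso e.symm ≪≫
      (DerivedCategory.homologyFunctorFactors _ 0).app _ ≪≫ koszulHomologyIso l 0 ≪≫
      (q ≪≫ₗ Submodule.quotEquivOfEq _ _ (by simp)).toModuleIso
  exact ((pf_koszul A l).of_iso e).of_iso ((DerivedCategory.singleFunctor _ 0).mapIso hM)

/-- A finite algebra which is perfect as a module is perfect. -/
theorem hom_of_pf (A B : Type u) [CommRing A] [CommRing B] [Algebra A B] [Module.Finite A B]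
    (h : Perfect.Pf (Dual.inD A B)) : MoreMor.IsPerfectHom A B := by
  refine ⟨(PCFinite.hom_iff_module A B).2 ((Representative.isPseudoCoherent'_iff_forall _).2 h.pcn), ?_⟩
  obtain ⟨a, b, hab⟩ := h
  refine ⟨(-a).toNat, (TorDim.hasTorDimLE_iff B _).2 ?_⟩
  exact (TorPoly.bdd_flat_shrink (hab.of_le flat_of_fproj)
    (inferInstance : DerivedCategory.IsLE (Dual.inD A B) 0)).mono (by lia) le_rfl

/-- A surjection whose kernel is generated by a Koszul-regular sequence is perfect. -/
theorem Qp_of_koszulRegular {A B : Type u} [CommRing A] [CommRing B] (φ : A →+* B)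
    (hφ : Function.Surjective φ) (l : List A)
    (h : ∀ i : ℤ, i ≠ 0 → IsZero ((Koszul.koszul A l).homology i))
    (hker : RingHom.ker φ = Ideal.ofList l) : PerfMor.Qp φ := by
  let _ := φ.toAlgebra
  have : Module.Finite A B := Module.Finite.of_surjective (Algebra.linearMap A B) hφ
  refine hom_of_pf A B ((pf_quot_of_koszulRegular l h).of_iso
    ((DerivedCategory.singleFunctor _ 0).mapIso (LinearEquiv.toModuleIso ?_)))
  refine Submodule.quotEquivOfEq _ (LinearMap.ker (Algebra.linearMap A B)) ?_ ≪≫ₗ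
    LinearMap.quotKerEquivOfSurjective _ hφ
  rw [← hker]
  rfl

theorem Qp_C (A : Type u) [CommRing A] (n : ℕ) :
    PerfMor.Qp (algebraMap A (MvPolynomial (Fin n) A)) :=
  (PerfMor.Qp_algebraMap _ _).2 ⟨@SmoothPerf.hom_of_smooth A _ _ _ _ ⟨inferInstance, inferInstance⟩, 0,
    PerfMor.hasTorDimLE_zero_of_flat A _⟩

/-- Local complete intersection maps are perfect. -/
theorem hom_of_isLCI {A B : Type u} [CommRing A] [CommRing B] [Algebra A B] (h : LCI.IsLCI A B) :
    MoreMor.IsPerfectHom A B := by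
  obtain ⟨-, n, f, hf, hI⟩ := h
  let T : Set B := {t | ∃ g : MvPolynomial (Fin n) A, f g = t ∧
    ∃ l : List (Localization.Away g), LCI.IsKoszulRegularSeq (Localization.Away g) l ∧
      (RingHom.ker f.toRingHom).map (algebraMap _ (Localization.Away g)) = Ideal.span {x | x ∈ l}}
  have hT : Ideal.span T = ⊤ := by
    by_contra hne
    obtain ⟨m, hm, hle⟩ := Ideal.exists_le_maximal _ hne
    obtain ⟨g, hg, hl⟩ := hI ⟨m.comap f.toRingHom, Ideal.IsPrime.comap _⟩ (Ideal.comap_mono bot_le)
    exact hg (hle (Ideal.subset_span ⟨g, rfl, hl⟩))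
  refine (PerfMor.Qp_algebraMap A B).1 (PerfMor.Qp_ofLocalizationSpanTarget _ T hT ?_)
  rintro ⟨_, g, rfl, l, hl, hmap⟩
  let P := MvPolynomial (Fin n) A
  have hT' : Submonoid.map f.toRingHom (Submonoid.powers g) = Submonoid.powers (f g) :=
    Submonoid.map_powers f.toRingHom g
  let ψ : Localization.Away g →+* Localization.Away (f g) :=
    IsLocalization.map (Localization.Away (f g)) f.toRingHom
      (hT' ▸ Submonoid.le_comap_map (Submonoid.powers g))
  have hψ : Function.Surjective ψ := by
    have : IsLocalization ((Submonoid.powers g).map f.toRingHom) (Localization.Away (f g)) := by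
      rw [hT']; infer_instance
    exact IsLocalization.map_surjective_of_surjective (S := Localization.Away g)
      (Submonoid.powers g) (Localization.Away (f g)) hf
  have hk : RingHom.ker ψ = Ideal.ofList l :=
    (IsLocalization.ker_map (S := Localization.Away g) (Localization.Away (f g)) f.toRingHom hT').trans hmap
  have hc : (algebraMap B (Localization.Away (f g))).comp (algebraMap A B) =
      (ψ.comp (algebraMap P (Localization.Away g))).comp (algebraMap A P) := by
    rw [IsLocalization.map_comp, RingHom.comp_assoc]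
    exact congrArg _ f.comp_algebraMap.symm
  show PerfMor.Qp ((algebraMap B (Localization.Away (f g))).comp (algebraMap A B))
  rw [hc]
  exact PerfMor.Qp_comp _ _ (Qp_C A n) (PerfMor.Qp_comp _ _ (PerfMor.Qp_away (Localization.Away g) g)
    (Qp_of_koszulRegular ψ hψ l hl hk))

theorem mor_of_regularClosedImmersion {Z X : Scheme.{u}} (i : Z ⟶ X)
    (hi : Mor2.IsRegularClosedImmersion i) : MoreMor.IsPerfectMor i := by
  obtain ⟨hci, hi⟩ := hi
  rw [PerfMor.iff_exists]
  intro z
  obtain ⟨U, hU, hzU, rs, hrs, hker⟩ := hi z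
  refine ⟨i ⁻¹ᵁ U, U, le_rfl, hU.preimage i, hU, hzU, ?_⟩
  rw [← Scheme.Hom.app_eq_appLE]
  refine Qp_of_koszulRegular _ (i.app_surjective U hU) rs (fun k hk => ?_) ?_
  · exact (Groth.Agent.Lib.Koszul.Basic.isZero_of_weaklyRegular (ModuleCat.of _ Γ(X, U)) rs
      hrs.toIsWeaklyRegular k hk).of_iso (Groth.Agent.Lib.Koszul.Basic.koszulHomologyIso rs k)
  · rw [← hker, i.ker_apply]

end Groth.Agent.H54.KoszulPerf
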