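import Groth.Agent.H54.PCRestrict
import Groth.Agent.Lib.DR.TorAmp
import Groth.Agent.Lib.DR.TorDim
import Groth.Agent.Lib.DR.FlatBC
import Mathlib.Algebra.MvPolynomial.Equiv
import Mathlib.RingTheory.RingHom.Flat
import Mathlib.Algebra.Polynomial.Basis

/-!
# Tor dimension over polynomial rings
-/

universe u

open CategoryTheory CategoryTheory.Limits CategoryTheory.Pretriangulated
open Groth.Agent.Lib.DR
open Groth.Agent.Lib.DR.Basic Groth.Agent.Lib.DR.FiniteComplex Groth.Agent.Lib.DR.PseudoCoherent
open Groth.Agent.Lib.DR.Representative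
open Groth.Agent.Lib.DR.TorAmp Groth.Agent.Lib.DR.BaseChange
open Groth.Agent.H54.PCRestrict
open scoped TensorProduct

attribute [local instance] HasDerivedCategory.standard

namespace Groth.Agent.H54.TorPoly

variable {A B C : Type u} [CommRing A] [CommRing B] [CommRing C]

lemma res_flat {g : A →+* B} (hg : g.Flat) (M : ModuleCat.{u} B) (hM : flat B M) :
    flat A ((res g).obj M) := by
  let _ : Algebra A B := g.toAlgebra
  let _ : Module A M := Module.compHom M g
  have : IsScalarTower A B M := IsScalarTower.of_algebraMap_smul fun _ _ => rfl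
  have : Module.Flat A B := hg
  have : Module.Flat B M := hM
  have : Module.Flat A M := Module.Flat.trans A B M
  exact this

lemma bdd_flat_res {g : A →+* B} (hg : g.Flat) {a b : ℤ} {X : Dual.D B} (h : Bdd (flat B) a b X) :
    Bdd (flat A) a b ((DRing.restrictD g).obj X) :=
  ExactPush.bdd_map (res g) (fun M => res_flat hg M) h

/-- Flat amplitude can be cut down to the cohomological bound. -/
lemma bdd_flat_shrink {a b c : ℤ} {X : Dual.D A} (h : Bdd (flat A) a b X) (hc : X.IsLE c) :
    Bdd (flat A) a c X := by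
  obtain ⟨E, hE, hp, ⟨e⟩⟩ := ba_free hc
  exact (bdd_flat_of_isGE_tens E hE (fun i => flat_of_free _ (hp i))
    (isGE_of_iso' e.symm h.isGE) fun M =>
      isGE_tens_of_bdd M E hE (fun i => flat_of_free _ (hp i)) (h.of_iso e.symm)).of_iso e

section

variable (S : Type u) [CommRing S] (M : Type u) [AddCommGroup M] [Module (Polynomial S) M] [Module S M]
  [IsScalarTower S (Polynomial S) M]

/-- Multiplication map. -/
noncomputable def evalMap : Polynomial S ⊗[S] M →ₗ[Polynomial S] M :=
  (LinearMap.id : M →ₗ[S] M).liftBaseChange (Polynomial S)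

lemma evalMap_tmul (p : Polynomial S) (m : M) : evalMap S M (p ⊗ₜ m) = p • m := by
  simp [evalMap]

/-- Multiplication by the variable, `S`-linearly. -/
noncomputable def mulX : M →ₗ[S] M :=
  (LinearMap.lsmul (Polynomial S) M Polynomial.X).restrictScalars S

/-- `x ⊗ 1 - 1 ⊗ x`. -/
noncomputable def diff : Polynomial S ⊗[S] M →ₗ[Polynomial S] Polynomial S ⊗[S] M :=
  ((Polynomial.X : Polynomial S) • LinearMap.id) - (mulX S M).baseChange (Polynomial S)

lemma diff_tmul (p : Polynomial S) (m : M) :
    diff S M (p ⊗ₜ m) = (Polynomial.X * p) ⊗ₜ m - p ⊗ₜ ((Polynomial.X : Polynomial S) • m) := by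
  simp [diff, mulX, TensorProduct.smul_tmul']

/-- Contracting homotopy. -/
noncomputable def homot : Polynomial S ⊗[S] M →ₗ[S] Polynomial S ⊗[S] M :=
  TensorProduct.lift ((Polynomial.basisMonomials S).constr S fun k =>
    ∑ i ∈ Finset.range k, (TensorProduct.mk S (Polynomial S) M (Polynomial.X ^ i)).comp
      ((LinearMap.lsmul (Polynomial S) M (Polynomial.X ^ (k - 1 - i))).restrictScalars S))

lemma homot_tmul (k : ℕ) (m : M) :
    homot S M ((Polynomial.X ^ k : Polynomial S) ⊗ₜ m) =
      ∑ i ∈ Finset.range k, (Polynomial.X ^ i : Polynomial S) ⊗ₜ[S] ((Polynomial.X ^ (k - 1 - i) : Polynomial S) • m) := by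
  have h : (Polynomial.X ^ k : Polynomial S) = Polynomial.basisMonomials S k := by
    simp [← Polynomial.monomial_one_right_eq_X_pow]
  rw [homot, TensorProduct.lift.tmul, h, Module.Basis.constr_basis, LinearMap.sum_apply]
  exact Finset.sum_congr rfl fun i _ => rfl

lemma homot_succ (k : ℕ) (m : M) :
    homot S M ((Polynomial.X ^ (k + 1) : Polynomial S) ⊗ₜ m) =
      (Polynomial.X ^ k : Polynomial S) ⊗ₜ m +
        homot S M ((Polynomial.X ^ k : Polynomial S) ⊗ₜ ((Polynomial.X : Polynomial S) • m)) := by
  rw [homot_tmul, homot_tmul, Finset.sum_range_succ, add_comm]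
  congr 1
  · simp
  · refine Finset.sum_congr rfl fun i hi => ?_
    rw [Finset.mem_range] at hi
    rw [← mul_smul, ← pow_succ, show k - 1 - i + 1 = k + 1 - 1 - i by lia]

lemma homot_diff (z : Polynomial S ⊗[S] M) : homot S M (diff S M z) = z := by
  induction z using TensorProduct.induction_on with
  | zero => simp
  | add x y hx hy => rw [map_add, map_add, hx, hy]
  | tmul p m =>
    induction p using Polynomial.induction_on' with
    | add p q hp hq => rw [TensorProduct.add_tmul, map_add, map_add, hp, hq]
    | monomial k a =>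
      rw [← Polynomial.smul_X_eq_monomial, ← TensorProduct.smul_tmul', LinearMap.map_smul_of_tower,
        map_smul, diff_tmul, map_sub, ← pow_succ', homot_succ, add_sub_cancel_right]

lemma diff_homot (k : ℕ) : ∀ m : M, diff S M (homot S M ((Polynomial.X ^ k : Polynomial S) ⊗ₜ m)) +
    (1 : Polynomial S) ⊗ₜ ((Polynomial.X ^ k : Polynomial S) • m) = (Polynomial.X ^ k : Polynomial S) ⊗ₜ m := by
  induction k with
  | zero =>
    intro m
    rw [homot_tmul, Finset.range_zero, Finset.sum_empty, map_zero, zero_add, pow_zero, one_smul]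
  | succ k ih =>
    intro m
    have h1 := ih ((Polynomial.X : Polynomial S) • m)
    rw [← mul_smul, ← pow_succ] at h1
    rw [homot_succ, map_add, diff_tmul, ← pow_succ', add_assoc, h1, sub_add_cancel]

lemma split_apply (z : Polynomial S ⊗[S] M) :
    diff S M (homot S M z) + (1 : Polynomial S) ⊗ₜ evalMap S M z = z := by
  induction z using TensorProduct.induction_on with
  | zero => simp
  | add x y hx hy =>
    rw [map_add, map_add, map_add, TensorProduct.tmul_add, add_add_add_comm, hx, hy]
  | tmul p m =>
    induction p using Polynomial.induction_on' with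
    | add p q hp hq =>
      rw [TensorProduct.add_tmul, map_add, map_add, map_add, TensorProduct.tmul_add, add_add_add_comm, hp, hq]
    | monomial k a =>
      rw [← Polynomial.smul_X_eq_monomial, ← TensorProduct.smul_tmul', map_smul,
        LinearMap.map_smul_of_tower, LinearMap.map_smul_of_tower, evalMap_tmul, TensorProduct.tmul_smul,
        ← smul_add, diff_homot]

theorem bdd_flat_poly {a : ℤ} (h : Bdd (flat S) a 0 (Dual.inD S M)) :
    Bdd (flat (Polynomial S)) (a - 1) 0 (Dual.inD (Polynomial S) M) := by
  let N := ModuleCat.of (Polynomial S) (Polynomial S ⊗[S] M)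
  let T := ShortComplex.moduleCatMk (diff S M) (evalMap S M) (LinearMap.ext fun z => by
    induction z using TensorProduct.induction_on with
    | zero => simp
    | add x y hx hy => rw [map_add, map_add, hx, hy]
    | tmul p m =>
      show evalMap S M (diff S M (p ⊗ₜ m)) = 0
      rw [diff_tmul, map_sub, evalMap_tmul, evalMap_tmul, ← mul_smul, mul_comm, sub_self])
  have hT : T.ShortExact :=
    { exact := by
        rw [ShortComplex.moduleCat_exact_iff]
        intro (z : Polynomial S ⊗[S] M) (hz : evalMap S M z = 0)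
        refine ⟨homot S M z, ?_⟩
        have := split_apply S M z
        rwa [hz, TensorProduct.tmul_zero, add_zero] at this
      mono_f := (ModuleCat.mono_iff_injective _).2
        (Function.LeftInverse.injective (g := homot S M) (homot_diff S M))
      epi_g := (ModuleCat.epi_iff_surjective _).2 fun (m : M) => ⟨(1 : Polynomial S) ⊗ₜ m, by
        show evalMap S M ((1 : Polynomial S) ⊗ₜ m) = m
        rw [evalMap_tmul, one_smul]⟩ }
  have h' : Bdd (flat (Polynomial S)) a 0 (Dual.inD (Polynomial S) (Polynomial S ⊗[S] M)) :=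
    FlatBC.bdd_inD (ext_flat _) h
  exact bdd_flat_cone _ hT.singleTriangle_distinguished (h'.mono (by lia) (by lia))
    (h'.mono (by lia) le_rfl)

end

theorem bdd_flat_poly' {S : Type u} [CommRing S] (ψ : Polynomial S →+* B) (N : ModuleCat.{u} B) {a : ℤ}
    (h : Bdd (flat S) a 0 ((sgl S 0).obj ((res (ψ.comp Polynomial.C)).obj N))) :
    Bdd (flat (Polynomial S)) (a - 1) 0 ((sgl _ 0).obj ((res ψ).obj N)) := by
  let _ : Module (Polynomial S) N := Module.compHom N ψ
  let _ : Module S N := Module.compHom N (ψ.comp Polynomial.C)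
  have : IsScalarTower S (Polynomial S) N := IsScalarTower.of_algebraMap_smul fun _ _ => rfl
  exact bdd_flat_poly S N h

theorem bdd_flat_mv : ∀ {k : ℕ} (γ : MvPolynomial (Fin k) A →+* B) (N : ModuleCat.{u} B) (a : ℤ),
    Bdd (flat A) a 0 ((sgl A 0).obj ((res (γ.comp MvPolynomial.C)).obj N)) →
      Bdd (flat (MvPolynomial (Fin k) A)) (a - k) 0 ((sgl _ 0).obj ((res γ).obj N)) := by
  intro k
  induction k with
  | zero =>
    intro γ N a h
    let σ := (MvPolynomial.isEmptyRingEquiv A (Fin 0)).toRingHom
    have hγ : γ = (γ.comp MvPolynomial.C).comp σ := by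
      refine MvPolynomial.ringHom_ext (fun r => ?_) (fun i => i.elim0)
      rw [RingHom.comp_apply, RingHom.comp_apply, ← MvPolynomial.isEmptyRingEquiv_symm_apply A (Fin 0) r]
      show γ _ = γ (MvPolynomial.C ((MvPolynomial.isEmptyRingEquiv A (Fin 0)) _))
      rw [(MvPolynomial.isEmptyRingEquiv A (Fin 0)).apply_symm_apply, MvPolynomial.isEmptyRingEquiv_symm_apply]
    rw [hγ, Nat.cast_zero, sub_zero]
    exact ((bdd_flat_res (RingHom.Flat.of_bijective (f := σ) (RingEquiv.bijective _)) h).of_iso
      (ExactPush.mapSingle (res σ) _ 0)).of_iso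
      ((sgl _ 0).mapIso ((ModuleCat.restrictScalarsComp.{u} σ (γ.comp MvPolynomial.C)).app N).symm)
  | succ k ih =>
    intro γ N a h
    let e := (MvPolynomial.finSuccEquiv A k).toRingEquiv
    let ψ : Polynomial (MvPolynomial (Fin k) A) →+* B := γ.comp e.symm.toRingHom
    have hγ : γ = ψ.comp e.toRingHom := RingHom.ext fun p => (congrArg γ (e.symm_apply_apply p)).symm
    have hC : (ψ.comp Polynomial.C).comp MvPolynomial.C = γ.comp MvPolynomial.C := RingHom.ext fun r => by
      refine congrArg γ (e.injective ?_)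
      rw [RingEquiv.toRingHom_eq_coe, RingHom.coe_coe, e.apply_symm_apply]
      simp [e, MvPolynomial.finSuccEquiv_apply]
    have h1 := ih (ψ.comp Polynomial.C) N a (by rw [hC]; exact h)
    have h2 := bdd_flat_poly' ψ N h1
    rw [hγ, Nat.cast_succ, show a - ((k : ℤ) + 1) = a - k - 1 by lia]
    exact ((bdd_flat_res (RingHom.Flat.of_bijective (f := e.toRingHom) e.bijective) h2).of_iso
      (ExactPush.mapSingle (res e.toRingHom) _ 0)).of_iso
      ((sgl _ 0).mapIso ((ModuleCat.restrictScalarsComp.{u} e.toRingHom ψ).app N).symm)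

end Groth.Agent.H54.TorPoly
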