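import Groth.Agent.H54.RelPC
import Groth.Agent.H54.TorPoly
import Mathlib.RingTheory.MvPolynomial.Basic

/-!
# Perfect ring maps
-/

universe u

open CategoryTheory CategoryTheory.Limits CategoryTheory.Pretriangulated
open Groth.Agent.Lib.DR
open Groth.Agent.Lib.DR.Basic Groth.Agent.Lib.DR.FiniteComplex Groth.Agent.Lib.DR.PseudoCoherent
open Groth.Agent.Lib.DR.TorAmp Groth.Agent.Lib.DR.BaseChange
open Groth.Agent.H54.PCRestrict Groth.Agent.H54.RelPC

attribute [local instance] HasDerivedCategory.standard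

namespace Groth.Agent.H54.PerfHom

variable {A B : Type u} [CommRing A] [CommRing B] [Algebra A B]

/-- Restriction of `B[0]` along a presentation, back to the base. -/
noncomputable def resBaseIso {n : ℕ} (φ : MvPolynomial (Fin n) A →ₐ[A] B) :
    (res (φ.toRingHom.comp MvPolynomial.C)).obj (ModuleCat.of B B) ≅ ModuleCat.of A B :=
  (eqToIso (congrArg (fun f => (res f).obj (ModuleCat.of B B))
    (show φ.toRingHom.comp MvPolynomial.C = algebraMap A B from RingHom.ext fun r => φ.commutes r))) ≪≫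
    (FlatBC.resEquiv A B).toModuleIso

/-- A presentation detects perfectness. -/
theorem pf_iff_of_surjective {n : ℕ} (φ : MvPolynomial (Fin n) A →ₐ[A] B) (hφ : Function.Surjective φ) :
    MoreMor.IsPerfectHom A B ↔ Perfect.Pf ((sgl _ 0).obj ((res φ.toRingHom).obj (ModuleCat.of B B))) := by
  constructor
  · rintro ⟨hpc, d, hd⟩
    have h : Bdd (flat A) (-(d : ℤ)) 0 (Dual.inD A B) := (TorDim.hasTorDimLE_iff B d).1 hd
    have h2 := TorPoly.bdd_flat_mv φ.toRingHom (ModuleCat.of B B) (-(d : ℤ))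
      (h.of_iso ((sgl A 0).mapIso (resBaseIso φ).symm))
    exact pf_of_pcn_of_flat ((hom_iff_of_surjective φ hφ).1 hpc _) h2
  · intro h
    refine ⟨hom_iff.2 ⟨n, φ, hφ, h.pcn⟩, ?_⟩
    obtain ⟨a, b, hab⟩ := h
    have hC : (MvPolynomial.C : A →+* MvPolynomial (Fin n) A).Flat := by
      rw [← MvPolynomial.algebraMap_eq, RingHom.flat_algebraMap_iff]
      infer_instance
    have h1 : Bdd (flat A) a b (Dual.inD A B) :=
      ((TorPoly.bdd_flat_res hC (hab.of_le (fun X hX => flat_of_fproj X hX))).of_iso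
        (ExactPush.mapSingle (res MvPolynomial.C) _ 0)).of_iso
        ((sgl A 0).mapIso (((ModuleCat.restrictScalarsComp.{u}
          (MvPolynomial.C : A →+* MvPolynomial (Fin n) A) φ.toRingHom).app (ModuleCat.of B B)).symm ≪≫
          resBaseIso φ))
    refine ⟨(-a).toNat, (TorDim.hasTorDimLE_iff B _).2 ?_⟩
    exact (TorPoly.bdd_flat_shrink h1 (inferInstance : DerivedCategory.IsLE (Dual.inD A B) 0)).mono
      (by lia) le_rfl

theorem isPerfectHom_iff : MoreMor.IsPerfectHom A B ↔
    ∃ (n : ℕ) (φ : MvPolynomial (Fin n) A →ₐ[A] B), Function.Surjective φ ∧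
      letI := φ.toRingHom.toAlgebra
      DRing.IsPerfectModule (MvPolynomial (Fin n) A) B := by
  constructor
  · intro h
    obtain ⟨n, φ, hφ, -⟩ := h.1
    refine ⟨n, φ, hφ, ?_⟩
    let _ : Algebra (MvPolynomial (Fin n) A) B := φ.toRingHom.toAlgebra
    exact (Perfect.pf_iff _).2 (((pf_iff_of_surjective φ hφ).1 h).of_iso
      ((sgl _ 0).mapIso (FlatBC.resEquiv (MvPolynomial (Fin n) A) B).toModuleIso))
  · rintro ⟨n, φ, hφ, h⟩
    let _ : Algebra (MvPolynomial (Fin n) A) B := φ.toRingHom.toAlgebra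
    exact (pf_iff_of_surjective φ hφ).2 (((Perfect.pf_iff _).1 h).of_iso
      ((sgl _ 0).mapIso (FlatBC.resEquiv (MvPolynomial (Fin n) A) B).symm.toModuleIso))

end Groth.Agent.H54.PerfHom
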