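import Groth.Agent.H54.PCLocal
import Groth.Agent.H54.PerfHom
import Groth.Agent.H54.TorDimHom

/-!
# Perfect morphisms: locality
-/

universe u

open CategoryTheory CategoryTheory.Limits CategoryTheory.Pretriangulated AlgebraicGeometry
open Groth.Agent.Lib.DR
open Groth.Agent.Lib.DR.Basic Groth.Agent.Lib.DR.FiniteComplex Groth.Agent.Lib.DR.PseudoCoherent
open Groth.Agent.Lib.DR.BaseChange
open Groth.Agent.H54.PCRestrict

attribute [local instance] HasDerivedCategory.standard

namespace Groth.Agent.H54.PerfMor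

lemma hasTorDimLE_mono {A : Type u} [CommRing A] {M : Type u} [AddCommGroup M] [Module A M] {d e : ℕ}
    (h : DRing.HasTorDimLE A d M) (hde : d ≤ e) : DRing.HasTorDimLE A e M :=
  fun N _ _ p hp => h N p (by lia)

lemma hasTorDimLE_zero_of_flat (A : Type u) [CommRing A] (M : Type u) [AddCommGroup M] [Module A M]
    [Module.Flat A M] : DRing.HasTorDimLE A 0 M := by
  rw [TorDim.hasTorDimLE_iff]
  simpa using bdd_single (good_flat (A := A)) (M := ModuleCat.of A M) ‹Module.Flat A M› 0

/-- Perfect ring maps, as a property of ring homomorphisms. -/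
def Qp {R S : Type u} [CommRing R] [CommRing S] (φ : R →+* S) : Prop :=
  letI := φ.toAlgebra
  MoreMor.IsPerfectHom R S

lemma Qp_algebraMap (R S : Type u) [CommRing R] [CommRing S] [Algebra R S] :
    Qp (algebraMap R S) ↔ MoreMor.IsPerfectHom R S := by
  rw [Qp]
  congr!
  exact Algebra.algebra_ext _ _ fun _ => rfl

lemma Qp.pc {R S : Type u} [CommRing R] [CommRing S] {φ : R →+* S} (h : Qp φ) : PCLocal.Q φ := h.1

lemma Qp_comp : RingHom.StableUnderComposition Qp := by
  intro R S T _ _ _ f g hf hg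
  let _ := f.toAlgebra
  let _ := g.toAlgebra
  let _ := (g.comp f).toAlgebra
  have : IsScalarTower R S T := IsScalarTower.of_algebraMap_eq fun _ => rfl
  obtain ⟨hf1, d, hd⟩ := hf
  obtain ⟨hg1, e, he⟩ := hg
  exact ⟨PCLocal.Q_comp f g hf1 hg1, d + e, TorDimHom.hasTorDimLE_trans hd he⟩

lemma Qp_away : RingHom.HoldsForLocalizationAway Qp := by
  intro R S _ _ _ r _
  refine (Qp_algebraMap R S).2 ⟨RelLoc.hom_away r S, 0, ?_⟩
  have : Module.Flat R S := IsLocalization.flat S (Submonoid.powers r)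
  exact hasTorDimLE_zero_of_flat R S

lemma Qp_ofLocalizationSpanTarget : RingHom.OfLocalizationSpanTarget Qp := by
  rw [RingHom.ofLocalizationSpanTarget_iff_finite]
  intro R S _ _ φ s hs h
  classical
  have hpc : PCLocal.Q φ :=
    (RingHom.ofLocalizationSpanTarget_iff_finite _).1 PCLocal.Q_ofLocalizationSpanTarget φ s hs fun r => (h r).1
  let _ := φ.toAlgebra
  have h' : ∀ r : s, MoreMor.IsPerfectHom R (Localization.Away (r : S)) := fun r => by
    rw [← Qp_algebraMap, IsScalarTower.algebraMap_eq R S]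
    exact h r
  choose d hd using fun r : s => (h' r).2
  let e := s.equivFin.symm
  refine ⟨hpc, Finset.univ.sup d, TorDimHom.hasTorDimLE_of_localizations (fun i => (e i : S)) ?_
    (fun i => Localization.Away (e i : S))
    fun i => hasTorDimLE_mono (hd (e i)) (Finset.le_sup (Finset.mem_univ _))⟩
  rw [show (fun i => (e i : S)) = Subtype.val ∘ e from rfl, Set.range_comp, e.surjective.range_eq,
    Set.image_univ]
  exact (congrArg Ideal.span (Subtype.range_coe_subtype.trans (by ext; simp))).trans hs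

lemma Qp_localizationAwayPreserves : RingHom.LocalizationAwayPreserves Qp := by
  intro R S _ _ φ r R' S' _ _ _ _ _ _ h
  let ψ : R' →+* S' := IsLocalization.Away.map R' S' φ r
  have hψ : ψ.comp (algebraMap R R') = (algebraMap S S').comp φ := by
    simp [ψ, IsLocalization.Away.map, IsLocalization.map_comp]
  have hc : Qp (ψ.comp (algebraMap R R')) := by
    rw [hψ]
    exact Qp_comp φ (algebraMap S S') h (Qp_away S' (φ r))
  let _ := ψ.toAlgebra
  let _ := (ψ.comp (algebraMap R R')).toAlgebra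
  have : IsScalarTower R R' S' := IsScalarTower.of_algebraMap_eq fun _ => rfl
  obtain ⟨hc1, d, hd⟩ := hc
  exact ⟨PCLocal.Q_localizationAwayPreserves φ r R' S' h.pc, d,
    TorDimHom.hasTorDimLE_localization (Submonoid.powers r) S' hd⟩

lemma Qp_stableSource : RingHom.StableUnderCompositionWithLocalizationAwaySource Qp :=
  fun _ S _ _ _ _ _ r _ f hf => Qp_comp _ f (Qp_away S r) hf

lemma Qp_stableTarget : RingHom.StableUnderCompositionWithLocalizationAwayTarget Qp :=
  fun _ _ T _ _ _ _ s _ f hf => Qp_comp f _ hf (Qp_away T s)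

lemma Qp_isLocal : RingHom.PropertyIsLocal Qp :=
  ⟨Qp_localizationAwayPreserves, Qp_ofLocalizationSpanTarget,
    Qp_ofLocalizationSpanTarget.ofLocalizationSpan Qp_stableSource, Qp_stableTarget⟩

theorem isPerfectMor_eq :
    (fun {X Y : Scheme.{u}} (f : X ⟶ Y) => MoreMor.IsPerfectMor f) =
      affineLocally (fun {R S} [CommRing R] [CommRing S] (φ : R →+* S) => Qp φ) := by
  ext X Y f
  rw [affineLocally_iff_forall_isAffineOpen]
  exact ⟨fun h {V} hV {U} hU e => h U V hU hV e, fun h U V hU hV e => h hV hU e⟩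

/-- Perfect morphisms as a morphism property. -/
def perfMor : MorphismProperty Scheme.{u} := fun _ _ f => MoreMor.IsPerfectMor f

instance : HasRingHomProperty perfMor.{u} Qp where
  isLocal_ringHomProperty := Qp_isLocal
  eq_affineLocally' := isPerfectMor_eq

theorem iff_exists {X S : Scheme.{u}} (f : X ⟶ S) :
    MoreMor.IsPerfectMor f ↔ ∀ x : X, ∃ (U : X.Opens) (V : S.Opens) (hUV : U ≤ f ⁻¹ᵁ V),
      IsAffineOpen U ∧ IsAffineOpen V ∧ x ∈ U ∧ Qp (f.appLE V U hUV).hom := by
  refine (HasRingHomProperty.iff_exists_appLE (P := perfMor) (f := f) Qp_stableSource).trans ?_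
  refine forall_congr' fun x => ⟨fun ⟨V, U, hx, e, h⟩ => ⟨U, V, e, U.2, V.2, hx, h⟩,
    fun ⟨U, V, e, hU, hV, hx, h⟩ => ⟨⟨V, hV⟩, ⟨U, hU⟩, hx, e, h⟩⟩

theorem comp {X Y Z : Scheme.{u}} (f : X ⟶ Y) (g : Y ⟶ Z) (hf : MoreMor.IsPerfectMor f)
    (hg : MoreMor.IsPerfectMor g) : MoreMor.IsPerfectMor (f ≫ g) :=
  (HasRingHomProperty.stableUnderComposition (P := perfMor) Qp_comp).comp_mem f g hf hg

end Groth.Agent.H54.PerfMor
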