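import Groth.Agent.H54.PCLocal
import Mathlib.AlgebraicGeometry.Morphisms.Finite

/-!
# Pseudo-coherence of finite maps
-/

universe u

open CategoryTheory CategoryTheory.Limits CategoryTheory.Pretriangulated AlgebraicGeometry
open Groth.Agent.Lib.DR
open Groth.Agent.Lib.DR.Basic Groth.Agent.Lib.DR.FiniteComplex Groth.Agent.Lib.DR.PseudoCoherent
open Groth.Agent.H54.PCRestrict Groth.Agent.H54.PCPresent Groth.Agent.H54.RelPC Groth.Agent.H54.RelLoc

attribute [local instance] HasDerivedCategory.standard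

namespace Groth.Agent.H54.PCFinite

theorem hom_id (A : Type u) [CommRing A] : MoreMor.IsPseudoCoherentHom A A :=
  (PCLocal.Q_algebraMap A A).1 (by
    haveI := IsLocalization.away_of_isUnit_of_bijective (R := A) (r := 1) A isUnit_one Function.bijective_id
    exact PCLocal.Q_away A 1)

theorem pcRing_algebraMap_iff (A B : Type u) [CommRing A] [CommRing B] [Algebra A B] :
    PCRing (algebraMap A B) ↔ DRing.IsPseudoCoherentModule' A B := by
  refine Iff.trans ⟨fun h m => (h m).of_iso ((sgl A 0).mapIso (FlatBC.resEquiv A B).toModuleIso),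
    fun h m => (h m).of_iso ((sgl A 0).mapIso (FlatBC.resEquiv A B).symm.toModuleIso)⟩
    (Representative.isPseudoCoherent'_iff_forall _).symm

theorem hom_iff_module (A B : Type u) [CommRing A] [CommRing B] [Algebra A B] [Module.Finite A B] :
    MoreMor.IsPseudoCoherentHom A B ↔ DRing.IsPseudoCoherentModule' A B := by
  obtain ⟨n, α, hα⟩ := Algebra.FiniteType.iff_quotient_mvPolynomial''.mp
    (inferInstance : Algebra.FiniteType A B)
  rw [hom_iff_of_surjective α hα, ← pcRing_algebraMap_iff]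
  refine forall_congr' fun m => ?_
  have h1 : PCn (ff (MvPolynomial (Fin n) A)) m ((sgl _ 0).obj ((res α.toRingHom).obj (ModuleCat.of B B))) ↔
      DerCA.IsRelPseudoCoherent A B m (Dual.inD B B) := (relModule_iff α hα m B).symm
  refine h1.trans ((rel_finite_iff (A := A) (Dual.inD B B) m).trans ?_)
  rw [rel_iff_of_hom (hom_id A), isPseudoCoherent_iff]
  exact ⟨fun h => h.of_iso (ExactPush.mapSingle (res (algebraMap A B)) (ModuleCat.of B B) 0),
    fun h => h.of_iso (ExactPush.mapSingle (res (algebraMap A B)) (ModuleCat.of B B) 0).symm⟩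

theorem mor_iff {X S : Scheme.{u}} (f : X ⟶ S) [IsFinite f] :
    MoreMor.IsPseudoCoherentMor f ↔ ∀ (V : S.Opens), IsAffineOpen V →
      (letI := (f.app V).hom.toAlgebra
       DRing.IsPseudoCoherentModule' Γ(S, V) Γ(X, f ⁻¹ᵁ V)) := by
  have key : ∀ (V : S.Opens), IsAffineOpen V → (PCLocal.Q (f.app V).hom ↔
      (letI := (f.app V).hom.toAlgebra
       DRing.IsPseudoCoherentModule' Γ(S, V) Γ(X, f ⁻¹ᵁ V))) := fun V hV => by
    letI := (f.app V).hom.toAlgebra
    haveI : Module.Finite Γ(S, V) Γ(X, f ⁻¹ᵁ V) := f.finite_app V hV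
    exact hom_iff_module Γ(S, V) Γ(X, f ⁻¹ᵁ V)
  refine ⟨fun h V hV => (key V hV).1 ?_, fun h => (PCLocal.iff_exists f).2 fun x => ?_⟩
  · have := h (f ⁻¹ᵁ V) V (hV.preimage f) hV le_rfl
    rw [Scheme.Hom.app_eq_appLE]
    exact this
  · obtain ⟨_, ⟨V, hV, rfl⟩, hxV, -⟩ :=
      S.isBasis_affineOpens.exists_subset_of_mem_open (Set.mem_univ (f x)) isOpen_univ
    refine ⟨f ⁻¹ᵁ V, V, le_rfl, hV.preimage f, hV, hxV, ?_⟩
    rw [← Scheme.Hom.app_eq_appLE]
    exact (key V hV).2 (h V hV)

end Groth.Agent.H54.PCFinite
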