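import Groth.Agent.H54.PCBaseChange
import Groth.Agent.H54.TorPoly
import Groth.Agent.Lib.DR.BaseChange
import Groth.Agent.Lib.DR.FlatAcyclic

/-!
# Base change of pseudo-coherent flat algebras
-/

universe u

open CategoryTheory CategoryTheory.Limits CategoryTheory.Pretriangulated
open Groth.Agent.Lib.DR
open Groth.Agent.Lib.DR.Basic Groth.Agent.Lib.DR.FiniteComplex Groth.Agent.Lib.DR.PseudoCoherent
open Groth.Agent.Lib.DR.BaseChange Groth.Agent.Lib.DR.Representative
open Groth.Agent.H54.PCRestrict Groth.Agent.H54.RelPC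
open scoped TensorProduct

attribute [local instance] HasDerivedCategory.standard

namespace Groth.Agent.H54.PCFlatBase

variable {R R' P P' : Type u} [CommRing R] [CommRing R'] [CommRing P] [CommRing P'] [Algebra R R'] [Algebra R P]
  [Algebra R P'] [Algebra R' P'] [Algebra P P'] [IsScalarTower R R' P'] [IsScalarTower R P P']
  [hpush : Algebra.IsPushout R R' P P']

lemma exact_iff_pushout {X Y Z : Type u} [AddCommGroup X] [Module P X] [Module R X] [IsScalarTower R P X]
    [AddCommGroup Y] [Module P Y] [Module R Y] [IsScalarTower R P Y]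
    [AddCommGroup Z] [Module P Z] [Module R Z] [IsScalarTower R P Z] (f : X →ₗ[P] Y) (g : Y →ₗ[P] Z) :
    Function.Exact (f.lTensor P') (g.lTensor P') ↔
      Function.Exact ((f.restrictScalars R).lTensor R') ((g.restrictScalars R).lTensor R') := by
  let eX := (Algebra.IsPushout.cancelBaseChange R R' P P' X).symm.toAddEquiv
  let eY := (Algebra.IsPushout.cancelBaseChange R R' P P' Y).symm.toAddEquiv
  let eZ := (Algebra.IsPushout.cancelBaseChange R R' P P' Z).symm.toAddEquiv
  refine Function.Exact.iff_of_ladder_addEquiv eX eY eZ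
    (f₁₂ := ((f.restrictScalars R).lTensor R').toAddMonoidHom)
    (f₂₃ := ((g.restrictScalars R).lTensor R').toAddMonoidHom)
    (g₁₂ := (f.lTensor P').toAddMonoidHom) (g₂₃ := (g.lTensor P').toAddMonoidHom)
    (AddMonoidHom.ext fun x => ?_) (AddMonoidHom.ext fun x => ?_)
  · induction x using TensorProduct.induction_on with
    | zero => simp
    | add x y hx hy => simp only [map_add, hx, hy]
    | tmul s m => simp [eX, eY]
  · induction x using TensorProduct.induction_on with
    | zero => simp
    | add x y hx hy => simp only [map_add, hx, hy]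
    | tmul s m => simp [eY, eZ]

variable (R R')
include hpush

/-- A bounded above acyclic complex of `P`-modules flat over `R` stays acyclic on `P'`. -/
theorem acyclic_ext (C : DRing.Cx P) (b : ℤ) (hb : ∀ i, b < i → IsZero (C.X i)) (hC : C.Acyclic)
    (hflat : ∀ i, flat R ((res (algebraMap R P)).obj (C.X i))) :
    ((ext (algebraMap P P')).obj C).Acyclic := by
  letI (i : ℤ) : Module R (C.X i) := Module.compHom (C.X i) (algebraMap R P)
  haveI (i : ℤ) : IsScalarTower R P (C.X i) := IsScalarTower.of_algebraMap_smul fun _ _ => rfl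
  have hex : ∀ i j k : ℤ, i + 1 = j → j + 1 = k → Function.Exact (C.d i j).hom (C.d j k).hom := by
    intro i j k hij hjk
    have h := hC j
    rw [HomologicalComplex.exactAt_iff' C i j k (by simp; lia) (by simp; lia),
      ShortComplex.ShortExact.moduleCat_exact_iff_function_exact] at h
    exact h
  intro j
  rw [HomologicalComplex.exactAt_iff' _ (j - 1) j (j + 1) (by simp) (by simp),
    ShortComplex.ShortExact.moduleCat_exact_iff_function_exact]
  have h := FlatAcyclic.exact_lTensor (A := R) (fun i => C.X i) (fun i k => (C.d i k).hom.restrictScalars R)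
    hflat b (fun i hi => ModuleCat.subsingleton_of_isZero (hb i hi)) hex R' (j - 1) j (j + 1) (by lia) rfl
  have h' := (exact_iff_pushout (R := R) (R' := R') (P' := P') (C.d (j - 1) j).hom (C.d j (j + 1)).hom).2 h
  refine (Function.Exact.iff_of_ladder_addEquiv (FlatBC.extEquiv P P' (C.X (j - 1))).toAddEquiv
    (FlatBC.extEquiv P P' (C.X j)).toAddEquiv (FlatBC.extEquiv P P' (C.X (j + 1))).toAddEquiv
    (f₁₂ := (((ext (algebraMap P P')).obj C).d (j - 1) j).hom.toAddMonoidHom)
    (f₂₃ := (((ext (algebraMap P P')).obj C).d j (j + 1)).hom.toAddMonoidHom)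
    (g₁₂ := ((C.d (j - 1) j).hom.lTensor P').toAddMonoidHom) (g₂₃ := ((C.d j (j + 1)).hom.lTensor P').toAddMonoidHom)
    (AddMonoidHom.ext fun x => ?_) (AddMonoidHom.ext fun x => ?_)).1 h'
  · obtain ⟨y, rfl⟩ := (FlatBC.extEquiv P P' (C.X (j - 1))).symm.surjective x
    induction y using TensorProduct.induction_on with
    | zero => simp
    | add x y hx hy => simp only [map_add, hx, hy]
    | tmul s m => rfl
  · obtain ⟨y, rfl⟩ := (FlatBC.extEquiv P P' (C.X j)).symm.surjective x
    induction y using TensorProduct.induction_on with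
    | zero => simp
    | add x y hx hy => simp only [map_add, hx, hy]
    | tmul s m => rfl

/-- Pseudo-coherence of a module flat over `R` is preserved by base change along `R → R'`. -/
theorem pcn_baseChange (M : Type u) [AddCommGroup M] [Module P M] [Module.Flat R P]
    (hM : flat R ((res (algebraMap R P)).obj (ModuleCat.of P M)))
    (h : ∀ m, PCn (ff P) m (Dual.inD P M)) (m : ℤ) : PCn (ff P') m (Dual.inD P' (P' ⊗[P] M)) := by
  obtain ⟨E, hE, hp, ⟨e⟩⟩ :=
    ba_ff_of_forall h (b := 0) (inferInstance : DerivedCategory.IsLE (Dual.inD P M) 0)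
  have := isKProjective_of_bounds projective_of_ff hE hp
  let K := (CochainComplex.singleFunctor (ModuleCat.{u} P) 0).obj (ModuleCat.of P M)
  obtain ⟨s, hs⟩ := exists_Q_map_eq (K := K)
    (e.hom ≫ ((DerivedCategory.singleFunctorIsoCompQ (ModuleCat.{u} P) 0).app (ModuleCat.of P M)).hom)
  have : QuasiIso s := by
    rw [← DerivedCategory.isIso_Q_map_iff_quasiIso, hs]
    infer_instance
  have hgP : (algebraMap R P).Flat := by rw [RingHom.flat_algebraMap_iff]; infer_instance
  have hKz : ∀ i, i ≠ 0 → IsZero (K.X i) := fun i hi => HomologicalComplex.isZero_single_obj_X _ _ _ _ hi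
  have hflat : ∀ i, flat R ((res (algebraMap R P)).obj ((CochainComplex.mappingCone s).X i)) := fun i => by
    refine good_flat.iso ((res (algebraMap R P)).mapIso
      (HomologicalComplex.homotopyCofiber.XIsoBiprod s i (i + 1) rfl).symm) ?_
    haveI := preservesBinaryBiproduct_of_preservesBiproduct (res (algebraMap R P)) (E.X (i + 1)) (K.X i)
    refine good_flat.iso ((res (algebraMap R P)).mapBiprod _ _).symm (good_flat.biprod
      (TorPoly.res_flat hgP _ (flat_of_fproj _ (fproj_of_ff _ (hp (i + 1))))) ?_)
    by_cases hi : i = 0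
    · subst hi
      exact good_flat.iso ((res (algebraMap R P)).mapIso
        (HomologicalComplex.singleObjXSelf (ComplexShape.up ℤ) 0 (ModuleCat.of P M))).symm hM
    · exact good_flat.zero ((res (algebraMap R P)).map_isZero (hKz i hi))
  have hz : ∀ i, 0 < i → IsZero ((CochainComplex.mappingCone s).X i) := fun i hi => by
    refine IsZero.of_iso ?_ (HomologicalComplex.homotopyCofiber.XIsoBiprod s i (i + 1) rfl)
    rw [biprod_isZero_iff]
    exact ⟨hE _ (by lia), hKz i (by lia)⟩
  have hacy := acyclic_ext R R' (P' := P') (CochainComplex.mappingCone s) 0 hz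
    ((quasiIso_iff_acyclic s).1 inferInstance) hflat
  have : QuasiIso ((ext (algebraMap P P')).map s) := by
    rw [quasiIso_iff_acyclic]
    intro i
    exact (hacy i).of_iso (CochainComplex.mappingCone.mapHomologicalComplexIso s _)
  have : IsIso (DerivedCategory.Q.map ((ext (algebraMap P P')).map s)) :=
    Localization.inverts DerivedCategory.Q
      (HomologicalComplex.quasiIso (ModuleCat.{u} P') (ComplexShape.up ℤ)) _ this
  have hBA : BA (ff P') 0 (DerivedCategory.Q.obj ((ext (algebraMap P P')).obj E)) :=
    ⟨(ext (algebraMap P P')).obj E, fun i hi => (ModuleCat.extendScalars.{u, u, u} _).map_isZero (hE i hi),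
      fun i => ext_ff _ _ (hp i), ⟨Iso.refl _⟩⟩
  exact (hBA.pcn good_ff m).of_iso (asIso (DerivedCategory.Q.map ((ext (algebraMap P P')).map s)) ≪≫
    DerivedCategory.Q.mapIso ((HomologicalComplex.singleMapHomologicalComplex
      (ModuleCat.extendScalars.{u, u, u} (algebraMap P P')) (ComplexShape.up ℤ) 0).app (ModuleCat.of P M)) ≪≫
    ((DerivedCategory.singleFunctorIsoCompQ (ModuleCat.{u} P') 0).app _).symm ≪≫
    (sgl P' 0).mapIso (FlatBC.extEquiv P P' M).toModuleIso)

end Groth.Agent.H54.PCFlatBase
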