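import Groth.Agent.H19.FlatLocus.Main
import Groth.Agent.H54.PCFlatBase
import Groth.Agent.H54.PerfMor
import Groth.Agent.H54.PCFinite
import Groth.Agent.S7067
import Mathlib.RingTheory.Flat.Localization
import Groth.Agent.Lib.Flat55.Presented
import Mathlib.RingTheory.Adjoin.FG
import Mathlib.AlgebraicGeometry.Morphisms.FinitePresentation
import Mathlib.AlgebraicGeometry.Morphisms.Flat

/-!
# Flat maps of finite presentation are perfect
-/

universe u

open CategoryTheory CategoryTheory.Limits CategoryTheory.Pretriangulated AlgebraicGeometry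
open Groth.Agent.Lib.DR
open Groth.Agent.Lib.DR.Basic Groth.Agent.Lib.DR.FiniteComplex Groth.Agent.Lib.DR.PseudoCoherent
open Groth.Agent.Lib.DR.BaseChange
open Groth.Agent.H54.PCRestrict Groth.Agent.Lib.Flat55.Relations Groth.Agent.H19.FlatLocus
open scoped TensorProduct

attribute [local instance] HasDerivedCategory.standard

namespace Groth.Agent.H54.FlatFP

/-- A presented module which is flat over the base stays flat after localization. -/
theorem flat_quotAt {σ ι κ : Type} {R : Type u} [CommRing R] (g : κ → ι → MvPolynomial σ R)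
    [Module.Flat R (Quot g)] (Q : Ideal (MvPolynomial σ R)) [Q.IsPrime] : Module.Flat R (QuotAt g Q) := by
  refine (flat_iff_killed (R := R) Q.primeCompl
    (LocalizedModule.mkLinearMap Q.primeCompl (Quot g))).2 fun J y hy => ⟨1, one_mem _, ?_⟩
  rw [one_smul]
  exact (Module.Flat.lTensor_preserves_injective_linearMap (M := Quot g) J.subtype
    Subtype.val_injective) (hy.trans (map_zero _).symm)

/-- Base change of a presented module. -/
theorem pcn_of_flat_quot {σ : Type} [Finite σ] {ι κ : Type} [Finite ι] [Finite κ] {R : Type u} [CommRing R]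
    (g : κ → ι → MvPolynomial σ R) [Module.Flat R (Quot g)] (m : ℤ) :
    PCn (ff (MvPolynomial σ R)) m (Dual.inD (MvPolynomial σ R) (Quot g)) := by
  classical
  cases nonempty_fintype κ
  cases nonempty_fintype ι
  obtain ⟨s, g₁, hg₁, hflat⟩ := exists_flat_level g fun q => flat_quotAt g q.asIdeal
  let A₀ := Algebra.adjoin ℤ (s : Set R)
  have : Algebra.FiniteType ℤ A₀ := (Subalgebra.fg_iff_finiteType A₀).mp ⟨s, rfl⟩
  have : IsNoetherianRing A₀ := Algebra.FiniteType.isNoetherianRing ℤ A₀
  have hM : Module.Flat A₀ (Quot g₁) :=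
    Module.flat_of_isLocalized_maximal (MvPolynomial σ A₀) (Quot g₁)
      (fun Q => QuotAt g₁ Q) (fun Q _ => LocalizedModule.mkLinearMap _ _) fun Q _ => hflat Q
  let _ : Algebra (MvPolynomial σ A₀) (MvPolynomial σ R) := MvPolynomial.algebraMvPolynomial
  have : Module.Finite (MvPolynomial σ A₀) (ι → MvPolynomial σ A₀) :=
    Module.Finite.of_basis (Pi.basisFun (MvPolynomial σ A₀) ι)
  have hfin : Module.Finite (MvPolynomial σ A₀) (Quot g₁) :=
    Module.Finite.of_surjective (rel g₁).mkQ (Submodule.mkQ_surjective _)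
  have hpc : ∀ k, PCn (ff (MvPolynomial σ A₀)) k (Dual.inD (MvPolynomial σ A₀) (Quot g₁)) :=
    (Representative.isPseudoCoherent'_iff_forall _).1
      ((Groth.Agent.S6942.result (MvPolynomial σ A₀) 0 (Dual.inD _ (Quot g₁)) (Quot g₁)).2.mpr hfin)
  have hflat' : flat A₀ ((res (algebraMap A₀ (MvPolynomial σ A₀))).obj
      (ModuleCat.of (MvPolynomial σ A₀) (Quot g₁))) :=
    good_flat.iso (LinearEquiv.toModuleIso (TorDimHom.towerEquiv (A := A₀) (B := MvPolynomial σ A₀) (Quot g₁))).symm
      (show flat A₀ (ModuleCat.of A₀ (Quot g₁)) from hM)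
  have hbc := PCFlatBase.pcn_baseChange A₀ R (P := MvPolynomial σ A₀) (P' := MvPolynomial σ R)
    (Quot g₁) hflat' hpc m
  refine hbc.of_iso ((sgl _ 0).mapIso (LinearEquiv.toModuleIso ?_))
  exact (Groth.Agent.Lib.Flat55.Presented.isBaseChange_quotMap g₁ g fun v i =>
    (congr_fun (hg₁ v) i).symm).equiv

theorem hom_of_flat (A B : Type u) [CommRing A] [CommRing B] [Algebra A B] [Module.Flat A B]
    [Algebra.FinitePresentation A B] : MoreMor.IsPseudoCoherentHom A B := by
  obtain ⟨n, m, k, π, g, e, hπ, he, -⟩ := exists_presentation (R := A) (S := B) (M := B)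
  have : Module.Flat A (Quot g) := Module.Flat.of_linearEquiv e.symm
  refine RelPC.hom_iff.2 ⟨n, π, hπ, fun j => (pcn_of_flat_quot g j).of_iso ((sgl _ 0).mapIso
    (LinearEquiv.toModuleIso (X₂ := (res π.toRingHom).obj (ModuleCat.of B B)) ?_))⟩
  exact (AddEquiv.toLinearEquiv (M := (res π.toRingHom).obj (ModuleCat.of B B)) e.toAddEquiv
    fun p x => he p x).symm

theorem perfectHom_of_flat (A B : Type u) [CommRing A] [CommRing B] [Algebra A B] [Module.Flat A B]
    [Algebra.FinitePresentation A B] : MoreMor.IsPerfectHom A B :=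
  ⟨hom_of_flat A B, 0, PerfMor.hasTorDimLE_zero_of_flat A B⟩

theorem perfectMor_of_flat {X S : Scheme.{u}} (f : X ⟶ S) [Flat f] [LocallyOfFinitePresentation f] :
    MoreMor.IsPerfectMor f := by
  intro U V hU hV e
  algebraize [(f.appLE V U e).hom]
  have : Module.Flat Γ(S, V) Γ(X, U) := f.flat_appLE hV hU e
  have : Algebra.FinitePresentation Γ(S, V) Γ(X, U) := f.finitePresentation_appLE hV hU e
  exact perfectHom_of_flat Γ(S, V) Γ(X, U)

end Groth.Agent.H54.FlatFP
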