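import Groth.Agent.S6935
import Groth.Agent.Lib.DR.Representative
import Groth.Prelude.Def_MoreMor

/-!
# Pseudo-coherent ring maps are of finite presentation
-/

universe u

open CategoryTheory CategoryTheory.Limits Groth.Agent.Lib.DR.Representative

attribute [local instance] HasDerivedCategory.standard

namespace Groth.Agent.H54.PCHom

theorem finitePresentation_module {P B : Type u} [CommRing P] [AddCommGroup B] [Module P B]
    (h : DRing.IsPseudoCoherentModule' P B) : Module.FinitePresentation P B :=
  (Groth.Agent.S6935.result P B).2.mp
    ((Groth.Agent.Lib.DR.PseudoCoherent.isPseudoCoherent_iff _ _).mpr ((isPseudoCoherent'_iff_forall _).mp h (-1)))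

theorem finitePresentation_of_isPseudoCoherentHom {A B : Type u} [CommRing A] [CommRing B] [Algebra A B]
    (h : MoreMor.IsPseudoCoherentHom A B) : Algebra.FinitePresentation A B := by
  obtain ⟨n, φ, hφ, h⟩ := h
  let _ : Algebra (MvPolynomial (Fin n) A) B := φ.toRingHom.toAlgebra
  haveI : Module.FinitePresentation (MvPolynomial (Fin n) A) B := finitePresentation_module h
  exact Algebra.FinitePresentation.of_surjective (f := φ) hφ
    (Module.FinitePresentation.fg_ker (Algebra.linearMap (MvPolynomial (Fin n) A) B) hφ)

end Groth.Agent.H54.PCHom
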