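import Groth.Agent.H54.RelLoc
import Groth.Agent.H54.PCHom
import Mathlib.AlgebraicGeometry.Morphisms.RingHomProperties
import Mathlib.RingTheory.RingHom.FiniteType
import Mathlib.RingTheory.TensorProduct.Basic

/-!
# Pseudo-coherent morphisms: locality
-/

universe u

open CategoryTheory CategoryTheory.Limits CategoryTheory.Pretriangulated AlgebraicGeometry
open Groth.Agent.Lib.DR
open Groth.Agent.Lib.DR.Basic Groth.Agent.Lib.DR.FiniteComplex Groth.Agent.Lib.DR.PseudoCoherent
open Groth.Agent.H54.PCRestrict Groth.Agent.H54.PCPresent Groth.Agent.H54.RelPC Groth.Agent.H54.RelLoc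
open scoped TensorProduct

attribute [local instance] HasDerivedCategory.standard

namespace Groth.Agent.H54.PCLocal

section

variable {R A : Type u} [CommRing R] [CommRing A] [Algebra R A]

/-- Localization of `M[0]`. -/
noncomputable def extSingleIso (B : Type u) [CommRing B] [Algebra A B] [Module.Flat A B]
    (M : Type u) [AddCommGroup M] [Module A M] (K : DRing.Cx A) (e : DerivedCategory.Q.obj K ≅ Dual.inD A M) :
    DRing.toD (((ModuleCat.extendScalars.{u, u, u} (algebraMap A B)).mapHomologicalComplex _).obj K) ≅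
      Dual.inD B (B ⊗[A] M) :=
  (ExactPush.mapQ _ K).symm ≪≫
    (ModuleCat.extendScalars.{u, u, u} (algebraMap A B)).mapDerivedCategory.mapIso e ≪≫ FlatBC.mapInD

theorem relModule_localization_iff [Algebra.FiniteType R A] {r : ℕ} (f : Fin r → A)
    (hf : Ideal.span (Set.range f) = ⊤) (M : Type u) [AddCommGroup M] [Module A M] (m : ℤ) :
    DerCA.IsRelPseudoCoherentModule R A m M ↔
      ∀ i, DerCA.IsRelPseudoCoherentModule R (Localization.Away (f i)) m (Localization.Away (f i) ⊗[A] M) := by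
  let K := DerivedCategory.Q.objPreimage (Dual.inD A M)
  let e : DerivedCategory.Q.obj K ≅ Dual.inD A M := DerivedCategory.Q.objObjPreimageIso _
  have iso : ∀ {B : Type u} [CommRing B] [Algebra R B] (X Y : Dual.D B), (X ≅ Y) →
      DerCA.IsRelPseudoCoherent R B m X → DerCA.IsRelPseudoCoherent R B m Y := by
    intro B _ _ X Y eXY ⟨n, γ, hγ, h⟩
    exact ⟨n, γ, hγ, (via_iff γ m Y).2 (((via_iff γ m X).1 h).of_iso ((DRing.restrictD γ.toRingHom).mapIso eXY))⟩
  have hflat : ∀ i, Module.Flat A (Localization.Away (f i)) := fun i => IsLocalization.flat _ (Submonoid.powers (f i))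
  refine Iff.trans ⟨fun h => iso _ _ e.symm h, fun h => iso _ _ e h⟩ ((rel_localization_iff f hf K m).trans ?_)
  exact forall_congr' fun i => ⟨fun h => iso _ _ (extSingleIso _ M K e) h,
    fun h => iso _ _ (extSingleIso _ M K e).symm h⟩

theorem hom_of_localizations {r : ℕ} (f : Fin r → A)
    (hf : Ideal.span (Set.range f) = ⊤) [Algebra.FiniteType R A]
    (h : ∀ i, MoreMor.IsPseudoCoherentHom R (Localization.Away (f i))) : MoreMor.IsPseudoCoherentHom R A := by
  obtain ⟨n, α, hα⟩ := Algebra.FiniteType.iff_quotient_mvPolynomial''.mp ‹Algebra.FiniteType R A›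
  refine (hom_iff_of_surjective α hα).2 fun m => (relModule_iff α hα m A).1 ?_
  rw [relModule_localization_iff f hf]
  intro i
  obtain ⟨k, γ, hγ, h'⟩ := hom_iff.1 (h i)
  refine (relModule_iff γ hγ m _).2 ((h' m).of_iso ((sgl _ 0).mapIso ((res γ.toRingHom).mapIso ?_)))
  exact (TensorProduct.AlgebraTensorModule.rid A (Localization.Away (f i)) (Localization.Away (f i))).symm.toModuleIso

end

/-- Pseudo-coherent ring maps, as a property of ring homomorphisms. -/
def Q {R S : Type u} [CommRing R] [CommRing S] (φ : R →+* S) : Prop :=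
  letI := φ.toAlgebra
  MoreMor.IsPseudoCoherentHom R S

lemma Q_algebraMap (R S : Type u) [CommRing R] [CommRing S] [Algebra R S] :
    Q (algebraMap R S) ↔ MoreMor.IsPseudoCoherentHom R S := by
  rw [Q]
  congr!
  exact Algebra.algebra_ext _ _ fun _ => rfl

lemma Q.finiteType {R S : Type u} [CommRing R] [CommRing S] {φ : R →+* S} (h : Q φ) : φ.FiniteType := by
  let _ := φ.toAlgebra
  have := PCHom.finitePresentation_of_isPseudoCoherentHom h
  exact (inferInstance : Algebra.FiniteType R S)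

lemma Q_comp : RingHom.StableUnderComposition Q := by
  intro R S T _ _ _ f g hf hg
  let _ := f.toAlgebra
  let _ := g.toAlgebra
  let _ := (g.comp f).toAlgebra
  have : IsScalarTower R S T := IsScalarTower.of_algebraMap_eq fun _ => rfl
  exact hom_comp hf hg

lemma Q_away : RingHom.HoldsForLocalizationAway Q := by
  intro R S _ _ _ r _
  exact (Q_algebraMap R S).2 (hom_away r S)

lemma Q_of_comp {R S T : Type u} [CommRing R] [CommRing S] [CommRing T] (f : R →+* S) (g : S →+* T)
    (hf : Q f) (hgf : Q (g.comp f)) : Q g := by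
  let _ := f.toAlgebra
  let _ := g.toAlgebra
  let _ := (g.comp f).toAlgebra
  have : IsScalarTower R S T := IsScalarTower.of_algebraMap_eq fun _ => rfl
  have : Algebra.FiniteType R T := hgf.finiteType
  have : Algebra.FiniteType S T := Algebra.FiniteType.of_restrictScalars_finiteType R S T
  obtain ⟨n, γ, hγ, h⟩ := hom_iff.1 hgf
  obtain ⟨k, β, hβ⟩ := Algebra.FiniteType.iff_quotient_mvPolynomial''.mp ‹Algebra.FiniteType S T›
  exact hom_iff.2 ⟨k, β, hβ, fun m => (relModule_iff β hβ m T).1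
    ((rel_base_iff hf _ m).2 ((relModule_iff γ hγ m T).2 (h m)))⟩

lemma Q_ofLocalizationSpanTarget : RingHom.OfLocalizationSpanTarget Q := by
  rw [RingHom.ofLocalizationSpanTarget_iff_finite]
  intro R S _ _ φ s hs h
  have hFT : φ.FiniteType := RingHom.finiteType_ofLocalizationSpanTarget φ (s : Set S) hs fun r => (h r).finiteType
  let _ := φ.toAlgebra
  have : Algebra.FiniteType R S := hFT
  let e := s.equivFin.symm
  refine hom_of_localizations (fun i => (e i : S)) ?_ fun i => ?_
  · rw [show (fun i => (e i : S)) = Subtype.val ∘ e from rfl, Set.range_comp, e.surjective.range_eq,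
      Set.image_univ]
    exact (congrArg Ideal.span (Subtype.range_coe_subtype.trans (by ext; simp))).trans hs
  · have h' : Q (algebraMap R (Localization.Away (e i : S))) := by
      rw [IsScalarTower.algebraMap_eq R S]
      exact h (e i)
    exact (Q_algebraMap _ _).1 h'

lemma Q_localizationAwayPreserves : RingHom.LocalizationAwayPreserves Q := by
  intro R S _ _ φ r R' S' _ _ _ _ _ _ h
  refine Q_of_comp (algebraMap R R') _ (Q_away R' r) ?_
  rw [IsLocalization.Away.map, IsLocalization.map_comp]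
  exact Q_comp φ (algebraMap S S') h (Q_away S' (φ r))

lemma Q_stableTarget : RingHom.StableUnderCompositionWithLocalizationAwayTarget Q :=
  fun _ _ T _ _ _ _ s _ f hf => Q_comp f _ hf (Q_away T s)

lemma Q_stableSource : RingHom.StableUnderCompositionWithLocalizationAwaySource Q :=
  fun _ S _ _ _ _ _ r _ f hf => Q_comp _ f (Q_away S r) hf

lemma Q_isLocal : RingHom.PropertyIsLocal Q :=
  ⟨Q_localizationAwayPreserves, Q_ofLocalizationSpanTarget,
    Q_ofLocalizationSpanTarget.ofLocalizationSpan Q_stableSource, Q_stableTarget⟩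

theorem isPseudoCoherentMor_eq :
    (fun {X Y : Scheme.{u}} (f : X ⟶ Y) => MoreMor.IsPseudoCoherentMor f) = affineLocally (fun {R S} [CommRing R] [CommRing S] (φ : R →+* S) => Q φ) := by
  ext X Y f
  rw [affineLocally_iff_forall_isAffineOpen]
  exact ⟨fun h {V} hV {U} hU e => h U V hU hV e, fun h U V hU hV e => h hV hU e⟩

/-- Pseudo-coherent morphisms as a morphism property. -/
def pcMor : MorphismProperty Scheme.{u} := fun _ _ f => MoreMor.IsPseudoCoherentMor f

instance : HasRingHomProperty pcMor.{u} Q where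
  isLocal_ringHomProperty := Q_isLocal
  eq_affineLocally' := isPseudoCoherentMor_eq

theorem iff_exists {X S : Scheme.{u}} (f : X ⟶ S) :
    MoreMor.IsPseudoCoherentMor f ↔ ∀ x : X, ∃ (U : X.Opens) (V : S.Opens) (hUV : U ≤ f ⁻¹ᵁ V),
      IsAffineOpen U ∧ IsAffineOpen V ∧ x ∈ U ∧ Q (f.appLE V U hUV).hom := by
  refine (HasRingHomProperty.iff_exists_appLE (P := pcMor) (f := f) Q_stableSource).trans ?_
  refine forall_congr' fun x => ⟨fun ⟨V, U, hx, e, h⟩ => ⟨U, V, e, U.2, V.2, hx, h⟩,
    fun ⟨U, V, e, hU, hV, hx, h⟩ => ⟨⟨V, hV⟩, ⟨U, hU⟩, hx, e, h⟩⟩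

theorem comp {X Y Z : Scheme.{u}} (f : X ⟶ Y) (g : Y ⟶ Z) (hf : MoreMor.IsPseudoCoherentMor f)
    (hg : MoreMor.IsPseudoCoherentMor g) : MoreMor.IsPseudoCoherentMor (f ≫ g) :=
  (HasRingHomProperty.stableUnderComposition (P := pcMor) Q_comp).comp_mem f g hf hg

theorem of_comp {X Y Z : Scheme.{u}} (f : X ⟶ Y) (g : Y ⟶ Z) (hfg : MoreMor.IsPseudoCoherentMor (f ≫ g))
    (hg : MoreMor.IsPseudoCoherentMor g) : MoreMor.IsPseudoCoherentMor f := by
  rw [iff_exists]
  intro x
  obtain ⟨_, ⟨W, hW, rfl⟩, hxW, -⟩ :=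
    Z.isBasis_affineOpens.exists_subset_of_mem_open (Set.mem_univ (g (f x))) isOpen_univ
  obtain ⟨_, ⟨V, hV, rfl⟩, hxV, hVW⟩ :=
    Y.isBasis_affineOpens.exists_subset_of_mem_open (show f x ∈ g ⁻¹ᵁ W from hxW) (g ⁻¹ᵁ W).isOpen
  obtain ⟨_, ⟨U, hU, rfl⟩, hxU, hUV⟩ :=
    X.isBasis_affineOpens.exists_subset_of_mem_open (show x ∈ f ⁻¹ᵁ V from hxV) (f ⁻¹ᵁ V).isOpen
  refine ⟨U, V, hUV, hU, hV, hxU, Q_of_comp (g.appLE W V hVW).hom _ (hg V W hV hW hVW) ?_⟩
  have h : Q ((f ≫ g).appLE W U (hUV.trans (f.preimage_mono hVW))).hom :=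
    hfg U W hU hW (hUV.trans (f.preimage_mono hVW))
  rwa [← CommRingCat.hom_comp, Scheme.Hom.appLE_comp_appLE]

end Groth.Agent.H54.PCLocal
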