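import Groth.Agent.H54.PerfMor
import Groth.Agent.Lib.DR.Descent
import Mathlib.RingTheory.Spectrum.Prime.FreeLocus
import Mathlib.RingTheory.Localization.BaseChange
import Mathlib.Algebra.Module.LocalizedModule.IsLocalization
import Mathlib.AlgebraicGeometry.AffineScheme

/-!
# Perfectness and tor dimension of the stalks
-/

universe u

open CategoryTheory CategoryTheory.Limits CategoryTheory.Pretriangulated AlgebraicGeometry
open Groth.Agent.Lib.DR
open Groth.Agent.Lib.DR.Basic Groth.Agent.Lib.DR.FiniteComplex Groth.Agent.Lib.DR.PseudoCoherent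
open Groth.Agent.Lib.DR.TorAmp Groth.Agent.Lib.DR.BaseChange Groth.Agent.Lib.DR.Representative
open Groth.Agent.H54.PCRestrict
open scoped TensorProduct

attribute [local instance] HasDerivedCategory.standard

namespace Groth.Agent.H54.StalkPerf

section

variable {P : Type u} [CommRing P] (P' : Type u) [CommRing P'] [Algebra P P'] [Module.Flat P P']

/-- The functor of extension of scalars. -/
noncomputable abbrev ext : ModuleCat.{u} P ⥤ ModuleCat.{u} P' :=
  ModuleCat.extendScalars.{u, u, u} (algebraMap P P')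

/-- Extension of scalars commutes with cokernels. -/
noncomputable def cokerIso (E : DRing.Cx P) (a : ℤ) :
    ModuleCat.of P' (((((ext P').mapHomologicalComplex _).obj E).X a) ⧸
      LinearMap.range ((((ext P').mapHomologicalComplex _).obj E).d (a - 1) a).hom) ≅
      ModuleCat.of P' (P' ⊗[P] ((E.X a) ⧸ LinearMap.range (E.d (a - 1) a).hom)) :=
  (ModuleCat.cokernelIsoRangeQuotient _).symm ≪≫
    (PreservesCokernel.iso (ext P') (E.d (a - 1) a)).symm ≪≫
    (ext P').mapIso (ModuleCat.cokernelIsoRangeQuotient _) ≪≫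
    (FlatBC.extEquiv P P' _).toModuleIso

end

/-- Spreading out finite tor amplitude of a pseudo-coherent module at the primes. -/
theorem pf_of_primes {P : Type u} [CommRing P] (M : Type u) [AddCommGroup M] [Module P M]
    (hM : ∀ m, PCn (ff P) m (Dual.inD P M))
    (h : ∀ (Q : Ideal P) [Q.IsPrime], ∃ a : ℤ, Bdd (flat (Localization.AtPrime Q)) a 0
      (Dual.inD (Localization.AtPrime Q) (Localization.AtPrime Q ⊗[P] M))) :
    Perfect.Pf (Dual.inD P M) := by
  classical
  obtain ⟨E, hE, hp, ⟨e⟩⟩ :=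
    ba_ff_of_forall hM (b := 0) (inferInstance : DerivedCategory.IsLE (Dual.inD P M) 0)
  let K (a : ℤ) := (E.X a) ⧸ LinearMap.range (E.d (a - 1) a).hom
  have hFP : ∀ a, Module.FinitePresentation P (K a) := fun a => by
    obtain ⟨_, _⟩ := hp a
    have := (hp (a - 1)).1
    have : Module.FinitePresentation P (E.X a) := Module.finitePresentation_of_projective P (E.X a)
    exact Module.finitePresentation_of_surjective _ (Submodule.mkQ_surjective _) (by
      rw [Submodule.ker_mkQ, LinearMap.range_eq_map]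
      exact Module.Finite.fg_top.map _)
  have hext : ∀ (P' : Type u) [CommRing P'] [Algebra P P'] [Module.Flat P P'],
      Nonempty ((ext P').mapDerivedCategory.obj (DerivedCategory.Q.obj E) ≅
        DerivedCategory.Q.obj (((ext P').mapHomologicalComplex (ComplexShape.up ℤ)).obj E)) :=
    fun P' _ _ _ => ⟨ExactPush.mapQ (ext P') E⟩
  have key : ∀ Q : PrimeSpectrum P, ∃ g : P, g ∉ Q.asIdeal ∧
      Perfect.Pf ((ext (Localization.Away g)).mapDerivedCategory.obj (Dual.inD P M)) := by
    intro Q
    obtain ⟨a, ha⟩ := h Q.asIdeal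
    obtain ⟨f⟩ := hext (Localization.AtPrime Q.asIdeal)
    have hbdd := ((ha.mono (a' := min a 0) (min_le_left _ _) le_rfl).of_iso
      (FlatBC.mapInD (A := P) (B := Localization.AtPrime Q.asIdeal) (M := M)).symm).of_iso
      ((ext (Localization.AtPrime Q.asIdeal)).mapDerivedCategory.mapIso e.symm ≪≫ f)
    have hflat := flat_coker _ (fun i hi => (ext _).map_isZero (hE i hi))
      (fun i => flat_of_fproj _ (fproj_of_ff _ (ext_ff _ _ (hp i)))) hbdd
    have := hFP (min a 0)
    have : Module.Flat (Localization.AtPrime Q.asIdeal) (Localization.AtPrime Q.asIdeal ⊗[P] K (min a 0)) :=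
      Module.Flat.of_linearEquiv (cokerIso (Localization.AtPrime Q.asIdeal) E (min a 0)).toLinearEquiv.symm
    have hQ : Q ∈ Module.freeLocus P (K (min a 0)) := by
      rw [Module.mem_freeLocus_iff_tensor Q (Localization.AtPrime Q.asIdeal)]
      exact Module.free_of_flat_of_isLocalRing
    obtain ⟨_, ⟨g, rfl⟩, hgQ, hg⟩ := PrimeSpectrum.isTopologicalBasis_basic_opens.exists_subset_of_mem_open
      hQ Module.isOpen_freeLocus
    refine ⟨g, hgQ, ?_⟩
    have hproj := Module.basicOpen_subset_freeLocus_iff.1 hg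
    have : Module.Projective (Localization.Away g) (Localization.Away g ⊗[P] K (min a 0)) :=
      Module.Projective.of_equiv (LocalizedModule.equivTensorProduct (Submonoid.powers g) (K (min a 0)))
    obtain ⟨f'⟩ := hext (Localization.Away g)
    let eg := (ext (Localization.Away g)).mapDerivedCategory.mapIso e.symm ≪≫ f'
    have hge : DerivedCategory.IsGE (Dual.inD (Localization.Away g) (Localization.Away g ⊗[P] M)) 0 :=
      inferInstance
    refine ⟨min a 0, 0, (bdd_of_opcycles good_fproj (fun i hi => (ext _).map_isZero (hE i hi))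
      (fun i _ => fproj_of_ff _ (ext_ff _ _ (hp i))) ?_ ?_).of_iso eg.symm⟩
    · have h0 := isGE_of_iso' ((FlatBC.mapInD (A := P) (B := Localization.Away g) (M := M)).symm ≪≫ eg) hge
      exact isGE_mono h0 (min_le_right _ _)
    · exact good_fproj.iso (cokerIso (Localization.Away g) E (min a 0)).symm
        ⟨inferInstanceAs (Module.Finite (Localization.Away g) (Localization.Away g ⊗[P] K (min a 0))),
          this⟩
  choose g hg hpf using key
  have hspan : Ideal.span (Set.range g) = ⊤ := by
    by_contra hne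
    obtain ⟨m, hm, hle⟩ := Ideal.exists_le_maximal _ hne
    exact hg ⟨m, hm.isPrime⟩ (hle (Ideal.subset_span ⟨_, rfl⟩))
  obtain ⟨s, hs, hs1⟩ := Submodule.mem_span_finite_of_mem_span ((Ideal.eq_top_iff_one _).1 hspan)
  choose q hq using fun i : s => hs i.2
  let e' := s.equivFin.symm
  refine Descent.pf_desc (B := fun i => Localization.Away (g (q (e' i)))) (Descent.detects_away _ ?_) _
    fun i => hpf _
  rw [Ideal.eq_top_iff_one]
  refine Submodule.span_mono ?_ hs1
  intro x hx
  obtain ⟨j, hj⟩ := e'.surjective ⟨x, hx⟩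
  exact ⟨j, (congrArg (g ∘ q) hj).trans (hq _)⟩

variable {A B : Type u} [CommRing A] [CommRing B] [Algebra A B]

/-- Perfectness is detected by the tor dimension of the local rings. -/
theorem hom_of_stalks (hpc : MoreMor.IsPseudoCoherentHom A B)
    (h : ∀ (q : Ideal B) [q.IsPrime], DRing.HasFiniteTorDim A (Localization.AtPrime q)) :
    MoreMor.IsPerfectHom A B := by
  obtain ⟨n, φ, hφ, hφ'⟩ := RelPC.hom_iff.1 hpc
  refine (PerfHom.pf_iff_of_surjective φ hφ).2 ?_
  let P := MvPolynomial (Fin n) A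
  let _ : Algebra P B := φ.toRingHom.toAlgebra
  let eB : (res φ.toRingHom).obj (ModuleCat.of B B) ≅ ModuleCat.of P B := (FlatBC.resEquiv P B).toModuleIso
  refine Perfect.Pf.of_iso (pf_of_primes B (fun m => (hφ' m).of_iso ((sgl P 0).mapIso eB)) ?_)
    ((sgl P 0).mapIso eB.symm)
  intro Q hQ
  by_cases hker : RingHom.ker φ.toRingHom ≤ Q
  · let q := Q.map φ.toRingHom
    have : q.IsPrime := Ideal.map_isPrime_of_surjective hφ hker
    have hqQ : q.comap φ.toRingHom = Q := by
      exact (Ideal.comap_map_of_surjective φ.toRingHom hφ Q).trans (sup_eq_left.2 hker)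
    let C := Localization.AtPrime q
    have hS : Algebra.algebraMapSubmonoid B Q.primeCompl = q.primeCompl := by
      ext b
      constructor
      · rintro ⟨p, hp, rfl⟩
        exact fun hb => hp (hqQ ▸ (Ideal.mem_comap.2 hb : p ∈ q.comap φ.toRingHom))
      · intro hb
        obtain ⟨p, rfl⟩ := hφ b
        exact ⟨p, fun hp => hb (Ideal.mem_map_of_mem _ hp), rfl⟩
    have hC : IsLocalization (Algebra.algebraMapSubmonoid B Q.primeCompl) C := by rw [hS]; infer_instance
    have hu : ∀ y : Q.primeCompl, IsUnit (algebraMap P C y) := fun y => by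
      rw [IsScalarTower.algebraMap_apply P B C]
      exact IsLocalization.map_units C (⟨_, ⟨y, y.2, rfl⟩⟩ : Algebra.algebraMapSubmonoid B Q.primeCompl)
    let _ : Algebra (Localization.AtPrime Q) C := (IsLocalization.lift hu).toAlgebra
    have : IsScalarTower P (Localization.AtPrime Q) C :=
      IsScalarTower.of_algebraMap_eq fun x => (IsLocalization.lift_eq hu x).symm
    have hloc : IsLocalizedModule Q.primeCompl (IsScalarTower.toAlgHom P B C).toLinearMap :=
      isLocalizedModule_iff_isLocalization.2 hC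
    have hb := (isLocalizedModule_iff_isBaseChange Q.primeCompl (Localization.AtPrime Q) _).1 hloc
    obtain ⟨d, hd⟩ := h q
    have h1 : Bdd (flat A) (-(d : ℤ)) 0 (Dual.inD A C) := (TorDim.hasTorDimLE_iff C d).1 hd
    let γ := (algebraMap B C).comp φ.toRingHom
    have hγ : γ.comp MvPolynomial.C = algebraMap A C := by
      rw [IsScalarTower.algebraMap_eq A B C, ← φ.comp_algebraMap]
      rfl
    have h2 : Bdd (flat P) (-(d : ℤ) - n) 0 (Dual.inD P C) :=
      (TorPoly.bdd_flat_mv γ (ModuleCat.of C C) _ (h1.of_iso ((sgl A 0).mapIso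
        (eqToIso (congrArg (fun f => (res f).obj (ModuleCat.of C C)) hγ) ≪≫
          (FlatBC.resEquiv A C).toModuleIso).symm))).of_iso
        ((sgl P 0).mapIso (eqToIso (congrArg (fun f => (res f).obj (ModuleCat.of C C))
          (show γ = algebraMap P C from (IsScalarTower.algebraMap_eq P B C).symm)) ≪≫
          (FlatBC.resEquiv P C).toModuleIso))
    have h3 := (TorDim.hasTorDimLE_iff C (d + n)).2 (h2.mono (by lia) le_rfl)
    exact ⟨_, ((TorDim.hasTorDimLE_iff C (d + n)).1
      (TorDimHom.hasTorDimLE_localization Q.primeCompl C h3)).of_iso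
        ((sgl _ 0).mapIso hb.equiv.toModuleIso.symm)⟩
  · obtain ⟨p, hp, hpQ⟩ := SetLike.not_le_iff_exists.1 hker
    have : Subsingleton (Localization.AtPrime Q ⊗[P] B) := by
      refine subsingleton_of_forall_eq 0 fun x => ?_
      have hu := IsLocalization.map_units (Localization.AtPrime Q) (⟨p, hpQ⟩ : Q.primeCompl)
      induction x using TensorProduct.induction_on with
      | zero => rfl
      | add x y hx hy => rw [hx, hy, add_zero]
      | tmul z b =>
        obtain ⟨z, rfl⟩ : ∃ z', p • z' = z := ⟨↑hu.unit⁻¹ * z, by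
          rw [Algebra.smul_def, ← mul_assoc, hu.mul_val_inv, one_mul]⟩
        rw [TensorProduct.smul_tmul, Algebra.smul_def,
          show algebraMap P B p = 0 from RingHom.mem_ker.1 hp, zero_mul, TensorProduct.tmul_zero]
    exact ⟨0, bdd_zero good_flat ((sgl _ 0).map_isZero (ModuleCat.isZero_of_subsingleton _)) 0 0⟩

theorem stalk_of_hom (h : MoreMor.IsPerfectHom A B) (q : Ideal B) [q.IsPrime] (C : Type u) [CommRing C]
    [Algebra A C] [Algebra B C] [IsScalarTower A B C] [IsLocalization.AtPrime C q] :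
    DRing.HasFiniteTorDim A C := by
  obtain ⟨d, hd⟩ := h.2
  have : Module.Flat B C := IsLocalization.flat C q.primeCompl
  exact ⟨d, TorDimHom.hasTorDimLE_of_flat hd C⟩

theorem mor_iff_stalks {X S : Scheme.{u}} (f : X ⟶ S) (hf : MoreMor.IsPseudoCoherentMor f) :
    MoreMor.IsPerfectMor f ↔ ∀ x : X,
      (letI := (f.stalkMap x).hom.toAlgebra
       DRing.HasFiniteTorDim ↑(S.presheaf.stalk (f x)) ↑(X.presheaf.stalk x)) := by
  constructor
  · intro h x
    obtain ⟨_, ⟨(V : S.Opens), (hV : IsAffineOpen V), rfl⟩, hxV, -⟩ :=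
      S.isBasis_affineOpens.exists_subset_of_mem_open (Set.mem_univ (f x)) isOpen_univ
    obtain ⟨_, ⟨(U : X.Opens), (hU : IsAffineOpen U), rfl⟩, hxU, hUV⟩ :=
      X.isBasis_affineOpens.exists_subset_of_mem_open (show x ∈ f ⁻¹ᵁ V from hxV) (f ⁻¹ᵁ V).isOpen
    let _ := (f.appLE V U hUV).hom.toAlgebra
    let _ := (f.stalkMap x).hom.toAlgebra
    letI := S.presheaf.algebra_section_stalk (⟨f x, hxV⟩ : V)
    letI := X.presheaf.algebra_section_stalk (⟨x, hxU⟩ : U)
    let _ : Algebra Γ(S, V) (X.presheaf.stalk x) :=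
      ((algebraMap Γ(X, U) (X.presheaf.stalk x)).comp (f.appLE V U hUV).hom).toAlgebra
    have : IsScalarTower Γ(S, V) Γ(X, U) (X.presheaf.stalk x) := IsScalarTower.of_algebraMap_eq fun _ => rfl
    have : IsScalarTower Γ(S, V) (S.presheaf.stalk (f x)) (X.presheaf.stalk x) :=
      IsScalarTower.of_algebraMap_eq fun r => by
        show (X.presheaf.germ U x hxU).hom (f.appLE V U hUV r) = f.stalkMap x (S.presheaf.germ V (f x) hxV r)
        rw [Scheme.Hom.germ_stalkMap_apply, Scheme.Hom.appLE, CommRingCat.comp_apply,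
          TopCat.Presheaf.germ_res_apply]
    have := hU.isLocalization_stalk ⟨x, hxU⟩
    have := hV.isLocalization_stalk ⟨f x, hxV⟩
    obtain ⟨d, hd⟩ := stalk_of_hom (h U V hU hV hUV) (hU.primeIdealOf ⟨x, hxU⟩).asIdeal (X.presheaf.stalk x)
    exact ⟨d, TorDimHom.hasTorDimLE_localization (hV.primeIdealOf ⟨f x, hxV⟩).asIdeal.primeCompl _ hd⟩
  · intro h U V hU hV hUV
    let _ := (f.appLE V U hUV).hom.toAlgebra
    refine hom_of_stalks (hf U V hU hV hUV) fun q hq => ?_
    let x := hU.fromSpec ⟨q, hq⟩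
    have hxU : x ∈ U := hU.range_fromSpec.subset (Set.mem_range_self (⟨q, hq⟩ : PrimeSpectrum Γ(X, U)))
    have hxV : f x ∈ V := hUV hxU
    let _ := (f.stalkMap x).hom.toAlgebra
    letI := S.presheaf.algebra_section_stalk (⟨f x, hxV⟩ : V)
    letI := X.presheaf.algebra_section_stalk (⟨x, hxU⟩ : U)
    let _ : Algebra Γ(S, V) (X.presheaf.stalk x) :=
      ((algebraMap Γ(X, U) (X.presheaf.stalk x)).comp (f.appLE V U hUV).hom).toAlgebra
    have : IsScalarTower Γ(S, V) Γ(X, U) (X.presheaf.stalk x) := IsScalarTower.of_algebraMap_eq fun _ => rfl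
    have : IsScalarTower Γ(S, V) (S.presheaf.stalk (f x)) (X.presheaf.stalk x) :=
      IsScalarTower.of_algebraMap_eq fun r => by
        show (X.presheaf.germ U x hxU).hom (f.appLE V U hUV r) = f.stalkMap x (S.presheaf.germ V (f x) hxV r)
        rw [Scheme.Hom.germ_stalkMap_apply, Scheme.Hom.appLE, CommRingCat.comp_apply,
          TopCat.Presheaf.germ_res_apply]
    have hV' := hV.isLocalization_stalk ⟨f x, hxV⟩
    have hxp : hU.primeIdealOf ⟨x, hxU⟩ = ⟨q, hq⟩ := hU.fromSpec.isOpenEmbedding.injective (hU.fromSpec_primeIdealOf _)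
    have hl : IsLocalization.AtPrime (X.presheaf.stalk x) (hU.primeIdealOf ⟨x, hxU⟩).asIdeal :=
      hU.isLocalization_stalk ⟨x, hxU⟩
    have hq' : (hU.primeIdealOf ⟨x, hxU⟩).asIdeal.primeCompl = q.primeCompl := by rw [hxp]
    have : IsLocalization q.primeCompl (X.presheaf.stalk x) := hq' ▸ hl
    obtain ⟨e, he⟩ := h x
    have : Module.Flat Γ(S, V) (S.presheaf.stalk (f x)) :=
      IsLocalization.flat _ (hV.primeIdealOf ⟨f x, hxV⟩).asIdeal.primeCompl
    have h1 := TorDimHom.hasTorDimLE_trans (PerfMor.hasTorDimLE_zero_of_flat Γ(S, V) (S.presheaf.stalk (f x))) he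
    refine ⟨0 + e, (TorDim.hasTorDimLE_iff _ _).2 (((TorDim.hasTorDimLE_iff _ _).1 h1).of_iso ((sgl _ 0).mapIso ?_))⟩
    exact (((IsLocalization.algEquiv q.primeCompl (X.presheaf.stalk x) (Localization.AtPrime q)).restrictScalars
      Γ(S, V)).toLinearEquiv).toModuleIso

end Groth.Agent.H54.StalkPerf
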