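import Groth.Agent.H54.PCPresent
import Groth.Agent.S6935
import Groth.Agent.S6938
import Groth.Agent.S6939
import Groth.Agent.S6942
import Groth.Agent.S7000
import Groth.Prelude.Def_DerCA
import Groth.Prelude.Def_MoreMor
import Mathlib.RingTheory.AdjoinRoot
import Mathlib.RingTheory.FiniteType
import Mathlib.RingTheory.TensorProduct.MvPolynomial

/-!
# Pseudo-coherence relative to a base ring
-/

universe u

open CategoryTheory CategoryTheory.Limits CategoryTheory.Pretriangulated
open Groth.Agent.Lib.DR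
open Groth.Agent.Lib.DR.Basic Groth.Agent.Lib.DR.FiniteComplex Groth.Agent.Lib.DR.PseudoCoherent
open Groth.Agent.H54.PCRestrict Groth.Agent.H54.PCPresent
open scoped TensorProduct

attribute [local instance] HasDerivedCategory.standard

namespace Groth.Agent.H54.RelPC

variable {R A B : Type u} [CommRing R] [CommRing A] [CommRing B]

lemma pcn_comp_iff {P : Type u} [CommRing P] {f : P →+* A} (hf : PCRing f) (g : A →+* B) (K : Dual.D B)
    (m : ℤ) :
    PCn (ff P) m ((DRing.restrictD (g.comp f)).obj K) ↔ PCn (ff A) m ((DRing.restrictD g).obj K) := by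
  obtain ⟨e⟩ := restrictD_comp f g K
  exact ⟨fun h => pcn_of_res hf (h.of_iso e), fun h => (pcn_res hf h).of_iso e.symm⟩

section

variable [Algebra R A]

lemma via_iff {n : ℕ} (α : MvPolynomial (Fin n) R →ₐ[R] A) (m : ℤ) (K : Dual.D A) :
    DerCA.IsRelPseudoCoherentVia α m K ↔
      PCn (ff (MvPolynomial (Fin n) R)) m ((DRing.restrictD α.toRingHom).obj K) :=
  isPseudoCoherent_iff _ _

/-- Relative pseudo-coherence may be tested on any presentation. -/
theorem rel_iff {n : ℕ} (α : MvPolynomial (Fin n) R →ₐ[R] A) (hα : Function.Surjective α) (m : ℤ)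
    (K : Dual.D A) :
    DerCA.IsRelPseudoCoherent R A m K ↔
      PCn (ff (MvPolynomial (Fin n) R)) m ((DRing.restrictD α.toRingHom).obj K) := by
  refine ⟨fun ⟨k, β, hβ, h⟩ => pcn_indep β hβ α hα K m ((via_iff β m K).1 h),
    fun h => ⟨n, α, hα, (via_iff α m K).2 h⟩⟩

theorem relModule_iff {n : ℕ} (α : MvPolynomial (Fin n) R →ₐ[R] A) (hα : Function.Surjective α) (m : ℤ)
    (M : Type u) [AddCommGroup M] [Module A M] :
    DerCA.IsRelPseudoCoherentModule R A m M ↔
      PCn (ff (MvPolynomial (Fin n) R)) m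
        ((sgl _ 0).obj ((res α.toRingHom).obj (ModuleCat.of A M))) := by
  refine (rel_iff α hα m (Dual.inD A M)).trans ⟨fun h => h.of_iso ?_, fun h => h.of_iso ?_⟩
  · exact ExactPush.mapSingle (res α.toRingHom) (ModuleCat.of A M) 0
  · exact (ExactPush.mapSingle (res α.toRingHom) (ModuleCat.of A M) 0).symm

theorem hom_iff : MoreMor.IsPseudoCoherentHom R A ↔
    ∃ (n : ℕ) (φ : MvPolynomial (Fin n) R →ₐ[R] A), Function.Surjective φ ∧ PCRing φ.toRingHom := by
  refine exists_congr fun n => exists_congr fun φ => and_congr_right fun _ => ?_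
  let _ : Algebra (MvPolynomial (Fin n) R) A := φ.toRingHom.toAlgebra
  let e : ModuleCat.of (MvPolynomial (Fin n) R) A ≅ (res φ.toRingHom).obj (ModuleCat.of A A) :=
    (FlatBC.resEquiv (MvPolynomial (Fin n) R) A).symm.toModuleIso
  refine (Representative.isPseudoCoherent'_iff_forall _).trans
    ⟨fun h m => (h m).of_iso ((sgl _ 0).mapIso e), fun h m => (h m).of_iso ((sgl _ 0).mapIso e.symm)⟩

theorem hom_iff_of_surjective {n : ℕ} (α : MvPolynomial (Fin n) R →ₐ[R] A) (hα : Function.Surjective α) :
    MoreMor.IsPseudoCoherentHom R A ↔ PCRing α.toRingHom := by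
  refine ⟨fun h m => ?_, fun h => hom_iff.2 ⟨n, α, hα, h⟩⟩
  obtain ⟨k, φ, hφ, h⟩ := hom_iff.1 h
  exact (relModule_iff α hα m A).1 ((relModule_iff φ hφ m A).2 (h m))

theorem rel_iff_of_hom (h : MoreMor.IsPseudoCoherentHom R A) (m : ℤ) (K : Dual.D A) :
    DerCA.IsRelPseudoCoherent R A m K ↔ DRing.IsPseudoCoherent A m K := by
  obtain ⟨k, φ, hφ, h⟩ := hom_iff.1 h
  rw [rel_iff φ hφ, isPseudoCoherent_iff, pcn_res_iff h]

lemma finite_res_iff {P : Type u} [CommRing P] (φ : P →+* A) (hφ : Function.Surjective φ)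
    (M : ModuleCat.{u} A) : Module.Finite P ((res φ).obj M) ↔ Module.Finite A M := by
  refine ⟨finite_of_res φ M, fun _ => ?_⟩
  let _ : Algebra P A := φ.toAlgebra
  let _ : Module P M := Module.compHom M φ
  have : IsScalarTower P A M := IsScalarTower.of_algebraMap_smul fun _ _ => rfl
  have : Module.Finite P A := Module.Finite.of_surjective (Algebra.linearMap P A) hφ
  have : Module.Finite P M := Module.Finite.trans A M
  exact this

end

/-! ### Adjoining roots of monic polynomials -/

lemma pcRing_adjoinRoot_of {f : Polynomial A} (hf : f.Monic) : PCRing (AdjoinRoot.of f) := fun m => by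
  let e : (res (AdjoinRoot.of f)).obj (ModuleCat.of (AdjoinRoot f) (AdjoinRoot f)) ≅
      ModuleCat.of A (AdjoinRoot f) :=
    (FlatBC.resEquiv A (AdjoinRoot f)).toModuleIso
  have h1 : Module.Finite A (AdjoinRoot f) := (AdjoinRoot.powerBasis' hf).finite
  have h2 : Module.Free A (AdjoinRoot f) := .of_basis (AdjoinRoot.powerBasis' hf).basis
  exact ((bdd_single good_ff (P := ff A) (M := ModuleCat.of A (AdjoinRoot f))
    ⟨h1, h2⟩ 0).pcn m).of_iso ((sgl A 0).mapIso e.symm)

lemma pcRing_adjoinRoot_mk {f : Polynomial A} (hf : f.Monic) : PCRing (AdjoinRoot.mk f) := by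
  let N := (res (AdjoinRoot.mk f)).obj (ModuleCat.of (AdjoinRoot f) (AdjoinRoot f))
  let g : Polynomial A →ₗ[Polynomial A] N :=
    { toFun := fun p => (AdjoinRoot.mk f p : AdjoinRoot f)
      map_add' := fun p q => (show AdjoinRoot.mk f (p + q) = (AdjoinRoot.mk f p + AdjoinRoot.mk f q : AdjoinRoot f)
        from map_add _ _ _)
      map_smul' := fun c p => (show AdjoinRoot.mk f (c * p) = (AdjoinRoot.mk f c * AdjoinRoot.mk f p : AdjoinRoot f)
        from map_mul _ _ _) }
  let h : Polynomial A →ₗ[Polynomial A] Polynomial A := LinearMap.mulLeft (Polynomial A) f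
  let S := ShortComplex.moduleCatMk h g (LinearMap.ext fun p => by
    show AdjoinRoot.mk f (f * p) = (0 : AdjoinRoot f)
    simp)
  have hS : S.ShortExact :=
    { exact := by
        rw [ShortComplex.moduleCat_exact_iff]
        intro x hx
        obtain ⟨y, rfl⟩ := (AdjoinRoot.mk_eq_zero (f := f) (g := x)).1 hx
        exact ⟨y, rfl⟩
      mono_f := (ModuleCat.mono_iff_injective _).2 fun p q h => hf.isRegular.left h
      epi_g := (ModuleCat.epi_iff_surjective _).2 fun a => AdjoinRoot.mk_surjective a }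
  exact fun m => PCn.cone good_ff projective_of_ff _ hS.singleTriangle_distinguished
    (pcn_free_one _) (pcn_free_one m)

/-- Along an integral element, pseudo-coherence over `P` and over `P[T]` agree. -/
lemma pcn_poly_iff (φ : A →+* B) (t : B) (ht : φ.IsIntegralElem t) (K : Dual.D B) (m : ℤ) :
    PCn (ff A) m ((DRing.restrictD φ).obj K) ↔
      PCn (ff (Polynomial A)) m ((DRing.restrictD (Polynomial.eval₂RingHom φ t)).obj K) := by
  obtain ⟨f, hf, hft⟩ := ht
  let χ : AdjoinRoot f →+* B := AdjoinRoot.lift φ t hft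
  have h1 : χ.comp (AdjoinRoot.of f) = φ := RingHom.ext fun a => AdjoinRoot.lift_of hft
  have h2 : χ.comp (AdjoinRoot.mk f) = Polynomial.eval₂RingHom φ t :=
    Polynomial.ringHom_ext (fun a => by simp [χ]) (by simp [χ])
  rw [← h1, pcn_comp_iff (pcRing_adjoinRoot_of hf), h1, ← h2, pcn_comp_iff (pcRing_adjoinRoot_mk hf)]

lemma pcn_mv_iff : ∀ {k : ℕ} {A : Type u} [CommRing A] (φ : A →+* B) (t : Fin k → B)
    (_ : φ.IsIntegral) (K : Dual.D B) (m : ℤ),
    PCn (ff A) m ((DRing.restrictD φ).obj K) ↔
      PCn (ff (MvPolynomial (Fin k) A)) m ((DRing.restrictD (MvPolynomial.eval₂Hom φ t)).obj K) := by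
  intro k
  induction k with
  | zero =>
    intro A _ φ t _ K m
    have : MvPolynomial.eval₂Hom φ t = φ.comp (MvPolynomial.isEmptyRingEquiv A (Fin 0)).toRingHom := by
      refine MvPolynomial.ringHom_ext (fun r => ?_) (fun i => i.elim0)
      rw [RingHom.comp_apply, MvPolynomial.eval₂Hom_C]
      refine congrArg φ ?_
      rw [← MvPolynomial.isEmptyRingEquiv_symm_apply A (Fin 0) r]
      exact ((MvPolynomial.isEmptyRingEquiv A (Fin 0)).apply_symm_apply r).symm
    rw [this, pcn_comp_iff (pcRing_of_bijective _ (MvPolynomial.isEmptyRingEquiv A (Fin 0)).bijective)]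
  | succ k ih =>
    intro A _ φ t hφ K m
    let ψ := Polynomial.eval₂RingHom φ (t 0)
    have hψ : ψ.IsIntegral := by
      refine RingHom.IsIntegral.tower_top (f := (Polynomial.C : A →+* Polynomial A)) (g := ψ) ?_
      rwa [show ψ.comp Polynomial.C = φ from RingHom.ext fun a => by simp [ψ]]
    let ε : MvPolynomial (Fin (k + 1)) A →+* MvPolynomial (Fin k) (Polynomial A) :=
      MvPolynomial.eval₂Hom (MvPolynomial.C.comp Polynomial.C)
        (Fin.cases (MvPolynomial.C Polynomial.X) MvPolynomial.X)
    let εi : MvPolynomial (Fin k) (Polynomial A) →+* MvPolynomial (Fin (k + 1)) A :=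
      MvPolynomial.eval₂Hom (Polynomial.eval₂RingHom MvPolynomial.C (MvPolynomial.X 0))
        (fun i => MvPolynomial.X i.succ)
    have hε : Function.Bijective ε := by
      have e1 : εi.comp ε = RingHom.id _ := MvPolynomial.ringHom_ext (fun r => by simp [ε, εi])
        (fun i => by refine Fin.cases ?_ (fun j => ?_) i <;> simp [ε, εi])
      have e2 : ε.comp εi = RingHom.id _ := by
        refine MvPolynomial.ringHom_ext (fun r => ?_) (fun i => by simp [ε, εi])
        have : (ε.comp εi).comp MvPolynomial.C = MvPolynomial.C :=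
          Polynomial.ringHom_ext (fun a => by simp [ε, εi]) (by simp [ε, εi])
        exact RingHom.congr_fun this r
      exact ⟨Function.LeftInverse.injective (g := εi) (RingHom.congr_fun e1),
        Function.RightInverse.surjective (g := εi) (RingHom.congr_fun e2)⟩
    have : MvPolynomial.eval₂Hom φ t = (MvPolynomial.eval₂Hom ψ (t ∘ Fin.succ)).comp ε :=
      MvPolynomial.ringHom_ext (fun r => by simp [ε, ψ])
        (fun i => by refine Fin.cases ?_ (fun j => ?_) i <;> simp [ε, ψ])
    rw [this, pcn_comp_iff (pcRing_of_bijective _ hε), ← ih ψ (t ∘ Fin.succ) hψ K m]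
    exact pcn_poly_iff φ (t 0) (hφ _) K m

/-- Relative pseudo-coherence along a finite map. -/
theorem rel_finite_iff [Algebra R A] [Algebra A B] [Algebra R B] [IsScalarTower R A B]
    [Algebra.FiniteType R A] [Module.Finite A B] (K : Dual.D B) (m : ℤ) :
    DerCA.IsRelPseudoCoherent R B m K ↔
      DerCA.IsRelPseudoCoherent R A m ((DRing.restrictD (algebraMap A B)).obj K) := by
  classical
  obtain ⟨n, α, hα⟩ := Algebra.FiniteType.iff_quotient_mvPolynomial''.mp ‹Algebra.FiniteType R A›
  obtain ⟨k, t, ht⟩ := Submodule.fg_iff_exists_fin_generating_family.mp (Module.Finite.fg_top (R := A) (M := B))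
  let φ : MvPolynomial (Fin n) R →+* B := (algebraMap A B).comp α.toRingHom
  have hφ : φ.IsIntegral :=
    RingHom.IsIntegral.trans _ _ (RingHom.isIntegral_of_surjective α.toRingHom hα)
      (algebraMap_isIntegral_iff.mpr inferInstance)
  let β : MvPolynomial (Fin (n + k)) R →ₐ[R] B :=
    MvPolynomial.aeval (Fin.addCases (fun i => algebraMap A B (α (MvPolynomial.X i))) t)
  let γ : MvPolynomial (Fin k) (MvPolynomial (Fin n) R) →+* B := MvPolynomial.eval₂Hom φ t
  let ε : MvPolynomial (Fin (n + k)) R →+* MvPolynomial (Fin k) (MvPolynomial (Fin n) R) :=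
    (MvPolynomial.sumRingEquiv R (Fin k) (Fin n)).toRingHom.comp
      (MvPolynomial.renameEquiv R (finSumFinEquiv.symm.trans (Equiv.sumComm (Fin n) (Fin k)))).toRingEquiv.toRingHom
  have hε : Function.Bijective ε :=
    (MvPolynomial.sumRingEquiv R (Fin k) (Fin n)).bijective.comp
      (MvPolynomial.renameEquiv R (finSumFinEquiv.symm.trans (Equiv.sumComm (Fin n) (Fin k)))).bijective
  have hβ' : β.toRingHom = γ.comp ε := by
    refine MvPolynomial.ringHom_ext (fun r => ?_) (fun i => ?_)
    · simp [β, γ, ε, φ, ← IsScalarTower.algebraMap_apply]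
    · refine Fin.addCases (fun i => ?_) (fun i => ?_) i <;> simp [β, γ, ε, φ]
  have hβ : Function.Surjective β := by
    intro b
    suffices b ∈ β.range from this
    have hb : b ∈ Submodule.span A (Set.range t) := ht ▸ Submodule.mem_top
    induction hb using Submodule.span_induction with
    | mem x hx =>
      obtain ⟨i, rfl⟩ := hx
      exact ⟨MvPolynomial.X (Fin.natAdd n i), by simp [β]⟩
    | zero => exact zero_mem _
    | add x y _ _ hx hy => exact add_mem hx hy
    | smul a x _ hx =>
      obtain ⟨p, rfl⟩ := hα a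
      rw [Algebra.smul_def]
      refine mul_mem ?_ hx
      refine ⟨MvPolynomial.rename (Fin.castAdd k) p, ?_⟩
      have : β.comp (MvPolynomial.rename (Fin.castAdd k)) = (IsScalarTower.toAlgHom R A B).comp α :=
        MvPolynomial.algHom_ext fun i => by simp [β]
      exact AlgHom.congr_fun this p
  rw [rel_iff β hβ, rel_iff α hα, hβ', pcn_comp_iff (pcRing_of_bijective _ hε),
    ← pcn_mv_iff φ t hφ K m]
  obtain ⟨e⟩ := restrictD_comp α.toRingHom (algebraMap A B) K
  exact ⟨fun h => h.of_iso e, fun h => h.of_iso e.symm⟩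

/-! ### Change of the base along a pseudo-coherent ring -/

theorem pcRing_map {P : Type u} [CommRing P] {α : P →+* A} (hα : PCRing α) (k : ℕ) :
    PCRing (MvPolynomial.map α : MvPolynomial (Fin k) P →+* MvPolynomial (Fin k) A) := by
  let _ : Algebra P A := α.toAlgebra
  intro m
  have h : DRing.IsPseudoCoherentModule P m A := (isPseudoCoherent_iff _ _).2
    ((hα m).of_iso ((sgl P 0).mapIso (FlatBC.resEquiv P A).toModuleIso))
  have h' := (isPseudoCoherent_iff _ _).1
    ((Groth.Agent.S7000.result (B := MvPolynomial (Fin k) P) m A).1 h)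
  let e₀ : MvPolynomial (Fin k) P ⊗[P] A ≃+ MvPolynomial (Fin k) A :=
    (TensorProduct.comm P _ _).toAddEquiv.trans (MvPolynomial.algebraTensorAlgEquiv P A).toAddEquiv
  have he : ∀ (q : MvPolynomial (Fin k) P) (x : MvPolynomial (Fin k) P ⊗[P] A),
      e₀ (q • x) = MvPolynomial.map α q * e₀ x := by
    intro q x
    induction x using TensorProduct.induction_on with
    | zero => simp
    | add x y hx hy => rw [smul_add, map_add, map_add, hx, hy, mul_add]
    | tmul p a => simp [e₀, TensorProduct.smul_tmul', RingHom.algebraMap_toAlgebra]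
  let e : MvPolynomial (Fin k) P ⊗[P] A ≃ₗ[MvPolynomial (Fin k) P]
      (res (MvPolynomial.map α)).obj (ModuleCat.of (MvPolynomial (Fin k) A) (MvPolynomial (Fin k) A)) :=
    { toFun := fun x => (e₀ x : MvPolynomial (Fin k) A)
      invFun := fun y => e₀.symm (y : MvPolynomial (Fin k) A)
      left_inv := e₀.symm_apply_apply
      right_inv := e₀.apply_symm_apply
      map_add' := fun x y => map_add e₀ x y
      map_smul' := fun q x => he q x }
  exact h'.of_iso ((sgl _ 0).mapIso e.toModuleIso)

/-- Change of base along `R → A` with `A` pseudo-coherent relative to `R`. -/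
theorem rel_base_iff [Algebra R A] [Algebra A B] [Algebra R B] [IsScalarTower R A B]
    [Algebra.FiniteType A B] (hA : MoreMor.IsPseudoCoherentHom R A) (K : Dual.D B) (m : ℤ) :
    DerCA.IsRelPseudoCoherent A B m K ↔ DerCA.IsRelPseudoCoherent R B m K := by
  obtain ⟨n, α, hα, hα'⟩ := hom_iff.1 hA
  obtain ⟨k, β, hβ⟩ := Algebra.FiniteType.iff_quotient_mvPolynomial''.mp ‹Algebra.FiniteType A B›
  let γ : MvPolynomial (Fin (n + k)) R →ₐ[R] B :=
    MvPolynomial.aeval (Fin.addCases (fun i => algebraMap A B (α (MvPolynomial.X i))) fun j => β (MvPolynomial.X j))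
  let ε : MvPolynomial (Fin (n + k)) R →+* MvPolynomial (Fin k) (MvPolynomial (Fin n) R) :=
    (MvPolynomial.sumRingEquiv R (Fin k) (Fin n)).toRingHom.comp
      (MvPolynomial.renameEquiv R (finSumFinEquiv.symm.trans (Equiv.sumComm (Fin n) (Fin k)))).toRingEquiv.toRingHom
  have hε : Function.Bijective ε :=
    (MvPolynomial.sumRingEquiv R (Fin k) (Fin n)).bijective.comp
      (MvPolynomial.renameEquiv R (finSumFinEquiv.symm.trans (Equiv.sumComm (Fin n) (Fin k)))).bijective
  have hγ' : γ.toRingHom = (β.toRingHom.comp (MvPolynomial.map α.toRingHom)).comp ε := by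
    refine MvPolynomial.ringHom_ext (fun r => ?_) (fun i => ?_)
    · simp [γ, ε, ← IsScalarTower.algebraMap_apply]
    · refine Fin.addCases (fun i => ?_) (fun i => ?_) i <;> simp [γ, ε]
  have hγ : Function.Surjective γ := by
    have : Function.Surjective γ.toRingHom := by
      rw [hγ']
      exact (hβ.comp (MvPolynomial.map_surjective _ hα)).comp hε.2
    exact this
  rw [rel_iff β hβ, rel_iff γ hγ, hγ', pcn_comp_iff (pcRing_of_bijective _ hε),
    pcn_comp_iff (pcRing_map hα' k)]

end Groth.Agent.H54.RelPC
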