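import Groth.Agent.H54.RelPC

/-!
# Applications of relative pseudo-coherence
-/

universe u

open CategoryTheory CategoryTheory.Limits CategoryTheory.Pretriangulated
open Groth.Agent.Lib.DR
open Groth.Agent.Lib.DR.Basic Groth.Agent.Lib.DR.FiniteComplex Groth.Agent.Lib.DR.PseudoCoherent
open Groth.Agent.H54.PCRestrict Groth.Agent.H54.PCPresent Groth.Agent.H54.RelPC

attribute [local instance] HasDerivedCategory.standard

namespace Groth.Agent.H54.RelPCApp

variable {R A : Type u} [CommRing R] [CommRing A] [Algebra R A]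

theorem exists_pres (h : Algebra.FiniteType R A) :
    ∃ (n : ℕ) (α : MvPolynomial (Fin n) R →ₐ[R] A), Function.Surjective α :=
  Algebra.FiniteType.iff_quotient_mvPolynomial''.mp h

variable {n : ℕ} (α : MvPolynomial (Fin n) R →ₐ[R] A) (hα : Function.Surjective α)
include hα

theorem distTri (m : ℤ) (T : Triangle (Dual.D A)) (hT : T ∈ distinguishedTriangles) :
    (DerCA.IsRelPseudoCoherent R A (m + 1) T.obj₁ → DerCA.IsRelPseudoCoherent R A m T.obj₂ →
        DerCA.IsRelPseudoCoherent R A m T.obj₃) ∧
      (DerCA.IsRelPseudoCoherent R A m T.obj₁ → DerCA.IsRelPseudoCoherent R A m T.obj₃ →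
        DerCA.IsRelPseudoCoherent R A m T.obj₂) ∧
      (DerCA.IsRelPseudoCoherent R A (m + 1) T.obj₂ → DerCA.IsRelPseudoCoherent R A m T.obj₃ →
        DerCA.IsRelPseudoCoherent R A (m + 1) T.obj₁) := by
  simp only [rel_iff α hα]
  have h := (DRing.restrictD α.toRingHom).map_distinguished _ hT
  exact ⟨fun h1 h2 => PCn.cone good_ff projective_of_ff _ h h1 h2,
    fun h1 h2 => PCn.ext good_ff projective_of_ff _ h h1 h2,
    fun h1 h2 => PCn.fiber good_ff projective_of_ff _ h h1 (by rw [add_sub_cancel_right]; exact h2)⟩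

theorem biprod_summands (m : ℤ) (K L : Dual.D A) [HasBinaryBiproduct K L]
    (h : DerCA.IsRelPseudoCoherent R A m (K ⊞ L)) :
    DerCA.IsRelPseudoCoherent R A m K ∧ DerCA.IsRelPseudoCoherent R A m L := by
  simp only [rel_iff α hα] at h ⊢
  have : PreservesBinaryBiproduct K L (DRing.restrictD α.toRingHom) :=
    preservesBinaryBiproduct_of_preservesBiproduct _ _ _
  exact PCn.biprod_summands good_ff projective_of_ff (h.of_iso (Functor.mapBiprod _ _ _))

theorem relModule_zero_iff (M : Type u) [AddCommGroup M] [Module A M] :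
    (DerCA.IsRelPseudoCoherentModule R A 0 M ↔ Module.Finite A M) ∧
      (DerCA.IsRelPseudoCoherentModule R A (-1) M ↔
        @Module.FinitePresentation (MvPolynomial (Fin n) R) M _ _ (Module.compHom M α.toRingHom)) := by
  let N : ModuleCat.{u} (MvPolynomial (Fin n) R) := (res α.toRingHom).obj (ModuleCat.of A M)
  have h := Groth.Agent.S6935.result (MvPolynomial (Fin n) R) N
  simp only [DRing.IsPseudoCoherentModule, isPseudoCoherent_iff] at h
  rw [relModule_iff α hα, relModule_iff α hα]
  exact ⟨h.1.trans (finite_res_iff α.toRingHom hα (ModuleCat.of A M)), h.2⟩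

theorem of_homology (m : ℤ) (K : Dual.D A) (hb : ∃ b : ℤ, ∀ i : ℤ, b < i → Subsingleton (Dual.HD A K i))
    (h : ∀ i : ℤ, DerCA.IsRelPseudoCoherentModule R A (m - i) (Dual.HD A K i)) :
    DerCA.IsRelPseudoCoherent R A m K := by
  obtain ⟨b, hb⟩ := hb
  refine (rel_iff α hα m K).2 ((isPseudoCoherent_iff _ _).1
    ((Groth.Agent.S6939.result _ m _ ⟨b, fun i hi => ?_⟩).1 fun i => ?_))
  · obtain ⟨e⟩ := homology_res α.toRingHom K i
    have := hb i hi
    exact @Equiv.subsingleton _ _ e.toLinearEquiv.toEquiv this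
  · obtain ⟨e⟩ := homology_res α.toRingHom K i
    exact (isPseudoCoherent_iff _ _).2 (((relModule_iff α hα _ _).1 (h i)).of_iso ((sgl _ 0).mapIso e.symm))

theorem of_termwise (m : ℤ) (K : DRing.Cx A) (b : ℤ) (hb : DRing.VanishesAbove K b)
    (h : ∀ i : ℤ, DerCA.IsRelPseudoCoherentModule R A (m - i) (K.X i)) :
    DerCA.IsRelPseudoCoherent R A m (DRing.toD K) := by
  refine (rel_iff α hα m _).2 (((isPseudoCoherent_iff _ _).1
    ((Groth.Agent.S6938.result _ m (((res α.toRingHom).mapHomologicalComplex _).obj K) b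
      fun i hi => (res α.toRingHom).map_isZero (hb i hi)).1 fun i => ?_)).of_iso
    (ExactPush.mapQ (res α.toRingHom) K).symm)
  exact (isPseudoCoherent_iff _ _).2 ((relModule_iff α hα (m - i) (K.X i)).1 (h i))

theorem noetherian [IsNoetherianRing R] (m : ℤ) (K : Dual.D A) :
    DerCA.IsRelPseudoCoherent R A m K ↔
      (∃ b : ℤ, ∀ i : ℤ, b < i → Subsingleton (Dual.HD A K i)) ∧
        ∀ i : ℤ, m ≤ i → Module.Finite A (Dual.HD A K i) := by
  have h := (Groth.Agent.S6942.result (MvPolynomial (Fin n) R) m ((DRing.restrictD α.toRingHom).obj K)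
    (MvPolynomial (Fin n) R)).1
  rw [isPseudoCoherent_iff] at h
  rw [rel_iff α hα, h]
  refine and_congr (exists_congr fun b => forall_congr' fun i => imp_congr_right fun _ => ?_)
    (forall_congr' fun i => imp_congr_right fun _ => ?_)
  · obtain ⟨e⟩ := homology_res α.toRingHom K i
    exact e.toLinearEquiv.toEquiv.subsingleton_congr
  · obtain ⟨e⟩ := homology_res α.toRingHom K i
    exact (Module.Finite.equiv_iff e.toLinearEquiv).trans (finite_res_iff α.toRingHom hα _)

end Groth.Agent.H54.RelPCApp

namespace Groth.Agent.H54.RelPCApp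

variable {R A B : Type u} [CommRing R] [CommRing A] [CommRing B] [Algebra R A] [Algebra A B]
  [Algebra R B] [IsScalarTower R A B] [Algebra.FiniteType R A] [Module.Finite A B]

/-- Restriction of scalars of a module in a scalar tower. -/
def resTowerEquiv (M : Type u) [AddCommGroup M] [Module B M] [Module A M] [IsScalarTower A B M] :
    ((res (algebraMap A B)).obj (ModuleCat.of B M) : Type u) ≃ₗ[A] M where
  toFun x := x
  invFun x := x
  left_inv _ := rfl
  right_inv _ := rfl
  map_add' _ _ := rfl
  map_smul' r x := algebraMap_smul B r (show M from x)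

theorem fp_finite_iff (M : Type u) [AddCommGroup M] [Module B M] [Module A M] [IsScalarTower A B M] {n k : ℕ}
    (α : MvPolynomial (Fin n) R →ₐ[R] A) (hα : Function.Surjective α)
    (β : MvPolynomial (Fin k) R →ₐ[R] B) (hβ : Function.Surjective β) :
    @Module.FinitePresentation (MvPolynomial (Fin n) R) M _ _ (Module.compHom M α.toRingHom) ↔
      @Module.FinitePresentation (MvPolynomial (Fin k) R) M _ _ (Module.compHom M β.toRingHom) := by
  refine (relModule_zero_iff α hα M).2.symm.trans (Iff.trans ?_ (relModule_zero_iff β hβ M).2)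
  refine Iff.trans ?_ (rel_finite_iff (A := A) (Dual.inD B M) (-1)).symm
  let e' := ExactPush.mapSingle (res (algebraMap A B)) (ModuleCat.of B M) 0 ≪≫
    (sgl A 0).mapIso (resTowerEquiv (A := A) (B := B) M).toModuleIso
  simp only [DerCA.IsRelPseudoCoherentModule, rel_iff α hα]
  exact ⟨fun h => h.of_iso ((DRing.restrictD α.toRingHom).mapIso e'.symm),
    fun h => h.of_iso ((DRing.restrictD α.toRingHom).mapIso e')⟩

end Groth.Agent.H54.RelPCApp
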