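import Groth.Agent.H54.SmoothDiag
import Groth.Agent.Lib.Flat55.RegularImm
import Groth.Agent.Lib.Ideal.Comap
import Mathlib.AlgebraicGeometry.Morphisms.Smooth
import Mathlib.RingTheory.Localization.Away.Basic

/-!
# The diagonal of a smooth morphism is a regular immersion
-/

universe u

open AlgebraicGeometry CategoryTheory Limits TopologicalSpace RingTheory.Sequence

namespace Groth.Agent.H54.SmoothDiagScheme

/-- Transport of a weakly regular sequence along a ring isomorphism. -/
lemma isWeaklyRegular_equiv {R S : Type u} [CommRing R] [CommRing S] (e : R ≃+* S) (rs : List R)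
    (h : IsWeaklyRegular R rs) : IsWeaklyRegular S (rs.map e) := by
  let := (e : R →+* S).toAlgebra
  have : Module.Flat R S :=
    Module.Flat.of_linearEquiv (LinearEquiv.ofBijective (Algebra.linearMap R S) e.bijective).symm
  exact h.of_flat (S := S)

/-- A regular sequence on an affine chart of a closed immersion. -/
lemma exists_regular_of_chart {Z P : Scheme.{u}} (i : Z ⟶ P) [IsClosedImmersion i] {E C : CommRingCat.{u}}
    (φ : E ⟶ C) (hφ : Function.Surjective φ.hom) (j : Spec E ⟶ P) [IsOpenImmersion j] (k : Spec C ⟶ Z)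
    (h : IsPullback k (Spec.map φ) i j) (rs : List E) (hreg : IsWeaklyRegular E rs)
    (hker : RingHom.ker φ.hom = Ideal.ofList rs) :
    ∃ (hV : IsAffineOpen j.opensRange) (rs' : List Γ(P, j.opensRange)),
      IsWeaklyRegular Γ(P, j.opensRange) rs' ∧
        i.ker.ideal ⟨j.opensRange, hV⟩ = Ideal.ofList rs' := by
  have hV : IsAffineOpen j.opensRange := isAffineOpen_opensRange j
  refine ⟨hV, ?_⟩
  have e : (⊤ : (Spec E).Opens) ≤ j ⁻¹ᵁ j.opensRange := fun x _ => ⟨x, rfl⟩
  let θ₁ := j.appLE j.opensRange ⊤ e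
  have : IsIso θ₁ := by
    have h1 : IsIso (j.app j.opensRange) := by
      refine Scheme.Hom.isIso_app j _ le_rfl
    have h2 : IsIso ((Spec E).presheaf.map (homOfLE e).op) := by
      have : j ⁻¹ᵁ j.opensRange = ⊤ := top_le_iff.mp e
      have := eqToIso this.symm
      rw [show (homOfLE e).op = (eqToHom (top_le_iff.mp e).symm).op from Subsingleton.elim _ _]
      infer_instance
    exact inferInstanceAs (IsIso (j.app _ ≫ (Spec E).presheaf.map _))
  let θ : Γ(P, j.opensRange) ≃+* E := (asIso θ₁ ≪≫ Scheme.ΓSpecIso E).commRingCatIsoToRingEquiv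
  refine ⟨rs.map θ.symm, isWeaklyRegular_equiv θ.symm rs hreg, ?_⟩
  have : IsClosedImmersion (Spec.map φ) := IsClosedImmersion.spec_of_surjective φ hφ
  have h1 : (Spec.map φ).ker.ideal ⟨⊤, isAffineOpen_top _⟩ =
      Ideal.map θ₁.hom (i.ker.ideal ⟨j.opensRange, hV⟩) := by
    rw [← h.isoPullback_hom_snd, Scheme.Hom.ker_comp_of_isIso, ← pullbackSymmetry_hom_comp_fst,
      Scheme.Hom.ker_comp_of_isIso, Scheme.IdealSheafData.ker_fst_of_isClosedImmersion,
      Lib.Ideal.Comap.ideal_comap j i.ker ⟨j.opensRange, hV⟩ ⟨⊤, isAffineOpen_top _⟩ e]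
  have h2 : Ideal.map (Scheme.ΓSpecIso E).hom.hom
      ((Spec.map φ).ker.ideal ⟨⊤, isAffineOpen_top _⟩) = Ideal.ofList rs := by
    rw [Scheme.Hom.ker_apply, ← hker]
    have hnat : (Spec.map φ).appTop ≫ (Scheme.ΓSpecIso C).hom = (Scheme.ΓSpecIso E).hom ≫ φ :=
      Scheme.ΓSpecIso_naturality φ
    refine le_antisymm (Ideal.map_le_iff_le_comap.2 fun z hz => ?_) fun z hz => ?_
    · rw [Ideal.mem_comap, RingHom.mem_ker, ← ConcreteCategory.comp_apply, ← hnat,
        ConcreteCategory.comp_apply]
      rw [RingHom.mem_ker] at hz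
      exact (congrArg (Scheme.ΓSpecIso C).hom.hom hz).trans (map_zero _)
    · rw [Ideal.mem_map_iff_of_surjective (Scheme.ΓSpecIso E).hom.hom (Scheme.ΓSpecIso E).commRingCatIsoToRingEquiv.surjective]
      refine ⟨(Scheme.ΓSpecIso E).inv.hom z, ?_, ?_⟩
      · rw [RingHom.mem_ker] at hz ⊢
        apply (Scheme.ΓSpecIso C).commRingCatIsoToRingEquiv.injective
        refine Eq.trans ?_ (map_zero _).symm
        exact ((DFunLike.congr_fun (congrArg CommRingCat.Hom.hom hnat)
          ((Scheme.ΓSpecIso E).inv.hom z)).trans (congrArg φ.hom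
            ((Scheme.ΓSpecIso E).commRingCatIsoToRingEquiv.apply_symm_apply z))).trans hz
      · exact (Scheme.ΓSpecIso E).commRingCatIsoToRingEquiv.apply_symm_apply z
  have h3 : Ideal.map (θ : Γ(P, j.opensRange) →+* E) (i.ker.ideal ⟨j.opensRange, hV⟩) =
      Ideal.ofList rs := by
    rw [← h2, h1, Ideal.map_map]
    rfl
  show _ = Ideal.ofList (rs.map (θ.symm : E →+* Γ(P, j.opensRange)))
  rw [← Ideal.map_ofList (θ.symm : E →+* Γ(P, j.opensRange)), ← h3, Ideal.map_map]
  simp [Ideal.map_id]

/-- **The diagonal of a separated smooth morphism is a regular closed immersion.** -/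
theorem isRegularClosedImmersion_diagonal {X Y : Scheme.{u}} (f : X ⟶ Y) [IsSeparated f] [Smooth f] :
    Mor2.IsRegularClosedImmersion (pullback.diagonal f) := by
  refine Lib.Flat55.RegularImm.isRegularClosedImmersion_of _ fun x => ?_
  obtain ⟨V, hV, U, hU, hxU, e, hstd⟩ := Smooth.exists_isStandardSmooth f x
  let A : Type u := Γ(Y, V)
  let B : Type u := Γ(X, U)
  let : Algebra A B := (f.appLE V U e).hom.toAlgebra
  have : Algebra.IsStandardSmooth A B := hstd
  obtain ⟨g, rs, hreg, hg1, hle, hgJ⟩ := SmoothDiag.exists_diag A B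
  let E := TensorProduct A B B
  let μ : E →+* B := (Algebra.TensorProduct.lmul' A (S := B)).toRingHom
  have hJ : ∀ z, z ∈ KaehlerDifferential.ideal A B ↔ μ z = 0 := fun z => RingHom.mem_ker
  have hμg : μ g = 1 := by
    have := (hJ _).mp hg1
    rwa [map_sub, map_one, sub_eq_zero] at this
  let Eg := Localization.Away g
  let μ' : Eg →+* B := IsLocalization.Away.lift g (g := μ) (by rw [hμg]; exact isUnit_one)
  have hμ' : μ'.comp (algebraMap E Eg) = μ := IsLocalization.Away.lift_comp g _
  have hsurj : Function.Surjective μ' := fun b => by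
    refine ⟨algebraMap E Eg (b ⊗ₜ 1), ?_⟩
    rw [← RingHom.comp_apply, hμ']
    exact mul_one b
  have hker : RingHom.ker μ' = Ideal.ofList (rs.map (algebraMap E Eg)) := by
    rw [← Ideal.map_ofList]
    refine le_antisymm (fun z hz => ?_) ?_
    · obtain ⟨⟨y, s⟩, hys⟩ := IsLocalization.surj (Submonoid.powers g) z
      have hy : y ∈ KaehlerDifferential.ideal A B := by
        rw [hJ, ← hμ', RingHom.comp_apply, ← hys, map_mul, (RingHom.mem_ker.mp hz), zero_mul]
      have h1 : algebraMap E Eg g * (z * algebraMap E Eg s) ∈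
          Ideal.map (algebraMap E Eg) (Ideal.ofList rs) := by
        rw [hys, ← map_mul]
        exact Ideal.mem_map_of_mem _ (hgJ y hy)
      rw [Ideal.unit_mul_mem_iff_mem _ (IsLocalization.Away.algebraMap_isUnit g),
        Ideal.mul_unit_mem_iff_mem _ (IsLocalization.map_units Eg s)] at h1
      exact h1
    · rw [Ideal.map_le_iff_le_comap]
      intro y hy
      rw [Ideal.mem_comap, RingHom.mem_ker, ← RingHom.comp_apply, hμ']
      exact (hJ y).mp (hle hy)
  have hreg' : IsWeaklyRegular Eg (rs.map (algebraMap E Eg)) :=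
    haveI : Module.Flat E Eg := IsLocalization.flat Eg (Submonoid.powers g)
    hreg.of_flat (S := Eg)
  let iU : Spec (CommRingCat.of B) ⟶ X := hU.fromSpec
  have hsq : Spec.map (CommRingCat.ofHom (algebraMap A B)) ≫ hV.fromSpec = iU ≫ f :=
    IsAffineOpen.SpecMap_appLE_fromSpec f hV hU e
  let m := pullback.map (Spec.map (CommRingCat.ofHom (algebraMap A B)))
    (Spec.map (CommRingCat.ofHom (algebraMap A B))) f f iU iU hV.fromSpec hsq hsq
  let j : Spec (CommRingCat.of Eg) ⟶ pullback f f :=
    Spec.map (CommRingCat.ofHom (algebraMap E Eg)) ≫ (pullbackSpecIso A B B).inv ≫ m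
  have : IsOpenImmersion (Spec.map (CommRingCat.ofHom (algebraMap E Eg))) :=
    IsOpenImmersion.of_isLocalization g
  have hjfst : j ≫ pullback.fst f f = Spec.map (CommRingCat.ofHom
      ((algebraMap E Eg).comp Algebra.TensorProduct.includeLeftRingHom)) ≫ iU := by
    simp only [j, m, Category.assoc, pullback.map, pullback.lift_fst]
    rw [pullbackSpecIso_inv_fst_assoc, ← Spec.map_comp_assoc]
    rfl
  have hjsnd : j ≫ pullback.snd f f = Spec.map (CommRingCat.ofHom
      ((algebraMap E Eg).comp (Algebra.TensorProduct.includeRight (R := A) (A := B) (B := B)).toRingHom)) ≫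
        iU := by
    simp only [j, m, Category.assoc, pullback.map, pullback.lift_snd]
    rw [pullbackSpecIso_inv_snd_assoc, ← Spec.map_comp_assoc]
    rfl
  have hH : iU ≫ pullback.diagonal f = Spec.map (CommRingCat.ofHom μ') ≫ j := by
    have e1 : μ'.comp ((algebraMap E Eg).comp Algebra.TensorProduct.includeLeftRingHom) =
        RingHom.id B := by
      rw [← RingHom.comp_assoc, hμ']; exact RingHom.ext fun b => mul_one b
    have e2 : μ'.comp ((algebraMap E Eg).comp
        (Algebra.TensorProduct.includeRight (R := A) (A := B) (B := B)).toRingHom) = RingHom.id B := by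
      rw [← RingHom.comp_assoc, hμ']; exact RingHom.ext fun b => one_mul b
    apply pullback.hom_ext
    · rw [Category.assoc, pullback.diagonal_fst, Category.comp_id, Category.assoc, hjfst,
        ← Spec.map_comp_assoc, ← CommRingCat.ofHom_comp, e1, CommRingCat.ofHom_id, Spec.map_id,
        Category.id_comp]
    · rw [Category.assoc, pullback.diagonal_snd, Category.comp_id, Category.assoc, hjsnd,
        ← Spec.map_comp_assoc, ← CommRingCat.ofHom_comp, e2, CommRingCat.ofHom_id, Spec.map_id,
        Category.id_comp]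
  have hH' : pullback.diagonal f ⁻¹ᵁ j.opensRange = iU.opensRange := by
    ext y
    simp only [Scheme.Hom.coe_preimage, Scheme.Hom.coe_opensRange, Set.mem_preimage, Set.mem_range]
    constructor
    · rintro ⟨z, hz⟩
      refine ⟨Spec.map (CommRingCat.ofHom
        ((algebraMap E Eg).comp Algebra.TensorProduct.includeLeftRingHom)) z, ?_⟩
      rw [← Scheme.Hom.comp_apply, ← hjfst, Scheme.Hom.comp_apply, hz, ← Scheme.Hom.comp_apply,
        pullback.diagonal_fst]
      rfl
    · rintro ⟨z, rfl⟩
      exact ⟨Spec.map (CommRingCat.ofHom μ') z, (congrArg (fun m => m z) hH).symm⟩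
  have hpb := (IsOpenImmersion.isPullback (Spec.map (CommRingCat.ofHom μ')) iU j (pullback.diagonal f)
    hH hH').flip
  obtain ⟨hW, rs', h1, h2⟩ := exists_regular_of_chart (pullback.diagonal f) (CommRingCat.ofHom μ')
    hsurj j iU hpb (rs.map (algebraMap E Eg)) hreg' hker
  refine ⟨j.opensRange, hW, ?_, rs', h1, h2⟩
  obtain ⟨z, hz⟩ : x ∈ Set.range iU := by
    rw [IsAffineOpen.range_fromSpec]; exact hxU
  exact ⟨Spec.map (CommRingCat.ofHom μ') z, by rw [← hz]; exact (congrArg (fun m => m z) hH).symm⟩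

end Groth.Agent.H54.SmoothDiagScheme
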