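import Groth.Agent.H54.ChevH1
import Groth.Agent.H75.RedSub
import Groth.Agent.Lib.Lim.AffineUnion
import Groth.Agent.Lib.Lim.Thickening
import Mathlib.AlgebraicGeometry.Noetherian

/-!
# Chevalley's theorem for Noetherian schemes

A Noetherian scheme receiving a finite surjection from an affine scheme is affine.
-/

set_option autoImplicit false
set_option linter.style.haveILetI false
universe u

open CategoryTheory CategoryTheory.Limits AlgebraicGeometry TopologicalSpace

namespace Groth.Agent.H54.ChevNoeth

open Groth.Agent.Lib

variable {X Y : Scheme.{u}}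

lemma isReduced_subscheme (T : Closeds X) :
    IsReduced (Scheme.IdealSheafData.vanishingIdeal T).subscheme :=
  H75.RedSub.isReduced_vanishingIdeal _

lemma range_subschemeι_vanishing (T : Closeds X) :
    Set.range (Scheme.IdealSheafData.vanishingIdeal T).subschemeι = (T : Set X) := by
  rw [Scheme.IdealSheafData.range_subschemeι, Scheme.IdealSheafData.coe_support_vanishingIdeal]

/-- The integral step. -/
theorem isAffine_of_isIntegral [IsIntegral X] [IsNoetherian X] [IsAffine Y] (f : Y ⟶ X)
    [IsFinite f] [Surjective f]
    (hprop : ∀ (Z : Scheme.{u}) (i : Z ⟶ X), IsClosedImmersion i → Set.range i ≠ Set.univ → IsAffine Z) :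
    IsAffine X := by
  obtain ⟨y₀, hy₀⟩ := f.surjective (genericPoint X)
  let T : Closeds Y := ⟨closure {y₀}, isClosed_closure⟩
  let W := (Scheme.IdealSheafData.vanishingIdeal T).subscheme
  let w : W ⟶ Y := (Scheme.IdealSheafData.vanishingIdeal T).subschemeι
  have hr : Set.range w = closure {y₀} := range_subschemeι_vanishing T
  haveI : IrreducibleSpace W := by
    haveI : IrreducibleSpace (closure {y₀} : Set Y) :=
      Subtype.irreducibleSpace isIrreducible_singleton.closure
    let e : W ≃ₜ (closure {y₀} : Set Y) :=
      w.isClosedEmbedding.isEmbedding.toHomeomorph.trans (Homeomorph.setCongr hr)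
    haveI : PreirreducibleSpace W :=
      ⟨by rw [← Set.image_univ_of_surjective e.symm.surjective]
          exact (PreirreducibleSpace.isPreirreducible_univ).image _ e.symm.continuous.continuousOn⟩
    haveI : Nonempty W := ⟨e.symm ⟨y₀, subset_closure rfl⟩⟩
    exact ⟨inferInstance⟩
  haveI : IsReduced W := isReduced_subscheme T
  haveI : IsIntegral W := isIntegral_of_irreducibleSpace_of_isReduced W
  haveI : IsAffine W := isAffine_of_isAffineHom w
  haveI : Surjective (w ≫ f) := by
    refine ⟨Set.range_eq_univ.mp (Set.univ_subset_iff.mp ?_)⟩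
    rw [← (genericPoint_spec X).def]
    refine (w ≫ f).isClosedMap.isClosed_range.closure_subset_iff.mpr ?_
    rintro _ rfl
    obtain ⟨z, hz⟩ : y₀ ∈ Set.range w := hr ▸ subset_closure rfl
    exact ⟨z, (congrArg f hz).trans hy₀⟩
  exact ZarCoh.SerreAff.isAffine_of_h1 fun I i hi hI =>
    @ChevH1.h1_ideal X W _ _ _ _ (w ≫ f) _ _ hprop I i hi hI

/-- The inductive statement: closed subschemes inside a closed subset are affine. -/
theorem isAffine_of_range_subset [IsNoetherian X] [IsAffine Y] (f : Y ⟶ X) [IsFinite f]
    [Surjective f] (T : Closeds X) : ∀ (Z : Scheme.{u}) (i : Z ⟶ X),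
      IsClosedImmersion i → Set.range i ⊆ T → IsAffine Z := by
  induction T using WellFoundedLT.induction with
  | ind T ih =>
    intro Z i hi hrange
    let R := (Scheme.IdealSheafData.vanishingIdeal (⊤ : Closeds Z)).subscheme
    let r : R ⟶ Z := (Scheme.IdealSheafData.vanishingIdeal (⊤ : Closeds Z)).subschemeι
    have hrr : Set.range r = Set.univ := range_subschemeι_vanishing ⊤
    haveI : Surjective r := ⟨Set.range_eq_univ.mp hrr⟩
    suffices IsAffine R from Groth.Agent.Lib.Lim.Thickening.isAffine_of_surjective r
    haveI : IsClosedImmersion (r ≫ i) := inferInstance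
    let S : Closeds X := ⟨Set.range (r ≫ i), (r ≫ i).isClosedEmbedding.isClosed_range⟩
    have hST : S ≤ T := fun x hx => by
      obtain ⟨z, rfl⟩ := hx
      exact hrange ⟨r z, rfl⟩
    rcases hST.lt_or_eq with hlt | heq
    · exact ih S hlt R (r ≫ i) inferInstance subset_rfl
    have hsub : ∀ (Z' : Scheme.{u}) (j : Z' ⟶ R), IsClosedImmersion j → Set.range j ≠ Set.univ →
        IsAffine Z' := by
      intro Z' j hj hne
      let S' : Closeds X := ⟨Set.range (j ≫ r ≫ i), (j ≫ r ≫ i).isClosedEmbedding.isClosed_range⟩
      refine ih S' (lt_of_le_of_ne ?_ fun e => hne ?_) Z' (j ≫ r ≫ i) inferInstance subset_rfl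
      · intro x hx
        obtain ⟨z, rfl⟩ := hx
        rw [← heq]
        exact ⟨j z, rfl⟩
      · refine Set.eq_univ_of_forall fun z => ?_
        have : (r ≫ i) z ∈ (S' : Set X) := by rw [e, ← heq]; exact ⟨z, rfl⟩
        obtain ⟨z', hz'⟩ := this
        exact ⟨z', (r ≫ i).isClosedEmbedding.injective hz'⟩
    haveI : IsNoetherian R := by
      haveI : IsLocallyNoetherian R := LocallyOfFiniteType.isLocallyNoetherian (r ≫ i)
      haveI : CompactSpace R := QuasiCompact.compactSpace_of_compactSpace (r ≫ i)
      exact ⟨⟩
    haveI : IsReduced R := isReduced_subscheme ⊤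
    let Y' := pullback f (r ≫ i)
    haveI : IsAffine Y' := isAffine_of_isAffineHom (pullback.fst f (r ≫ i))
    haveI : IsFinite (pullback.snd f (r ≫ i)) := inferInstance
    haveI : Surjective (pullback.snd f (r ≫ i)) := inferInstance
    by_cases hR : IrreducibleSpace R
    · haveI : IsIntegral R := isIntegral_of_irreducibleSpace_of_isReduced R
      exact isAffine_of_isIntegral (pullback.snd f (r ≫ i)) hsub
    by_cases hempty : IsEmpty R
    · exact isAffine_of_isEmpty
    haveI : Nonempty R := not_isEmpty_iff.mp hempty
    haveI : NoetherianSpace R := inferInstance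
    have hfin := TopologicalSpace.NoetherianSpace.finite_irreducibleComponents (α := R)
    haveI : Finite (irreducibleComponents R) := hfin.to_subtype
    let C : irreducibleComponents R → Closeds R := fun c =>
      ⟨c.1, isClosed_of_mem_irreducibleComponents c.1 c.2⟩
    haveI : ∀ c, IsAffine (Scheme.IdealSheafData.vanishingIdeal (C c)).subscheme := fun c => by
      refine hsub _ (Scheme.IdealSheafData.vanishingIdeal (C c)).subschemeι inferInstance fun h => hR ?_
      rw [range_subschemeι_vanishing] at h
      have hc : IsIrreducible (Set.univ : Set R) := (show (c.1 : Set R) = Set.univ from h) ▸ c.2.1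
      exact { toPreirreducibleSpace := ⟨hc.2⟩, toNonempty := inferInstance }
    refine Groth.Agent.Lib.Lim.AffineUnion.isAffine_of_finite_cover
      (fun c => (Scheme.IdealSheafData.vanishingIdeal (C c)).subscheme)
      (fun c => (Scheme.IdealSheafData.vanishingIdeal (C c)).subschemeι) fun y => ?_
    refine ⟨⟨irreducibleComponent y, irreducibleComponent_mem_irreducibleComponents y⟩, ?_⟩
    rw [range_subschemeι_vanishing]
    exact mem_irreducibleComponent

/-- Chevalley's theorem for a Noetherian target. -/
theorem isAffine_of_finite_surjective [IsNoetherian X] [IsAffine Y] (f : Y ⟶ X) [IsFinite f]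
    [Surjective f] : IsAffine X :=
  isAffine_of_range_subset f ⊤ X (𝟙 X) inferInstance (fun _ _ => trivial)

end Groth.Agent.H54.ChevNoeth
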