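import Groth.Agent.H54.CMMor
import Groth.Agent.H46.DimData
import Groth.Agent.H46.QFin
import Groth.Agent.H26.FibreRegStalk
import Groth.Agent.H20.RegularFlat
import Groth.Agent.H20.QuasiFinitePoly
import Groth.Agent.H20.FibreDimSet
import Groth.Agent.Lib.Flat55.FibrewiseStalk
import Groth.Agent.Lib.GrassRep.Standard
import Groth.Agent.S2768
import Groth.Agent.H19.FlatLocus.Scheme
import Mathlib.AlgebraicGeometry.AffineSpace
import Mathlib.AlgebraicGeometry.ZariskisMainTheorem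

/-!
# Cohen–Macaulay morphisms and quasi-finite flat maps to affine space
-/

universe u

open CategoryTheory CategoryTheory.Limits AlgebraicGeometry IsLocalRing LocCoh
open scoped Pointwise

namespace Groth.Agent.H54.CMAffine

section Ring

variable (A B C : Type u) [CommRing A] [CommRing B] [CommRing C]
  [IsLocalRing A] [IsLocalRing B] [IsLocalRing C] [Algebra A B] [Algebra A C] [Algebra B C] [IsScalarTower A B C]
  [IsLocalHom (algebraMap A B)] [IsLocalHom (algebraMap B C)] [Module.Flat B C]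
  [IsNoetherianRing (C ⧸ (maximalIdeal A).map (algebraMap A C))]

theorem dim_fibre :
    ringKrullDim (C ⧸ (maximalIdeal A).map (algebraMap A C)) =
      ringKrullDim (B ⧸ (maximalIdeal A).map (algebraMap A B)) +
        ringKrullDim (C ⧸ (maximalIdeal B).map (algebraMap B C)) := by
  obtain ⟨h1, h2, h3, h4, heq⟩ := CMMor.fibre_setup A B C
  let J := (maximalIdeal A).map (algebraMap A B)
  let K := J.map (algebraMap B C)
  let eC : (C ⧸ K) ≃+* C ⧸ (maximalIdeal A).map (algebraMap A C) := Ideal.quotEquivOfEq heq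
  haveI : IsNoetherianRing (C ⧸ K) := isNoetherianRing_of_ringEquiv _ eC.symm
  haveI : IsNoetherianRing (B ⧸ J) := H21.SkDescent.isNoetherianRing_of_faithfullyFlat (B ⧸ J) (C ⧸ K)
  have hJ : J ≤ maximalIdeal B := IsLocalRing.map_maximalIdeal_le (algebraMap A B)
  have hfib : (maximalIdeal (B ⧸ J)).map (algebraMap (B ⧸ J) (C ⧸ K)) =
      ((maximalIdeal B).map (algebraMap B C)).map (Ideal.Quotient.mk K) :=
    (congrArg (Ideal.map _) (IsLocalRing.map_maximalIdeal_of_surjective _ Ideal.Quotient.mk_surjective).symm).trans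
      ((Ideal.map_map _ _).trans ((congrArg (fun φ : B →+* C ⧸ K => (maximalIdeal B).map φ)
        (RingHom.ext fun _ => rfl)).trans (Ideal.map_map (algebraMap B C) (Ideal.Quotient.mk K)).symm))
  let e : ((C ⧸ K) ⧸ (maximalIdeal (B ⧸ J)).map (algebraMap (B ⧸ J) (C ⧸ K))) ≃+*
      C ⧸ (maximalIdeal B).map (algebraMap B C) :=
    (Ideal.quotEquivOfEq hfib).trans ((DoubleQuot.quotQuotEquivQuotSup K _).trans
      (Ideal.quotEquivOfEq (sup_eq_right.2 (Ideal.map_mono hJ))))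
  have key := Lib.JacCrit.SmoothLocal.ringKrullDim_eq_of_flat (algebraMap (B ⧸ J) (C ⧸ K))
    (RingHom.flat_algebraMap_iff.2 inferInstance)
  rw [ringKrullDim_eq_of_ringEquiv e, ringKrullDim_eq_of_ringEquiv eC] at key
  exact key

end Ring

/-- Miracle flatness on closed fibres. -/
theorem flat_quotientMap_of_dim_eq {B C : Type u} [CommRing B] [CommRing C] [IsLocalRing B] [IsLocalRing C]
    (φ : B →+* C) [IsLocalHom φ] (J : Ideal B) (K : Ideal C) (hle : J ≤ K.comap φ)
    (hJK : J.map φ = K) (hK : K ≤ maximalIdeal C) [IsRegularLocalRing (B ⧸ J)] [IsCohenMacaulayLocalRing (C ⧸ K)]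
    (hdim : ringKrullDim (B ⧸ J) ≤ ringKrullDim (C ⧸ K))
    (h0 : ringKrullDim (C ⧸ (maximalIdeal B).map φ) ≤ 0) : (Ideal.quotientMap K φ hle).Flat := by
  letI : Algebra (B ⧸ J) (C ⧸ K) := (Ideal.quotientMap K φ hle).toAlgebra
  haveI : IsLocalHom (algebraMap (B ⧸ J) (C ⧸ K)) := ⟨fun b hb => by
    obtain ⟨b, rfl⟩ := Ideal.Quotient.mk_surjective b
    have := IsLocalHom.of_surjective (Ideal.Quotient.mk K) Ideal.Quotient.mk_surjective
    exact (IsUnit.of_map φ b (IsUnit.of_map (Ideal.Quotient.mk K) _ hb)).map _⟩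
  let M : Ideal (C ⧸ K) := (maximalIdeal (B ⧸ J)).map (algebraMap (B ⧸ J) (C ⧸ K))
  have hM : M = ((maximalIdeal B).map φ).map (Ideal.Quotient.mk K) :=
    (congrArg (Ideal.map _) (IsLocalRing.map_maximalIdeal_of_surjective (Ideal.Quotient.mk J)
      Ideal.Quotient.mk_surjective).symm).trans
      ((Ideal.map_map _ _).trans ((congrArg (fun ψ : B →+* C ⧸ K => (maximalIdeal B).map ψ)
        (RingHom.ext fun _ => rfl)).trans (Ideal.map_map φ (Ideal.Quotient.mk K)).symm))
  have hKm : K ≤ (maximalIdeal B).map φ := hJK ▸ Ideal.map_mono (le_maximalIdeal fun h => by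
    subst h
    rw [Ideal.map_top] at hJK
    exact (maximalIdeal.isMaximal C).ne_top (top_le_iff.1 (hJK.trans_le hK)))
  have hM0 : ringKrullDim ((C ⧸ K) ⧸ M) ≤ 0 := le_of_eq_of_le (ringKrullDim_eq_of_ringEquiv
    ((Ideal.quotEquivOfEq hM).trans ((DoubleQuot.quotQuotEquivQuotSup K _).trans
      (Ideal.quotEquivOfEq (sup_eq_right.2 hKm))))) h0
  show Module.Flat (B ⧸ J) (C ⧸ K)
  refine H20.RegularFlat.flat_of_supportDim_eq (B ⧸ J) (C ⧸ K) (C ⧸ K) Lib.Depth.CM.isCohenMacaulayModule_self ?_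
  have h1 : Module.supportDim (C ⧸ K) ((C ⧸ K) ⧸ M • (⊤ : Submodule (C ⧸ K) (C ⧸ K))) ≤ 0 := by
    rw [Module.supportDim_eq_of_equiv (Submodule.quotEquivOfEq _ M (by rw [smul_eq_mul, Ideal.mul_top])),
      Module.supportDim_quotient_eq_ringKrullDim]
    exact hM0
  rw [Module.supportDim_self_eq_ringKrullDim (R := C ⧸ K)]
  exact (add_le_add h1 le_rfl).trans ((zero_add _).le.trans hdim)

variable {X Y Z : Scheme.{u}}

open H46.DimData H46.FibreTrdeg

theorem ringKrullDim_quotient (f : X ⟶ Y) [LocallyOfFiniteType f] (x : X) :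
    ringKrullDim (X.presheaf.stalk x ⧸ (maximalIdeal (Y.presheaf.stalk (f x))).map (f.stalkMap x).hom) =
      (fd f x : WithBot ℕ∞) := by
  rw [← H46.FiberStalk.ringKrullDim_stalk_fiber, ringKrullDim_fiber]

theorem fd_comp (f : X ⟶ Y) (g : Y ⟶ Z) [LocallyOfFiniteType f] [LocallyOfFiniteType g] (x : X)
    (hfl : (f.stalkMap x).hom.Flat) : fd (f ≫ g) x = fd g (f x) + fd f x := by
  have hN := CMMor.isNoetherianRing_quotient (f ≫ g) x (H46.QFin.isLocallyNoetherian_fiber (f ≫ g) _)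
  algebraize [(g.stalkMap (f x)).hom, (f.stalkMap x).hom]
  letI : Algebra (Z.presheaf.stalk (g (f x))) (X.presheaf.stalk x) := ((f ≫ g).stalkMap x).hom.toAlgebra
  haveI : IsScalarTower (Z.presheaf.stalk (g (f x))) (Y.presheaf.stalk (f x)) (X.presheaf.stalk x) :=
    .of_algebraMap_eq' (congrArg (fun φ => φ.hom) (Scheme.Hom.stalkMap_comp f g x))
  haveI : IsLocalHom (algebraMap (Z.presheaf.stalk (g (f x))) (Y.presheaf.stalk (f x))) := g.toLRSHom.prop (f x)
  haveI : IsLocalHom (algebraMap (Y.presheaf.stalk (f x)) (X.presheaf.stalk x)) := f.toLRSHom.prop x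
  haveI : Module.Flat (Y.presheaf.stalk (f x)) (X.presheaf.stalk x) := hfl
  haveI : IsNoetherianRing (X.presheaf.stalk x ⧸
      (maximalIdeal (Z.presheaf.stalk (g (f x)))).map (algebraMap (Z.presheaf.stalk (g (f x))) (X.presheaf.stalk x))) :=
    hN
  have key := dim_fibre (Z.presheaf.stalk (g (f x))) (Y.presheaf.stalk (f x)) (X.presheaf.stalk x)
  have e : ∀ {n m k : ℕ}, (n : WithBot ℕ∞) = (m : WithBot ℕ∞) + (k : WithBot ℕ∞) → n = m + k :=
    fun h => by exact_mod_cast h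
  refine e ?_
  rw [← ringKrullDim_quotient (f ≫ g) x, ← ringKrullDim_quotient g (f x), ← ringKrullDim_quotient f x]
  exact key

theorem trd_comp (f : X ⟶ Y) (g : Y ⟶ Z) [LocallyOfFiniteType f] [LocallyOfFiniteType g] (x : X) :
    trd (f ≫ g) x = trd g (f x) + trd f x := by
  have h := Lib.Cyc.Residue.trdegAt_comp f g x
  rw [trdegAt_eq, trdegAt_eq, trdegAt_eq] at h
  exact_mod_cast h

theorem fe_comp (f : X ⟶ Y) (g : Y ⟶ Z) [LocallyOfFiniteType f] [LocallyOfFiniteType g] (x : X)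
    (hfl : (f.stalkMap x).hom.Flat) : fe (f ≫ g) x = fe g (f x) + fe f x := by
  rw [← fd_add_trd, ← fd_add_trd, ← fd_add_trd, fd_comp f g x hfl, trd_comp]
  omega

theorem of_quasiFiniteAt (f : X ⟶ Y) [LocallyOfFiniteType f] (x : X) (h : f.QuasiFiniteAt x) :
    fd f x = 0 ∧ trd f x = 0 ∧ fe f x = 0 := by
  obtain ⟨hc, hg⟩ := (H46.QFin.quasiFiniteAt_iff f x).1 h
  have h1 : fd f x = 0 := (fd_eq_zero_iff f x).2 fun x' hx' hs => by
    obtain ⟨z, rfl⟩ := Lib.Cyc.FieldDim.exists_fiberι_eq f x' (f x) hx'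
    rw [hg z ((Lib.Cyc.FieldDim.fiber_specializes_iff f _ z _).2 (by rwa [f.fiberι_asFiber]))]
    exact f.fiberι_asFiber x
  have h2 : trd f x = 0 := by
    rw [trd, Lib.Cyc.Residue.trdegAt_eq_zero_of_finite x (H46.QFin.finite_residueFieldMap f x hc)]
    simp
  exact ⟨h1, h2, by rw [← fd_add_trd, h1, h2]⟩

theorem isCMAt_of_quasiFiniteAt (f : X ⟶ Y) [LocallyOfFiniteType f] (x : X) (h : f.QuasiFiniteAt x)
    (hfl : (f.stalkMap x).hom.Flat) : MoreMor.IsCMAt f x := by
  refine ⟨hfl, ?_⟩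
  haveI := H46.QFin.isLocallyNoetherian_fiber f (f x)
  rw [Lib.Depth.CM.isCohenMacaulayLocalRing_iff, ringKrullDim_fiber, (of_quasiFiniteAt f x h).1]
  exact WithBot.coe_le_coe.2 bot_le

theorem isCMAt_of_smooth (f : X ⟶ Y) [Smooth f] (x : X) : MoreMor.IsCMAt f x := by
  refine ⟨Flat.stalkMap f x, ?_⟩
  haveI := H26.FibreRegStalk.isRegularLocalRing_fiberStalk f x
  exact Lib.JacCrit.FlatRegular.isCohenMacaulayLocalRing (CInt.fiberStalk f x)

theorem flat_stalkMap_openImmersion (j : X ⟶ Y) [IsOpenImmersion j] (x : X) :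
    (j.stalkMap x).hom.Flat :=
  RingHom.Flat.of_bijective (ConcreteCategory.bijective_of_isIso (j.stalkMap x))

/-- Cohen–Macaulayness is local on the source. -/
theorem isCMAt_openImmersion_comp (j : X ⟶ Y) [IsOpenImmersion j] (f : Y ⟶ Z) [LocallyOfFiniteType f] (x : X) :
    MoreMor.IsCMAt (j ≫ f) x ↔ MoreMor.IsCMAt f (j x) :=
  ⟨fun h => (CMMor.isCMAt_of_comp j f x h (flat_stalkMap_openImmersion j x)).2,
    fun h => CMMor.isCMAt_comp j f x (H46.QFin.isLocallyNoetherian_fiber (j ≫ f) _)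
      (isCMAt_of_quasiFiniteAt j x (Scheme.Hom.quasiFiniteAt j x) (flat_stalkMap_openImmersion j x)) h⟩

theorem fe_openImmersion_comp (j : X ⟶ Y) [IsOpenImmersion j] (f : Y ⟶ Z) [LocallyOfFiniteType f] (x : X) :
    fe (j ≫ f) x = fe f (j x) := by
  rw [fe_comp j f x (flat_stalkMap_openImmersion j x),
    (of_quasiFiniteAt j x (Scheme.Hom.quasiFiniteAt j x)).2.2, add_zero]

theorem smoothOfRelativeDimension_affineSpace (d : ℕ) (S : Scheme.{u}) :
    SmoothOfRelativeDimension d (𝔸(ULift.{u} (Fin d); S) ↘ S) :=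
  haveI := smoothOfRelativeDimension_isStableUnderBaseChange (n := d)
  MorphismProperty.pullback_fst (P := @SmoothOfRelativeDimension d) _ _ <| by
    have := isIso_of_isTerminal specULiftZIsTerminal.{u} terminalIsTerminal (terminal.from _)
    rw [← terminal.comp_from (Spec.map (CommRingCat.ofHom (MvPolynomial.C (σ := ULift.{u} (Fin d))))),
      MorphismProperty.cancel_right_of_respectsIso (P := @SmoothOfRelativeDimension d)]
    exact Lib.GrassRep.smoothOfRelativeDimension_mvPolynomial _ _ (by simp)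

theorem smooth_affineSpace (d : ℕ) (S : Scheme.{u}) : Smooth (𝔸(ULift.{u} (Fin d); S) ↘ S) :=
  haveI := smoothOfRelativeDimension_affineSpace d S
  SmoothOfRelativeDimension.smooth d _

theorem fe_affineSpace (d : ℕ) (S : Scheme.{u}) (y : ↑(𝔸(ULift.{u} (Fin d); S))) :
    fe (𝔸(ULift.{u} (Fin d); S) ↘ S) y = d := by
  haveI := smoothOfRelativeDimension_affineSpace d S
  haveI := smooth_affineSpace d S
  have h := S2768.result d (𝔸(ULift.{u} (Fin d); S) ↘ S) y
  rw [fibreDimAt_eq] at h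
  exact_mod_cast h

/-- A quasi-finite flat map to affine space forces the Cohen–Macaulay property. -/
theorem isCMAt_of_map {d : ℕ} {S : Scheme.{u}} (h : X ⟶ 𝔸(ULift.{u} (Fin d); S)) [LocallyOfFiniteType h]
    (x : X) (hqf : h.QuasiFiniteAt x) (hfl : (h.stalkMap x).hom.Flat) :
    MoreMor.IsCMAt (h ≫ (𝔸(ULift.{u} (Fin d); S) ↘ S)) x ∧
      fe (h ≫ (𝔸(ULift.{u} (Fin d); S) ↘ S)) x = d := by
  haveI := smooth_affineSpace d S
  refine ⟨CMMor.isCMAt_comp h _ x (H46.QFin.isLocallyNoetherian_fiber _ _)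
    (isCMAt_of_quasiFiniteAt h x hqf hfl) (isCMAt_of_smooth _ _), ?_⟩
  rw [fe_comp h _ x hfl, fe_affineSpace, (of_quasiFiniteAt h x hqf).2.2, add_zero]

/-- Version on an open subscheme. -/
theorem isCMAt_of_open_map {S : Scheme.{u}} (f : X ⟶ S) [LocallyOfFiniteType f] {d : ℕ} (U : X.Opens)
    (g : (U : Scheme.{u}) ⟶ 𝔸(ULift.{u} (Fin d); S))
    (hg : g ≫ (𝔸(ULift.{u} (Fin d); S) ↘ S) = U.ι ≫ f) (u : (U : Scheme.{u})) (hqf : g.QuasiFiniteAt u)
    (hfl : (g.stalkMap u).hom.Flat) : MoreMor.IsCMAt f (U.ι u) ∧ fe f (U.ι u) = d := by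
  haveI : LocallyOfFiniteType (g ≫ (𝔸(ULift.{u} (Fin d); S) ↘ S)) := hg ▸ inferInstance
  haveI : LocallyOfFiniteType g := locallyOfFiniteType_of_comp g (𝔸(ULift.{u} (Fin d); S) ↘ S)
  obtain ⟨h1, h2⟩ := isCMAt_of_map g u hqf hfl
  constructor
  · rw [← isCMAt_openImmersion_comp U.ι f u, ← hg]
    exact h1
  · rw [← fe_openImmersion_comp U.ι f u]
    simp only [← hg]
    exact h2

/-- Flatness of a quasi-finite map to affine space of the right dimension. -/
theorem flat_of_isCMAt {d : ℕ} {S : Scheme.{u}} (h : X ⟶ 𝔸(ULift.{u} (Fin d); S)) [LocallyOfFiniteType h]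
    [LocallyOfFinitePresentation (h ≫ (𝔸(ULift.{u} (Fin d); S) ↘ S))] (x : X) (hqf : h.QuasiFiniteAt x)
    (hcm : MoreMor.IsCMAt (h ≫ (𝔸(ULift.{u} (Fin d); S) ↘ S)) x)
    (hd : fe (h ≫ (𝔸(ULift.{u} (Fin d); S) ↘ S)) x = d) : (h.stalkMap x).hom.Flat := by
  haveI := smooth_affineSpace d S
  rw [CMMor.isCMAt_iff] at hcm
  let p := 𝔸(ULift.{u} (Fin d); S) ↘ S
  refine (Lib.Flat55.FibrewiseStalk.flat_stalkMap_of_fibreStalkMap h p x hcm.1 ?_).1
  haveI : IsLocalHom (h.stalkMap x).hom := h.toLRSHom.prop x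
  haveI : IsRegularLocalRing (((𝔸(ULift.{u} (Fin d); S)).presheaf.stalk (h x)) ⧸
      (maximalIdeal (S.presheaf.stalk (p (h x)))).map (p.stalkMap (h x)).hom) :=
    haveI := H26.FibreRegStalk.isRegularLocalRing_fiberStalk p (h x)
    IsRegularLocalRing.of_ringEquiv (H46.FiberStalk.quotientEquiv p (h x)).symm
  haveI := hcm.2
  refine flat_quotientMap_of_dim_eq (h.stalkMap x).hom _ _ _ (Lib.Flat55.FibrewiseStalk.map_mIdeal h p x) ?_ ?_ ?_
  · haveI : IsLocalHom ((h ≫ p).stalkMap x).hom := (h ≫ p).toLRSHom.prop x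
    exact IsLocalRing.map_maximalIdeal_le ((h ≫ p).stalkMap x).hom
  · rw [ringKrullDim_quotient p (h x)]
    refine le_of_le_of_eq ?_ (ringKrullDim_quotient (h ≫ p) x).symm
    have h1 := fd_add_trd (h ≫ p) x
    have h2 := fd_add_trd p (h x)
    have h3 := trd_comp h p x
    rw [fe_affineSpace] at h2
    rw [(of_quasiFiniteAt h x hqf).2.1] at h3
    exact_mod_cast (show fd p (h x) ≤ fd (h ≫ p) x by simp only [p] at *; omega)
  · rw [ringKrullDim_quotient h x, (of_quasiFiniteAt h x hqf).1]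
    exact le_rfl

/-- Near every point there is a map to affine space over the base which is quasi-finite at the point,
of relative dimension equal to the fibre dimension. -/
theorem exists_quasiFiniteAt_map {S : Scheme.{u}} (f : X ⟶ S) [LocallyOfFinitePresentation f] (x : X) :
    ∃ (W : Scheme.{u}) (w : W ⟶ X) (_ : IsOpenImmersion w) (z : W)
      (h : W ⟶ 𝔸(ULift.{u} (Fin (fe f x)); S)) (_ : LocallyOfFinitePresentation h),
      w z = x ∧ h ≫ (𝔸(ULift.{u} (Fin (fe f x)); S) ↘ S) = w ≫ f ∧ h.QuasiFiniteAt z := by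
  obtain ⟨V, hV, hxV, -⟩ := exists_isAffineOpen_mem_and_subset (X := S) (x := f x) (U := ⊤) trivial
  obtain ⟨U, hU, hxU, hUV⟩ := exists_isAffineOpen_mem_and_subset (X := X) (x := x) (U := f ⁻¹ᵁ V) hxV
  let R := Γ(S, V)
  let A := Γ(X, U)
  letI : Algebra R A := (f.appLE V U hUV).hom.toAlgebra
  haveI : Algebra.FinitePresentation R A :=
    HasRingHomProperty.appLE @LocallyOfFinitePresentation f inferInstance ⟨V, hV⟩ ⟨U, hU⟩ hUV
  haveI : Algebra.FiniteType R A := inferInstance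
  let v := hV.fromSpec
  let w₀ := hU.fromSpec
  have hw : Spec.map (CommRingCat.ofHom (algebraMap R A)) ≫ v = w₀ ≫ f := hV.SpecMap_appLE_fromSpec f hU hUV
  let P : PrimeSpectrum A := hU.primeIdealOf ⟨x, hxU⟩
  have hPx : w₀ P = x := hU.fromSpec_primeIdealOf _
  have hd : H20.FibreDimBC.fdim R A P.asIdeal = fe f x := by
    have h1 : FlatMor.fibreDimAt f (w₀ P) = (H20.FibreDimBC.fdim R A P.asIdeal : WithBot ℕ∞) :=
      (Lib.FibreDim.Chart.fibreDimAt_eq_dimAt f v w₀ hw P).trans rfl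
    rw [hPx, fibreDimAt_eq] at h1
    exact_mod_cast h1.symm
  obtain ⟨r, -, -, a₁, g₁, hg₁, hqf₁, -⟩ := H20.QuasiFinitePoly.exists_quasiFinite_mvPolynomial (R := R) P.asIdeal
  obtain ⟨d, rfl, a₀, g, hg, hqf⟩ : ∃ d, d = fe f x ∧ ∃ (a₀ : Fin d → A) (g : A), g ∉ P.asIdeal ∧
      ((IsScalarTower.toAlgHom R A (Localization.Away g)).comp
        (MvPolynomial.aeval (R := R) a₀)).toRingHom.QuasiFinite := ⟨_, hd, a₁, g₁, hg₁, hqf₁⟩
  let d := fe f x
  let Φ₀ : MvPolynomial (Fin d) R →ₐ[R] A := MvPolynomial.aeval a₀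
  let ε : MvPolynomial (ULift.{u} (Fin d)) R ≃ₐ[R] MvPolynomial (Fin d) R :=
    MvPolynomial.renameEquiv R Equiv.ulift
  let Φ : MvPolynomial (ULift.{u} (Fin d)) R →ₐ[R] A := Φ₀.comp (ε : _ →ₐ[R] _)
  have hΦ : Φ.toRingHom.FinitePresentation := by
    refine RingHom.FinitePresentation.of_comp_finiteType (algebraMap R _) ?_ ?_
    · rw [AlgHom.toRingHom_eq_coe, Φ.comp_algebraMap]
      exact RingHom.finitePresentation_algebraMap.2 inferInstance
    · exact RingHom.finiteType_algebraMap.2 inferInstance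
  let G : Spec (CommRingCat.of A) ⟶ Spec (CommRingCat.of (MvPolynomial (ULift.{u} (Fin d)) R)) :=
    Spec.map (CommRingCat.ofHom Φ.toRingHom)
  let q : Spec (CommRingCat.of (MvPolynomial (ULift.{u} (Fin d)) R)) ⟶ 𝔸(ULift.{u} (Fin d); S) :=
    (AffineSpace.SpecIso (ULift.{u} (Fin d)) (CommRingCat.of R)).inv ≫ AffineSpace.map _ v
  haveI : IsOpenImmersion (AffineSpace.map (ULift.{u} (Fin d)) v) :=
    MorphismProperty.of_isPullback (P := @IsOpenImmersion) (AffineSpace.isPullback_map v).flip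
      (inferInstanceAs (IsOpenImmersion hV.fromSpec))
  haveI : IsOpenImmersion q := inferInstanceAs (IsOpenImmersion (_ ≫ _))
  haveI : LocallyOfFinitePresentation G := (LocallyOfFinitePresentation.SpecMap_iff _).2 hΦ
  have hover : (G ≫ q) ≫ (𝔸(ULift.{u} (Fin d); S) ↘ S) = w₀ ≫ f := by
    rw [← hw]
    simp only [Category.assoc, q, AffineSpace.map_over, AffineSpace.SpecIso_inv_over_assoc, G]
    rw [← Spec.map_comp_assoc]
    congr 2
    ext1
    exact Φ.comp_algebraMap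
  have hqfG : G.QuasiFiniteAt P := by
    let j : Spec (CommRingCat.of (Localization.Away g)) ⟶ Spec (CommRingCat.of A) :=
      Spec.map (CommRingCat.ofHom (algebraMap A (Localization.Away g)))
    haveI : IsOpenImmersion j := IsOpenImmersion.of_isLocalization g
    obtain ⟨z, hz⟩ : ∃ z, j z = P := by
      have : P ∈ Set.range (PrimeSpectrum.comap (algebraMap A (Localization.Away g))) := by
        rw [PrimeSpectrum.localization_away_comap_range (Localization.Away g) g]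
        exact hg
      exact this
    haveI : LocallyQuasiFinite (j ≫ G) := by
      rw [← Spec.map_comp, HasRingHomProperty.Spec_iff (P := @LocallyQuasiFinite)]
      have h2 := hqf.comp (RingHom.QuasiFinite.of_finite (RingHom.Finite.of_surjective
        (ε : MvPolynomial (ULift.{u} (Fin d)) R →+* MvPolynomial (Fin d) R) ε.surjective))
      have e : ((algebraMap A (Localization.Away g)).comp Φ.toRingHom) =
          ((IsScalarTower.toAlgHom R A (Localization.Away g)).comp Φ₀).toRingHom.comp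
            (ε : MvPolynomial (ULift.{u} (Fin d)) R →+* MvPolynomial (Fin d) R) := RingHom.ext fun _ => rfl
      rw [← e] at h2
      exact h2
    have := Scheme.Hom.quasiFiniteAt (j ≫ G) z
    rw [Scheme.Hom.quasiFiniteAt_comp_iff_of_isOpenImmersion, hz] at this
    exact this
  exact ⟨_, w₀, inferInstance, P, G ≫ q, inferInstance, hPx, hover,
    Scheme.Hom.quasiFiniteAt_comp_iff.2 hqfG⟩

/-- A morphism is Cohen–Macaulay at a point exactly when near that point it maps flatly and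
quasi-finitely to affine space of dimension the fibre dimension. -/
theorem exists_map_of_isCMAt {S : Scheme.{u}} (f : X ⟶ S) [LocallyOfFinitePresentation f] (x : X)
    (hcm : MoreMor.IsCMAt f x) :
    ∃ (U : X.Opens) (g : (U : Scheme.{u}) ⟶ 𝔸(ULift.{u} (Fin (fe f x)); S)),
      x ∈ U ∧ g ≫ (𝔸(ULift.{u} (Fin (fe f x)); S) ↘ S) = U.ι ≫ f ∧ Flat g ∧ LocallyQuasiFinite g ∧
        LocallyOfFiniteType g := by
  obtain ⟨W, w, _, z, h, _, hz, hover, hqf⟩ := exists_quasiFiniteAt_map f x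
  haveI : LocallyOfFinitePresentation (h ≫ (𝔸(ULift.{u} (Fin (fe f x)); S) ↘ S)) := hover ▸ inferInstance
  have hfl : (h.stalkMap z).hom.Flat := by
    refine flat_of_isCMAt h z hqf ?_ ?_
    · simp only [hover]
      exact (isCMAt_openImmersion_comp w f z).2 (hz.symm ▸ hcm)
    · simp only [hover]
      rw [fe_openImmersion_comp w f z, hz]
  let O : W.Opens := h.quasiFiniteLocus ⊓ ⟨_, H19.FlatLocus.Scheme.isOpen_flat_stalkMap (f := h)⟩
  let j := O.ι ≫ w
  let g := j.isoOpensRange.inv ≫ O.ι ≫ h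
  refine ⟨j.opensRange, g, ?_, ?_, ?_, ?_, inferInstance⟩
  · exact ⟨⟨z, hqf, hfl⟩, hz⟩
  · simp only [g, Category.assoc, hover]
    rw [← Category.assoc (O.ι), ← Category.assoc]
    simp [j]
  · have : Flat (O.ι ≫ h) := (Flat.iff_flat_stalkMap _).2 fun o => by
      rw [Scheme.Hom.stalkMap_comp]
      exact RingHom.Flat.comp (f := (h.stalkMap (O.ι o)).hom) o.2.2 (flat_stalkMap_openImmersion O.ι o)
    infer_instance
  · have : LocallyQuasiFinite (O.ι ≫ h) := by
      rw [← Scheme.Hom.quasiFiniteLocus_eq_top_iff]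
      refine top_le_iff.1 fun o _ => ?_
      rw [Scheme.Hom.mem_quasiFiniteLocus, Scheme.Hom.quasiFiniteAt_comp_iff_of_isOpenImmersion]
      exact o.2.1
    infer_instance

/-- Near a Cohen–Macaulay point all points are Cohen–Macaulay, with the same fibre dimension. -/
theorem exists_nhd {S : Scheme.{u}} (f : X ⟶ S) [LocallyOfFinitePresentation f] (x : X)
    (hcm : MoreMor.IsCMAt f x) :
    ∃ U : X.Opens, x ∈ U ∧ ∀ y ∈ U, MoreMor.IsCMAt f y ∧ fe f y = fe f x := by
  obtain ⟨U, g, hx, hg, _, _, _⟩ := exists_map_of_isCMAt f x hcm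
  exact ⟨U, hx, fun y hy => isCMAt_of_open_map f U g hg ⟨y, hy⟩ (Scheme.Hom.quasiFiniteAt g _)
    (Flat.stalkMap g _)⟩

theorem isOpen_setOf_isCMAt {S : Scheme.{u}} (f : X ⟶ S) [LocallyOfFinitePresentation f] :
    IsOpen {x : X | MoreMor.IsCMAt f x} := by
  rw [isOpen_iff_forall_mem_open]
  intro x hx
  obtain ⟨U, hxU, h⟩ := exists_nhd f x hx
  exact ⟨U, fun y hy => (h y hy).1, U.isOpen, hxU⟩

end Groth.Agent.H54.CMAffine

namespace Groth.Agent.H54.CMAffine

open H46.DimData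

variable {X S : Scheme.{u}}

theorem isLocallyConstant_fibreDimAt (f : X ⟶ S) [LocallyOfFinitePresentation f]
    (hcm : ∀ x : X, MoreMor.IsCMAt f x) :
    IsLocallyConstant (fun x : X => FlatMor.fibreDimAt f x) := by
  refine (IsLocallyConstant.iff_exists_open _).2 fun x => ?_
  obtain ⟨U, hxU, h⟩ := exists_nhd f x (hcm x)
  exact ⟨U, U.isOpen, hxU, fun y hy => by rw [fibreDimAt_eq f y, fibreDimAt_eq f x, (h y hy).2]⟩

theorem isCMAt_of_isMaxFib (f : X ⟶ S) [Flat f] [LocallyOfFiniteType f] {x : X}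
    (h : H46.FibreTrdeg.IsMaxFib f x) : MoreMor.IsCMAt f x := by
  refine ⟨Flat.stalkMap f x, ?_⟩
  haveI := H46.QFin.isLocallyNoetherian_fiber f (f x)
  rw [Lib.Depth.CM.isCohenMacaulayLocalRing_iff, ringKrullDim_fiber, (fd_eq_zero_iff f x).2 h]
  exact WithBot.coe_le_coe.2 bot_le

theorem dense_fibre_isCMAt (f : X ⟶ S) [Flat f] [LocallyOfFiniteType f] (s : S) :
    Dense ((f.fiberι s) ⁻¹' {x : X | MoreMor.IsCMAt f x}) := by
  rw [dense_iff_inter_open]
  rintro W hW ⟨z, hz⟩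
  obtain ⟨η, hη, hmax⟩ := Lib.Cyc.DimFun.exists_isMaxPt_specializes z
  exact ⟨η, hη.mem_open hW hz, isCMAt_of_isMaxFib f ((Lib.Cyc.FieldDim.isMaxFib_iff f s η).2 hmax)⟩

end Groth.Agent.H54.CMAffine
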