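import Groth.Agent.H54.LevelSets
import Mathlib.FieldTheory.SeparableClosure

/-!
# Geometric fibres of locally quasi-finite morphisms and boundedness of fibre integrals
-/

universe u

open AlgebraicGeometry CategoryTheory Limits Topology

namespace Groth.Agent.H54.GeomFibre

open GeomLift

variable {X Y : Scheme.{u}} (f : X ⟶ Y) [LocallyQuasiFinite f] [LocallyOfFiniteType f]

lemma discreteTopology_geomFiber (y : Y) : DiscreteTopology (MoreMor.geomFiber f y) := by
  let q : MoreMor.geomFiber f y ⟶ Spec (CommRingCat.of (SeparableClosure (Y.residueField y))) :=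
    pullback.snd _ _
  have : LocallyQuasiFinite (f.fiberToSpecResidueField y) := MorphismProperty.pullback_snd _ _ ‹LocallyQuasiFinite f›
  have : LocallyQuasiFinite q := inferInstanceAs (LocallyQuasiFinite (pullback.snd _ _))
  have : IsLocallyArtinian (Spec (CommRingCat.of (SeparableClosure (Y.residueField y)))) :=
    Scheme.isLocallyArtinianScheme_Spec.mpr inferInstance
  have := IsLocallyArtinian.of_locallyQuasiFinite q
  exact (IsLocallyArtinian.iff_isLocallyNoetherian_and_discreteTopology.mp this).2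

theorem nGeomIrredComp_eq (y : Y) : MoreMor.nGeomIrredComp f y = MoreMor.nGeomConnComp f y := by
  have := discreteTopology_geomFiber f y
  rw [MoreMor.nGeomIrredComp, MoreMor.nGeomConnComp, Set.encard]
  let e₁ : ↥(MoreMor.geomFiber f y) ≃ irreducibleComponents ↥(MoreMor.geomFiber f y) :=
    Equiv.ofBijective (fun x => ⟨{x}, ⟨isIrreducible_singleton, fun s hs hle => by
        obtain ⟨z, rfl⟩ := isIrreducible_iff_singleton.mp hs
        rw [Set.singleton_subset_singleton] at hle ⊢
        exact hle.symm⟩⟩)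
      ⟨fun a b h => Set.singleton_injective (congrArg Subtype.val h), fun s => by
        obtain ⟨z, hz⟩ := isIrreducible_iff_singleton.mp s.2.1
        exact ⟨z, Subtype.ext hz.symm⟩⟩
  let e₂ : ↥(MoreMor.geomFiber f y) ≃ _root_.ConnectedComponents ↥(MoreMor.geomFiber f y) :=
    Equiv.ofBijective _ ⟨fun a b h => by
      have h1 := ConnectedComponents.coe_eq_coe.mp h
      rwa [connectedComponent_eq_singleton, connectedComponent_eq_singleton,
        Set.singleton_eq_singleton_iff] at h1, ConnectedComponents.surjective_coe⟩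
  exact ENat.card_congr (e₁.symm.trans e₂)

theorem exists_bound_nGeomConnComp [CompactSpace X] :
    ∃ d : ℕ, ∀ y : Y, MoreMor.nGeomConnComp f y ≤ d := by
  obtain ⟨d, hd⟩ := GeomBound.exists_bound f
  refine ⟨d, fun y => ?_⟩
  let S := SeparableClosure (Y.residueField y)
  let K := AlgebraicClosure S
  let q : MoreMor.geomFiber f y ⟶ Spec (CommRingCat.of S) := pullback.snd _ _
  let ξ : Spec (CommRingCat.of K) ⟶ Spec (CommRingCat.of S) :=
    Spec.map (CommRingCat.ofHom (algebraMap S K))
  have : LocallyQuasiFinite (f.fiberToSpecResidueField y) := MorphismProperty.pullback_snd _ _ ‹LocallyQuasiFinite f›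
  have : LocallyQuasiFinite q := inferInstanceAs (LocallyQuasiFinite (pullback.snd _ _))
  have hc : IsPullback (pullback.fst (f.fiberToSpecResidueField y) _ ≫ f.fiberι y) q f
      (Spec.map (CommRingCat.ofHom (algebraMap (Y.residueField y) S)) ≫ Y.fromSpecResidueField y) :=
    (IsPullback.of_hasPullback (f.fiberToSpecResidueField y) _).paste_horiz
      (IsPullback.of_hasPullback f (Y.fromSpecResidueField y))
  obtain ⟨hfin, hcard⟩ := hd K (ξ ≫ Spec.map _ ≫ Y.fromSpecResidueField y)
  have : Finite (Lift q ξ) := @Finite.of_equiv _ _ hfin (baseChangeEquiv hc ξ).symm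
  have hsurj : Function.Surjective
      (fun s : Lift q ξ => (ConnectedComponents.mk (pt s.1) : _root_.ConnectedComponents ↥(MoreMor.geomFiber f y))) := by
    intro c
    obtain ⟨g, rfl⟩ := ConnectedComponents.surjective_coe c
    obtain ⟨s, hs⟩ := exists_lift q ξ g (Subsingleton.elim _ _)
    exact ⟨s, congrArg _ hs⟩
  have := Finite.of_surjective _ hsurj
  rw [MoreMor.nGeomConnComp, ENat.card_eq_coe_natCard, Nat.cast_le]
  exact (Nat.card_le_card_of_surjective _ hsurj).trans ((Nat.card_congr (baseChangeEquiv hc ξ)).trans_le hcard)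

theorem exists_max_integral [CompactSpace X] [Nonempty Y] {w : X → ℤ} (hw : MoreMor.IsWeighting f w) :
    ∃ y₀ : Y, ∀ y : Y, MoreMor.fibreIntegral f w y ≤ MoreMor.fibreIntegral f w y₀ := by
  classical
  obtain ⟨B, hB⟩ := ((LevelSets.finite_range hw).image fun n : ℤ => |n|).bddAbove
  obtain ⟨d, hd⟩ := GeomBound.exists_bound f
  have hbd : ∀ y, MoreMor.fibreIntegral f w y ≤ d * max B 0 := by
    intro y
    obtain ⟨K, _, _, ξ, rfl⟩ := exists_pt_eq y
    obtain ⟨hfin, hcard⟩ := hd K ξ
    let := Fintype.ofFinite (Lift f ξ)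
    rw [fibreIntegral_eq_sum, finsum_eq_sum_of_fintype]
    refine (Finset.sum_le_card_nsmul _ _ (max B 0) fun s _ => ?_).trans ?_
    · exact (le_abs_self _).trans ((hB ⟨_, ⟨_, rfl⟩, rfl⟩).trans (le_max_left _ _))
    · rw [nsmul_eq_mul, Finset.card_univ, ← Nat.card_eq_fintype_card]
      exact mul_le_mul_of_nonneg_right (by exact_mod_cast hcard) (le_max_right _ _)
  obtain ⟨m, ⟨y₀, hy₀⟩, hm⟩ := Int.exists_greatest_of_bdd
    (P := fun n => ∃ y, MoreMor.fibreIntegral f w y = n) ⟨_, fun z ⟨y, hy⟩ => hy ▸ hbd y⟩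
    ⟨_, Classical.arbitrary Y, rfl⟩
  exact ⟨y₀, fun y => hy₀ ▸ hm _ ⟨y, rfl⟩⟩

end Groth.Agent.H54.GeomFibre
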