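import Groth.Prelude.Def_Adeq
import Mathlib.Algebra.Category.ModuleCat.EnoughInjectives
import Mathlib.CategoryTheory.Preadditive.Injective.Basic

/-!
# Module-valued functors have enough injectives
-/

universe u

open CategoryTheory Limits

namespace Groth.Agent.H54.AdeqInj

variable {A : Type u} [CommRing A] (I : ∀ B : Adeq.Alg A, ModuleCat.{u + 1} B)

/-- Values of the coinduced functor. -/
def Val (B' : Adeq.Alg A) : Type (u + 1) := ∀ p : Σ B : Adeq.Alg A, (B' ⟶ B), I p.1

instance (B' : Adeq.Alg A) : AddCommGroup (Val I B') :=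
  inferInstanceAs (AddCommGroup (∀ p : Σ B : Adeq.Alg A, (B' ⟶ B), I p.1))

instance (B' : Adeq.Alg A) : Module B' (Val I B') where
  smul b y := fun p => p.2.hom b • y p
  one_smul y := funext fun p => show p.2.hom 1 • y p = y p by rw [map_one, one_smul]
  mul_smul b c y := funext fun p => show p.2.hom (b * c) • y p = p.2.hom b • p.2.hom c • y p by
    rw [map_mul, mul_smul]
  smul_zero b := funext fun p => smul_zero _
  smul_add b y z := funext fun p => smul_add _ _ _
  add_smul b c y := funext fun p => show p.2.hom (b + c) • y p = p.2.hom b • y p + p.2.hom c • y p by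
    rw [map_add, add_smul]
  zero_smul y := funext fun p => show p.2.hom 0 • y p = 0 by rw [map_zero, zero_smul]

/-- The underlying functor to abelian groups. -/
noncomputable abbrev coindAb : (Adeq.Alg A)ᵒᵖᵒᵖ ⥤ Ab.{u + 1} where
  obj X := AddCommGrpCat.of (Val I X.unop.unop)
  map {X Y} f := AddCommGrpCat.ofHom
    { toFun := fun y p => y ⟨p.1, f.unop.unop ≫ p.2⟩
      map_zero' := rfl
      map_add' := fun _ _ => rfl }
  map_id X := by
    refine AddCommGrpCat.hom_ext (AddMonoidHom.ext fun y => funext fun p => ?_)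
    show y ⟨p.1, (𝟙 X : X ⟶ X).unop.unop ≫ p.2⟩ = y p
    exact congrArg (β := ↑(I p.1)) (fun g : X.unop.unop ⟶ p.1 => y ⟨p.1, g⟩) (Category.id_comp p.2) |>.trans (by rfl)
  map_comp {X Y Z} f g := by
    refine AddCommGrpCat.hom_ext (AddMonoidHom.ext fun y => funext fun p => ?_)
    exact congrArg (β := ↑(I p.1)) (fun g : X.unop.unop ⟶ p.1 => y ⟨p.1, g⟩) (Category.assoc _ _ _)

/-- The coinduced module-valued functor of a family of modules. -/
noncomputable def coind : Adeq.MVF A :=
  PresheafOfModules.ofPresheaf (coindAb I) (fun _ _ _ _ _ => rfl)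

variable {I}

instance coind_injective [∀ B, Injective (I B)] : Injective (coind I) where
  factors {F G} φ m hm := by
    haveI : ∀ B : Adeq.Alg A, PreservesFiniteLimits (PresheafOfModules.evaluation.{u + 1} (Adeq.ringOf A) (Adeq.pt B)) :=
      fun B => PresheafOfModules.evaluation_preservesFiniteLimits.{u + 1} _ _
    have hinj : ∀ B : Adeq.Alg A, Mono (m.app (Adeq.pt B)) := fun B =>
      inferInstanceAs (Mono ((PresheafOfModules.evaluation (Adeq.ringOf A) (Adeq.pt B)).map m))
    let φB : ∀ B : Adeq.Alg A, F.obj (Adeq.pt B) ⟶ I B := fun B => ModuleCat.ofHom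
      { toFun := fun x => (φ.app (Adeq.pt B) x : Val I B) ⟨B, 𝟙 B⟩
        map_add' := fun x y => congrFun (map_add (φ.app (Adeq.pt B)).hom x y) _
        map_smul' := fun r x => congrFun (map_smul (φ.app (Adeq.pt B)).hom r x) ⟨B, 𝟙 B⟩ }
    let ψ : ∀ B : Adeq.Alg A, G.obj (Adeq.pt B) ⟶ I B := fun B =>
      Injective.factorThru (φB B) (m.app (Adeq.pt B))
    have hψ : ∀ B x, ψ B (m.app (Adeq.pt B) x) = φB B x := fun B x =>
      congr($(Injective.comp_factorThru (φB B) (m.app (Adeq.pt B))) x)
    let Ψ : G ⟶ coind I :=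
      { app := fun X => ModuleCat.ofHom
          { toFun := fun x => (fun p => ψ p.1 (G.map (Adeq.ptHom p.2) x) : Val I X.unop.unop)
            map_add' := fun x y => funext fun p => by
              show ψ p.1 (G.map (Adeq.ptHom p.2) (x + y)) = _
              exact (congrArg (ψ p.1) (map_add (G.map (Adeq.ptHom p.2)).hom x y)).trans
                (map_add (ψ p.1).hom _ _)
            map_smul' := fun r x => funext fun p => by
              exact (congrArg (ψ p.1) (G.map_smul (Adeq.ptHom p.2) r x)).trans
                (map_smul (ψ p.1).hom _ _) }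
        naturality := fun {X Y} f => by
          refine ModuleCat.hom_ext (LinearMap.ext fun x => funext fun p => ?_)
          exact congrArg (ψ p.1) (G.map_comp_apply f (Adeq.ptHom p.2) x).symm }
    refine ⟨Ψ, PresheafOfModules.hom_ext fun X => ModuleCat.hom_ext (LinearMap.ext fun x => funext fun p => ?_)⟩
    have h1 : G.map (Adeq.ptHom p.2) (m.app X x) = m.app (Adeq.pt p.1) (F.map (Adeq.ptHom p.2) x) :=
      (PresheafOfModules.naturality_apply m (Adeq.ptHom p.2) x).symm
    refine ((congrArg (ψ p.1) h1).trans (hψ _ _)).trans ?_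
    have h2 := PresheafOfModules.naturality_apply φ (Adeq.ptHom p.2) x
    refine (congrFun h2 ⟨p.1, 𝟙 p.1⟩).trans ?_
    exact congrArg (β := ↑(I p.1)) (fun g : X.unop.unop ⟶ p.1 => (φ.app X x : Val I X.unop.unop) ⟨p.1, g⟩) (Category.comp_id p.2)

theorem enoughInjectives : EnoughInjectives (Adeq.MVF A) := by
  refine ⟨fun F => ?_⟩
  let I : ∀ B : Adeq.Alg A, ModuleCat.{u + 1} B := fun B => Injective.under (F.obj (Adeq.pt B))
  let ι : F ⟶ coind I :=
    { app := fun X => ModuleCat.ofHom
        { toFun := fun x => (fun p => Injective.ι (F.obj (Adeq.pt p.1)) (F.map (Adeq.ptHom p.2) x) : Val I X.unop.unop)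
          map_add' := fun x y => funext fun p => by
            exact (congrArg (Injective.ι (F.obj (Adeq.pt p.1)))
              (map_add (F.map (Adeq.ptHom p.2)).hom x y)).trans
              (map_add (Injective.ι (F.obj (Adeq.pt p.1))).hom _ _)
          map_smul' := fun r x => funext fun p => by
            exact (congrArg (Injective.ι (F.obj (Adeq.pt p.1))) (F.map_smul (Adeq.ptHom p.2) r x)).trans
              (map_smul (Injective.ι (F.obj (Adeq.pt p.1))).hom _ _) }
      naturality := fun {X Y} f => by
        refine ModuleCat.hom_ext (LinearMap.ext fun x => funext fun p => ?_)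
        exact congrArg (Injective.ι (F.obj (Adeq.pt p.1))) (F.map_comp_apply f (Adeq.ptHom p.2) x).symm }
  have : Mono ι := by
    refine PresheafOfModules.mono_of_injective fun X => ?_
    intro x y h
    have h1 : Injective.ι (F.obj (Adeq.pt X.unop.unop)) (F.map (Adeq.ptHom (𝟙 _)) x) =
        Injective.ι (F.obj (Adeq.pt X.unop.unop)) (F.map (Adeq.ptHom (𝟙 _)) y) :=
      congrFun h ⟨X.unop.unop, 𝟙 _⟩
    have h2 := (ModuleCat.mono_iff_injective _).mp inferInstance h1
    have key : ∀ z : F.obj X, F.map (Adeq.ptHom (𝟙 X.unop.unop)) z = z := fun z => by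
      rw [F.congr_map_apply (show Adeq.ptHom (𝟙 X.unop.unop) = 𝟙 X from rfl)]
      simp
      rfl
    rwa [key, key] at h2
  exact ⟨⟨coind I, inferInstance, ι, inferInstance⟩⟩

end Groth.Agent.H54.AdeqInj
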