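import Groth.Prelude.Def_W4stkadequateTF
import Mathlib.Algebra.Homology.ShortComplex.ShortExact
import Mathlib.Algebra.Category.ModuleCat.Biproducts
import Mathlib.CategoryTheory.Abelian.Basic

/-!
# Right exactness of tangent functors in short exact sequences
-/

universe u

open CategoryTheory Limits

namespace Groth.Agent.H54.AdeqTF

open _root_.AdeqTF

variable {A : Type u} [CommRing A]

lemma val_app_map {F G : Adeq.MVF A} (φ : F ⟶ G) {B B' : Adeq.Alg A} (f : B ⟶ B')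
    (x : F.obj (Adeq.pt B)) :
    φ.app (Adeq.pt B') (F.map (Adeq.ptHom f) x) = G.map (Adeq.ptHom f) (φ.app (Adeq.pt B) x) :=
  PresheafOfModules.naturality_apply φ (Adeq.ptHom f) x

lemma map_ptId (F : Adeq.MVF A) {B : Adeq.Alg A} (x : F.obj (Adeq.pt B)) :
    F.map (Adeq.ptHom (𝟙 B)) x = x := by
  rw [F.congr_map_apply (show Adeq.ptHom (𝟙 B) = 𝟙 _ from rfl)]
  simp
  rfl

lemma map_map (F : Adeq.MVF A) {B B' B'' : Adeq.Alg A} (f : B ⟶ B') (g : B' ⟶ B'') (x : F.obj (Adeq.pt B)) :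
    F.map (Adeq.ptHom g) (F.map (Adeq.ptHom f) x) = F.map (Adeq.ptHom (f ≫ g)) x :=
  (F.map_comp_apply (Adeq.ptHom f) (Adeq.ptHom g) x).symm

lemma map_retract (F : Adeq.MVF A) {B B' : Adeq.Alg A} {f : B ⟶ B'} {g : B' ⟶ B} (h : f ≫ g = 𝟙 B)
    (x : F.obj (Adeq.pt B)) : F.map (Adeq.ptHom g) (F.map (Adeq.ptHom f) x) = x := by
  rw [map_map, h]
  exact map_ptId F x

/-- Right exactness of the tangent functor at a short complex. -/
def RE (B : Adeq.Alg A) (S : ShortComplex (ModuleCat.{u} B)) (F : Adeq.MVF A) : Prop :=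
  Function.Surjective (tangentMap B F S.g) ∧
    (tangentMap B F S.g).ker = (tangentMap B F S.f).range

lemma map_mem {F : Adeq.MVF A} {G : Adeq.MVF A} (φ : F ⟶ G) {B : Adeq.Alg A} {N : ModuleCat.{u} B}
    {x : F.obj (Adeq.pt (ext B N))} (hx : x ∈ tangent B N F) : φ.app _ x ∈ tangent B N G := by
  show G.map (Adeq.ptHom (fst B N)) (φ.app _ x) = 0
  have h1 := val_app_map φ (fst B N) x
  rw [show F.map (Adeq.ptHom (fst B N)) x = 0 from hx] at h1
  exact h1.symm.trans (map_zero (φ.app (Adeq.pt B)).hom)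

/-- Induced map between tangent modules. -/
noncomputable def tHom {F G : Adeq.MVF A} (B : Adeq.Alg A) (φ : F ⟶ G) (N : ModuleCat.{u} B) :
    tangent B N F →+ tangent B N G :=
  ((φ.app _).hom.toAddMonoidHom.comp (tangent B N F).subtype).codRestrict _ fun x => map_mem φ x.2

lemma tHom_tangentMap {F G : Adeq.MVF A} (B : Adeq.Alg A) (φ : F ⟶ G) {N N' : ModuleCat.{u} B} (g : N ⟶ N')
    (x : tangent B N F) : tHom B φ N' (tangentMap B F g x) = tangentMap B G g (tHom B φ N x) :=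
  Subtype.ext (val_app_map φ _ _)

lemma tangentMap_comp {F : Adeq.MVF A} (B : Adeq.Alg A) {N N' N'' : ModuleCat.{u} B} (g : N ⟶ N')
    (h : N' ⟶ N'') (x : tangent B N F) :
    tangentMap B F h (tangentMap B F g x) = tangentMap B F (g ≫ h) x := by
  apply Subtype.ext
  show F.map (Adeq.ptHom (map B h)) (F.map (Adeq.ptHom (map B g)) x.1) = _
  rw [← F.map_comp_apply]
  refine F.congr_map_apply (congrArg Adeq.ptHom ?_) x.1
  apply CommAlgCat.hom_ext
  exact AlgHom.ext fun t => (DFunLike.congr_fun (TrivSqZeroExt.map_comp_map g.hom h.hom) t).symm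

lemma tangentMap_zero {F : Adeq.MVF A} (B : Adeq.Alg A) {N N' : ModuleCat.{u} B}
    (x : tangent B N F) : tangentMap B F (0 : N ⟶ N') x = 0 := by
  apply Subtype.ext
  have e : map B (0 : N ⟶ N') = fst B N ≫ inl B N' := by
    apply CommAlgCat.hom_ext
    refine AlgHom.ext fun t => ?_
    show TrivSqZeroExt.map (0 : N ⟶ N').hom t = TrivSqZeroExt.inl (TrivSqZeroExt.fst t)
    exact TrivSqZeroExt.ext (by simp) (by simp)
  refine (F.congr_map_apply (congrArg Adeq.ptHom e) x.1).trans ?_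
  have h2 : F.map (Adeq.ptHom (fst B N)) x.1 = 0 := x.2
  refine (F.map_comp_apply (Adeq.ptHom (fst B N)) (Adeq.ptHom (inl B N')) x.1).trans ?_
  rw [h2]
  exact map_zero _

variable (C : ShortComplex (Adeq.MVF A)) (B : Adeq.Alg A)

/-- The component maps on values. -/
noncomputable abbrev p (B : Adeq.Alg A) : C.X₂.obj (Adeq.pt B) → C.X₃.obj (Adeq.pt B) :=
  fun x => C.g.app (Adeq.pt B) x

noncomputable abbrev q (B : Adeq.Alg A) : C.X₁.obj (Adeq.pt B) → C.X₂.obj (Adeq.pt B) :=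
  fun x => C.f.app (Adeq.pt B) x

variable (hC : C.ShortExact)

include hC

lemma values (B : Adeq.Alg A) :
    Function.Injective (q C B) ∧ Function.Surjective (p C B) ∧ Function.Exact (q C B) (p C B) := by
  have : (PresheafOfModules.evaluation.{u + 1} (Adeq.ringOf A) (Adeq.pt B)).Additive := { }
  have : PreservesFiniteLimits (PresheafOfModules.evaluation.{u + 1} (Adeq.ringOf A) (Adeq.pt B)) :=
    PresheafOfModules.evaluation_preservesFiniteLimits.{u + 1} _ _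
  have : PreservesFiniteColimits (PresheafOfModules.evaluation.{u + 1} (Adeq.ringOf A) (Adeq.pt B)) :=
    PresheafOfModules.Finite.evaluation_preservesFiniteColimits.{u + 1} _ _
  have h := hC.map_of_exact (PresheafOfModules.evaluation.{u + 1} (Adeq.ringOf A) (Adeq.pt B))
  exact ⟨(ModuleCat.mono_iff_injective _).mp h.mono_f, (ModuleCat.epi_iff_surjective _).mp h.epi_g,
    (ShortComplex.ShortExact.moduleCat_exact_iff_function_exact _).mp h.exact⟩

lemma tangent_surj (N : ModuleCat.{u} B) (z : C.X₃.obj (Adeq.pt (ext B N))) (hz : z ∈ tangent B N C.X₃) :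
    ∃ y ∈ tangent B N C.X₂, p C (ext B N) y = z := by
  obtain ⟨y, rfl⟩ := (values C hC _).2.1 z
  let i : C.X₂.obj (Adeq.pt B) →+ C.X₂.obj (Adeq.pt (ext B N)) :=
    (C.X₂.map (Adeq.ptHom (inl B N))).hom.toAddMonoidHom
  let r : C.X₂.obj (Adeq.pt (ext B N)) →+ C.X₂.obj (Adeq.pt B) :=
    (C.X₂.map (Adeq.ptHom (fst B N))).hom.toAddMonoidHom
  let g' : C.X₂.obj (Adeq.pt (ext B N)) →+ C.X₃.obj (Adeq.pt (ext B N)) :=
    (C.g.app _).hom.toAddMonoidHom
  have hir : inl B N ≫ fst B N = 𝟙 B :=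
    CommAlgCat.hom_ext (AlgHom.ext fun x => TrivSqZeroExt.fst_inl (N : Type u) x)
  have hri : ∀ t, r (i t) = t := fun t => map_retract C.X₂ hir t
  refine ⟨y - i (r y), ?_, ?_⟩
  · show r (y - i (r y)) = 0
    rw [map_sub, hri, sub_self]
  · show g' (y - i (r y)) = g' y
    rw [map_sub, sub_eq_self]
    let j : C.X₃.obj (Adeq.pt B) →+ C.X₃.obj (Adeq.pt (ext B N)) :=
      (C.X₃.map (Adeq.ptHom (inl B N))).hom.toAddMonoidHom
    let gB : C.X₂.obj (Adeq.pt B) →+ C.X₃.obj (Adeq.pt B) := (C.g.app _).hom.toAddMonoidHom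
    have h1 : g' (i (r y)) = j (gB (r y)) := val_app_map C.g (inl B N) (r y)
    have h2 : gB (r y) = 0 := Eq.trans (val_app_map C.g (fst B N) y) hz
    rw [h1, h2, map_zero]

lemma tangent_exact (N : ModuleCat.{u} B) (y : C.X₂.obj (Adeq.pt (ext B N))) (hy : y ∈ tangent B N C.X₂)
    (h : p C _ y = 0) : ∃ x ∈ tangent B N C.X₁, q C _ x = y := by
  obtain ⟨x, rfl⟩ := ((values C hC _).2.2 y).mp h
  refine ⟨x, (values C hC B).1 ?_, rfl⟩
  exact (val_app_map C.f (fst B N) x).trans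
    (Eq.trans hy (map_zero (C.f.app (Adeq.pt B)).hom).symm)

variable (S : ShortComplex (ModuleCat.{u} B))

lemma rows (N : ModuleCat.{u} B) : Function.Injective (tHom B C.f N) ∧
    Function.Surjective (tHom B C.g N) ∧ Function.Exact (tHom B C.f N) (tHom B C.g N) := by
  refine ⟨fun a b h => Subtype.ext ((values C hC _).1 (congrArg Subtype.val h)), fun z => ?_, fun y => ?_⟩
  · obtain ⟨y, hy, e⟩ := tangent_surj C B hC N z.1 z.2
    exact ⟨⟨y, hy⟩, Subtype.ext e⟩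
  · constructor
    · intro h
      obtain ⟨x, hx, e⟩ := tangent_exact C B hC N y.1 y.2 (congrArg Subtype.val h)
      exact ⟨⟨x, hx⟩, Subtype.ext e⟩
    · rintro ⟨x, rfl⟩
      exact Subtype.ext (((values C hC _).2.2 _).mpr ⟨x.1, rfl⟩)

omit hC in
lemma map_comp_eq_zero {F : Adeq.MVF A} (h : (tangentMap B F S.g).ker = (tangentMap B F S.f).range)
    (x : tangent B S.X₁ F) : tangentMap B F S.g (tangentMap B F S.f x) = 0 := by
  rw [← AddMonoidHom.mem_ker, h]
  exact ⟨x, rfl⟩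

theorem re_third (h₁ : RE B S C.X₁) (h₂ : RE B S C.X₂) : RE B S C.X₃ := by
  refine ⟨fun z => ?_, le_antisymm (fun z hz => ?_) ?_⟩
  · obtain ⟨y, rfl⟩ := (rows C B hC S.X₃).2.1 z
    obtain ⟨x, rfl⟩ := h₂.1 y
    exact ⟨tHom B C.g _ x, (tHom_tangentMap B C.g S.g x).symm⟩
  · obtain ⟨y, rfl⟩ := (rows C B hC S.X₂).2.1 z
    obtain ⟨a, ha⟩ := ((rows C B hC S.X₃).2.2 (tangentMap B C.X₂ S.g y)).mp
      ((tHom_tangentMap B C.g S.g y).trans hz)
    obtain ⟨a', rfl⟩ := h₁.1 a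
    have h : y - tHom B C.f _ a' ∈ (tangentMap B C.X₂ S.g).ker := by
      rw [AddMonoidHom.mem_ker, map_sub, ← tHom_tangentMap, ha, sub_self]
    rw [h₂.2] at h
    obtain ⟨b, hb⟩ := h
    refine ⟨tHom B C.g _ b, ?_⟩
    rw [← tHom_tangentMap, hb, map_sub, ((rows C B hC S.X₂).2.2 _).mpr ⟨a', rfl⟩, sub_zero]
  · rintro _ ⟨z, rfl⟩
    obtain ⟨y, rfl⟩ := (rows C B hC S.X₁).2.1 z
    rw [AddMonoidHom.mem_ker, ← tHom_tangentMap, ← tHom_tangentMap, map_comp_eq_zero B S h₂.2, map_zero]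

theorem re_middle (h₁ : RE B S C.X₁) (h₃ : RE B S C.X₃) : RE B S C.X₂ := by
  have hzero : ∀ x : tangent B S.X₁ C.X₂, tangentMap B C.X₂ S.g (tangentMap B C.X₂ S.f x) = 0 := by
    intro x
    rw [tangentMap_comp, S.zero, tangentMap_zero]
  refine ⟨fun y => ?_, le_antisymm (fun y hy => ?_) ?_⟩
  · obtain ⟨z, hz⟩ := h₃.1 (tHom B C.g _ y)
    obtain ⟨y', rfl⟩ := (rows C B hC S.X₂).2.1 z
    have : tHom B C.g _ (y - tangentMap B C.X₂ S.g y') = 0 := by
      rw [map_sub, tHom_tangentMap, hz, sub_self]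
    obtain ⟨a, ha⟩ := ((rows C B hC S.X₃).2.2 _).mp this
    obtain ⟨a', rfl⟩ := h₁.1 a
    refine ⟨y' + tHom B C.f _ a', ?_⟩
    rw [map_add, ← tHom_tangentMap, ha, add_sub_cancel]
  · have : tHom B C.g _ y ∈ (tangentMap B C.X₃ S.g).ker := by
      rw [AddMonoidHom.mem_ker, ← tHom_tangentMap, show tangentMap B C.X₂ S.g y = 0 from hy, map_zero]
    rw [h₃.2] at this
    obtain ⟨z, hz⟩ := this
    obtain ⟨y', rfl⟩ := (rows C B hC S.X₁).2.1 z
    have h4 : tHom B C.g _ (y - tangentMap B C.X₂ S.f y') = 0 := by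
      rw [map_sub, tHom_tangentMap, hz, sub_self]
    obtain ⟨a, ha⟩ := ((rows C B hC S.X₂).2.2 _).mp h4
    have h5 : a ∈ (tangentMap B C.X₁ S.g).ker := by
      rw [AddMonoidHom.mem_ker]
      apply (rows C B hC S.X₃).1
      rw [tHom_tangentMap, ha, map_sub, hy, hzero, sub_zero, map_zero]
    rw [h₁.2] at h5
    obtain ⟨a', rfl⟩ := h5
    refine ⟨y' + tHom B C.f _ a', ?_⟩
    rw [map_add, ← tHom_tangentMap, ha, add_sub_cancel]
  · rintro _ ⟨x, rfl⟩
    exact hzero x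

omit hC in
theorem bijective_coprod {F : Adeq.MVF A}
    (hF : ∀ S : ShortComplex (ModuleCat.{u} B), S.ShortExact → RE B S F) (N₁ N₂ : ModuleCat.{u} B) :
    Function.Bijective ((tangentMap B F (biprod.inl : N₁ ⟶ N₁ ⊞ N₂)).coprod
      (tangentMap B F (biprod.inr : N₂ ⟶ N₁ ⊞ N₂))) := by
  have hcomp : ∀ {N N' N'' : ModuleCat.{u} B} (g : N ⟶ N') (h : N' ⟶ N'') (x : tangent B N F),
      tangentMap B F h (tangentMap B F g x) = tangentMap B F (g ≫ h) x := fun g h x =>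
    tangentMap_comp B g h x
  have hid : ∀ {N : ModuleCat.{u} B} (x : tangent B N F), tangentMap B F (𝟙 N) x = x := by
    intro N x
    apply Subtype.ext
    refine (F.congr_map_apply (congrArg Adeq.ptHom (?_ : map B (𝟙 N) = 𝟙 _)) x.1).trans (map_ptId F _)
    apply CommAlgCat.hom_ext
    exact AlgHom.ext fun t => DFunLike.congr_fun TrivSqZeroExt.map_id t
  let Sp : ShortComplex (ModuleCat.{u} B) := ShortComplex.mk
    (biprod.inl : N₁ ⟶ N₁ ⊞ N₂) biprod.snd biprod.inl_snd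
  have hS : Sp.ShortExact := (ShortComplex.Splitting.ofHasBinaryBiproduct N₁ N₂).shortExact
  obtain ⟨-, hker⟩ := hF Sp hS
  refine ⟨(injective_iff_map_eq_zero _).mpr ?_, fun y => ?_⟩
  · rintro ⟨a, b⟩ hab
    rw [AddMonoidHom.coprod_apply] at hab
    have ha : tangentMap B F (biprod.snd : N₁ ⊞ N₂ ⟶ N₂) (tangentMap B F biprod.inl a) = 0 := by
      rw [← AddMonoidHom.mem_ker]
      exact hker.ge ⟨a, rfl⟩
    have hb := congrArg (tangentMap B F (biprod.snd : N₁ ⊞ N₂ ⟶ N₂)) hab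
    rw [map_add, ha, zero_add, hcomp, biprod.inr_snd, hid, map_zero] at hb
    subst hb
    rw [map_zero, add_zero] at hab
    have := congrArg (tangentMap B F (biprod.fst : N₁ ⊞ N₂ ⟶ N₁)) hab
    rw [hcomp, biprod.inl_fst, hid, map_zero] at this
    exact Prod.ext this rfl
  · have hy : y - tangentMap B F biprod.inr (tangentMap B F (biprod.snd : N₁ ⊞ N₂ ⟶ N₂) y) ∈
        (tangentMap B F Sp.g).ker := by
      rw [AddMonoidHom.mem_ker, map_sub]
      show _ - tangentMap B F (biprod.snd : N₁ ⊞ N₂ ⟶ N₂) _ = 0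
      rw [hcomp biprod.inr biprod.snd, biprod.inr_snd, hid, sub_self]
    rw [hker] at hy
    obtain ⟨a, ha⟩ := hy
    exact ⟨(a, tangentMap B F (biprod.snd : N₁ ⊞ N₂ ⟶ N₂) y), by
      rw [AddMonoidHom.coprod_apply, show tangentMap B F biprod.inl a = _ from ha, sub_add_cancel]⟩

end Groth.Agent.H54.AdeqTF
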