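import Groth.Prelude.Def_MoreMor
import Mathlib.AlgebraicGeometry.IdealSheaf.Subscheme
import Mathlib.AlgebraicGeometry.Morphisms.Separated

/-!
# Affine stratifications from affine covers
-/

universe u

open AlgebraicGeometry CategoryTheory Limits

namespace Groth.Agent.H54.AffStrat

theorem hasAffineStratification {X : Scheme.{u}} [X.IsSeparated] (n : ℕ) (U : Fin (n + 1) → X.Opens)
    (hU : ∀ i, IsAffineOpen (U i)) (hcov : ⨆ i, U i = ⊤) : MoreMor.HasAffineStratification X n := by
  classical
  have hex : ∀ x : X, ∃ i, x ∈ U i := fun x => TopologicalSpace.Opens.mem_iSup.mp (hcov ▸ trivial)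
  let first : X → Fin (n + 1) := fun x => Fin.find _ (hex x)
  have hge : ∀ (x : X) (m : Fin (n + 1)), m ≤ first x ↔ ∀ k < m, x ∉ U k := fun x m =>
    ⟨fun h k hk hx => absurd (Fin.find_le_of_pos (hex x) hx) (not_le.mpr (hk.trans_le h)),
      fun h => le_of_not_gt fun hlt => h _ hlt (Fin.find_spec (hex x))⟩
  refine ⟨fun x => (first x).rev, fun i => ?_, fun i => ?_⟩
  · have : {x : X | (first x).rev ≤ i} = ⋂ k ∈ Set.Iio i.rev, (U k : Set X)ᶜ := by
      ext x
      simp only [Set.mem_ofPred_eq, Set.mem_iInter, Set.mem_compl_iff, SetLike.mem_coe, Set.mem_Iio,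
        ← hge x i.rev]
      exact Fin.rev_le_iff
    rw [this]
    exact isClosed_biInter fun k _ => (U k).isOpen.isClosed_compl
  · set j := i.rev
    let C : TopologicalSpace.Closeds (U j).toScheme := ⟨(U j).ι ⁻¹' (⋂ k ∈ Set.Iio j, (U k : Set X)ᶜ),
      (isClosed_biInter fun k _ => (U k).isOpen.isClosed_compl).preimage (U j).ι.continuous⟩
    let I := Scheme.IdealSheafData.vanishingIdeal C
    have : IsAffine (U j).toScheme := hU j
    have : IsAffine I.subscheme := isAffine_of_isAffineHom I.subschemeι
    have : IsAffineHom (U j).ι := IsAffineHom.of_comp (U j).ι (terminal.from X)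
    refine ⟨I.subscheme, I.subschemeι ≫ (U j).ι, inferInstance, inferInstance, inferInstance, ?_⟩
    rw [Scheme.Hom.comp_base, TopCat.coe_comp, Set.range_comp, I.range_subschemeι]
    simp only [I, Scheme.IdealSheafData.coe_support_vanishingIdeal]
    ext x
    simp only [Set.mem_image, Set.mem_ofPred_eq]
    constructor
    · rintro ⟨y, hy, rfl⟩
      have hy' : ∀ k < j, (U j).ι y ∉ U k := by simpa [C] using hy
      have h1 : first ((U j).ι y) = j := le_antisymm (Fin.find_le_of_pos (hex _) y.2) ((hge _ _).mpr hy')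
      show (first ((U j).ι y)).rev = i
      rw [h1]; exact Fin.rev_rev i
    · intro hx
      have h1 : first x = j := by simp [j, ← hx]
      refine ⟨⟨x, h1 ▸ Fin.find_spec (hex x)⟩, ?_, rfl⟩
      have := (hge x j).mp h1.ge
      simpa [C] using this

end Groth.Agent.H54.AffStrat
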