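import Groth.Agent.H54.AffStrat
import Groth.Agent.H75.RedSub
import Mathlib.AlgebraicGeometry.Noetherian
import Mathlib.AlgebraicGeometry.Limits
import Mathlib.Data.Fin.Tuple.Sort
import Mathlib.Topology.KrullDimension

/-!
# Affine stratifications of quasi-compact quasi-separated and of Noetherian schemes
-/

set_option linter.style.haveILetI false
universe u

open AlgebraicGeometry CategoryTheory Limits TopologicalSpace

namespace Groth.Agent.H54.AffStratQCQS

variable {X : Scheme.{u}}

/-- Affine opens `U` with an affine cover `V` such that every stratum is inside or disjoint from each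
member of the cover give an affine stratification. -/
theorem hasAffineStratification_of_adapted (n : ℕ) (U : Fin (n + 1) → X.Opens)
    (hU : ∀ i, IsAffineOpen (U i)) (hcov : ∀ x : X, ∃ i, x ∈ U i) {κ : Type*} (V : κ → X.Opens)
    (hV : ∀ k, IsAffineOpen (V k)) (hVcov : ∀ x : X, ∃ k, x ∈ V k)
    (hadapt : ∀ j k, (∀ x, x ∈ U j → (∀ i < j, x ∉ U i) → x ∈ V k) ∨
      (∀ x, x ∈ U j → (∀ i < j, x ∉ U i) → x ∉ V k)) :
    MoreMor.HasAffineStratification X n := by
  classical
  let first : X → Fin (n + 1) := fun x => Fin.find _ (hcov x)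
  have hge : ∀ (x : X) (m : Fin (n + 1)), m ≤ first x ↔ ∀ k < m, x ∉ U k := fun x m =>
    ⟨fun h k hk hx => absurd (Fin.find_le_of_pos (hcov x) hx) (not_le.mpr (hk.trans_le h)),
      fun h => le_of_not_gt fun hlt => h _ hlt (Fin.find_spec (hcov x))⟩
  refine ⟨fun x => (first x).rev, fun i => ?_, fun i => ?_⟩
  · have : {x : X | (first x).rev ≤ i} = ⋂ k ∈ Set.Iio i.rev, (U k : Set X)ᶜ := by
      ext x
      simp only [Set.mem_ofPred_eq, Set.mem_iInter, Set.mem_compl_iff, SetLike.mem_coe, Set.mem_Iio,
        ← hge x i.rev]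
      exact Fin.rev_le_iff
    rw [this]
    exact isClosed_biInter fun k _ => (U k).isOpen.isClosed_compl
  · set j := i.rev
    let C : Closeds (U j).toScheme := ⟨(U j).ι ⁻¹' (⋂ k ∈ Set.Iio j, (U k : Set X)ᶜ),
      (isClosed_biInter fun k _ => (U k).isOpen.isClosed_compl).preimage (U j).ι.continuous⟩
    let I := Scheme.IdealSheafData.vanishingIdeal C
    have : IsAffine (U j).toScheme := hU j
    have : IsAffine I.subscheme := isAffine_of_isAffineHom I.subschemeι
    have hmem : ∀ z, (I.subschemeι ≫ (U j).ι) z ∈ U j ∧ ∀ k < j, (I.subschemeι ≫ (U j).ι) z ∉ U k := by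
      intro z
      have hz : I.subschemeι z ∈ (C : Set (U j).toScheme) := by
        rw [← Scheme.IdealSheafData.coe_support_vanishingIdeal C, ← I.range_subschemeι]
        exact ⟨z, rfl⟩
      refine ⟨(I.subschemeι z).2, fun k hk => ?_⟩
      exact Set.mem_iInter₂.mp hz k hk
    have : IsAffineHom (I.subschemeι ≫ (U j).ι) := by
      refine isAffineHom_of_forall_exists_isAffineOpen _ fun x => ?_
      obtain ⟨k, hk⟩ := hVcov x
      refine ⟨V k, hk, hV k, ?_⟩
      rcases hadapt j k with h | h
      · have hpre : (I.subschemeι ≫ (U j).ι) ⁻¹ᵁ V k = ⊤ :=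
          top_le_iff.mp fun z _ => h _ (hmem z).1 (hmem z).2
        rw [hpre]
        exact isAffineOpen_top _
      · have hpre : (I.subschemeι ≫ (U j).ι) ⁻¹ᵁ V k = ⊥ :=
          le_bot_iff.mp fun z hz => (h _ (hmem z).1 (hmem z).2 hz).elim
        rw [hpre]
        exact isAffineOpen_bot _
    refine ⟨I.subscheme, I.subschemeι ≫ (U j).ι, inferInstance, inferInstance, inferInstance, ?_⟩
    rw [Scheme.Hom.comp_base, TopCat.coe_comp, Set.range_comp, I.range_subschemeι]
    simp only [I, Scheme.IdealSheafData.coe_support_vanishingIdeal]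
    ext x
    simp only [Set.mem_image, Set.mem_ofPred_eq]
    constructor
    · rintro ⟨y, hy, rfl⟩
      have hy' : ∀ k < j, (U j).ι y ∉ U k := by simpa [C] using hy
      have h1 : first ((U j).ι y) = j := le_antisymm (Fin.find_le_of_pos (hcov _) y.2) ((hge _ _).mpr hy')
      show (first ((U j).ι y)).rev = i
      rw [h1]; exact Fin.rev_rev i
    · intro hx
      have h1 : first x = j := by simp [j, ← hx]
      refine ⟨⟨x, h1 ▸ Fin.find_spec (hcov x)⟩, ?_, rfl⟩
      have := (hge x j).mp h1.ge
      simpa [C] using this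

theorem qcqs_of_hasAffineStratification {n : ℕ} (h : MoreMor.HasAffineStratification X n) :
    CompactSpace X ∧ QuasiSeparatedSpace X := by
  obtain ⟨s, -, hs⟩ := h
  choose Z ι hι hZ hιa hr using hs
  have key : ∀ A : Set X, (∀ i, IsCompact (ι i ⁻¹' A)) → IsCompact A := fun A hA => by
    have e : A = ⋃ i, ι i '' (ι i ⁻¹' A) := by
      ext x
      simp only [Set.mem_iUnion, Set.mem_image, Set.mem_preimage]
      refine ⟨fun hx => ?_, fun ⟨i, z, hz, e⟩ => e ▸ hz⟩
      obtain ⟨z, hz⟩ : x ∈ Set.range (ι (s x)) := (Set.ext_iff.mp (hr (s x)) x).mpr rfl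
      exact ⟨s x, z, hz.symm ▸ hx, hz⟩
    rw [e]
    exact isCompact_iUnion fun i => (hA i).image (ι i).continuous
  refine ⟨⟨key _ fun i => ?_⟩, quasiSeparatedSpace_iff_forall_affineOpens.mpr fun U V => key _ fun i => ?_⟩
  · have := hZ i
    rw [Set.preimage_univ]; exact isCompact_univ
  · have := hZ i
    have := hιa i
    exact ((U.2.preimage (ι i)).inf (V.2.preimage (ι i))).isCompact

theorem exists_hasAffineStratification [CompactSpace X] [QuasiSeparatedSpace X] :
    ∃ n, MoreMor.HasAffineStratification X n := by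
  classical
  obtain ⟨s, hs⟩ := isCompact_univ.elim_finite_subcover (fun V : X.affineOpens => (V.1 : Set X))
    (fun V => V.1.2) fun x _ => by
      obtain ⟨V, hV, hxV, -⟩ := exists_isAffineOpen_mem_and_subset (show x ∈ (⊤ : X.Opens) from trivial)
      exact Set.mem_iUnion.mpr ⟨⟨V, hV⟩, hxV⟩
  let V : s → X.Opens := fun k => k.1.1
  have hVcov : ∀ x : X, ∃ k, x ∈ V k := fun x => by
    obtain ⟨k, hk, hxk⟩ := Set.mem_iUnion₂.mp (hs (Set.mem_univ x))
    exact ⟨⟨k, hk⟩, hxk⟩
  let W : Finset s → Set X := fun S => ⋂ i ∈ S, (V i : Set X)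
  have hW : ∀ S, IsOpen (W S) ∧ IsCompact (W S) := fun S => by
    induction S using Finset.induction with
    | empty => simp [W, isCompact_univ]
    | insert a S _ ih =>
      have e : W (insert a S) = (V a : Set X) ∩ W S := by simp [W]
      rw [e]
      exact ⟨(V a).2.inter ih.1,
        QuasiSeparatedSpace.inter_isCompact _ _ (V a).2 a.1.2.isCompact ih.1 ih.2⟩
  have hcover : ∀ S, ∃ t : Finset {E : X.affineOpens // (E.1 : Set X) ⊆ W S},
      W S ⊆ ⋃ E ∈ t, (E.1.1 : Set X) := fun S =>
    (hW S).2.elim_finite_subcover (fun E : {E : X.affineOpens // (E.1 : Set X) ⊆ W S} => (E.1.1 : Set X))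
      (fun E => E.1.1.2) fun x hx => by
        obtain ⟨E, hE, hxE, hle⟩ := exists_isAffineOpen_mem_and_subset
          (show x ∈ (⟨W S, (hW S).1⟩ : X.Opens) from hx)
        exact Set.mem_iUnion.mpr ⟨⟨⟨E, hE⟩, hle⟩, hxE⟩
  choose t ht using hcover
  let P := Σ S : Finset s, (t S : Finset _)
  let N := Fintype.card P
  let g : Fin N ≃ P := (Fintype.equivFin P).symm
  let key : P → ℕ := fun p => Fintype.card s - p.1.card
  let σ := Tuple.sort (key ∘ g)
  let U : Fin (N + 1) → X.Opens :=
    Fin.snoc (fun i => ((g (σ i)).2.1.1.1 : X.Opens)) ⊥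
  let Sx : X → Finset s := fun x => Finset.univ.filter fun k => x ∈ V k
  have hmemW : ∀ x, x ∈ W (Sx x) := fun x => by simp [W, Sx]
  have hex : ∀ x, ∃ i : Fin N, (g (σ i)).1 = Sx x ∧ x ∈ U i.castSucc := fun x => by
    obtain ⟨E, hE, hxE⟩ := Set.mem_iUnion₂.mp (ht (Sx x) (hmemW x))
    refine ⟨σ.symm (g.symm ⟨Sx x, E, hE⟩), by simp, ?_⟩
    simp only [U, Fin.snoc_castSucc]
    rw [Equiv.apply_symm_apply, Equiv.apply_symm_apply]
    exact hxE
  refine ⟨N, hasAffineStratification_of_adapted N U (fun i => ?_) (fun x => ?_) V (fun k => k.1.2)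
    hVcov fun j k => ?_⟩
  · induction i using Fin.lastCases with
    | last => simp only [U, Fin.snoc_last]; exact isAffineOpen_bot X
    | cast i => simp only [U, Fin.snoc_castSucc]; exact (g (σ i)).2.1.1.2
  · exact (hex x).elim fun i hi => ⟨_, hi.2⟩
  · induction j using Fin.lastCases with
    | last => exact Or.inl fun x hx => absurd hx (by simp [U])
    | cast i =>
      have key' : ∀ x, x ∈ U i.castSucc → (∀ i' < i.castSucc, x ∉ U i') → Sx x = (g (σ i)).1 := by
        intro x hx hfirst
        have hsub : (g (σ i)).1 ⊆ Sx x := fun a ha => by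
          simp only [U, Fin.snoc_castSucc] at hx
          have := Set.mem_iInter₂.mp ((g (σ i)).2.1.2 hx) a ha
          simpa [Sx] using this
        by_contra hne
        obtain ⟨i', hi', hxi'⟩ := hex x
        refine hfirst _ (Fin.castSucc_lt_castSucc_iff.mpr ?_) hxi'
        by_contra hle
        have h1 : key (g (σ i)) ≤ key (g (σ i')) := Tuple.monotone_sort (key ∘ g) (not_lt.mp hle)
        have h2 := Finset.card_lt_card (lt_of_le_of_ne hsub (Ne.symm hne))
        have h3 := Finset.card_le_univ (Sx x)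
        simp only [key, hi'] at h1
        omega
      by_cases hk : k ∈ (g (σ i)).1
      · exact Or.inl fun x hx hf => by
          have := key' x hx hf ▸ hk
          simpa [Sx] using this
      · exact Or.inr fun x hx hf hxk => hk (key' x hx hf ▸ by simpa [Sx] using hxk)

theorem exists_dense_affine [IsNoetherian X] :
    ∃ U : X.Opens, IsAffineOpen U ∧ IsAffineHom U.ι ∧
      ∀ c ∈ irreducibleComponents X, ∃ η ∈ c, η ∈ U := by
  classical
  obtain ⟨s, hs⟩ := isCompact_univ.elim_finite_subcover (fun V : X.affineOpens => (V.1 : Set X))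
    (fun V => V.1.2) fun x _ => by
      obtain ⟨V, hV, hxV, -⟩ := exists_isAffineOpen_mem_and_subset (show x ∈ (⊤ : X.Opens) from trivial)
      exact Set.mem_iUnion.mpr ⟨⟨V, hV⟩, hxV⟩
  have hfin := NoetherianSpace.finite_irreducibleComponents (α := X)
  haveI : Finite (irreducibleComponents X) := hfin.to_subtype
  let η : irreducibleComponents X → X := fun c => c.2.1.genericPoint
  have hη : ∀ c, IsGenericPoint (η c) (c.1 : Set X) := fun c =>
    c.2.1.isGenericPoint_genericPoint (isClosed_of_mem_irreducibleComponents c.1 c.2)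
  let O : irreducibleComponents X → Set X := fun c =>
    (⋃ c' : {c' : irreducibleComponents X // c' ≠ c}, (c'.1.1 : Set X))ᶜ ∩
      ⋂ V : {V : X.affineOpens // V ∈ s ∧ η c ∈ V.1}, (V.1.1 : Set X)
  have hOo : ∀ c, IsOpen (O c) := fun c => by
    haveI : Finite {V : X.affineOpens // V ∈ s ∧ η c ∈ V.1} :=
      Finite.of_injective (fun V => (⟨V.1, V.2.1⟩ : s)) fun a b h => by
        exact Subtype.ext (congrArg (fun z : s => z.1) h)
    refine IsOpen.inter (IsClosed.isOpen_compl (self := isClosed_iUnion_of_finite ?_))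
      (isOpen_iInter_of_finite ?_)
    · intro c'
      exact isClosed_of_mem_irreducibleComponents c'.1.1 c'.1.2
    · intro V
      exact V.1.1.2
  have hηO : ∀ c, η c ∈ O c := fun c => by
    refine ⟨fun h => ?_, Set.mem_iInter.mpr fun V => V.2.2⟩
    obtain ⟨⟨c', hne⟩, hc'⟩ := Set.mem_iUnion.mp h
    have hsub : (c.1 : Set X) ⊆ c'.1 := by
      rw [← (hη c).def]
      exact closure_minimal (Set.singleton_subset_iff.mpr hc') (isClosed_of_mem_irreducibleComponents c'.1 c'.2)
    exact hne (Subtype.ext (Set.Subset.antisymm (c.2.2 c'.2.1 hsub) hsub))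
  choose U hU hηU hUO using fun c => exists_isAffineOpen_mem_and_subset
    (show η c ∈ (⟨O c, hOo c⟩ : X.Opens) from hηO c)
  have honly : ∀ c c' x, x ∈ U c → x ∈ (c'.1 : Set X) → c' = c := fun c c' x hx hx' => by
    by_contra hne
    exact (hUO c hx).1 (Set.mem_iUnion.mpr ⟨⟨c', hne⟩, hx'⟩)
  have hown : ∀ c x, x ∈ U c → x ∈ (c.1 : Set X) := fun c x hx => by
    have := honly c ⟨_, irreducibleComponent_mem_irreducibleComponents x⟩ x hx mem_irreducibleComponent
    exact this ▸ (mem_irreducibleComponent : x ∈ irreducibleComponent x)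
  open scoped Function in
  have hdisj : Pairwise (Disjoint on U) := fun c c' hne => by
    show Disjoint (U c) (U c')
    rw [disjoint_iff_inf_le]
    exact fun x hx => (hne (honly c c' x hx.1 (hown c' x hx.2)).symm).elim
  refine ⟨⨆ c, U c, IsAffineOpen.iSup_of_disjoint hU hdisj,
    isAffineHom_of_forall_exists_isAffineOpen _ fun x => ?_,
    fun c hc => ⟨η ⟨c, hc⟩, (hη ⟨c, hc⟩).mem, Opens.mem_iSup.mpr ⟨⟨c, hc⟩, hηU _⟩⟩⟩
  obtain ⟨V, hV, hxV⟩ := Set.mem_iUnion₂.mp (hs (Set.mem_univ x))
  refine ⟨V.1, hxV, V.2, ?_⟩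
  let S : Set (irreducibleComponents X) := {c | η c ∈ V.1}
  have h1 : IsAffineOpen (⨆ c ∈ S, U c) :=
    IsAffineOpen.biSup_of_disjoint (Set.toFinite S) (fun c _ => hU c) (hdisj.set_pairwise S)
  have h2 : (⨆ c, U c).ι ⁻¹ᵁ (⨆ c ∈ S, U c) = (⨆ c, U c).ι ⁻¹ᵁ V.1 := by
    ext z
    constructor
    · intro hz
      obtain ⟨c, hc⟩ := Opens.mem_iSup.mp hz
      obtain ⟨hcS, hzc⟩ := Opens.mem_iSup.mp hc
      exact Set.mem_iInter.mp (hUO c hzc).2 ⟨V, hV, hcS⟩
    · intro hz
      obtain ⟨c, hc⟩ := Opens.mem_iSup.mp z.2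
      refine Opens.mem_iSup.mpr ⟨c, Opens.mem_iSup.mpr ⟨?_, hc⟩⟩
      exact ((hη c).specializes (hown c _ hc)).mem_open V.1.2 hz
  rw [← h2]
  refine h1.preimage_of_isOpenImmersion _ ?_
  rw [Scheme.Opens.opensRange_ι]
  exact iSup₂_le fun c _ => le_iSup U c

/-- A closed subset missing a point of every component drops the dimension. -/
lemma length_add_one_le {Z : Scheme.{u}} (t : Z ⟶ X) [IsClosedImmersion t]
    (hmiss : ∀ c ∈ irreducibleComponents X, ∃ η ∈ c, η ∉ Set.range t)
    (l : LTSeries (IrreducibleCloseds Z)) :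
    ∃ l' : LTSeries (IrreducibleCloseds X), l'.length = l.length + 1 := by
  let l₁ := l.map (IrreducibleCloseds.map t t.continuous)
    (IrreducibleCloseds.map_strictMono_of_isInducing t.isClosedEmbedding.isEmbedding.isInducing)
  have hlast : ((RelSeries.last l₁ : IrreducibleCloseds X) : Set X) ⊆ Set.range t := by
    refine closure_minimal ?_ t.isClosedEmbedding.isClosed_range
    rintro _ ⟨a, -, rfl⟩
    exact ⟨a, rfl⟩
  obtain ⟨c, hc, hle⟩ := exists_mem_irreducibleComponents_subset_of_isIrreducible _
    (RelSeries.last l₁ : IrreducibleCloseds X).isIrreducible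
  obtain ⟨η, hη, hηt⟩ := hmiss c hc
  let top : IrreducibleCloseds X := ⟨c, hc.1, isClosed_of_mem_irreducibleComponents c hc⟩
  have hlt : RelSeries.last l₁ < top := by
    refine lt_of_le_of_ne hle fun e => hηt (hlast ?_)
    rw [e]; exact hη
  exact ⟨l₁.snoc top hlt, by rw [RelSeries.snoc_length]; rfl⟩

theorem hasAffineStratification_of_dim (d : ℕ) : ∀ (X : Scheme.{u}) [IsNoetherian X],
    topologicalKrullDim X ≤ d → MoreMor.HasAffineStratification X d := by
  induction d with
  | zero =>
    intro X _ hd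
    obtain ⟨U, hU, -, hmeet⟩ := exists_dense_affine (X := X)
    have htop : ∀ x, x ∈ U := fun x => by
      by_contra hx
      let T : Closeds X := ⟨(U : Set X)ᶜ, U.2.isClosed_compl⟩
      let t := (Scheme.IdealSheafData.vanishingIdeal T).subschemeι
      have hr : Set.range t = (U : Set X)ᶜ := by
        rw [Scheme.IdealSheafData.range_subschemeι, Scheme.IdealSheafData.coe_support_vanishingIdeal]
        rfl
      obtain ⟨z, -⟩ : x ∈ Set.range t := hr ▸ hx
      obtain ⟨l', hl'⟩ := length_add_one_le t (fun c hc => (hmeet c hc).imp fun η h => ⟨h.1, by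
        rw [hr]; exact fun h' => h' h.2⟩)
        (RelSeries.singleton _ ⟨closure {z}, isIrreducible_singleton.closure, isClosed_closure⟩)
      have := (Order.LTSeries.length_le_krullDim l').trans hd
      rw [hl'] at this
      exact absurd (WithBot.coe_le_coe.mp this) (by simp)
    exact hasAffineStratification_of_adapted 0 (fun _ => U) (fun _ => hU) (fun x => ⟨0, htop x⟩)
      (fun _ : Unit => U) (fun _ => hU) (fun x => ⟨(), htop x⟩) fun _ _ => Or.inl fun x _ _ => htop x
  | succ d ih =>
    intro X _ hd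
    classical
    obtain ⟨U, hU, hUaff, hmeet⟩ := exists_dense_affine (X := X)
    let T : Closeds X := ⟨(U : Set X)ᶜ, U.2.isClosed_compl⟩
    let t := (Scheme.IdealSheafData.vanishingIdeal T).subschemeι
    have hr : Set.range t = (U : Set X)ᶜ := by
      rw [Scheme.IdealSheafData.range_subschemeι, Scheme.IdealSheafData.coe_support_vanishingIdeal]
      rfl
    haveI : IsNoetherian (Scheme.IdealSheafData.vanishingIdeal T).subscheme := by
      haveI := LocallyOfFiniteType.isLocallyNoetherian t
      haveI := QuasiCompact.compactSpace_of_compactSpace t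
      exact ⟨⟩
    obtain ⟨sT, hcl, hstr⟩ := ih (Scheme.IdealSheafData.vanishingIdeal T).subscheme (by
      refine iSup_le fun l => ?_
      obtain ⟨l', hl'⟩ := length_add_one_le t (fun c hc => (hmeet c hc).imp fun η h => ⟨h.1, by
        rw [hr]; exact fun h' => h' h.2⟩) l
      have := (Order.LTSeries.length_le_krullDim l').trans hd
      rw [hl'] at this
      have h2 : l.length ≤ d := by
        have := WithBot.coe_le_coe.mp this
        norm_cast at this
        omega
      exact WithBot.coe_le_coe.mpr (by exact_mod_cast h2))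
    have hmemT : ∀ x, x ∉ U → ∃ z, t z = x := fun x hx => by
      have : x ∈ Set.range t := hr ▸ hx
      exact this
    choose r hr' using hmemT
    let s : X → Fin (d + 1 + 1) := fun x =>
      if hx : x ∈ U then Fin.last _ else (sT (r x hx)).castSucc
    have hst : ∀ z, s (t z) = (sT z).castSucc := fun z => by
      have hz : t z ∉ U := (Set.ext_iff.mp hr (t z)).mp ⟨z, rfl⟩
      simp only [s, dif_neg hz]
      rw [t.isClosedEmbedding.injective (hr' _ hz)]
    have hsU : ∀ x, s x = Fin.last _ ↔ x ∈ U := fun x => by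
      by_cases hx : x ∈ U
      · simp [s, hx]
      · simp [s, hx, (Fin.castSucc_lt_last _).ne]
    refine ⟨s, fun i => ?_, fun i => ?_⟩
    · induction i using Fin.lastCases with
      | last => simp only [Fin.le_last]; exact isClosed_univ
      | cast i =>
        have e : {x | s x ≤ i.castSucc} = t '' {z | sT z ≤ i} := by
          ext x
          simp only [Set.mem_ofPred_eq, Set.mem_image]
          constructor
          · intro hx
            have hxU : x ∉ U := fun h => by
              rw [(hsU x).mpr h] at hx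
              exact absurd hx (not_le.mpr (Fin.castSucc_lt_last i))
            refine ⟨r x hxU, ?_, hr' x hxU⟩
            rw [← hr' x hxU, hst, Fin.castSucc_le_castSucc_iff] at hx
            exact hx
          · rintro ⟨z, hz, rfl⟩
            rw [hst, Fin.castSucc_le_castSucc_iff]
            exact hz
        rw [e]
        exact t.isClosedEmbedding.isClosedMap _ (hcl i)
    · induction i using Fin.lastCases with
      | last =>
        haveI : IsAffine U.toScheme := hU
        refine ⟨U.toScheme, U.ι, inferInstance, inferInstance, hUaff, ?_⟩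
        rw [Scheme.Opens.range_ι]
        ext x
        exact (hsU x).symm
      | cast i =>
        obtain ⟨Z, ι, h1, h2, h3, h4⟩ := hstr i
        refine ⟨Z, ι ≫ t, inferInstance, h2, inferInstance, ?_⟩
        rw [Scheme.Hom.comp_base, TopCat.coe_comp, Set.range_comp, h4]
        ext x
        simp only [Set.mem_image, Set.mem_ofPred_eq]
        constructor
        · rintro ⟨z, hz, rfl⟩
          rw [hst, hz]
        · intro hx
          have hxU : x ∉ U := fun h => by
            rw [(hsU x).mpr h] at hx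
            exact (Fin.castSucc_lt_last i).ne hx.symm
          refine ⟨r x hxU, ?_, hr' x hxU⟩
          rw [← hr' x hxU, hst] at hx
          exact Fin.castSucc_injective _ hx

end Groth.Agent.H54.AffStratQCQS
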