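import Groth.Agent.H54.WeightingTuples

/-!
# Affineness of the locus of maximal fibre integral and affine stratifications
-/

universe u

open AlgebraicGeometry CategoryTheory Limits Topology

namespace Groth.Agent.H54.AffineMax

open GeomLift Weighting

/-- A separated scheme receiving a finite surjection from an affine scheme is affine. -/
def Chevalley : Prop :=
  ∀ {Z U : Scheme.{u}} (r : Z ⟶ U), IsFinite r → Surjective r → IsAffine Z → U.IsSeparated → IsAffine U

variable (chev : Chevalley.{u})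
include chev

theorem isAffineOpen_max {X Y : Scheme.{u}} {f : X ⟶ Y} [LocallyQuasiFinite f]
    [LocallyOfFiniteType f] [QuasiCompact f] [IsAffine X] [Y.IsSeparated] {w : X → ℤ}
    (hw : MoreMor.IsWeighting f w) (hpos : ∀ x, 0 < w x) (d : ℤ) (hd : 0 < d)
    (hmax : ∀ y : Y, MoreMor.fibreIntegral f w y ≤ d) :
    ∃ hYd : IsOpen {y : Y | MoreMor.fibreIntegral f w y = d},
      IsAffineOpen (⟨{y : Y | MoreMor.fibreIntegral f w y = d}, hYd⟩ : Y.Opens) := by
  have : IsSeparated (f ≫ terminal.from Y) := inferInstance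
  have : IsSeparated f := IsSeparated.of_comp f (terminal.from Y)
  obtain ⟨h, Z, r, hZ, hr, hr'⟩ := WeightingTuples.exists_affine_cover
    (fun y => f.finite_preimage_singleton y) hw hpos d hd hmax
  refine ⟨h, chev r hr hr' hZ ?_⟩
  exact ⟨by rw [← terminal.comp_from (Scheme.Opens.ι _)]; infer_instance⟩

theorem isAffineOpen_max_of_isAffine {X Y : Scheme.{u}} {f : X ⟶ Y} [LocallyQuasiFinite f]
    [LocallyOfFiniteType f] [QuasiCompact f] [IsAffine X] [IsAffine Y] {w : X → ℤ}
    (hw : MoreMor.IsWeighting f w) (hpos : ∀ x, 0 < w x) (d : ℤ)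
    (hmax : ∀ y : Y, MoreMor.fibreIntegral f w y ≤ d)
    (hatt : ∃ y : Y, MoreMor.fibreIntegral f w y = d) :
    ∃ hYd : IsOpen {y : Y | MoreMor.fibreIntegral f w y = d},
      IsAffineOpen (⟨{y : Y | MoreMor.fibreIntegral f w y = d}, hYd⟩ : Y.Opens) := by
  by_cases hd : 0 < d
  · exact isAffineOpen_max chev hw hpos d hd hmax
  obtain ⟨y₀, hy₀⟩ := hatt
  have h0 : ∀ y : Y, 0 ≤ MoreMor.fibreIntegral f w y := fun y => by
    rw [FibreIntegral.fibreIntegral_eq]
    exact finsum_nonneg fun u => mul_nonneg (hpos _).le (Int.natCast_nonneg _)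
  have he : {y : Y | MoreMor.fibreIntegral f w y = d} = Set.univ := by
    ext y
    simp only [Set.mem_ofPred_eq, Set.mem_univ, iff_true]
    have := hmax y; have := h0 y; have := h0 y₀
    omega
  refine ⟨he ▸ isOpen_univ, ?_⟩
  have hT : (⟨{y : Y | MoreMor.fibreIntegral f w y = d}, he ▸ isOpen_univ⟩ : Y.Opens) = ⊤ :=
    TopologicalSpace.Opens.ext (by exact he)
  exact hT ▸ isAffineOpen_top Y

theorem exists_stratum {X Y : Scheme.{u}} (f : X ⟶ Y) [LocallyQuasiFinite f] [LocallyOfFiniteType f]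
    [QuasiCompact f] [IsAffine X] [Y.IsSeparated] {w : X → ℤ} (hw : MoreMor.IsWeighting f w)
    (hpos : ∀ x, 0 < w x) (v : ℤ) (hv : 0 < v)
    (hcl : IsClosed {y : Y | MoreMor.fibreIntegral f w y ≤ v}) :
    ∃ (Z : Scheme.{u}) (ι : Z ⟶ Y), IsImmersion ι ∧ IsAffine Z ∧ IsAffineHom ι ∧
      Set.range ι = {y : Y | MoreMor.fibreIntegral f w y = v} := by
  let I := Scheme.IdealSheafData.vanishingIdeal ⟨_, hcl⟩
  have hrange : Set.range I.subschemeι = {y : Y | MoreMor.fibreIntegral f w y ≤ v} := by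
    rw [I.range_subschemeι]
    simp only [I, Scheme.IdealSheafData.coe_support_vanishingIdeal]
    rfl
  let g := I.subschemeι
  have : IsAffine (pullback f g) := isAffine_of_isAffineHom (pullback.fst f g)
  have : I.subscheme.IsSeparated := ⟨by rw [← terminal.comp_from g]; infer_instance⟩
  have hw' := isWeighting_baseChange hw (IsPullback.of_hasPullback f g)
  have heq : ∀ z, MoreMor.fibreIntegral (pullback.snd f g) (w ∘ pullback.fst f g) z =
      MoreMor.fibreIntegral f w (g z) := fun z =>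
    fibreIntegral_baseChange (IsPullback.of_hasPullback f g) w z (f.finite_preimage_singleton _)
  obtain ⟨hW, hWaff⟩ := isAffineOpen_max chev hw' (fun x => hpos _) v hv fun z => by
    rw [heq]
    exact (Set.ext_iff.mp hrange _).mp ⟨z, rfl⟩
  let W : I.subscheme.Opens :=
    ⟨{z | MoreMor.fibreIntegral (pullback.snd f g) (w ∘ pullback.fst f g) z = v}, hW⟩
  have : IsAffine W.toScheme := hWaff
  have : IsAffineHom ((W.ι ≫ g) ≫ terminal.from Y) := inferInstance
  refine ⟨W.toScheme, W.ι ≫ g, inferInstance, inferInstance,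
    IsAffineHom.of_comp (W.ι ≫ g) (terminal.from Y), ?_⟩
  rw [Scheme.Hom.comp_base, TopCat.coe_comp, Set.range_comp, Scheme.Opens.range_ι]
  ext y
  simp only [Set.mem_image, Set.mem_ofPred_eq]
  constructor
  · rintro ⟨z, hz, rfl⟩
    exact (heq z).symm.trans hz
  · intro hy
    obtain ⟨z, rfl⟩ := (Set.ext_iff.mp hrange y).mpr (show MoreMor.fibreIntegral f w y ≤ v from hy.le)
    exact ⟨z, (heq z).trans hy, rfl⟩

theorem hasAffineStratification {X Y : Scheme.{u}} (f : X ⟶ Y) [Surjective f] [LocallyQuasiFinite f]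
    [LocallyOfFiniteType f] [QuasiCompact f] [IsAffine X] [Y.IsSeparated] [Nonempty Y] {w : X → ℤ}
    (hw : MoreMor.IsWeighting f w) (hpos : ∀ x, 0 < w x) (k : ℕ)
    (hk : (Set.range (MoreMor.fibreIntegral f w)).ncard = k)
    (hkfin : (Set.range (MoreMor.fibreIntegral f w)).Finite) :
    MoreMor.HasAffineStratification Y (k - 1) := by
  classical
  have : IsSeparated (f ≫ terminal.from Y) := inferInstance
  have : IsSeparated f := IsSeparated.of_comp f (terminal.from Y)
  have hk0 : k - 1 + 1 = k := by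
    have := hk ▸ (Set.ncard_pos hkfin).mpr (Set.range_nonempty _)
    omega
  have hcard : hkfin.toFinset.card = k - 1 + 1 := by
    rw [hk0, ← hk, Set.ncard_eq_toFinset_card _ hkfin]
  let e := hkfin.toFinset.orderIsoOfFin hcard
  have hmem : ∀ y, MoreMor.fibreIntegral f w y ∈ hkfin.toFinset := fun y =>
    hkfin.mem_toFinset.mpr ⟨y, rfl⟩
  let s : Y → Fin (k - 1 + 1) := fun y => e.symm ⟨_, hmem y⟩
  have hle : ∀ y i, s y ≤ i ↔ MoreMor.fibreIntegral f w y ≤ (e i).1 := fun y i => by
    rw [← e.le_iff_le, OrderIso.apply_symm_apply]; rfl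
  have hcl : ∀ v : ℤ, IsClosed {y : Y | MoreMor.fibreIntegral f w y ≤ v} := fun v =>
    lowerSemicontinuous_iff_isClosed_preimage.mp
      (lowerSemicontinuous_integral hw (fun x => (hpos x).le) fun y => f.finite_preimage_singleton y) v
  refine ⟨s, fun i => by simp only [hle]; exact hcl _, fun i => ?_⟩
  obtain ⟨y₀, hy₀⟩ := hkfin.mem_toFinset.mp (e i).2
  have hpos' : 0 < MoreMor.fibreIntegral f w y₀ := by
    obtain ⟨K, _, _, ξ, rfl⟩ := exists_pt_eq y₀
    obtain ⟨x, hx⟩ := f.surjective (pt ξ)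
    have := finite_lift f ξ (f.finite_preimage_singleton _)
    obtain ⟨l, -⟩ := exists_lift f ξ x hx
    exact (hpos _).trans_le (fibreIntegral_nonneg_single f ξ w (fun x => (hpos x).le) l)
  obtain ⟨Z, ι, h1, h2, h3, h4⟩ := exists_stratum chev f hw hpos (e i).1 (hy₀ ▸ hpos') (hcl _)
  refine ⟨Z, ι, h1, h2, h3, h4.trans ?_⟩
  ext y
  simp only [Set.mem_ofPred_eq]
  exact ⟨fun h => (e.symm_apply_eq).mpr (Subtype.ext h),
    fun h => congrArg Subtype.val ((e.symm_apply_eq).mp h)⟩

end Groth.Agent.H54.AffineMax
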