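import Groth.Agent.H54.CMAffine
import Groth.Agent.H2.FibreDimPullback
import Groth.Agent.Lib.Flat55.FlatLocusBC

/-!
# Base change of the Cohen–Macaulay locus
-/

universe u

open CategoryTheory CategoryTheory.Limits AlgebraicGeometry IsLocalRing LocCoh

namespace Groth.Agent.H54.CMBaseChange

open H46.DimData

variable {X S X' S' : Scheme.{u}} {f : X ⟶ S} {f' : X' ⟶ S'} {g' : X' ⟶ X} {g : S' ⟶ S}

/-- Base change of a map to affine space defined near a point. -/
theorem exists_square (hc : IsPullback g' f' f g) {n : Type u} {W : Scheme.{u}} (w : W ⟶ X) [IsOpenImmersion w]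
    (h : W ⟶ 𝔸(n; S)) (hh : h ≫ (𝔸(n; S) ↘ S) = w ≫ f) (x' : X') (z : W) (hz : w z = g' x') :
    ∃ (W' : Scheme.{u}) (a : W' ⟶ X') (_ : IsOpenImmersion a) (q : W' ⟶ W) (h' : W' ⟶ 𝔸(n; S'))
      (_ : IsPullback q h' h (AffineSpace.map n g)) (z' : W'),
      a z' = x' ∧ q z' = z ∧ h' ≫ (𝔸(n; S') ↘ S') = a ≫ f' := by
  let W' := pullback h (AffineSpace.map n g)
  have h1 : IsPullback (pullback.fst h (AffineSpace.map n g)) (pullback.snd h (AffineSpace.map n g) ≫ (𝔸(n; S') ↘ S'))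
      (h ≫ (𝔸(n; S) ↘ S)) g :=
    (IsPullback.of_hasPullback h (AffineSpace.map n g)).paste_vert (AffineSpace.isPullback_map g)
  rw [hh] at h1
  let a : W' ⟶ X' := hc.lift (pullback.fst h (AffineSpace.map n g) ≫ w)
    (pullback.snd h (AffineSpace.map n g) ≫ (𝔸(n; S') ↘ S')) (by rw [Category.assoc]; exact h1.w)
  have ha : a ≫ f' = pullback.snd h (AffineSpace.map n g) ≫ (𝔸(n; S') ↘ S') := hc.lift_snd _ _ _
  have hsq : IsPullback (pullback.fst h (AffineSpace.map n g)) a w g' :=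
    IsPullback.of_bot (by rw [ha]; exact h1) (hc.lift_fst _ _ _).symm hc
  haveI : IsOpenImmersion a := MorphismProperty.of_isPullback hsq inferInstance
  obtain ⟨p, hp1, hp2⟩ := Scheme.Pullback.exists_preimage_pullback (f := w) (g := g') z x' hz
  refine ⟨W', a, inferInstance, _, _, IsPullback.of_hasPullback h (AffineSpace.map n g),
    hsq.isoPullback.inv p, ?_, ?_, ha.symm⟩
  · rw [← Scheme.Hom.comp_apply, hsq.isoPullback_inv_snd]
    exact hp2
  · rw [← Scheme.Hom.comp_apply, hsq.isoPullback_inv_fst]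
    exact hp1

theorem isCMAt_baseChange (hc : IsPullback g' f' f g) [LocallyOfFinitePresentation f] (x' : X')
    (hcm : MoreMor.IsCMAt f (g' x')) : MoreMor.IsCMAt f' x' := by
  obtain ⟨U, h, hx, hh, _, _, _⟩ := CMAffine.exists_map_of_isCMAt f (g' x') hcm
  obtain ⟨W', a, _, q, h', hsq, z', ha, -, hh'⟩ := exists_square hc U.ι h hh x' ⟨g' x', hx⟩ rfl
  haveI : LocallyOfFinitePresentation f' := MorphismProperty.of_isPullback hc inferInstance
  haveI : Flat h' := MorphismProperty.of_isPullback hsq ‹Flat h›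
  haveI : LocallyQuasiFinite h' := MorphismProperty.of_isPullback hsq ‹LocallyQuasiFinite h›
  haveI : LocallyOfFiniteType h' := MorphismProperty.of_isPullback hsq ‹LocallyOfFiniteType h›
  have h1 := (CMAffine.isCMAt_of_map h' z' (Scheme.Hom.quasiFiniteAt h' z') (Flat.stalkMap h' z')).1
  simp only [hh'] at h1
  exact ha ▸ (CMAffine.isCMAt_openImmersion_comp a f' z').1 h1

theorem isCMAt_of_baseChange (hc : IsPullback g' f' f g) [Flat f] [LocallyOfFinitePresentation f] (x' : X')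
    (hcm : MoreMor.IsCMAt f' x') : MoreMor.IsCMAt f (g' x') := by
  obtain ⟨W, w, _, z, h₀, _, hz, hover, hqf⟩ := CMAffine.exists_quasiFiniteAt_map f (g' x')
  let d := fe f (g' x')
  let O : W.Opens := h₀.quasiFiniteLocus
  let h := O.ι ≫ h₀
  have hh : h ≫ (𝔸(ULift.{u} (Fin d); S) ↘ S) = (O.ι ≫ w) ≫ f := by
    simp only [h, Category.assoc]
    exact congrArg (O.ι ≫ ·) hover
  haveI : LocallyQuasiFinite h := by
    rw [← Scheme.Hom.quasiFiniteLocus_eq_top_iff]
    refine top_le_iff.1 fun o _ => ?_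
    rw [Scheme.Hom.mem_quasiFiniteLocus, Scheme.Hom.quasiFiniteAt_comp_iff_of_isOpenImmersion]
    exact o.2
  obtain ⟨W', a, _, q, h', hsq, z', ha, hq, hh'⟩ := exists_square hc (O.ι ≫ w) h hh x' ⟨z, hqf⟩ hz
  haveI : LocallyOfFinitePresentation f' := MorphismProperty.of_isPullback hc inferInstance
  haveI : LocallyQuasiFinite h' := MorphismProperty.of_isPullback hsq ‹LocallyQuasiFinite h›
  haveI : LocallyOfFiniteType h' := MorphismProperty.of_isPullback hsq inferInstance
  haveI : LocallyOfFinitePresentation (h' ≫ (𝔸(ULift.{u} (Fin d); S') ↘ S')) := hh' ▸ inferInstance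
  have hfl' : (h'.stalkMap z').hom.Flat := by
    refine CMAffine.flat_of_isCMAt h' z' (Scheme.Hom.quasiFiniteAt h' z') ?_ ?_
    · simp only [hh']
      exact (CMAffine.isCMAt_openImmersion_comp a f' z').2 (ha.symm ▸ hcm)
    · simp only [hh']
      rw [CMAffine.fe_openImmersion_comp a f' z', ha]
      have := H2.FibreDimPullback.fibreDimAt_of_isPullback hc x'
      rw [fibreDimAt_eq f' x', fibreDimAt_eq f (g' x')] at this
      exact_mod_cast this
  haveI : Flat ((O.ι ≫ w) ≫ f) := inferInstance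
  haveI : Flat (h ≫ (𝔸(ULift.{u} (Fin d); S) ↘ S)) := hh ▸ inferInstance
  haveI : LocallyOfFinitePresentation (h ≫ (𝔸(ULift.{u} (Fin d); S) ↘ S)) := hh ▸ inferInstance
  haveI := CMAffine.smooth_affineSpace d S
  have hfl := (Lib.Flat55.FlatLocusBC.flat_stalkMap_iff h (𝔸(ULift.{u} (Fin d); S) ↘ S) g
    (AffineSpace.map _ g) _ (AffineSpace.isPullback_map g) q h' hsq z').1 hfl'
  rw [hq] at hfl
  have h1 : MoreMor.IsCMAt (h ≫ (𝔸(ULift.{u} (Fin d); S) ↘ S)) ⟨z, hqf⟩ :=
    (CMAffine.isCMAt_of_map h ⟨z, hqf⟩ (Scheme.Hom.quasiFiniteAt h _) hfl).1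
  rw [hh] at h1
  exact hz ▸ (CMAffine.isCMAt_openImmersion_comp (O.ι ≫ w) f ⟨z, hqf⟩).1 h1

end Groth.Agent.H54.CMBaseChange
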