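import Groth.Agent.H54.CMFieldExt
import Groth.Agent.Lib.Flat55.FlatDescend

universe u
open CategoryTheory CategoryTheory.Limits AlgebraicGeometry IsLocalRing LocCoh

namespace Groth.Agent.H54.CMFibre

theorem isCM_fiber_iff {X Y : Scheme.{u}} (f : X ⟶ Y) {y : Y} (z : f.fiber y) {x : X} (hx : f.fiberι y z = x) :
    IsCohenMacaulayLocalRing ((f.fiber y).presheaf.stalk z) ↔
      IsCohenMacaulayLocalRing ((f.fiber (f x)).presheaf.stalk (f.asFiber x)) := by
  have hy : f x = y := by
    have h := Set.mem_range_self (f := (f.fiberι y)) z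
    rw [Scheme.Hom.range_fiberι, hx] at h
    exact h
  subst hy
  have hz : z = f.asFiber x :=
    (f.fiberι (f x)).isEmbedding.injective (hx.trans (f.fiberι_asFiber x).symm)
  subst hz
  rfl

theorem isCM_iff_of_isField {K L : CommRingCat.{u}} (hK : IsField K) (hL : IsField L) (φ : K ⟶ L)
    (hφ : φ.hom.EssFiniteType) {F F' : Scheme.{u}} [IsLocallyNoetherian F] (π : F' ⟶ F) (p : F ⟶ Spec K)
    (p' : F' ⟶ Spec L) (hc : IsPullback π p' p (Spec.map φ)) (z : F') :
    IsCohenMacaulayLocalRing (F.presheaf.stalk (π z)) ↔ IsCohenMacaulayLocalRing (F'.presheaf.stalk z) := by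
  obtain ⟨R⟩ := K
  obtain ⟨S⟩ := L
  letI := hK.toField
  letI := hL.toField
  letI := φ.hom.toAlgebra
  haveI : Algebra.EssFiniteType R S := hφ
  exact CMFieldExt.isCM_iff_of_fieldExtension π p p' hc z

variable {X Y X' Y' : Scheme.{u}} {f : X ⟶ Y} {f' : X' ⟶ Y'} {g' : X' ⟶ X} {g : Y' ⟶ Y}

/-- The closed fibres of a base change along a morphism locally of finite type. -/
theorem isCM_fibre_iff [LocallyOfFiniteType g] (hc : IsPullback g' f' f g) (x' : X')
    (hN : IsLocallyNoetherian (f.fiber (g (f' x')))) :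
    IsCohenMacaulayLocalRing ((f.fiber (f (g' x'))).presheaf.stalk (f.asFiber (g' x'))) ↔
      IsCohenMacaulayLocalRing ((f'.fiber (f' x')).presheaf.stalk (f'.asFiber x')) := by
  set y' := f' x'
  have hout : IsPullback (f'.fiberι y' ≫ g') (f'.fiberToSpecResidueField y') f
      (Spec.map (g.residueFieldMap y') ≫ Y.fromSpecResidueField (g y')) := by
    rw [Scheme.Hom.SpecMap_residueFieldMap_fromSpecResidueField]
    exact (IsPullback.of_hasPullback f' (Y'.fromSpecResidueField y')).paste_horiz hc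
  let π : f'.fiber y' ⟶ f.fiber (g y') :=
    pullback.lift (f'.fiberι y' ≫ g') (f'.fiberToSpecResidueField y' ≫ Spec.map (g.residueFieldMap y'))
      (by rw [Category.assoc]; exact hout.w.trans (Category.assoc _ _ _).symm |>.trans (Category.assoc _ _ _))
  have hπ : IsPullback π (f'.fiberToSpecResidueField y') (f.fiberToSpecResidueField (g y'))
      (Spec.map (g.residueFieldMap y')) := by
    refine IsPullback.of_right ?_ (pullback.lift_snd _ _ _)
      (IsPullback.of_hasPullback f (Y.fromSpecResidueField (g y')))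
    convert hout using 1
    exact pullback.lift_fst _ _ _
  have hm : f.fiberι (g y') (π (f'.asFiber x')) = g' x' := by
    rw [← Scheme.Hom.comp_apply, show π ≫ f.fiberι (g y') = f'.fiberι y' ≫ g' from pullback.lift_fst _ _ _,
      Scheme.Hom.comp_apply, Scheme.Hom.fiberι_asFiber]
  rw [← isCM_fiber_iff f (π (f'.asFiber x')) hm]
  exact isCM_iff_of_isField (Field.toIsField _) (Field.toIsField _) (g.residueFieldMap y')
    (Lib.Cyc.Residue.residueFieldMap_essFiniteType (f := g) y') π (f.fiberToSpecResidueField (g y'))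
    (f'.fiberToSpecResidueField y') hπ (f'.asFiber x')

theorem isCMAt_baseChange [LocallyOfFiniteType g] (hc : IsPullback g' f' f g) (x' : X')
    (hN : IsLocallyNoetherian (f.fiber (g (f' x')))) (h : MoreMor.IsCMAt f (g' x')) : MoreMor.IsCMAt f' x' := by
  refine ⟨?_, (isCM_fibre_iff hc x' hN).1 h.2⟩
  have h0 : g' x' = pullback.fst f g (hc.isoPullback.hom x') := by
    rw [← Scheme.Hom.comp_apply, hc.isoPullback_hom_fst]
  have h1 := Lib.Flat55.FlatOverAt.flat_stalkMap_snd f g (hc.isoPullback.hom x') (h0 ▸ h.1)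
  exact Lib.Flat55.FlatOverAt.flat_stalkMap_iso_comp hc.isoPullback.hom (pullback.snd f g) _
    hc.isoPullback_hom_snd x' h1

theorem isCMAt_of_baseChange_of_flat [LocallyOfFiniteType g] (hc : IsPullback g' f' f g) (x' : X')
    (hN : IsLocallyNoetherian (f.fiber (g (f' x')))) (hflat : (g.stalkMap (f' x')).hom.Flat)
    (h : MoreMor.IsCMAt f' x') : MoreMor.IsCMAt f (g' x') := by
  refine ⟨?_, (isCM_fibre_iff hc x' hN).2 h.2⟩
  refine Lib.Flat55.FlatDescend.flat_stalkMap_of_comp g' f x'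
    (Lib.Flat55.FlatOverAt.flat_stalkMap_of_isPullback f f' g' g hc x' hflat) ?_
  have h2 : ((f' ≫ g).stalkMap x').hom.Flat := by
    rw [Scheme.Hom.stalkMap_comp]
    exact hflat.comp h.1
  exact hc.w.symm ▸ h2

end Groth.Agent.H54.CMFibre

namespace Groth.Agent.H54.CMFibre

variable {X Y X' Y' : Scheme.{u}} {f : X ⟶ Y} {f' : X' ⟶ Y'} {g' : X' ⟶ X} {g : Y' ⟶ Y}

theorem isCMAt_of_baseChange_of_flatAt [LocallyOfFiniteType g] (hc : IsPullback g' f' f g) (x' : X')
    (hN : IsLocallyNoetherian (f.fiber (g (f' x')))) (hflat : (f.stalkMap (g' x')).hom.Flat)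
    (h : MoreMor.IsCMAt f' x') : MoreMor.IsCMAt f (g' x') :=
  ⟨hflat, (isCM_fibre_iff hc x' hN).2 h.2⟩

theorem fppf_iff [Flat g] [LocallyOfFinitePresentation g] [Surjective g] (hc : IsPullback g' f' f g) :
    ((∀ y : Y, IsLocallyNoetherian (f.fiber y)) ∧ ∀ x : X, MoreMor.IsCMAt f x) ↔
      (∀ y' : Y', IsLocallyNoetherian (f'.fiber y')) ∧ ∀ x' : X', MoreMor.IsCMAt f' x' := by
  constructor
  · rintro ⟨hN, h⟩
    exact ⟨fun y' => (Lib.Flat55.FibreNoetherian.fiber_iff f f' g' g hc y').1 (hN _),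
      fun x' => isCMAt_baseChange hc x' (hN _) (h _)⟩
  · rintro ⟨hN', h⟩
    have hN : ∀ y : Y, IsLocallyNoetherian (f.fiber y) := fun y => by
      obtain ⟨y', rfl⟩ := g.surjective y
      exact (Lib.Flat55.FibreNoetherian.fiber_iff f f' g' g hc y').2 (hN' y')
    haveI : Surjective g' := MorphismProperty.of_isPullback hc.flip ‹Surjective g›
    refine ⟨hN, fun x => ?_⟩
    obtain ⟨x', rfl⟩ := g'.surjective x
    exact isCMAt_of_baseChange_of_flat hc x' (hN _) (Flat.stalkMap g _) (h x')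

end Groth.Agent.H54.CMFibre
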