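import Groth.Agent.H54.CMBaseChange
import Groth.Prelude.Def_CurvBase

universe u
open CategoryTheory CategoryTheory.Limits AlgebraicGeometry IsLocalRing LocCoh

namespace Groth.Agent.H54.CMField

theorem maximalIdeal_stalk_spec (k : Type u) [Field k] (p : ↥(Spec (CommRingCat.of k))) :
    maximalIdeal ((Spec (CommRingCat.of k)).presheaf.stalk p) = ⊥ := by
  have hp : p.asIdeal = ⊥ := (Ideal.eq_bot_or_top p.asIdeal).resolve_right p.isPrime.ne_top
  letI : Algebra k ((Spec (CommRingCat.of k)).presheaf.stalk p) := StructureSheaf.stalkAlgebra k p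
  haveI : IsLocalization.AtPrime ((Spec (CommRingCat.of k)).presheaf.stalk p) p.asIdeal :=
    StructureSheaf.IsLocalization.to_stalk k p
  exact (IsLocalization.AtPrime.map_eq_maximalIdeal p.asIdeal ((Spec (CommRingCat.of k)).presheaf.stalk p)).symm.trans
    (by rw [hp, Ideal.map_bot])

theorem isField_stalk_spec (k : Type u) [Field k] (p : ↥(Spec (CommRingCat.of k))) :
    IsField ((Spec (CommRingCat.of k)).presheaf.stalk p) :=
  IsLocalRing.isField_iff_maximalIdeal_eq.2 (maximalIdeal_stalk_spec k p)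

theorem flat_stalkMap_spec {k : Type u} [Field k] {X : Scheme.{u}} (f : X ⟶ Spec (CommRingCat.of k)) (x : X) :
    (f.stalkMap x).hom.Flat := by
  letI := (isField_stalk_spec k (f x)).toField
  algebraize [(f.stalkMap x).hom]
  exact RingHom.flat_algebraMap_iff.2 inferInstance

theorem isCMAt_iff_stalk {k : Type u} [Field k] {X : Scheme.{u}} (f : X ⟶ Spec (CommRingCat.of k)) (x : X) :
    MoreMor.IsCMAt f x ↔ IsCohenMacaulayLocalRing (X.presheaf.stalk x) := by
  rw [CMMor.isCMAt_iff, and_iff_right (flat_stalkMap_spec f x)]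
  have h : (maximalIdeal ((Spec (CommRingCat.of k)).presheaf.stalk (f x))).map (f.stalkMap x).hom = ⊥ := by
    rw [maximalIdeal_stalk_spec, Ideal.map_bot]
  exact ⟨fun hc => Lib.Excellent.Transport.isCohenMacaulayLocalRing_of_ringEquiv
      ((Ideal.quotEquivOfEq h).trans (RingEquiv.quotientBot _)),
    fun hc => Lib.Excellent.Transport.isCohenMacaulayLocalRing_of_ringEquiv
      ((Ideal.quotEquivOfEq h).trans (RingEquiv.quotientBot _)).symm⟩

theorem isCM_baseChange_iff (k : Type u) [Field k] (X : Scheme.{u}) [X.Over (Spec (CommRingCat.of k))]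
    [LocallyOfFiniteType (X ↘ Spec (CommRingCat.of k))] (k' : Type u) [Field k'] [Algebra k k']
    (x' : ↥(Curv2.bc k X k')) :
    IsCohenMacaulayLocalRing (X.presheaf.stalk (Curv2.bcFst k X k' x')) ↔
      IsCohenMacaulayLocalRing ((Curv2.bc k X k').presheaf.stalk x') := by
  haveI : IsLocallyNoetherian (Spec (CommRingCat.of k)) := inferInstance
  haveI : LocallyOfFinitePresentation (X ↘ Spec (CommRingCat.of k)) := inferInstance
  haveI : Flat (X ↘ Spec (CommRingCat.of k)) := Flat.of_stalkMap _ fun x => flat_stalkMap_spec _ x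
  rw [← isCMAt_iff_stalk (X ↘ Spec (CommRingCat.of k)), ← isCMAt_iff_stalk (Curv2.bcSnd k X k') x']
  exact ⟨CMBaseChange.isCMAt_baseChange (IsPullback.of_hasPullback _ _) x',
    CMBaseChange.isCMAt_of_baseChange (IsPullback.of_hasPullback _ _) x'⟩

end Groth.Agent.H54.CMField
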