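import Groth.Agent.H54.CMField
import Groth.Agent.Lib.Flat55.FibreNoetherian
import Groth.Agent.Lib.Flat55.FlatOverAt
import Mathlib.AlgebraicGeometry.Morphisms.Preimmersion

universe u
open CategoryTheory CategoryTheory.Limits AlgebraicGeometry IsLocalRing LocCoh

namespace Groth.Agent.H54.CMFieldExt

theorem bijective_stalkMap {X Y : Scheme.{u}} (f : X ⟶ Y) [IsPreimmersion f] (x : X)
    (hf : (f.stalkMap x).hom.Flat) : Function.Bijective (f.stalkMap x).hom := by
  refine ⟨?_, Scheme.Hom.stalkMap_surjective f x⟩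
  algebraize [(f.stalkMap x).hom]
  haveI : IsLocalHom (algebraMap (Y.presheaf.stalk (f x)) (X.presheaf.stalk x)) :=
    inferInstanceAs (IsLocalHom (f.stalkMap x).hom)
  haveI := Module.FaithfullyFlat.of_flat_of_isLocalHom (A := Y.presheaf.stalk (f x)) (B := X.presheaf.stalk x)
  exact FaithfulSMul.algebraMap_injective (Y.presheaf.stalk (f x)) (X.presheaf.stalk x)

theorem isCohenMacaulayLocalRing_of_isField {R : Type u} [CommRing R] (h : IsField R) :
    IsCohenMacaulayLocalRing R := by
  letI := h.toField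
  exact Lib.Depth.CM.isCohenMacaulayLocalRing_of_isRegular (rs := []) (RingTheory.Sequence.IsRegular.nil R R)
    (ringKrullDim_eq_zero_of_field R).le

/-- Cohen–Macaulay local rings under a finitely generated extension of the ground field. -/
theorem isCM_iff_of_fieldExtension {k L : Type u} [Field k] [Field L] [Algebra k L] [Algebra.EssFiniteType k L]
    {F F' : Scheme.{u}} [IsLocallyNoetherian F] (π : F' ⟶ F) (p : F ⟶ Spec (CommRingCat.of k))
    (p' : F' ⟶ Spec (CommRingCat.of L))
    (hc : IsPullback π p' p (Spec.map (CommRingCat.ofHom (algebraMap k L)))) (z : F') :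
    IsCohenMacaulayLocalRing (F.presheaf.stalk (π z)) ↔ IsCohenMacaulayLocalRing (F'.presheaf.stalk z) := by
  let A₀ := Algebra.EssFiniteType.subalgebra k L
  let M := Algebra.EssFiniteType.submonoid k L
  let ι : Spec (CommRingCat.of L) ⟶ Spec (CommRingCat.of A₀) := Spec.map (CommRingCat.ofHom (algebraMap A₀ L))
  let q₀ : Spec (CommRingCat.of A₀) ⟶ Spec (CommRingCat.of k) := Spec.map (CommRingCat.ofHom (algebraMap k A₀))
  haveI : IsPreimmersion ι := IsPreimmersion.of_isLocalization M
  haveI : Flat ι := (HasRingHomProperty.Spec_iff (P := @Flat)).2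
    (RingHom.flat_algebraMap_iff.2 (IsLocalization.flat L M))
  haveI : LocallyOfFiniteType q₀ := (HasRingHomProperty.Spec_iff (P := @LocallyOfFiniteType)).2
    (RingHom.finiteType_algebraMap.2 inferInstance)
  haveI : Flat q₀ := Flat.of_stalkMap _ fun x => CMField.flat_stalkMap_spec q₀ x
  have hfac : Spec.map (CommRingCat.ofHom (algebraMap k L)) = ι ≫ q₀ := by
    rw [← Spec.map_comp]; rfl
  rw [hfac] at hc
  let P := pullback p q₀
  let ζ : F' ⟶ P := pullback.lift π (p' ≫ ι) (by rw [Category.assoc]; exact hc.w)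
  have hζ : IsPullback ζ p' (pullback.snd p q₀) ι := by
    refine IsPullback.of_bot (IsPullback.flip ?_) ?_ (IsPullback.of_hasPullback p q₀).flip |>.flip
    · simpa only [ζ, pullback.lift_fst] using hc
    · exact (pullback.lift_snd _ _ _).symm
  haveI : IsPreimmersion ζ := MorphismProperty.of_isPullback hζ.flip ‹IsPreimmersion ι›
  haveI : Flat ζ := MorphismProperty.of_isPullback hζ.flip ‹Flat ι›
  haveI : LocallyOfFiniteType (pullback.fst p q₀) := inferInstance
  haveI : IsLocallyNoetherian P := LocallyOfFiniteType.isLocallyNoetherian (pullback.fst p q₀)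
  let e := RingEquiv.ofBijective _ (bijective_stalkMap ζ z (Flat.stalkMap ζ z))
  have he : IsCohenMacaulayLocalRing (P.presheaf.stalk (ζ z)) ↔ IsCohenMacaulayLocalRing (F'.presheaf.stalk z) :=
    ⟨fun h => Lib.Excellent.Transport.isCohenMacaulayLocalRing_of_ringEquiv e,
      fun h => Lib.Excellent.Transport.isCohenMacaulayLocalRing_of_ringEquiv e.symm⟩
  have hw : pullback.snd p q₀ (ζ z) = ι (p' z) := by
    rw [← Scheme.Hom.comp_apply, ← Scheme.Hom.comp_apply, hζ.w]
  have hη : MoreMor.IsCMAt q₀ (pullback.snd p q₀ (ζ z)) := by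
    rw [hw, CMField.isCMAt_iff_stalk]
    haveI := isCohenMacaulayLocalRing_of_isField (CMField.isField_stalk_spec L (p' z))
    exact Lib.Excellent.Transport.isCohenMacaulayLocalRing_of_ringEquiv
      (RingEquiv.ofBijective _ (bijective_stalkMap ι (p' z) (Flat.stalkMap ι _))).symm
  have h2 := (CMMor.isCMAt_iff _ _).1
    (CMBaseChange.isCMAt_baseChange (IsPullback.of_hasPullback p q₀).flip (ζ z) hη)
  have hπ : pullback.fst p q₀ (ζ z) = π z := by
    rw [← Scheme.Hom.comp_apply]
    exact congrArg (fun m : F' ⟶ F => m z) (pullback.lift_fst _ _ _)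
  rw [← he, ← hπ]
  algebraize [((pullback.fst p q₀).stalkMap (ζ z)).hom]
  haveI : IsLocalHom (algebraMap (F.presheaf.stalk (pullback.fst p q₀ (ζ z))) (P.presheaf.stalk (ζ z))) :=
    inferInstanceAs (IsLocalHom ((pullback.fst p q₀).stalkMap (ζ z)).hom)
  haveI : Module.Flat (F.presheaf.stalk (pullback.fst p q₀ (ζ z))) (P.presheaf.stalk (ζ z)) := h2.1
  rw [DimFlat.isCohenMacaulayLocalRing_iff_of_flat (F.presheaf.stalk (pullback.fst p q₀ (ζ z)))
    (P.presheaf.stalk (ζ z))]
  exact ⟨fun h => ⟨h, h2.2⟩, fun h => h.1⟩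

end Groth.Agent.H54.CMFieldExt
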