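import Groth.Agent.H54.DimFlat
import Groth.Agent.H46.FiberStalk
import Groth.Agent.H21.SkDescent
import Groth.Agent.Lib.SourceDescent.Ring
import Groth.Agent.Lib.FlatRegular.Basic
import Groth.Agent.Lib.Excellent.Transport
import Groth.Prelude.Def_MoreMor
import Mathlib.AlgebraicGeometry.Noetherian

/-!
# Cohen–Macaulay morphisms: composition
-/

universe u

open CategoryTheory AlgebraicGeometry IsLocalRing LocCoh

namespace Groth.Agent.H54.CMMor

section Ring

variable (A B C : Type u) [CommRing A] [CommRing B] [CommRing C]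

theorem flat_quotient_map [Algebra B C] [Module.Flat B C] (J : Ideal B) :
    Module.Flat (B ⧸ J) (C ⧸ J.map (algebraMap B C)) := by
  have h : Module.Flat (B ⧸ J) (C ⧸ (J • ⊤ : Submodule B C)) :=
    (Lib.FlatRegular.Basic.flat_quotSMul_iff J C).1 inferInstance
  let e : (C ⧸ J.map (algebraMap B C)) ≃ₗ[B] C ⧸ (J • ⊤ : Submodule B C) :=
    ((Submodule.Quotient.restrictScalarsEquiv B (J.map (algebraMap B C))).symm.trans
      (Submodule.quotEquivOfEq _ _ (Ideal.smul_top_eq_map J).symm))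
  exact Lib.FlatRegular.Basic.flat_of_surjective_of_equiv (K := B ⧸ J) (K' := B ⧸ J)
    Ideal.Quotient.mk_surjective AlgEquiv.refl e

variable [IsLocalRing A] [IsLocalRing B] [IsLocalRing C]

/-- `B → C` and the closed fibres over `A`. -/
theorem fibre_setup [Algebra A B] [Algebra A C] [Algebra B C] [IsScalarTower A B C]
    [IsLocalHom (algebraMap A B)] [IsLocalHom (algebraMap B C)] [Module.Flat B C] :
    let J := (maximalIdeal A).map (algebraMap A B)
    IsLocalRing (B ⧸ J) ∧ IsLocalRing (C ⧸ J.map (algebraMap B C)) ∧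
      Module.FaithfullyFlat (B ⧸ J) (C ⧸ J.map (algebraMap B C)) ∧
      IsLocalHom (algebraMap (B ⧸ J) (C ⧸ J.map (algebraMap B C))) ∧
      J.map (algebraMap B C) = (maximalIdeal A).map (algebraMap A C) := by
  intro J
  have hJ : J ≤ maximalIdeal B := IsLocalRing.map_maximalIdeal_le (algebraMap A B)
  have hJC : J.map (algebraMap B C) ≤ maximalIdeal C :=
    (Ideal.map_mono hJ).trans (IsLocalRing.map_maximalIdeal_le (algebraMap B C))
  have : Nontrivial (B ⧸ J) := Ideal.Quotient.nontrivial_iff.2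
    fun h => (maximalIdeal.isMaximal B).ne_top (top_le_iff.1 (h ▸ hJ))
  have : Nontrivial (C ⧸ J.map (algebraMap B C)) := Ideal.Quotient.nontrivial_iff.2
    fun h => (maximalIdeal.isMaximal C).ne_top (top_le_iff.1 (h ▸ hJC))
  have : IsLocalRing (B ⧸ J) := IsLocalRing.of_surjective' _ Ideal.Quotient.mk_surjective
  have : IsLocalRing (C ⧸ J.map (algebraMap B C)) :=
    IsLocalRing.of_surjective' _ Ideal.Quotient.mk_surjective
  have hloc : IsLocalHom (algebraMap (B ⧸ J) (C ⧸ J.map (algebraMap B C))) := ⟨fun b hb => by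
    obtain ⟨b, rfl⟩ := Ideal.Quotient.mk_surjective b
    have := IsLocalHom.of_surjective (Ideal.Quotient.mk (J.map (algebraMap B C))) Ideal.Quotient.mk_surjective
    exact (IsUnit.of_map (algebraMap B C) b (IsUnit.of_map (Ideal.Quotient.mk (J.map (algebraMap B C))) _ hb)).map _⟩
  have := flat_quotient_map B C J
  refine ⟨inferInstance, inferInstance, Module.FaithfullyFlat.of_flat_of_isLocalHom, hloc, ?_⟩
  rw [Ideal.map_map, ← IsScalarTower.algebraMap_eq]

variable [Algebra A B] [Algebra A C] [Algebra B C] [IsScalarTower A B C]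
  [IsLocalHom (algebraMap A B)] [IsLocalHom (algebraMap B C)] [Module.Flat B C]
  [IsNoetherianRing (C ⧸ (maximalIdeal A).map (algebraMap A C))]

theorem cm_fibre_iff :
    IsCohenMacaulayLocalRing (C ⧸ (maximalIdeal A).map (algebraMap A C)) ↔
      IsCohenMacaulayLocalRing (B ⧸ (maximalIdeal A).map (algebraMap A B)) ∧
      IsCohenMacaulayLocalRing (C ⧸ (maximalIdeal B).map (algebraMap B C)) := by
  obtain ⟨h1, h2, h3, h4, heq⟩ := fibre_setup A B C
  let J := (maximalIdeal A).map (algebraMap A B)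
  let K := J.map (algebraMap B C)
  let eC : (C ⧸ K) ≃+* C ⧸ (maximalIdeal A).map (algebraMap A C) := Ideal.quotEquivOfEq heq
  haveI : IsNoetherianRing (C ⧸ K) := isNoetherianRing_of_ringEquiv _ eC.symm
  haveI : IsNoetherianRing (B ⧸ J) := H21.SkDescent.isNoetherianRing_of_faithfullyFlat (B ⧸ J) (C ⧸ K)
  have hJ : J ≤ maximalIdeal B := IsLocalRing.map_maximalIdeal_le (algebraMap A B)
  have hmB : (maximalIdeal B).map (Ideal.Quotient.mk J) = maximalIdeal (B ⧸ J) :=
    IsLocalRing.map_maximalIdeal_of_surjective _ Ideal.Quotient.mk_surjective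
  have hfib : (maximalIdeal (B ⧸ J)).map (algebraMap (B ⧸ J) (C ⧸ K)) =
      ((maximalIdeal B).map (algebraMap B C)).map (Ideal.Quotient.mk K) := by
    exact (congrArg (Ideal.map _) hmB.symm).trans ((Ideal.map_map _ _).trans
      ((congrArg (fun φ : B →+* C ⧸ K => (maximalIdeal B).map φ) (RingHom.ext fun _ => rfl)).trans
        (Ideal.map_map (algebraMap B C) (Ideal.Quotient.mk K)).symm))
  let e : ((C ⧸ K) ⧸ (maximalIdeal (B ⧸ J)).map (algebraMap (B ⧸ J) (C ⧸ K))) ≃+*
      C ⧸ (maximalIdeal B).map (algebraMap B C) :=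
    (Ideal.quotEquivOfEq hfib).trans ((DoubleQuot.quotQuotEquivQuotSup K _).trans
      (Ideal.quotEquivOfEq (sup_eq_right.2 (Ideal.map_mono hJ))))
  have key := DimFlat.isCohenMacaulayLocalRing_iff_of_flat (B ⧸ J) (C ⧸ K)
  constructor
  · intro h
    obtain ⟨hb, hc⟩ := key.1 (Lib.Excellent.Transport.isCohenMacaulayLocalRing_of_ringEquiv eC.symm)
    exact ⟨hb, Lib.Excellent.Transport.isCohenMacaulayLocalRing_of_ringEquiv e⟩
  · rintro ⟨hb, hc⟩
    haveI := key.2 ⟨hb, Lib.Excellent.Transport.isCohenMacaulayLocalRing_of_ringEquiv e.symm⟩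
    exact Lib.Excellent.Transport.isCohenMacaulayLocalRing_of_ringEquiv eC

end Ring

variable {X Y Z : Scheme.{u}}

theorem isCMAt_iff (f : X ⟶ Y) (x : X) :
    MoreMor.IsCMAt f x ↔ (f.stalkMap x).hom.Flat ∧
      IsCohenMacaulayLocalRing (X.presheaf.stalk x ⧸
        (maximalIdeal (Y.presheaf.stalk (f x))).map (f.stalkMap x).hom) :=
  and_congr_right' ⟨fun h => Lib.Excellent.Transport.isCohenMacaulayLocalRing_of_ringEquiv
      (H46.FiberStalk.quotientEquiv f x).symm,
    fun h => Lib.Excellent.Transport.isCohenMacaulayLocalRing_of_ringEquiv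
      (H46.FiberStalk.quotientEquiv f x)⟩

theorem isNoetherianRing_quotient (f : X ⟶ Y) (x : X) (hN : IsLocallyNoetherian (f.fiber (f x))) :
    IsNoetherianRing (X.presheaf.stalk x ⧸
      (maximalIdeal (Y.presheaf.stalk (f x))).map (f.stalkMap x).hom) :=
  isNoetherianRing_of_ringEquiv _ (H46.FiberStalk.quotientEquiv f x).symm

theorem isCMAt_comp (f : X ⟶ Y) (g : Y ⟶ Z) (x : X) (hN : IsLocallyNoetherian ((f ≫ g).fiber (g (f x))))
    (hf : MoreMor.IsCMAt f x) (hg : MoreMor.IsCMAt g (f x)) : MoreMor.IsCMAt (f ≫ g) x := by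
  rw [isCMAt_iff] at hf hg ⊢
  have hflat : ((f ≫ g).stalkMap x).hom.Flat := by
    rw [Scheme.Hom.stalkMap_comp]
    exact RingHom.Flat.comp hg.1 hf.1
  refine ⟨hflat, ?_⟩
  have hNq := isNoetherianRing_quotient (f ≫ g) x hN
  algebraize [(g.stalkMap (f x)).hom, (f.stalkMap x).hom]
  letI : Algebra (Z.presheaf.stalk (g (f x))) (X.presheaf.stalk x) := ((f ≫ g).stalkMap x).hom.toAlgebra
  haveI : IsScalarTower (Z.presheaf.stalk (g (f x))) (Y.presheaf.stalk (f x)) (X.presheaf.stalk x) :=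
    .of_algebraMap_eq' (congrArg (fun φ => φ.hom) (Scheme.Hom.stalkMap_comp f g x))
  haveI : IsLocalHom (algebraMap (Z.presheaf.stalk (g (f x))) (Y.presheaf.stalk (f x))) := g.toLRSHom.prop (f x)
  haveI : IsLocalHom (algebraMap (Y.presheaf.stalk (f x)) (X.presheaf.stalk x)) := f.toLRSHom.prop x
  haveI : Module.Flat (Y.presheaf.stalk (f x)) (X.presheaf.stalk x) := hf.1
  haveI : IsNoetherianRing (X.presheaf.stalk x ⧸
      (maximalIdeal (Z.presheaf.stalk (g (f x)))).map (algebraMap (Z.presheaf.stalk (g (f x))) (X.presheaf.stalk x))) :=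
    hNq
  exact (cm_fibre_iff (Z.presheaf.stalk (g (f x))) (Y.presheaf.stalk (f x)) (X.presheaf.stalk x)).2 ⟨hg.2, hf.2⟩

theorem isCMAt_of_comp (f : X ⟶ Y) (g : Y ⟶ Z) (x : X) (h : MoreMor.IsCMAt (f ≫ g) x)
    (hfl : (f.stalkMap x).hom.Flat) : MoreMor.IsCMAt f x ∧ MoreMor.IsCMAt g (f x) := by
  rw [isCMAt_iff] at h ⊢
  rw [isCMAt_iff]
  algebraize [(g.stalkMap (f x)).hom, (f.stalkMap x).hom]
  letI : Algebra (Z.presheaf.stalk (g (f x))) (X.presheaf.stalk x) := ((f ≫ g).stalkMap x).hom.toAlgebra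
  haveI : IsScalarTower (Z.presheaf.stalk (g (f x))) (Y.presheaf.stalk (f x)) (X.presheaf.stalk x) :=
    .of_algebraMap_eq' (congrArg (fun φ => φ.hom) (Scheme.Hom.stalkMap_comp f g x))
  haveI : IsLocalHom (algebraMap (Z.presheaf.stalk (g (f x))) (Y.presheaf.stalk (f x))) := g.toLRSHom.prop (f x)
  haveI : IsLocalHom (algebraMap (Y.presheaf.stalk (f x)) (X.presheaf.stalk x)) := f.toLRSHom.prop x
  haveI : Module.Flat (Y.presheaf.stalk (f x)) (X.presheaf.stalk x) := hfl
  haveI : Module.Flat (Z.presheaf.stalk (g (f x))) (X.presheaf.stalk x) := h.1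
  haveI : IsNoetherianRing (X.presheaf.stalk x ⧸
      (maximalIdeal (Z.presheaf.stalk (g (f x)))).map (algebraMap (Z.presheaf.stalk (g (f x))) (X.presheaf.stalk x))) :=
    (by have h2 := h.2; exact @IsCohenMacaulayLocalRing.toIsNoetherian _ _ h2)
  obtain ⟨hg, hf⟩ := (cm_fibre_iff (Z.presheaf.stalk (g (f x))) (Y.presheaf.stalk (f x)) (X.presheaf.stalk x)).1 h.2
  haveI : Module.FaithfullyFlat (Y.presheaf.stalk (f x)) (X.presheaf.stalk x) :=
    Module.FaithfullyFlat.of_flat_of_isLocalHom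
  exact ⟨⟨hfl, hf⟩, Lib.SourceDescent.Ring.flat_of_comp _ _ (X.presheaf.stalk x), hg⟩

theorem isCMAt_of_flat [IsLocallyNoetherian X] [IsLocallyNoetherian Y] (f : X ⟶ Y) [Flat f] (x : X)
    (hx : IsCohenMacaulayLocalRing (X.presheaf.stalk x)) :
    MoreMor.IsCMAt f x ∧ IsCohenMacaulayLocalRing (Y.presheaf.stalk (f x)) := by
  rw [isCMAt_iff]
  have hfl := Flat.stalkMap f x
  algebraize [(f.stalkMap x).hom]
  haveI : IsLocalHom (algebraMap (Y.presheaf.stalk (f x)) (X.presheaf.stalk x)) := f.toLRSHom.prop x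
  obtain ⟨hA, hB⟩ := (DimFlat.isCohenMacaulayLocalRing_iff_of_flat (Y.presheaf.stalk (f x))
    (X.presheaf.stalk x)).1 hx
  exact ⟨⟨hfl, hB⟩, hA⟩

end Groth.Agent.H54.CMMor
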