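import Groth.Agent.Lib.ZarCoh.SerreAff
import Groth.Agent.Lib.ZarCoh.Affine
import Groth.Agent.Lib.ZarCoh.Morph
import Groth.Agent.Lib.ZarCoh.PushKilled
import Groth.Agent.Lib.ZarCoh.AnnIdeal
import Groth.Agent.Lib.CohBasics.Closure
import Groth.Agent.Lib.Ideal.Comap
import Groth.Agent.Lib.Modules.GenStalk
import Mathlib.AlgebraicGeometry.Morphisms.Finite
import Mathlib.AlgebraicGeometry.FunctionField
import Mathlib.LinearAlgebra.Dimension.Finite

/-!
# Chevalley's theorem: bases of the direct image at the generic point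

`X` integral Noetherian, `f : Y ⟶ X` finite surjective with `Y` affine integral, every proper closed
subscheme of `X` affine: then `H¹(X, I) = 0` for every quasi-coherent ideal `I`.
-/

set_option autoImplicit false
set_option linter.style.haveILetI false
universe u

open CategoryTheory CategoryTheory.Limits AlgebraicGeometry Opposite TopologicalSpace

namespace Groth.Agent.H54.ChevH1

open Groth.Agent.Lib Groth.Agent.Lib.Modules.StalkModule

variable {X Y : Scheme.{u}}

lemma hom_eq_zero_of_affine {M N : X.Modules} (φ : M ⟶ N)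
    (h : ∀ (U : X.affineOpens) (s : Γ(M, U.1)), φ.app U.1 s = 0) : φ = 0 := by
  refine hom_ext_stalkMapₗ fun x => LinearMap.ext fun v => ?_
  obtain ⟨U, hxU, s, rfl⟩ := TopCat.Presheaf.exists_germ_eq M.presheaf v
  obtain ⟨W, hxW, hW⟩ : ∃ W : X.affineOpens, x ∈ W.1 ∧ W.1 ≤ U := by
    obtain ⟨W, hW, hxW, hle⟩ := exists_isAffineOpen_mem_and_subset hxU
    exact ⟨⟨W, hW⟩, hxW, hle⟩
  rw [stalkMapₗ_zero, LinearMap.zero_apply, ← ClSub.Basis.germ_map hW hxW s, stalkMapₗ_germ, h,
    map_zero]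

/-- The germ of `1` in the stalk of the structure module. -/
noncomputable def one (x : X) : (Coh.structureModule X).presheaf.stalk x :=
  (Coh.structureModule X).presheaf.germ ⊤ x trivial (1 : Γ(X, ⊤))

lemma exists_smul_one (x : X) (v : (Coh.structureModule X).presheaf.stalk x) :
    ∃ a : X.presheaf.stalk x, a • one x = v := by
  obtain ⟨U, hxU, s, rfl⟩ := TopCat.Presheaf.exists_germ_eq (Coh.structureModule X).presheaf v
  refine ⟨X.presheaf.germ U x hxU s, ?_⟩
  rw [one, ← ClSub.Basis.germ_map (le_top : U ≤ ⊤) hxU, ← germ_smul hxU]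
  congr 1
  have e : (X.presheaf.map (homOfLE (le_top : U ≤ ⊤)).op).hom (1 : Γ(X, ⊤)) = 1 := map_one _
  exact (congrArg (fun z : Γ(X, U) => (show Γ(X, U) from s) * z) e).trans (mul_one (M := Γ(X, U)) _)

lemma ofSection_one (M : X.Modules) (m : Γ(M, ⊤)) (x : X) :
    stalkMapₗ (ClSub.Cartier.ofSection M m) x (one x) = M.presheaf.germ ⊤ x trivial m := by
  rw [one, stalkMapₗ_germ]
  refine congrArg _ ((ClSub.Cartier.ofSection_app M m ⊤ 1).trans ?_)
  rw [one_smul]
  exact congr($(M.presheaf.map_id (op ⊤)) m)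

lemma eq_zero_of_germ [IsIntegral X] {U : X.Opens} (r : Γ(Coh.structureModule X, U))
    (h : ∀ hx : genericPoint X ∈ U, (Coh.structureModule X).presheaf.germ U (genericPoint X) hx r = 0) :
    r = 0 := by
  by_cases hU : Nonempty U
  · have hx : genericPoint X ∈ U :=
      ((genericPoint_spec X).mem_open_set_iff U.2).mpr (by
        obtain ⟨⟨y, hy⟩⟩ := hU; exact ⟨y, trivial, hy⟩)
    obtain ⟨W, hW, i₁, i₂, e⟩ :=
      (Coh.structureModule X).presheaf.germ_eq _ hx hx r 0 (by rw [h hx, map_zero])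
    haveI : Nonempty W := ⟨⟨_, hW⟩⟩
    exact map_injective_of_isIntegral X i₁
      ((show X.presheaf.map i₁.op r = (0 : Γ(X, W)) from e.trans (map_zero _)).trans (map_zero _).symm)
  · have : U = ⊥ := by
      ext y; simpa using fun hy => hU ⟨⟨y, hy⟩⟩
    subst this
    exact @Subsingleton.elim _ (inferInstanceAs (Subsingleton Γ(X, ⊥))) _ _

section Push

variable (f : Y ⟶ X)

/-- `f_* O_Y`. -/
noncomputable abbrev N : X.Modules := (Coh.push f).obj (Coh.structureModule Y)

theorem isCoh_N [IsLocallyNoetherian X] [IsFinite f] : Coh.IsCoh (N f) := by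
  haveI := TensorMod.QCohInv.isQCoh_structureModule Y
  haveI : (N f).IsQuasicoherent :=
    QCoh.Pushforward.isQCoh_pushforward f (M := Coh.structureModule Y)
  refine CohBasics.Closure.isCoh_of_finite_sections fun U hU => ?_
  letI := (f.app U).hom.toAlgebra
  haveI : Module.Finite Γ(X, U) Γ(Y, f ⁻¹ᵁ U) := IsFinite.finite_app f U hU
  let e : Γ(Y, f ⁻¹ᵁ U) →ₗ[Γ(X, U)] Γ(N f, U) :=
    { toFun := fun s => s, map_add' := fun _ _ => rfl, map_smul' := fun r s => rfl }
  exact Module.Finite.of_surjective e fun s => ⟨s, rfl⟩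

theorem mono_mult [IsIntegral Y] {h : Γ(Y, ⊤)} (hh : h ≠ 0) :
    Mono ((Coh.push f).map (ZarCoh.SerreAff.mult h)) := by
  refine ClSub.Basis.mono_of_injective_affine _ fun U => ?_
  rw [injective_iff_map_eq_zero]
  intro (r : Γ(Y, f ⁻¹ᵁ U.1)) hr
  replace hr : r * Y.presheaf.map (homOfLE (le_top : f ⁻¹ᵁ U.1 ≤ ⊤)).op h = 0 :=
    (ZarCoh.SerreAff.mult_app h (f ⁻¹ᵁ U.1) r).symm.trans hr
  by_cases hne : Nonempty (f ⁻¹ᵁ U.1)
  · refine (mul_eq_zero.mp hr).resolve_right fun h0 => hh ?_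
    exact map_injective_of_isIntegral Y (homOfLE le_top) (h0.trans (map_zero _).symm)
  · have : f ⁻¹ᵁ U.1 = ⊥ := by
      ext y; simpa using fun hy => hne ⟨⟨y, hy⟩⟩
    have : Subsingleton Γ(Y, f ⁻¹ᵁ U.1) := by rw [this]; infer_instance
    exact @Subsingleton.elim _ this _ _

/-- Germs at the generic point of global functions on `Y` span the stalk of `f_* O_Y`. -/
theorem span_global [IsIntegral X] [IsLocallyNoetherian X] [IsIntegral Y] [IsAffine Y] [IsFinite f]
    [Surjective f] :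
    Submodule.span (X.presheaf.stalk (genericPoint X))
      (Set.range fun b : Γ(N f, ⊤) => (N f).presheaf.germ ⊤ (genericPoint X) trivial b) = ⊤ := by
  set η := genericPoint X
  letI : Field (X.presheaf.stalk η) := inferInstanceAs (Field X.functionField)
  set S := Submodule.span (X.presheaf.stalk η)
    (Set.range fun b : Γ(N f, ⊤) => (N f).presheaf.germ ⊤ η trivial b)
  haveI := (isCoh_N f).1
  haveI := (isCoh_N f).2
  haveI : Module.Finite (X.presheaf.stalk η) ((N f).presheaf.stalk η) := by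
    obtain ⟨s, hs⟩ := Modules.GenStalk.finite_stalk (N f) η
    exact ⟨⟨s, hs⟩⟩
  refine eq_top_iff.mpr fun v _ => ?_
  obtain ⟨U, hηU, (t : Γ(Y, f ⁻¹ᵁ U)), rfl⟩ := TopCat.Presheaf.exists_germ_eq (N f).presheaf v
  obtain ⟨y, hy⟩ := f.surjective η
  obtain ⟨h, hle, hyh⟩ :=
    (isAffineOpen_top Y).exists_basicOpen_le (V := f ⁻¹ᵁ U) ⟨y, show f y ∈ U from hy.symm ▸ hηU⟩ trivial
  haveI : Nonempty (Y.basicOpen h) := ⟨⟨y, hyh⟩⟩
  haveI : Nonempty (f ⁻¹ᵁ U) := ⟨⟨y, hle hyh⟩⟩
  have hh : h ≠ 0 := fun e => by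
    rw [e, Scheme.basicOpen_zero] at hyh
    exact hyh
  haveI := (isAffineOpen_top Y).isLocalization_basicOpen h
  obtain ⟨⟨b, ⟨_, k, rfl⟩⟩, hb⟩ := IsLocalization.surj (Submonoid.powers h)
    (Y.presheaf.map (homOfLE hle).op t)
  have hb' : t * Y.presheaf.map (homOfLE (le_top : f ⁻¹ᵁ U ≤ ⊤)).op (h ^ k) =
      Y.presheaf.map (homOfLE (le_top : f ⁻¹ᵁ U ≤ ⊤)).op b := by
    apply map_injective_of_isIntegral Y (homOfLE hle)
    rw [map_mul, ← ConcreteCategory.comp_apply, ← ConcreteCategory.comp_apply, ← Functor.map_comp]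
    exact hb
  let F := stalkMapₗ ((Coh.push f).map (ZarCoh.SerreAff.mult h)) η
  have hF : ∀ s : Γ(Y, f ⁻¹ᵁ U), F ((N f).presheaf.germ U η hηU s) =
      (N f).presheaf.germ U η hηU
        (s * Y.presheaf.map (homOfLE (le_top : f ⁻¹ᵁ U ≤ ⊤)).op h : Γ(Y, f ⁻¹ᵁ U)) := fun s => by
    rw [stalkMapₗ_germ]
    exact congrArg _ (ZarCoh.SerreAff.mult_app h (f ⁻¹ᵁ U) s)
  have hFS : ∀ x ∈ S, F x ∈ S := fun x hx => by
    induction hx using Submodule.span_induction with
    | mem x hx =>
      obtain ⟨c, rfl⟩ := hx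
      rw [stalkMapₗ_germ]
      exact Submodule.subset_span ⟨_, rfl⟩
    | zero => rw [map_zero]; exact S.zero_mem
    | add a b _ _ ha hb => rw [map_add]; exact S.add_mem ha hb
    | smul r a _ ha => rw [map_smul]; exact S.smul_mem r ha
  have hinj : Function.Injective F :=
    (mono_iff_stalkMapₗ_injective _).mp (mono_mult f hh) η
  have hback : ∀ x, F x ∈ S → x ∈ S := fun x hx => by
    have hsurj : Function.Surjective (F.restrict hFS) := by
      rw [← LinearMap.injective_iff_surjective]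
      exact fun a b e => Subtype.ext (hinj (congrArg Subtype.val e))
    obtain ⟨⟨y, hy⟩, e⟩ := hsurj ⟨F x, hx⟩
    rw [← hinj (congrArg Subtype.val e)]
    exact hy
  have hpow : ∀ (k : ℕ) (s : Γ(Y, f ⁻¹ᵁ U)),
      (N f).presheaf.germ U η hηU
        (s * Y.presheaf.map (homOfLE (le_top : f ⁻¹ᵁ U ≤ ⊤)).op (h ^ k) : Γ(Y, f ⁻¹ᵁ U)) ∈ S →
      (N f).presheaf.germ U η hηU s ∈ S := fun k => by
    induction k with
    | zero => intro s hs; rwa [pow_zero, map_one, mul_one] at hs
    | succ k ih =>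
      intro s hs
      refine ih s (hback _ ?_)
      rw [hF, mul_assoc, ← map_mul, ← pow_succ]
      exact hs
  refine hpow k t ?_
  rw [hb']
  have : (N f).presheaf.germ U η hηU
      ((N f).presheaf.map (homOfLE (le_top : U ≤ ⊤)).op (show Γ(N f, ⊤) from b)) ∈ S := by
    rw [ClSub.Basis.germ_map (le_top : U ≤ ⊤) hηU]
    exact Submodule.subset_span ⟨_, rfl⟩
  exact this

/-- Finitely many global functions on `Y` give a basis of the stalk of `f_* O_Y` at the generic point. -/
theorem exists_basis [IsIntegral X] [IsLocallyNoetherian X] [IsIntegral Y] [IsAffine Y] [IsFinite f]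
    [Surjective f] :
    ∃ (n : ℕ) (b : Fin n → Γ(N f, ⊤)), 0 < n ∧
      LinearIndependent (X.presheaf.stalk (genericPoint X))
        (fun i => (N f).presheaf.germ ⊤ (genericPoint X) trivial (b i)) ∧
      Submodule.span (X.presheaf.stalk (genericPoint X))
        (Set.range fun i => (N f).presheaf.germ ⊤ (genericPoint X) trivial (b i)) = ⊤ := by
  set η := genericPoint X
  letI : Field (X.presheaf.stalk η) := inferInstanceAs (Field X.functionField)
  haveI := (isCoh_N f).1
  haveI := (isCoh_N f).2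
  haveI : Module.Finite (X.presheaf.stalk η) ((N f).presheaf.stalk η) := by
    obtain ⟨s, hs⟩ := Modules.GenStalk.finite_stalk (N f) η
    exact ⟨⟨s, hs⟩⟩
  obtain ⟨s, hs, hspan, hli⟩ := exists_linearIndependent (X.presheaf.stalk η)
    (Set.range fun b : Γ(N f, ⊤) => (N f).presheaf.germ ⊤ η trivial b)
  rw [span_global f] at hspan
  haveI : Finite s := hli.finite
  let := Fintype.ofFinite s
  let e := (Fintype.equivFin s).symm
  choose b hb using fun i => hs (e i).2
  have hfun : (fun i => (N f).presheaf.germ ⊤ η trivial (b i)) = (Subtype.val : s → _) ∘ e :=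
    funext hb
  refine ⟨_, b, ?_, hfun ▸ hli.comp e e.injective, ?_⟩
  · by_contra hn
    have : IsEmpty (Fin (Fintype.card s)) := by
      rw [Nat.eq_zero_of_not_pos hn]; infer_instance
    have hne : Nontrivial ((N f).presheaf.stalk η) := by
      refine ⟨(N f).presheaf.germ ⊤ η trivial (1 : Γ(Y, f ⁻¹ᵁ ⊤)), 0, fun h0 => ?_⟩
      obtain ⟨W, hηW, i₁, i₂, e⟩ := (N f).presheaf.germ_eq η (U := ⊤) (V := ⊤) trivial trivial
        (1 : Γ(Y, f ⁻¹ᵁ ⊤)) 0 (h0.trans (map_zero _).symm)
      obtain ⟨y, hy⟩ := f.surjective η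
      haveI : Nonempty (f ⁻¹ᵁ W) := ⟨⟨y, show f y ∈ W from hy.symm ▸ hηW⟩⟩
      change Y.presheaf.map _ (1 : Γ(Y, f ⁻¹ᵁ ⊤)) = Y.presheaf.map _ 0 at e
      have e1 : (1 : Γ(Y, f ⁻¹ᵁ W)) = 0 := ((map_one _).symm.trans e).trans (map_zero _)
      exact one_ne_zero e1
    have h0 : s = ∅ := Set.eq_empty_iff_forall_notMem.mpr fun x hx =>
      this.elim ((Fintype.equivFin s) ⟨x, hx⟩)
    rw [h0, Submodule.span_empty] at hspan
    exact not_subsingleton _ ((Submodule.subsingleton_iff _).mp (subsingleton_of_bot_eq_top hspan))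
  · rw [hfun, Set.range_comp, e.surjective.range_eq, Set.image_univ, Subtype.range_coe, hspan]

end Push

end Groth.Agent.H54.ChevH1
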