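import Groth.Agent.H54.ChevGen

/-!
# Chevalley's theorem: the integral step

`X` integral Noetherian, `f : Y ⟶ X` finite surjective with `Y` affine integral, every proper closed
subscheme of `X` affine: then `H¹(X, I) = 0` for every quasi-coherent ideal `I`.
-/

set_option autoImplicit false
set_option linter.style.haveILetI false
universe u

open CategoryTheory CategoryTheory.Limits AlgebraicGeometry Opposite TopologicalSpace

namespace Groth.Agent.H54.ChevH1

open Groth.Agent.Lib Groth.Agent.Lib.Modules.StalkModule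

variable {X Y : Scheme.{u}}

open Groth.Agent.H34 in
lemma h1_of_isZero {M : X.Modules} (h : IsZero M) : Subsingleton (Coh.HH X M 1) :=
  HOne.ext_of_sum.{u} _ 1 (∅ : Finset Empty) (M := (HOne.ab X).obj M)
    (F := fun i : Empty => i.elim) (fun i => i.elim) (fun i => i.elim)
    (by rw [Finset.sum_empty]; exact ((HOne.ab X).map_isZero h).eq_of_src _ _)
    (fun i => i.elim)

open Groth.Agent.H34 in
lemma h1_of_retract {M P : X.Modules} (s : M ⟶ P) (p : P ⟶ M) (h : s ≫ p = 𝟙 M)
    (hP : Subsingleton (Coh.HH X P 1)) : Subsingleton (Coh.HH X M 1) :=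
  HOne.ext_of_sum.{u} _ 1 ({()} : Finset Unit) (M := (HOne.ab X).obj M)
    (F := fun _ => (HOne.ab X).obj P) (fun _ => (HOne.ab X).map s) (fun _ => (HOne.ab X).map p)
    (by rw [Finset.sum_singleton, ← Functor.map_comp, h]; exact ((HOne.ab X).map_id M).symm) fun _ => hP

theorem h1_ideal [IsIntegral X] [IsNoetherian X] [IsIntegral Y] [IsAffine Y] (f : Y ⟶ X)
    [IsFinite f] [Surjective f]
    (hprop : ∀ (Z : Scheme.{u}) (i : Z ⟶ X), IsClosedImmersion i → Set.range i ≠ Set.univ → IsAffine Z)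
    (I : X.Modules) (ι : I ⟶ Coh.structureModule X) [Mono ι] (hI : Coh.IsQCoh I) :
    Subsingleton (Coh.HH X I 1) := by
  haveI : I.IsQuasicoherent := hI
  set η := genericPoint X
  letI : Field (X.presheaf.stalk η) := inferInstanceAs (Field X.functionField)
  have hιinj : Function.Injective (stalkMapₗ ι η) := (mono_iff_stalkMapₗ_injective ι).mp ‹_› η
  by_cases hzero : ∀ v, stalkMapₗ ι η v = 0
  · refine h1_of_isZero ?_
    have h0 : ι = 0 := hom_eq_zero_of_affine ι fun U s => eq_zero_of_germ _ fun hx => by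
      rw [← stalkMapₗ_germ]; exact hzero _
    exact IsZero.of_mono_eq_zero ι h0
  push Not at hzero
  obtain ⟨v₁, hv₁⟩ := hzero
  obtain ⟨a, ha⟩ := exists_smul_one η (stalkMapₗ ι η v₁)
  have ha0 : a ≠ 0 := fun h => hv₁ (by rw [← ha, h, zero_smul])
  have hone : stalkMapₗ ι η (a⁻¹ • v₁) = one η := by
    rw [map_smul, ← ha, smul_smul, inv_mul_cancel₀ ha0, one_smul]
  obtain ⟨n, b, hn, hli, hspan⟩ := exists_basis f
  haveI hN := isCoh_N f
  haveI := hN.1
  haveI : HasFiniteBiproducts X.Modules := HasFiniteBiproducts.of_hasFiniteCoproducts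
  let F : Fin n → X.Modules := fun _ => I
  let P := ⨁ F
  haveI hPq : P.IsQuasicoherent := by
    have hc : ((∐ F) : X.Modules).IsQuasicoherent :=
      QCoh.Closure.isQCoh_of_isColimit (coproductIsCoproduct F) fun _ => hI
    exact (SheafOfModules.isQuasicoherent X.ringCatSheaf).prop_of_iso (biproduct.isoCoproduct F).symm hc
  let φ : P ⟶ N f := biproduct.desc fun i => ι ≫ ClSub.Cartier.ofSection (N f) (b i)
  let G := stalkModFunctor X η
  have hsum : ∀ x : P.presheaf.stalk η,
      ∑ i, stalkMapₗ (biproduct.ι F i) η (stalkMapₗ (biproduct.π F i) η x) = x := fun x => by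
    have := congrArg (fun g => (G.map g).hom x) (biproduct.total (f := F))
    simp only [Functor.map_sum, ModuleCat.hom_sum, LinearMap.sum_apply,
      Functor.map_comp, ModuleCat.hom_comp, LinearMap.comp_apply] at this
    exact this.trans (congrArg (fun g : G.obj P ⟶ G.obj P => g.hom x) (G.map_id P))
  have hφι : ∀ i w, stalkMapₗ φ η (stalkMapₗ (biproduct.ι F i) η w) =
      stalkMapₗ (ClSub.Cartier.ofSection (N f) (b i)) η (stalkMapₗ ι η w) := fun i w => by
    rw [← LinearMap.comp_apply, ← stalkMapₗ_comp, biproduct.ι_desc, stalkMapₗ_comp]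
    rfl
  have hφinj : Function.Injective (stalkMapₗ φ η) := by
    rw [injective_iff_map_eq_zero]
    intro x hx
    choose c hc using fun i => exists_smul_one η (stalkMapₗ ι η (stalkMapₗ (biproduct.π F i) η x))
    rw [← hsum x, map_sum] at hx
    simp only [hφι, ← hc, map_smul, ofSection_one] at hx
    have hc0 := Fintype.linearIndependent_iff.mp hli c hx
    have : ∀ i, stalkMapₗ (biproduct.π F i) η x = 0 := fun i => hιinj (by
      rw [map_zero, ← hc i, hc0 i, zero_smul])
    rw [← hsum x]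
    simp [this]
  have hφsurj : Function.Surjective (stalkMapₗ φ η) := by
    rw [← LinearMap.range_eq_top, eq_top_iff, ← hspan, Submodule.span_le]
    rintro _ ⟨i, rfl⟩
    exact ⟨stalkMapₗ (biproduct.ι F i) η (a⁻¹ • v₁), by rw [hφι, hone, ofSection_one]⟩
  have hφU : ∀ (U : X.Opens) (s : Γ(P, U)), φ.app U s = 0 → s = 0 := fun U s hs => by
    have hcomp : ∀ i, (biproduct.π F i).app U s = 0 := fun i => by
      refine QCoh.Closure.sections_injective_of_mono ι U ?_
      rw [map_zero]
      refine eq_zero_of_germ _ fun hx => ?_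
      have h1 : P.presheaf.germ U η hx s = 0 := hφinj (by rw [stalkMapₗ_germ, hs, map_zero, map_zero])
      rw [← stalkMapₗ_germ ι, ← stalkMapₗ_germ (biproduct.π F i), h1, map_zero, map_zero]
    have := congrArg (fun g => (QCoh.Closure.sectionsFunctor U).map g s) (biproduct.total (f := F))
    let ev : (P ⟶ P) →+ Γ(P, U) := AddMonoidHom.mk' (fun g => g.app U s) fun _ _ => rfl
    have h2 := congrArg ev (biproduct.total (f := F))
    rw [map_sum] at h2
    refine h2.symm.trans (Finset.sum_eq_zero fun i _ => ?_)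
    show (biproduct.ι F i).app U ((biproduct.π F i).app U s) = 0
    rw [hcomp, map_zero]
  haveI : Mono φ := ClSub.Basis.mono_of_injective_affine φ fun U =>
    (injective_iff_map_eq_zero (φ.app U.1).hom).mpr (hφU U.1)
  haveI hPc : Coh.IsCoh P := CohBasics.Closure.isCoh_of_mono φ hN
  let C := cokernel φ
  haveI := QCoh.Closure.isQCoh_cokernel φ
  have hC : Coh.IsCoh C := CohBasics.Closure.isCoh_of_epi (cokernel.π φ) hN
  haveI := hC.2
  have hCη : η ∉ CohB1.support C := by
    refine Modules.Support.not_mem_support_iff.mpr (subsingleton_of_forall_eq 0 fun v => ?_)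
    obtain ⟨w, rfl⟩ := (epi_iff_stalkMapₗ_surjective (cokernel.π φ)).mp inferInstance η v
    obtain ⟨x, rfl⟩ := hφsurj w
    rw [← LinearMap.comp_apply, ← stalkMapₗ_comp, cokernel.condition, stalkMapₗ_zero,
      LinearMap.zero_apply]
  let K := ZarCoh.AnnIdeal.annIdeal C
  let Jd := K.comap f
  have hJmem : ∀ (U : X.affineOpens) (r : Γ(Y, f ⁻¹ᵁ U.1)),
      r ∈ Jd.ideal ⟨f ⁻¹ᵁ U.1, U.2.preimage f⟩ ↔ r ∈ Ideal.map (f.app U.1).hom (K.ideal U) := by
    intro U r
    rw [Groth.Agent.Lib.Ideal.Comap.ideal_comap f K U ⟨f ⁻¹ᵁ U.1, U.2.preimage f⟩ le_rfl,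
      Scheme.Hom.app_eq_appLE]
  let J := (Coh.push f).obj (_root_.ClSub.idealMod Jd)
  haveI hJq : (_root_.ClSub.idealMod Jd).IsQuasicoherent := by
    haveI := TensorMod.QCohInv.isQCoh_structureModule Y
    haveI := TensorMod.QCohInv.isQCoh_structureModule Jd.subscheme
    haveI := QCoh.Pushforward.isQCoh_pushforward Jd.subschemeι (M := Coh.structureModule Jd.subscheme)
    exact QCoh.Closure.isQCoh_kernel (_root_.ClSub.toSubscheme Jd)
  haveI : J.IsQuasicoherent := QCoh.Pushforward.isQCoh_pushforward f (M := _root_.ClSub.idealMod Jd)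
  let jj : J ⟶ N f := (Coh.push f).map (_root_.ClSub.idealModι Jd)
  have hjj : jj ≫ cokernel.π φ = 0 := by
    refine hom_eq_zero_of_affine _ fun U s => ?_
    have hr : (jj.app U.1 s : Γ(Y, f ⁻¹ᵁ U.1)) ∈ Ideal.map (f.app U.1).hom (K.ideal U) :=
      (hJmem U _).mp ((ClSub.Sections.mem_range_idealModι_app_affine_iff Jd
        ⟨f ⁻¹ᵁ U.1, U.2.preimage f⟩ _).mp ⟨s, rfl⟩)
    show (cokernel.π φ).app U.1 (jj.app U.1 s) = 0
    suffices ∀ r : Γ(Y, f ⁻¹ᵁ U.1), r ∈ Ideal.map (f.app U.1).hom (K.ideal U) →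
        ∀ c : Γ(Y, f ⁻¹ᵁ U.1), (cokernel.π φ).app U.1 (show Γ(N f, U.1) from (c * r : Γ(Y, f ⁻¹ᵁ U.1))) = 0 by
      have h1 := this _ hr 1
      rw [one_mul] at h1
      exact h1
    intro r hr
    refine Submodule.span_induction ?_ ?_ ?_ ?_ hr
    · rintro _ ⟨k, hk, rfl⟩ c
      rw [mul_comm]
      show (cokernel.π φ).app U.1 ((k : Γ(X, U.1)) • (show Γ(N f, U.1) from c)) = 0
      rw [Scheme.Modules.Hom.app_smul]
      exact Module.mem_annihilator.mp hk _
    · intro c; rw [mul_zero]; exact map_zero _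
    · intro x y _ _ hx hy c
      rw [mul_add]
      refine (map_add ((cokernel.π φ).app U.1).hom _ _).trans ?_
      exact (congrArg₂ (· + ·) (hx c) (hy c)).trans (add_zero 0)
    · intro d x _ hx c
      rw [smul_eq_mul, ← mul_assoc]
      exact hx (c * d)
  let ψ : J ⟶ P := Abelian.monoLift φ jj hjj
  have hψ : ψ ≫ φ = jj := Abelian.monoLift_comp φ jj hjj
  haveI : Mono jj := ClSub.Basis.mono_of_injective_affine jj fun U =>
    ClSub.Sections.idealModι_app_injective Jd (f ⁻¹ᵁ U.1)
  haveI : Mono ψ := mono_of_mono_fac hψ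
  let D := cokernel ψ
  haveI := QCoh.Closure.isQCoh_cokernel ψ
  have hD : Coh.IsCoh D := CohBasics.Closure.isCoh_of_epi (cokernel.π ψ) hPc
  haveI := hD.2
  have hkill : _root_.ClSub.KilledByIdeal K.subschemeι.ker D := by
    rw [Scheme.IdealSheafData.ker_subschemeι]
    intro U k hk m
    obtain ⟨p, rfl⟩ := QCoh.Closure.sections_surjective_of_epi (cokernel.π ψ) U.2 m
    have hmem : (f.app U.1).hom k * (show Γ(Y, f ⁻¹ᵁ U.1) from φ.app U.1 p) ∈
        Jd.ideal ⟨f ⁻¹ᵁ U.1, U.2.preimage f⟩ :=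
      Ideal.mul_mem_right _ _ ((hJmem U _).mpr (Ideal.mem_map_of_mem _ hk))
    obtain ⟨s, hs⟩ := (ClSub.Sections.mem_range_idealModι_app_affine_iff Jd
      ⟨f ⁻¹ᵁ U.1, U.2.preimage f⟩ _).mpr hmem
    have he : k • p = ψ.app U.1 s := by
      refine sub_eq_zero.mp (hφU U.1 _ ?_)
      rw [map_sub, Scheme.Modules.Hom.app_smul, sub_eq_zero]
      refine Eq.trans ?_ (congr($(hψ).app U.1 s)).symm
      exact hs.symm
    show k • (cokernel.π ψ).app U.1 p = 0
    rw [← Scheme.Modules.Hom.app_smul, he]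
    exact (congr($(cokernel.condition ψ).app U.1 s)).trans rfl
  obtain ⟨G', hG', -, ⟨eD⟩⟩ := ZarCoh.PushKilled.exists_pushforward_iso K.subschemeι D hkill
  haveI := hG'
  haveI : IsAffine K.subscheme := by
    refine hprop _ K.subschemeι inferInstance fun h => hCη ?_
    rw [← ZarCoh.AnnIdeal.support_annIdeal, ← K.range_subschemeι, h]
    trivial
  have hD1 : Subsingleton (Coh.HH X D 1) :=
    H34.HOne.h1_of_iso eD ((ZarCoh.Morph.affineEquiv K.subschemeι G' 1).toEquiv.subsingleton_congr.mpr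
      (ZarCoh.Affine.HH_subsingleton K.subscheme G' 0))
  have hJ1 : Subsingleton (Coh.HH X J 1) :=
    (ZarCoh.Morph.affineEquiv f (_root_.ClSub.idealMod Jd) 1).toEquiv.subsingleton_congr.mpr
      (ZarCoh.Affine.HH_subsingleton Y (_root_.ClSub.idealMod Jd) 0)
  let S : ShortComplex X.Modules := ShortComplex.mk ψ (cokernel.π ψ) (cokernel.condition ψ)
  have hS : S.ShortExact :=
    { exact := ShortComplex.exact_of_g_is_cokernel _ (cokernelIsCokernel ψ)
      mono_f := inferInstanceAs (Mono ψ)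
      epi_g := inferInstanceAs (Epi (cokernel.π ψ)) }
  exact h1_of_retract (biproduct.ι F ⟨0, hn⟩) (biproduct.π F ⟨0, hn⟩) (biproduct.ι_π_self F _)
    (H34.HOne.h1_of_shortExact hS hJ1 hD1)

end Groth.Agent.H54.ChevH1
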