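import Groth.Agent.H54.GeomLift
import Mathlib.RingTheory.ZariskisMainTheorem
import Mathlib.AlgebraicGeometry.Artinian

/-!
# Uniform bound on the geometric fibres of a locally quasi-finite morphism
-/

universe u

open AlgebraicGeometry CategoryTheory Limits Polynomial

namespace Groth.Agent.H54.GeomBound

open GeomLift

theorem exists_bound_algHom (R A : Type u) [CommRing R] [CommRing A] [Algebra R A]
    [Algebra.FiniteType R A] [Algebra.QuasiFinite R A] :
    ∃ d : ℕ, ∀ (k : Type u) [Field k] [Algebra R k],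
      Finite (A →ₐ[R] k) ∧ Nat.card (A →ₐ[R] k) ≤ d := by
  classical
  obtain ⟨G, hG⟩ := Algebra.FiniteType.out (R := R) (A := A)
  have key : ∀ p : PrimeSpectrum A, ∃ r ∉ p.asIdeal, IsIntegral R r ∧
      ∀ x, ∃ m, IsIntegral R (r ^ m * x) := fun p =>
    Algebra.zariskisMainProperty_iff.mp (Algebra.ZariskisMainProperty.of_finiteType p.asIdeal)
  choose r hr hri hrx using key
  have hspan : Ideal.span (Set.range r) = ⊤ := by
    by_contra h
    obtain ⟨m, hm, hle⟩ := Ideal.exists_le_maximal _ h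
    exact hr ⟨m, hm.isPrime⟩ (hle (Ideal.subset_span ⟨_, rfl⟩))
  obtain ⟨T, hT, h1⟩ := Submodule.mem_span_finite_of_mem_span
    (show (1 : A) ∈ Ideal.span (Set.range r) by rw [hspan]; trivial)
  have hT' : ∀ t : T, ∃ p, r p = t.1 := fun t => hT t.2
  choose p hp using hT'
  choose m hm using hrx
  let e : T ⊕ (T × G) → A := Sum.elim (fun t => t.1) (fun x => r (p x.1) ^ m (p x.1) x.2 * x.2)
  have he : ∀ i, IsIntegral R (e i) := by
    rintro (t | x)
    · show IsIntegral R t.1; rw [← hp t]; exact hri _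
    · exact hm (p x.1) x.2
  choose P hPm hPe using he
  refine ⟨∏ i, (P i).natDegree, fun k _ _ => ?_⟩
  let Φ : (A →ₐ[R] k) → ∀ i, ((P i).map (algebraMap R k)).roots.toFinset := fun χ i =>
    ⟨χ (e i), by
      rw [Multiset.mem_toFinset, mem_roots ((hPm i).map _).ne_zero, IsRoot, eval_map,
        ← aeval_def, aeval_algHom_apply, aeval_def, hPe, map_zero]⟩
  have hΦ : Function.Injective Φ := by
    intro χ χ' h
    have h' : ∀ i, χ (e i) = χ' (e i) := fun i => congrArg Subtype.val (congrFun h i)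
    obtain ⟨t, ht⟩ : ∃ t : T, χ t.1 ≠ 0 := by
      by_contra hc
      push Not at hc
      have h2 : Ideal.span (T : Set A) ≤ RingHom.ker χ.toRingHom :=
        Ideal.span_le.mpr fun a ha => hc ⟨a, ha⟩
      exact one_ne_zero ((map_one χ).symm.trans (h2 h1))
    refine AlgHom.ext_of_adjoin_eq_top hG fun g hg => ?_
    have h3 := h' (.inr (t, ⟨g, hg⟩))
    have h4 := h' (.inl t)
    simp only [e, Sum.elim_inr, Sum.elim_inl, map_mul, map_pow, hp] at h3 h4
    rw [← h4] at h3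
    exact mul_left_cancel₀ (pow_ne_zero _ ht) h3
  refine ⟨Finite.of_injective Φ hΦ, (Nat.card_le_card_of_injective Φ hΦ).trans ?_⟩
  rw [Nat.card_pi]
  refine Finset.prod_le_prod' fun i _ => ?_
  rw [Nat.card_eq_fintype_card, Fintype.card_coe]
  exact (Multiset.toFinset_card_le _).trans ((card_roots' _).trans (natDegree_map_le ..))

variable {X Y : Scheme.{u}} (f : X ⟶ Y) [LocallyQuasiFinite f] [LocallyOfFiniteType f]

omit [LocallyQuasiFinite f] [LocallyOfFiniteType f] in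
/-- A lift inside an affine open is given by an algebra homomorphism. -/
theorem exists_algHom_of_lift {U : X.Opens} (hU : IsAffineOpen U) {V : Y.Opens} (hV : IsAffineOpen V)
    (e : U ≤ f ⁻¹ᵁ V) {k : Type u} [Field k] (ψ : Γ(Y, V) ⟶ CommRingCat.of k)
    {s : Spec (CommRingCat.of k) ⟶ X} (hs : s ≫ f = Spec.map ψ ≫ hV.fromSpec) (hsU : pt s ∈ U) :
    letI := (f.appLE V U e).hom.toAlgebra
    letI := ψ.hom.toAlgebra
    ∃ χ : Γ(X, U) →ₐ[Γ(Y, V)] k, s = Spec.map (CommRingCat.ofHom χ.toRingHom) ≫ hU.fromSpec := by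
  let := (f.appLE V U e).hom.toAlgebra
  let := ψ.hom.toAlgebra
  have hr : Set.range s ⊆ Set.range hU.fromSpec := by
    rw [hU.range_fromSpec]
    rintro _ ⟨x, rfl⟩
    rw [Subsingleton.elim x (IsLocalRing.closedPoint k)]; exact hsU
  obtain ⟨χ, hχ⟩ : ∃ χ, Spec.map χ = IsOpenImmersion.lift hU.fromSpec s hr := Spec.map_surjective _
  have hs' : Spec.map χ ≫ hU.fromSpec = s := by rw [hχ, IsOpenImmersion.lift_fac]
  have h3 : f.appLE V U e ≫ χ = ψ := by
    apply Spec.map_injective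
    rw [← cancel_mono hV.fromSpec, Spec.map_comp, Category.assoc,
      IsAffineOpen.SpecMap_appLE_fromSpec f hV hU e, reassoc_of% hs', hs]
  exact ⟨⟨χ.hom, fun r => congr($h3 r)⟩, hs'.symm⟩

theorem exists_bound_affine (U : X.Opens) (hU : IsAffineOpen U) (V : Y.Opens) (hV : IsAffineOpen V)
    (e : U ≤ f ⁻¹ᵁ V) : ∃ d : ℕ, ∀ (k : Type u) [Field k] (ξ : Spec (CommRingCat.of k) ⟶ Y),
      Finite {s : Lift f ξ // pt s.1 ∈ U} ∧ Nat.card {s : Lift f ξ // pt s.1 ∈ U} ≤ d := by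
  have h1 : (f.appLE V U e).hom.QuasiFinite :=
    HasRingHomProperty.appLE (P := @LocallyQuasiFinite) f ‹_› ⟨V, hV⟩ ⟨U, hU⟩ e
  have h2 := f.finiteType_appLE hV hU e
  algebraize [(f.appLE V U e).hom]
  obtain ⟨d, hd⟩ := exists_bound_algHom Γ(Y, V) Γ(X, U)
  refine ⟨d, fun k _ ξ => ?_⟩
  by_cases hξ : pt ξ ∈ V
  swap
  · have : IsEmpty {s : Lift f ξ // pt s.1 ∈ U} :=
      ⟨fun s => hξ (by rw [← apply_pt s.1]; exact e s.2)⟩
    exact ⟨Finite.of_subsingleton, by simp⟩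
  obtain ⟨ψ, hψ⟩ : ∃ ψ : Γ(Y, V) ⟶ CommRingCat.of k, ξ = Spec.map ψ ≫ hV.fromSpec := by
    have hr : Set.range ξ ⊆ Set.range hV.fromSpec := by
      rw [hV.range_fromSpec]
      rintro _ ⟨x, rfl⟩
      rw [Subsingleton.elim x (IsLocalRing.closedPoint k)]; exact hξ
    exact ⟨Spec.preimage (IsOpenImmersion.lift hV.fromSpec ξ hr),
      by rw [Spec.map_preimage, IsOpenImmersion.lift_fac]⟩
  let := ψ.hom.toAlgebra
  obtain ⟨hfin, hcard⟩ := hd k
  have key : ∀ s : {s : Lift f ξ // pt s.1 ∈ U}, ∃ χ : Γ(X, U) →ₐ[Γ(Y, V)] k,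
      s.1.1 = Spec.map (CommRingCat.ofHom χ.toRingHom) ≫ hU.fromSpec := fun s =>
    exists_algHom_of_lift f hU hV e ψ (hψ ▸ s.1.2) s.2
  choose χ hχ using key
  have hinj : Function.Injective χ := fun a b h =>
    Subtype.ext (Subtype.ext (by rw [hχ a, hχ b, h]))
  exact ⟨Finite.of_injective χ hinj, (Nat.card_le_card_of_injective χ hinj).trans hcard⟩

theorem exists_bound [CompactSpace X] : ∃ d : ℕ, ∀ (k : Type u) [Field k]
    (ξ : Spec (CommRingCat.of k) ⟶ Y), Finite (Lift f ξ) ∧ Nat.card (Lift f ξ) ≤ d := by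
  classical
  have key : ∀ x : X, ∃ (U : X.Opens) (d : ℕ), x ∈ U ∧ ∀ (k : Type u) [Field k]
      (ξ : Spec (CommRingCat.of k) ⟶ Y),
      Finite {s : Lift f ξ // pt s.1 ∈ U} ∧ Nat.card {s : Lift f ξ // pt s.1 ∈ U} ≤ d := by
    intro x
    obtain ⟨_, ⟨V, hV, rfl⟩, hxV, -⟩ := Y.isBasis_affineOpens.exists_subset_of_mem_open
      (Set.mem_univ (f x)) isOpen_univ
    obtain ⟨_, ⟨U, hU, rfl⟩, hxU, hUV : U ≤ f ⁻¹ᵁ V⟩ :=
      X.isBasis_affineOpens.exists_subset_of_mem_open hxV (f ⁻¹ᵁ V).2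
    obtain ⟨d, hd⟩ := exists_bound_affine f U hU V hV hUV
    exact ⟨U, d, hxU, hd⟩
  choose U d hxU hd using key
  obtain ⟨S, hS⟩ := isCompact_univ.elim_finite_subcover (fun x => (U x : Set X)) (fun x => (U x).2)
    (fun x _ => Set.mem_iUnion.mpr ⟨x, hxU x⟩)
  refine ⟨∑ x : S, d x.1, fun k _ ξ => ?_⟩
  have : ∀ x : S, Finite {s : Lift f ξ // pt s.1 ∈ U x.1} := fun x => (hd x.1 k ξ).1
  have hsurj : Function.Surjective
      (fun p : Σ x : S, {s : Lift f ξ // pt s.1 ∈ U x.1} => p.2.1) := fun s => by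
    obtain ⟨x, hx⟩ := Set.mem_iUnion.mp (hS (Set.mem_univ (pt s.1)))
    obtain ⟨hxS, hsx⟩ := Set.mem_iUnion.mp hx
    exact ⟨⟨⟨x, hxS⟩, ⟨s, hsx⟩⟩, rfl⟩
  refine ⟨Finite.of_surjective _ hsurj, (Nat.card_le_card_of_surjective _ hsurj).trans ?_⟩
  rw [Nat.card_sigma]
  exact Finset.sum_le_sum fun x _ => (hd x.1 k ξ).2

end Groth.Agent.H54.GeomBound
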