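import Mathlib.FieldTheory.PurelyInseparable.Basic
import Mathlib.RingTheory.LocalRing.ResidueField.Ideal
import Mathlib.RingTheory.Ideal.Over
import Mathlib.FieldTheory.IsAlgClosed.AlgebraicClosure

/-!
# A constructible stratum where a finite algebra has a single geometric point
-/

universe u

namespace Groth.Agent.H54.Stratum

theorem exists_injective_stratum (R A : Type u) [CommRing R] [CommRing A] [Algebra R A]
    [Module.Finite R A] (q : Ideal R) [q.IsPrime] (p : Ideal A) [p.IsPrime] [p.LiesOver q]
    (honly : ∀ p' : Ideal A, p'.IsPrime → p'.comap (algebraMap R A) = q → p' = p)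
    (huniq : ∀ (k : Type u) [Field k] [IsAlgClosed k] [Algebra R k],
      RingHom.ker (algebraMap R k) = q → Subsingleton (A →ₐ[R] k)) :
    ∃ d ∉ q, ∃ c : Finset R, (c : Set R) ⊆ q ∧ ∀ (k : Type u) [Field k] [Algebra R k],
      algebraMap R k d ≠ 0 → (∀ r ∈ c, algebraMap R k r = 0) → Subsingleton (A →ₐ[R] k) := by
  classical
  let F := q.ResidueField
  let E := p.ResidueField
  let : Algebra F E := (Ideal.ResidueField.map q p (algebraMap R A) (p.over_def q)).toAlgebra
  have : IsScalarTower R F E := IsScalarTower.of_algebraMap_eq fun r => by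
    rw [RingHom.algebraMap_toAlgebra, Ideal.ResidueField.map_algebraMap, ← IsScalarTower.algebraMap_apply]
  have : IsPurelyInseparable F E := by
    rw [isPurelyInseparable_iff_subsingleton_emb]
    refine ⟨fun σ τ => ?_⟩
    let k := AlgebraicClosure E
    have hker : RingHom.ker (algebraMap R k) = q := by
      ext r
      rw [RingHom.mem_ker, IsScalarTower.algebraMap_apply R F k, map_eq_zero,
        Ideal.algebraMap_residueField_eq_zero]
    have h := (huniq k hker).elim ((σ.restrictScalars R).comp (IsScalarTower.toAlgHom R A E))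
      ((τ.restrictScalars R).comp (IsScalarTower.toAlgHom R A E))
    refine AlgHom.ext fun z => ?_
    obtain ⟨a, b, _, rfl⟩ := IsFractionRing.div_surjective (A := A ⧸ p) z
    obtain ⟨a, rfl⟩ := Ideal.Quotient.mk_surjective a
    obtain ⟨b, rfl⟩ := Ideal.Quotient.mk_surjective b
    have hh : ∀ a : A, σ (algebraMap A E a) = τ (algebraMap A E a) := fun a => DFunLike.congr_fun h a
    simp only [map_div₀]
    exact congrArg₂ (· / ·) (hh a) (hh b)
  set e := ringExpChar F
  have key : ∀ a : A, ∃ (n M : ℕ) (s b t : R) (T : Finset R), s ∉ q ∧ t ∉ q ∧ (T : Set R) ⊆ q ∧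
      algebraMap R A t * (algebraMap R A s * a ^ e ^ n - algebraMap R A b) ^ M ∈
        Ideal.span ((T.image (algebraMap R A) : Finset A) : Set A) := by
    intro a
    obtain ⟨n, y, hy⟩ := IsPurelyInseparable.pow_mem F e (algebraMap A E a)
    obtain ⟨b, s, hs, rfl⟩ := IsFractionRing.div_surjective (A := R ⧸ q) y
    obtain ⟨b, rfl⟩ := Ideal.Quotient.mk_surjective b
    obtain ⟨s, rfl⟩ := Ideal.Quotient.mk_surjective s
    have hsq : s ∉ q := fun h =>
      nonZeroDivisors.ne_zero hs (Ideal.Quotient.eq_zero_iff_mem.mpr h)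
    set X := algebraMap R A s * a ^ e ^ n - algebraMap R A b
    have hX : X ∈ p := by
      rw [← Ideal.algebraMap_residueField_eq_zero, map_sub, map_mul, map_pow,
        ← IsScalarTower.algebraMap_apply, ← IsScalarTower.algebraMap_apply, ← hy, map_div₀, sub_eq_zero]
      have hs0 : algebraMap R E s ≠ 0 := by
        rw [IsScalarTower.algebraMap_apply R F E, ne_eq, map_eq_zero, Ideal.algebraMap_residueField_eq_zero]
        exact hsq
      show algebraMap R E s * (algebraMap F E (algebraMap R F b) / algebraMap F E (algebraMap R F s)) = _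
      rw [← IsScalarTower.algebraMap_apply, ← IsScalarTower.algebraMap_apply, mul_div_cancel₀ _ hs0]
    obtain ⟨t, ht, M, hM⟩ : ∃ t ∉ q, ∃ M : ℕ, algebraMap R A t * X ^ M ∈ q.map (algebraMap R A) := by
      by_contra hc
      push Not at hc
      let S : Submonoid A := (q.primeCompl.map (algebraMap R A : R →* A)) ⊔ Submonoid.powers X
      obtain ⟨P, hP, hle, hdisj⟩ := Ideal.exists_le_prime_disjoint (q.map (algebraMap R A)) S (by
        rw [Set.disjoint_left]
        intro x hx hxS
        obtain ⟨_, ⟨t, ht, rfl⟩, _, ⟨M, rfl⟩, rfl⟩ := Submonoid.mem_sup.mp hxS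
        exact hc t ht M hx)
      have hPq : P.comap (algebraMap R A) = q := by
        refine le_antisymm (fun r hr => ?_) (Ideal.map_le_iff_le_comap.mp hle)
        by_contra hrq
        exact Set.disjoint_left.mp hdisj hr (Submonoid.mem_sup_left ⟨r, hrq, rfl⟩)
      exact Set.disjoint_left.mp hdisj (honly P hP hPq ▸ hX) (Submonoid.mem_sup_right ⟨1, pow_one X⟩)
    obtain ⟨T', hT', hmem⟩ := Submodule.mem_span_finite_of_mem_span hM
    obtain ⟨T, hTq, rfl⟩ := Finset.subset_set_image_iff.mp hT'
    exact ⟨n, M, s, b, t, T, hsq, ht, hTq, hmem⟩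
  choose n M s b t T hsq htq hTq hmem using key
  obtain ⟨G, hG⟩ := (Module.finite_def.mp ‹Module.Finite R A›)
  let extra : Finset R := if e = 1 then ∅ else {(e : R)}
  refine ⟨∏ a ∈ G, s a * t a, fun h => ?_, extra ∪ G.biUnion T, ?_, fun k _ _ hd hc => ?_⟩
  · obtain ⟨a, -, ha⟩ := ‹q.IsPrime›.prod_mem_iff.mp h
    exact (‹q.IsPrime›.mem_or_mem ha).elim (hsq a) (htq a)
  · intro r hr
    rcases Finset.mem_union.mp hr with hr | hr
    · rcases eq_or_ne e 1 with he | he
      · simp [extra, he] at hr
      · simp only [extra, if_neg he, Finset.mem_singleton] at hr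
        subst hr
        show (e : R) ∈ q
        rw [← Ideal.algebraMap_residueField_eq_zero, map_natCast]
        have : ExpChar F e := ringExpChar.expChar F
        have h1 : ringChar F = e := by simp only [e, ringExpChar] at he ⊢; omega
        rw [← h1]
        exact CharP.cast_eq_zero F (ringChar F)
    · obtain ⟨a, -, ha⟩ := Finset.mem_biUnion.mp hr
      exact hTq a ha
  refine ⟨fun χ χ' => ?_⟩
  have hpow : ∀ a ∈ G, χ a ^ e ^ n a = χ' a ^ e ^ n a := by
    intro a ha
    rw [map_prod, Finset.prod_ne_zero_iff] at hd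
    have h1 := hd a ha
    rw [map_mul] at h1
    obtain ⟨hs0, ht0⟩ := mul_ne_zero_iff.mp h1
    have h2 : ∀ σ : A →ₐ[R] k, algebraMap R k (s a) * σ a ^ e ^ n a = algebraMap R k (b a) := by
      intro σ
      have hle : Ideal.span (((T a).image (algebraMap R A) : Finset A) : Set A) ≤ RingHom.ker σ.toRingHom := by
        rw [Ideal.span_le]
        intro x hx
        obtain ⟨r, hr, rfl⟩ := Finset.mem_image.mp hx
        exact (σ.commutes r).trans (hc r (Finset.mem_union_right _ (Finset.mem_biUnion.mpr ⟨a, ha, hr⟩)))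
      have h3 : σ (algebraMap R A (t a) * (algebraMap R A (s a) * a ^ e ^ n a - algebraMap R A (b a)) ^ M a) = 0 :=
        hle (hmem a)
      simp only [map_mul, map_pow, map_sub, AlgHom.commutes, mul_eq_zero, ht0, false_or] at h3
      exact sub_eq_zero.mp (eq_zero_of_pow_eq_zero h3)
    exact mul_left_cancel₀ hs0 ((h2 χ).trans (h2 χ').symm)
  refine AlgHom.toLinearMap_injective (LinearMap.ext_on hG fun a ha => ?_)
  have h := hpow a ha
  rcases eq_or_ne e 1 with he | he
  · simpa [he] using h
  · have hek : (e : k) = 0 := by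
      rw [← map_natCast (algebraMap R k)]
      exact hc _ (Finset.mem_union_left _ (by simp [extra, if_neg he]))
    have : ExpChar F e := ringExpChar.expChar F
    have hp : e.Prime := (expChar_is_prime_or_one F e).resolve_right he
    have : CharP k e := (CharP.charP_iff_prime_eq_zero hp).mpr hek
    have : ExpChar k e := ExpChar.prime hp
    exact (iterateFrobenius_inj k e (n a)) h

end Groth.Agent.H54.Stratum
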