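import Groth.Agent.H54.WeightingOpen
import Groth.Agent.H54.Stratum
import Groth.Agent.H54.GeomBound
import Groth.Agent.Lib.Spectral.Basic

/-!
# Level sets of weightings
-/

universe u

open AlgebraicGeometry CategoryTheory Limits Topology Filter

namespace Groth.Agent.H54.LevelSets

open GeomLift Weighting

lemma asIdeal_primeIdealOf_of_fac {X : Scheme.{u}} {U : X.Opens} (hU : IsAffineOpen U) {k : Type u}
    [Field k] (ψ : Γ(X, U) ⟶ CommRingCat.of k) {s : Spec (CommRingCat.of k) ⟶ X}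
    (hs : s = Spec.map ψ ≫ hU.fromSpec) (x : U) (hx : pt s = x.1) :
    (hU.primeIdealOf x).asIdeal = RingHom.ker ψ.hom := by
  have h1 : hU.primeIdealOf x = Spec.map ψ (IsLocalRing.closedPoint k) := by
    apply hU.fromSpec.isOpenEmbedding.injective
    rw [hU.fromSpec_primeIdealOf, ← hx, hs]
    rfl
  rw [h1]
  show Ideal.comap ψ.hom (IsLocalRing.maximalIdeal k) = _
  rw [IsLocalRing.maximalIdeal_eq_bot]
  rfl

variable {X Y : Scheme.{u}} {f : X ⟶ Y} [LocallyQuasiFinite f] [LocallyOfFiniteType f] {w : X → ℤ}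

lemma subsingleton_lift {K : Type u} [Field K] [IsAlgClosed K] {P V : Scheme.{u}} (π : P ⟶ V)
    [IsFinite π] (η : Spec (CommRingCat.of K) ⟶ V) [Subsingleton (Lift π η)] (p₀ : Lift π η)
    {L : Type u} [Field L] [IsAlgClosed L] (ζ : Spec (CommRingCat.of L) ⟶ V) (h : pt ζ = pt η) :
    Subsingleton (Lift π ζ) := by
  have honly : ∀ p, π p = pt η → p = pt p₀.1 := fun p hp => by
    obtain ⟨q, rfl⟩ := exists_lift π η p hp
    rw [Subsingleton.elim q p₀]
  obtain ⟨hf₁, hpos₁, hcard₁⟩ := card_pt_eq π η (pt p₀.1) (apply_pt p₀)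
  obtain ⟨hf₂, hpos₂, hcard₂⟩ := card_pt_eq π ζ (pt p₀.1) (h ▸ apply_pt p₀)
  have h1 : Nat.card {s : Lift π η // pt s.1 = pt p₀.1} = 1 :=
    Nat.card_eq_one_iff_unique.mpr ⟨inferInstance, ⟨⟨p₀, rfl⟩⟩⟩
  have h2 : Subsingleton {s : Lift π ζ // pt s.1 = pt p₀.1} :=
    (Nat.card_eq_one_iff_unique.mp (by rw [hcard₂, ← hcard₁, h1])).1
  exact ⟨fun a b => congrArg Subtype.val (@Subsingleton.elim _ h2
    ⟨a, honly _ (by rw [apply_pt a, h])⟩ ⟨b, honly _ (by rw [apply_pt b, h])⟩)⟩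

theorem exists_stratum {K : Type u} [Field K] [IsAlgClosed K] (hw : MoreMor.IsWeighting f w)
    {xb : Spec (CommRingCat.of K) ⟶ X} (D : Datum f xb) :
    ∃ (V' : D.V.Opens) (_ : IsAffineOpen V') (hη : pt D.η ∈ V') (d : Γ(D.V, V')) (c : Finset Γ(D.V, V')),
      d ∉ (‹IsAffineOpen V'›.primeIdealOf ⟨_, hη⟩).asIdeal ∧
      (∀ r ∈ c, r ∈ (‹IsAffineOpen V'›.primeIdealOf ⟨_, hη⟩).asIdeal) ∧
      ∀ z, ∀ hz : (D.j ≫ pullback.snd f D.a) z ∈ V',
        d ∉ (‹IsAffineOpen V'›.primeIdealOf ⟨_, hz⟩).asIdeal →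
        (∀ r ∈ c, r ∈ (‹IsAffineOpen V'›.primeIdealOf ⟨_, hz⟩).asIdeal) →
          w (pullback.fst f D.a (D.j z)) = w (pt xb) := by
  classical
  let π := D.j ≫ pullback.snd f D.a
  obtain ⟨N, hN, hNo, hηN⟩ := eventually_nhds_iff.mp (D.eventually_integral_eq hw)
  obtain ⟨_, ⟨(V' : D.V.Opens), (hV : IsAffineOpen V'), rfl⟩, hηV, hVN⟩ := D.V.isBasis_affineOpens.exists_subset_of_mem_open hηN hNo
  refine ⟨V', hV, hηV, ?_⟩
  have hP : IsAffineOpen (π ⁻¹ᵁ V') := hV.preimage π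
  have hfin : (π.appLE V' (π ⁻¹ᵁ V') le_rfl).hom.Finite := by
    rw [Scheme.Hom.appLE_eq_app]
    exact IsFinite.finite_app (f := π) V' hV
  algebraize [(π.appLE V' (π ⁻¹ᵁ V') le_rfl).hom]
  let q := (hV.primeIdealOf ⟨_, hηV⟩).asIdeal
  let p₀ : Lift π D.η := ⟨D.p, D.hp_snd⟩
  have : Subsingleton (Lift π D.η) := ⟨fun a b => Subtype.ext ((D.uniq a.1 a.2).trans (D.uniq b.1 b.2).symm)⟩
  have hpV : pt D.p ∈ π ⁻¹ᵁ V' := by
    show π (pt D.p) ∈ V'
    rw [show π (pt D.p) = pt D.η from apply_pt p₀]; exact hηV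
  let p := (hP.primeIdealOf ⟨_, hpV⟩).asIdeal
  have hcomap : ∀ z : Spec Γ(D.P, π ⁻¹ᵁ V'), π (hP.fromSpec z) =
      hV.fromSpec (Spec.map (π.appLE V' (π ⁻¹ᵁ V') le_rfl) z) := fun z => by
    rw [← Scheme.Hom.comp_apply, ← IsAffineOpen.SpecMap_appLE_fromSpec π hV hP le_rfl,
      Scheme.Hom.comp_apply]
  have hpq : p.LiesOver q := by
    refine ⟨?_⟩
    have : hV.primeIdealOf ⟨_, hηV⟩ = Spec.map (π.appLE V' (π ⁻¹ᵁ V') le_rfl) (hP.primeIdealOf ⟨_, hpV⟩) := by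
      apply hV.fromSpec.isOpenEmbedding.injective
      rw [← hcomap, hV.fromSpec_primeIdealOf, hP.fromSpec_primeIdealOf]
      exact (apply_pt p₀).symm
    exact congrArg PrimeSpectrum.asIdeal this
  have hq0 : hV.fromSpec (hV.primeIdealOf ⟨_, hηV⟩) = pt D.η := hV.fromSpec_primeIdealOf _
  have honly : ∀ p' : Ideal Γ(D.P, π ⁻¹ᵁ V'), p'.IsPrime →
      p'.comap (algebraMap Γ(D.V, V') Γ(D.P, π ⁻¹ᵁ V')) = q → p' = p := by
    intro p' hp' hq
    have h1 : π (hP.fromSpec ⟨p', hp'⟩) = pt D.η := by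
      rw [hcomap, ← hq0]
      exact congrArg hV.fromSpec (PrimeSpectrum.ext hq)
    obtain ⟨s, hs⟩ := exists_lift π D.η _ h1
    have : (⟨p', hp'⟩ : Spec Γ(D.P, π ⁻¹ᵁ V')) = hP.primeIdealOf ⟨_, hpV⟩ := by
      apply hP.fromSpec.isOpenEmbedding.injective
      rw [hP.fromSpec_primeIdealOf, ← hs, Subsingleton.elim s p₀]
    exact congrArg PrimeSpectrum.asIdeal this
  have huniq : ∀ (k : Type u) [Field k] [IsAlgClosed k] [Algebra Γ(D.V, V') k],
      RingHom.ker (algebraMap Γ(D.V, V') k) = q →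
        Subsingleton (Γ(D.P, π ⁻¹ᵁ V') →ₐ[Γ(D.V, V')] k) := by
    intro k _ _ _ hker
    let ζ : Spec (CommRingCat.of k) ⟶ D.V :=
      Spec.map (CommRingCat.ofHom (algebraMap Γ(D.V, V') k)) ≫ hV.fromSpec
    have hζ : pt ζ = pt D.η := by
      rw [← hq0, pt, Scheme.Hom.comp_apply]
      refine congrArg hV.fromSpec (PrimeSpectrum.ext ?_)
      show Ideal.comap (algebraMap Γ(D.V, V') k) (IsLocalRing.maximalIdeal k) = q
      rw [IsLocalRing.maximalIdeal_eq_bot]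
      exact hker
    have := subsingleton_lift π D.η p₀ ζ hζ
    change Subsingleton {s // s ≫ π = ζ} at this
    refine ⟨fun χ χ' => ?_⟩
    have mk : ∀ χ : Γ(D.P, π ⁻¹ᵁ V') →ₐ[Γ(D.V, V')] k,
        (Spec.map (CommRingCat.ofHom χ.toRingHom) ≫ hP.fromSpec) ≫ π = ζ := fun χ => by
      rw [Category.assoc, ← IsAffineOpen.SpecMap_appLE_fromSpec π hV hP le_rfl, ← Spec.map_comp_assoc]
      exact congrArg (Spec.map · ≫ hV.fromSpec) (CommRingCat.hom_ext (RingHom.ext χ.commutes))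
    have h : Spec.map (CommRingCat.ofHom χ.toRingHom) ≫ hP.fromSpec =
        Spec.map (CommRingCat.ofHom χ'.toRingHom) ≫ hP.fromSpec :=
      congrArg Subtype.val (Subsingleton.elim (⟨_, mk χ⟩ : Lift π ζ) ⟨_, mk χ'⟩)
    rw [cancel_mono, Spec.map_inj] at h
    exact AlgHom.ext fun a => congr($h a)
  obtain ⟨d, hd, c, hc, huniv⟩ := Stratum.exists_injective_stratum _ _ q p honly huniq
  refine ⟨d, c, hd, fun r hr => hc hr, fun z hz hdz hcz => ?_⟩
  obtain ⟨L, _, _, ζ, hζ⟩ := exists_pt_eq (π z)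
  obtain ⟨ψ, hψ⟩ : ∃ ψ : Γ(D.V, V') ⟶ CommRingCat.of L, ζ = Spec.map ψ ≫ hV.fromSpec := by
    have hr : Set.range ζ ⊆ Set.range hV.fromSpec := by
      rw [hV.range_fromSpec]
      rintro _ ⟨x, rfl⟩
      rw [Subsingleton.elim x (IsLocalRing.closedPoint L)]
      show pt ζ ∈ V'
      rw [hζ]; exact hz
    exact ⟨Spec.preimage (IsOpenImmersion.lift hV.fromSpec ζ hr),
      by rw [Spec.map_preimage, IsOpenImmersion.lift_fac]⟩
  have hker := asIdeal_primeIdealOf_of_fac hV ψ hψ ⟨π z, hz⟩ hζ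
  rw [hker] at hdz hcz
  let := ψ.hom.toAlgebra
  have hsub := huniv L hdz hcz
  have : Subsingleton (Lift π ζ) := ⟨fun a b => by
    have hmem : ∀ a : Lift π ζ, pt a.1 ∈ π ⁻¹ᵁ V' := fun a => by
      show π (pt a.1) ∈ V'
      rw [apply_pt a, hζ]; exact hz
    obtain ⟨χ, hχ⟩ := GeomBound.exists_algHom_of_lift π hP hV le_rfl ψ (a.2.trans hψ) (hmem a)
    obtain ⟨χ', hχ'⟩ := GeomBound.exists_algHom_of_lift π hP hV le_rfl ψ (b.2.trans hψ) (hmem b)
    exact Subtype.ext (by rw [hχ, hχ', hsub.elim χ χ'])⟩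
  obtain ⟨s, hs⟩ := exists_lift π ζ z hζ.symm
  have := finite_lift π ζ (Scheme.Hom.finite_preimage_singleton π _)
  have hsum : MoreMor.fibreIntegral π (fun x => w (pullback.fst f D.a (D.j x))) (π z) =
      w (pullback.fst f D.a (D.j z)) := by
    letI : Unique (Lift π ζ) := ⟨⟨s⟩, fun a => Subsingleton.elim a s⟩
    rw [← hζ, fibreIntegral_eq_sum, finsum_unique]
    show w (pullback.fst f D.a (D.j (pt s.1))) = _
    rw [hs]
  rw [← hsum]
  exact hN _ (hVN hz)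

/-- Every point has a constructible neighbourhood inside an affine open on which a weighting is constant. -/
theorem exists_constructible_eq (hw : MoreMor.IsWeighting f w) (U : X.Opens) (hU : IsAffineOpen U)
    (x : U.toScheme) : ∃ C : Set U.toScheme, IsConstructible C ∧ x ∈ C ∧ ∀ z ∈ C, w (U.ι z) = w (U.ι x) := by
  classical
  obtain ⟨K, _, _, xb, hxb⟩ := exists_pt_eq (U.ι x)
  obtain ⟨D⟩ := nonempty_datum f xb
  obtain ⟨V', hV, hηV, d, c, hd, hc, hst⟩ := exists_stratum hw D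
  let π := D.j ≫ pullback.snd f D.a
  have hmem : pt D.p ∈ ((π ⁻¹ᵁ V') ⊓ (D.j ≫ pullback.fst f D.a) ⁻¹ᵁ U : D.P.Opens) := by
    refine ⟨?_, ?_⟩
    · show π (pt D.p) ∈ V'
      rw [show π (pt D.p) = pt D.η from D.apply_snd]; exact hηV
    · show pullback.fst f D.a (D.j (pt D.p)) ∈ U
      rw [D.apply_fst, hxb]; exact x.2
  obtain ⟨_, ⟨(P₀ : D.P.Opens), (hP₀ : IsAffineOpen P₀), rfl⟩, hpP₀, hsub⟩ := D.P.isBasis_affineOpens.exists_subset_of_mem_open hmem
    ((π ⁻¹ᵁ V') ⊓ (D.j ≫ pullback.fst f D.a) ⁻¹ᵁ U : D.P.Opens).2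
  let m : P₀.toScheme ⟶ Spec Γ(D.V, V') :=
    IsOpenImmersion.lift hV.fromSpec (P₀.ι ≫ π) (by
      rw [hV.range_fromSpec]
      rintro _ ⟨z, rfl⟩
      exact (hsub z.2).1)
  have hm : ∀ z : P₀.toScheme, m z = hV.primeIdealOf ⟨π z.1, (hsub z.2).1⟩ := fun z => by
    apply hV.fromSpec.isOpenEmbedding.injective
    rw [hV.fromSpec_primeIdealOf, ← Scheme.Hom.comp_apply, IsOpenImmersion.lift_fac]
    rfl
  let h : P₀.toScheme ⟶ U.toScheme :=
    IsOpenImmersion.lift U.ι (P₀.ι ≫ D.j ≫ pullback.fst f D.a) (by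
      rw [Scheme.Opens.range_ι]
      rintro _ ⟨z, rfl⟩
      exact (hsub z.2).2)
  have hh : h ≫ U.ι = P₀.ι ≫ D.j ≫ pullback.fst f D.a := IsOpenImmersion.lift_fac _ _ _
  have : Etale (h ≫ U.ι) := by rw [hh]; infer_instance
  have : Etale h := Etale.of_comp h U.ι
  have : IsAffine P₀.toScheme := hP₀
  have : IsAffine U.toScheme := hU
  let S : Set (PrimeSpectrum Γ(D.V, V')) :=
    (PrimeSpectrum.basicOpen d : Set (PrimeSpectrum Γ(D.V, V'))) ∩ PrimeSpectrum.zeroLocus (c : Set Γ(D.V, V'))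
  have hS : IsConstructible S := by
    refine PrimeSpectrum.isConstructible_basicOpen.inter ?_
    rw [← compl_compl (PrimeSpectrum.zeroLocus _)]
    exact ((PrimeSpectrum.isRetrocompact_zeroLocus_compl c.finite_toSet).isConstructible
      (PrimeSpectrum.isClosed_zeroLocus _).isOpen_compl).compl
  refine ⟨h '' (m ⁻¹' S), h.isConstructible_image (m.isConstructible_preimage hS),
    ⟨⟨pt D.p, hpP₀⟩, ?_, ?_⟩, ?_⟩
  · have e : hV.primeIdealOf ⟨π (pt D.p), (hsub hpP₀).1⟩ = hV.primeIdealOf ⟨_, hηV⟩ :=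
      congrArg hV.primeIdealOf (Subtype.ext D.apply_snd)
    show m _ ∈ S
    rw [hm, e]
    exact ⟨hd, fun r hr => hc r hr⟩
  · apply U.ι.isOpenEmbedding.injective
    rw [← Scheme.Hom.comp_apply, hh, ← hxb, ← D.apply_fst]
    rfl
  · rintro _ ⟨z, hz, rfl⟩
    have hz' : m z ∈ S := hz
    rw [hm] at hz'
    rw [← Scheme.Hom.comp_apply, hh, ← hxb]
    exact hst z.1 (hsub z.2).1 hz'.1 fun r hr => hz'.2 hr

lemma spectralSpace_of_isAffine (X : Scheme.{u}) [IsAffine X] : SpectralSpace X :=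
  have : SpectralSpace ↥(Spec Γ(X, ⊤)) := inferInstanceAs (SpectralSpace (PrimeSpectrum Γ(X, ⊤)))
  X.isoSpec.hom.isOpenEmbedding.spectralSpace

theorem isOpen_cons_levelSet (hw : MoreMor.IsWeighting f w) (U : X.Opens) (hU : IsAffineOpen U)
    (n : ℤ) : IsOpen[constructibleTopology U.toScheme] {z : U.toScheme | w (U.ι z) = n} := by
  have : IsAffine U.toScheme := hU
  have := spectralSpace_of_isAffine U.toScheme
  refine (@isOpen_iff_forall_mem_open U.toScheme (constructibleTopology _) _).mpr fun x hx => ?_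
  obtain ⟨C, hC, hxC, hCw⟩ := exists_constructible_eq hw U hU x
  exact ⟨C, fun z hz => (hCw z hz).trans hx, (Lib.Spectral.Basic.isClopen_cons_of_isConstructible hC).2, hxC⟩

theorem isConstructible_levelSet (hw : MoreMor.IsWeighting f w) (U : X.Opens) (hU : IsAffineOpen U)
    (n : ℤ) : IsConstructible {z : U.toScheme | w (U.ι z) = n} := by
  have : IsAffine U.toScheme := hU
  have := spectralSpace_of_isAffine U.toScheme
  refine Lib.Spectral.Basic.isConstructible_iff_isClopen_cons.mpr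
    ⟨(@isOpen_compl_iff U.toScheme _ (constructibleTopology _)).mp ?_, isOpen_cons_levelSet hw U hU n⟩
  rw [show {z : U.toScheme | w (U.ι z) = n}ᶜ =
    ⋃ m : {m : ℤ // m ≠ n}, {z : U.toScheme | w (U.ι z) = m.1} by
      ext z
      simp only [Set.mem_compl_iff, Set.mem_iUnion, Set.mem_ofPred_eq]
      exact ⟨fun h => ⟨⟨_, h⟩, rfl⟩, fun ⟨m, hm⟩ h => m.2 (hm.symm.trans h)⟩]
  exact @isOpen_iUnion _ _ (constructibleTopology _) _ fun m => isOpen_cons_levelSet hw U hU m.1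

theorem finite_range (hw : MoreMor.IsWeighting f w) [CompactSpace X] : (Set.range w).Finite := by
  obtain ⟨S, hS⟩ := isCompact_univ.elim_finite_subcover
    (fun U : X.affineOpens => (U.1 : Set X)) (fun U => U.1.2) (fun x _ => by
      obtain ⟨_, ⟨U, hU, rfl⟩, hxU, -⟩ := X.isBasis_affineOpens.exists_subset_of_mem_open
        (Set.mem_univ x) isOpen_univ
      exact Set.mem_iUnion.mpr ⟨⟨U, hU⟩, hxU⟩)
  have key : ∀ U : X.affineOpens, (Set.range fun z : U.1.toScheme => w (U.1.ι z)).Finite := by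
    intro U
    have : IsAffine U.1.toScheme := U.2
    obtain ⟨T, hT⟩ := @IsCompact.elim_finite_subcover U.1.toScheme (constructibleTopology _) Set.univ ℤ
      (@isCompact_univ _ (constructibleTopology _) Lib.Spectral.Basic.compactSpace_cons)
      (fun n => {z | w (U.1.ι z) = n}) (fun n => isOpen_cons_levelSet hw U.1 U.2 n)
      (fun z _ => Set.mem_iUnion.mpr ⟨_, rfl⟩)
    refine T.finite_toSet.subset ?_
    rintro _ ⟨z, rfl⟩
    obtain ⟨n, hn⟩ := Set.mem_iUnion.mp (hT (Set.mem_univ z))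
    obtain ⟨hnT, hzn⟩ := Set.mem_iUnion.mp hn
    show w (U.1.ι z) ∈ (T : Set ℤ)
    rw [show w (U.1.ι z) = n from hzn]
    exact hnT
  refine (S.finite_toSet.biUnion fun U _ => key U).subset ?_
  rintro _ ⟨x, rfl⟩
  obtain ⟨U, hU⟩ := Set.mem_iUnion.mp (hS (Set.mem_univ x))
  obtain ⟨hUS, hxU⟩ := Set.mem_iUnion.mp hU
  exact Set.mem_biUnion hUS ⟨⟨x, hxU⟩, rfl⟩

theorem isLocallyConstructible_levelSet (hw : MoreMor.IsWeighting f w) (n : ℤ) :
    IsLocallyConstructible {x : X | w x = n} := by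
  refine IsLocallyConstructible.of_isOpenCover (U := fun U : X.affineOpens => U.1) ?_ ?_
  · rw [TopologicalSpace.IsOpenCover, ← top_le_iff]
    intro x _
    obtain ⟨_, ⟨U, hU, rfl⟩, hxU, -⟩ := X.isBasis_affineOpens.exists_subset_of_mem_open
      (Set.mem_univ x) isOpen_univ
    exact TopologicalSpace.Opens.mem_iSup.mpr ⟨⟨U, hU⟩, hxU⟩
  · exact fun U => (isConstructible_levelSet hw U.1 U.2 n).isLocallyConstructible

end Groth.Agent.H54.LevelSets
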