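import Groth.Agent.H54.WeightingOpen
import Groth.Agent.Lib.Lim.OpenImm

/-!
# Certificates for weightings

A member is an étale neighbourhood with a finite open piece. A function is a weighting as soon as
every point lies under a point of a member which is alone in its geometric fibre and the fibre
integral along the piece is locally constant.
-/

universe u

open AlgebraicGeometry CategoryTheory Limits Topology Filter

namespace Groth.Agent.H54.Members

open GeomLift Weighting
open Groth.Agent

section Alone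

variable {P W : Scheme.{u}} (π : P ⟶ W)

/-- Points which are alone in their geometric fibre. -/
def alone : Set P := (pullback.fst π π '' (Set.range (pullback.diagonal π))ᶜ)ᶜ

variable [LocallyQuasiFinite π] [IsSeparated π]

lemma mem_alone_iff {K : Type u} [Field K] [IsAlgClosed K] (q : Spec (CommRingCat.of K) ⟶ P) :
    pt q ∈ alone π ↔ Subsingleton (Lift π (q ≫ π)) := by
  constructor
  · intro h
    suffices ∀ s : Lift π (q ≫ π), s.1 = q from
      ⟨fun a b => Subtype.ext ((this a).trans (this b).symm)⟩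
    intro s
    let τ : Spec (CommRingCat.of K) ⟶ pullback π π := pullback.lift q s.1 s.2.symm
    have hτ : pt τ ∈ Set.range (pullback.diagonal π) := by
      by_contra hn
      exact h ⟨pt τ, hn, congrArg pt (pullback.lift_fst q s.1 s.2.symm)⟩
    obtain ⟨x, hx⟩ := hτ
    obtain ⟨⟨r, hr⟩, -⟩ := exists_lift (pullback.diagonal π) τ x hx
    have h1 : r = q := by
      have := congrArg (· ≫ pullback.fst π π) hr
      simp only [τ, Category.assoc, pullback.diagonal_fst, Category.comp_id, pullback.lift_fst] at this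
      exact this
    have h2 : r = s.1 := by
      have := congrArg (· ≫ pullback.snd π π) hr
      simp only [τ, Category.assoc, pullback.diagonal_snd, Category.comp_id, pullback.lift_snd] at this
      exact this
    exact h2.symm.trans h1
  · rintro h ⟨z, hz, hzq⟩
    have : LocallyQuasiFinite (pullback.fst π π) := inferInstance
    obtain ⟨⟨τ, hτ⟩, rfl⟩ := exists_lift (pullback.fst π π) q z hzq
    have hs : (τ ≫ pullback.snd π π) ≫ π = q ≫ π := by
      rw [Category.assoc, ← pullback.condition, reassoc_of% hτ]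
    have heq : τ ≫ pullback.snd π π = q :=
      congrArg Subtype.val (h.elim (⟨_, hs⟩ : Lift π (q ≫ π)) ⟨q, rfl⟩)
    refine hz ⟨pt q, ?_⟩
    have : q ≫ pullback.diagonal π = τ := by
      apply pullback.hom_ext
      · rw [Category.assoc, pullback.diagonal_fst, Category.comp_id]; exact hτ.symm
      · rw [Category.assoc, pullback.diagonal_snd, Category.comp_id, heq]
    exact congrArg pt this

omit [LocallyQuasiFinite π] in
theorem isConstructible_alone [IsAffine W] [IsFinite π] [LocallyOfFinitePresentation π] :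
    IsConstructible (alone π) := by
  have : IsAffine P := isAffine_of_isAffineHom π
  have : LocallyOfFinitePresentation (pullback.diagonal π ≫ pullback.fst π π) := by
    rw [pullback.diagonal_fst]; infer_instance
  have : LocallyOfFinitePresentation (pullback.diagonal π) :=
    Lib.Lim.OpenImm.lfp_of_comp (pullback.diagonal π) (pullback.fst π π)
  have : IsAffine (pullback π π) := isAffine_of_isAffineHom (pullback.fst π π)
  refine ((pullback.fst π π).isConstructible_image (IsConstructible.compl ?_)).compl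
  rw [← Set.image_univ]
  exact (pullback.diagonal π).isConstructible_image
    (isCompact_univ.isConstructible isOpen_univ)

end Alone

variable {X Y : Scheme.{u}}

/-- An étale neighbourhood with a finite open piece. -/
structure Member (f : X ⟶ Y) where
  W : Scheme.{u}
  b : W ⟶ Y
  etale : Etale b
  T : Scheme.{u}
  p : T ⟶ X
  π : T ⟶ W
  hc : IsPullback p π f b
  P : Scheme.{u}
  j : P ⟶ T
  openImm : IsOpenImmersion j
  fin : IsFinite (j ≫ π)

attribute [instance] Member.etale Member.openImm Member.fin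

namespace Member

variable {f : X ⟶ Y} (M : Member f)

/-- The fibre integral along the piece. -/
noncomputable def F (u : X → ℤ) : M.W → ℤ :=
  MoreMor.fibreIntegral (M.j ≫ M.π) fun x => u (M.p (M.j x))

/-- The points of `X` under a point of the piece which is alone in its geometric fibre. -/
def cover : Set X := (M.j ≫ M.p) '' alone (M.j ≫ M.π)

section BaseChange

variable {X' Y' : Scheme.{u}} {f' : X' ⟶ Y'} {h : X' ⟶ X} {g : Y' ⟶ Y} (hb : IsPullback h f' f g)

/-- The comparison map of the base changes. -/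
noncomputable def toT : pullback f' (pullback.snd M.b g) ⟶ M.T :=
  M.hc.lift (pullback.fst _ _ ≫ h) (pullback.snd f' (pullback.snd M.b g) ≫ pullback.fst M.b g) (by
    rw [Category.assoc, hb.w, pullback.condition_assoc, Category.assoc, pullback.condition])

lemma isPullback_toT : IsPullback (M.toT hb) (pullback.snd f' (pullback.snd M.b g)) M.π
    (pullback.fst M.b g) := by
  refine IsPullback.of_right ?_ (M.hc.lift_snd _ _ _) M.hc
  rw [toT, M.hc.lift_fst, pullback.condition]
  exact (IsPullback.of_hasPullback f' (pullback.snd M.b g)).paste_horiz hb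

lemma toT_p : M.toT hb ≫ M.p = pullback.fst f' (pullback.snd M.b g) ≫ h := M.hc.lift_fst _ _ _

lemma isPullback_toT_fst : IsPullback (M.toT hb) (pullback.fst f' (pullback.snd M.b g)) M.p h := by
  refine IsPullback.of_right ?_ (M.hc.lift_fst _ _ _) M.hc.flip
  rw [toT, M.hc.lift_snd, hb.w]
  exact (IsPullback.of_hasPullback f' (pullback.snd M.b g)).flip.paste_horiz
    (IsPullback.of_hasPullback M.b g)

/-- Base change of a member. -/
noncomputable def baseChange : Member f' where
  W := pullback M.b g
  b := pullback.snd M.b g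
  etale := inferInstance
  T := pullback f' (pullback.snd M.b g)
  p := pullback.fst _ _
  π := pullback.snd _ _
  hc := IsPullback.of_hasPullback _ _
  P := pullback M.j (M.toT hb)
  j := pullback.snd _ _
  openImm := inferInstance
  fin := MorphismProperty.of_isPullback
    ((IsPullback.of_hasPullback M.j (M.toT hb)).paste_vert (M.isPullback_toT hb)) M.fin

lemma isPullback_baseChange : IsPullback (pullback.fst M.j (M.toT hb))
    ((M.baseChange hb).j ≫ (M.baseChange hb).π) (M.j ≫ M.π) (pullback.fst M.b g) :=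
  (IsPullback.of_hasPullback M.j (M.toT hb)).paste_vert (M.isPullback_toT hb)

lemma F_baseChange (u : X → ℤ) (v : (M.baseChange hb).W) :
    (M.baseChange hb).F (u ∘ h) v = M.F u (pullback.fst M.b g v) := by
  refine Eq.trans ?_ (fibreIntegral_baseChange (M.isPullback_baseChange hb) (fun x => u (M.p (M.j x))) v
    (Scheme.Hom.finite_preimage_singleton (M.j ≫ M.π) _))
  unfold F
  congr 1
  funext x
  show u (h (pullback.fst f' (pullback.snd M.b g) ((M.baseChange hb).j x))) = _
  refine congrArg (fun m => u (m x)) (show (M.baseChange hb).j ≫ pullback.fst f' (pullback.snd M.b g) ≫ h =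
    pullback.fst M.j (M.toT hb) ≫ M.j ≫ M.p from ?_)
  rw [pullback.condition_assoc, toT_p]
  rfl

lemma isLocallyConstant_baseChange (u : X → ℤ) (hu : IsLocallyConstant (M.F u)) :
    IsLocallyConstant ((M.baseChange hb).F (u ∘ h)) := by
  have : (M.baseChange hb).F (u ∘ h) = M.F u ∘ pullback.fst M.b g :=
    funext (M.F_baseChange hb u)
  rw [this]
  exact hu.comp_continuous (pullback.fst M.b g).continuous

lemma preimage_cover_subset : h ⁻¹' M.cover ⊆ (M.baseChange hb).cover := by
  rintro x ⟨p, hp, hpx⟩
  have hsq : IsPullback (pullback.fst M.j (M.toT hb))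
      ((M.baseChange hb).j ≫ (M.baseChange hb).p) (M.j ≫ M.p) h :=
    (IsPullback.of_hasPullback M.j (M.toT hb)).paste_vert (M.isPullback_toT_fst hb)
  obtain ⟨z, hz1, hz2⟩ := Scheme.Pullback.exists_preimage_pullback (f := M.j ≫ M.p) (g := h) p x hpx
  refine ⟨hsq.isoPullback.inv z, ?_, ?_⟩
  · obtain ⟨K, _, _, q, hq⟩ := exists_pt_eq (hsq.isoPullback.inv z)
    refine hq ▸ (mem_alone_iff ((M.baseChange hb).j ≫ (M.baseChange hb).π) q).mpr ?_
    have e : pt (q ≫ pullback.fst M.j (M.toT hb)) = p :=
      ((congrArg (pullback.fst M.j (M.toT hb)) hq).trans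
        (congrArg (fun m => m z) hsq.isoPullback_inv_fst)).trans hz1
    rw [← e, mem_alone_iff] at hp
    refine @Equiv.subsingleton _ _ ((baseChangeEquiv (M.isPullback_baseChange hb) _).trans
      (Equiv.cast (congrArg (Lift (M.j ≫ M.π)) ?_))) hp
    exact ((Category.assoc _ _ _).trans
      (congrArg (q ≫ ·) (M.isPullback_baseChange hb).w.symm)).trans (Category.assoc _ _ _).symm
  · exact (congrArg (fun m => m z) hsq.isoPullback_inv_snd).trans hz2

end BaseChange

variable {K : Type u} [Field K] [IsAlgClosed K]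

/-- A member gives a datum at each geometric point over its covered set. -/
theorem exists_datum {u : X → ℤ} (hu : IsLocallyConstant (M.F u)) (xb : Spec (CommRingCat.of K) ⟶ X)
    (hx : pt xb ∈ M.cover) : ∃ D : Datum f xb, IsLocallyConstant
      (MoreMor.fibreIntegral (D.j ≫ pullback.snd f D.a) fun x => u (pullback.fst f D.a (D.j x))) := by
  obtain ⟨p, hp, hpx⟩ := hx
  have : LocallyQuasiFinite M.b :=
    EtaleSep.locallyQuasiFinite_of_formallyUnramified M.b
  have : LocallyQuasiFinite M.p := MorphismProperty.of_isPullback M.hc.flip ‹LocallyQuasiFinite M.b›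
  obtain ⟨⟨q, hq⟩, hqp⟩ := exists_lift (M.j ≫ M.p) xb p hpx
  let e := M.hc.isoPullback
  have e1 : (M.j ≫ e.hom) ≫ pullback.fst f M.b = M.j ≫ M.p := by
    rw [Category.assoc, M.hc.isoPullback_hom_fst]
  have e2 : (M.j ≫ e.hom) ≫ pullback.snd f M.b = M.j ≫ M.π := by
    rw [Category.assoc, M.hc.isoPullback_hom_snd]
  let D : Datum f xb :=
    { V := M.W
      a := M.b
      etale := M.etale
      η := q ≫ M.j ≫ M.π
      P := M.P
      j := M.j ≫ e.hom
      openImm := inferInstance
      fin := e2 ▸ M.fin
      hη := by rw [Category.assoc, Category.assoc, ← M.hc.w, ← hq, Category.assoc, Category.assoc]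
      p := q
      hp_snd := by rw [e2]
      hp_fst := by rw [e1]; exact hq
      uniq := fun q' hq' => by
        rw [e2] at hq'
        rw [← hqp, mem_alone_iff] at hp
        exact congrArg Subtype.val (hp.elim (⟨q', hq'⟩ : Lift (M.j ≫ M.π) (q ≫ M.j ≫ M.π)) ⟨q, rfl⟩) }
  refine ⟨D, ?_⟩
  convert hu using 1
  funext v
  show MoreMor.fibreIntegral ((M.j ≫ e.hom) ≫ pullback.snd f M.b)
    (fun x => u (pullback.fst f M.b ((M.j ≫ e.hom) x))) v = MoreMor.fibreIntegral (M.j ≫ M.π) _ v
  rw [FibreIntegral.fibreIntegral_congr e2]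
  congr 1
  funext x
  exact congrArg (fun m => u (m x)) e1

end Member

/-- The local constancy along the pieces of data suffices. -/
theorem isLocallyConstant_piece {f : X ⟶ Y} [LocallyQuasiFinite f] {K : Type u} [Field K]
    {xb : Spec (CommRingCat.of K) ⟶ X} (D : Datum f xb) {W : Scheme.{u}} (b : W ⟶ Y) (c : W ⟶ D.V)
    (hc : c ≫ D.a = b) {w : X → ℤ}
    (h0 : IsLocallyConstant (MoreMor.fibreIntegral (D.j ≫ pullback.snd f D.a)
      fun x => w (pullback.fst f D.a (D.j x)))) :
    IsLocallyConstant (MoreMor.fibreIntegral (D.piece b c hc ≫ pullback.snd f b)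
      (fun p => w (pullback.fst f b (D.piece b c hc p)))) := by
  convert h0.comp_continuous c.continuous using 1
  funext v
  rw [Function.comp_apply,
    ← fibreIntegral_baseChange (D.isPullback_piece b c hc) _ v
      (Scheme.Hom.finite_preimage_singleton (D.j ≫ pullback.snd f D.a) _)]
  congr 1
  funext p
  have : pullback.fst D.j (D.toT b c hc) ≫ D.j ≫ pullback.fst f D.a =
      D.piece b c hc ≫ pullback.fst f b := by
    rw [Datum.piece, pullback.condition_assoc]
    exact congrArg (pullback.snd D.j _ ≫ ·) (pullback.lift_fst _ _ _)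
  exact congrArg (fun m => w (m p)) this.symm

/-- The criterion. -/
theorem isWeighting {f : X ⟶ Y} [LocallyQuasiFinite f] [LocallyOfFiniteType f] (w : X → ℤ)
    (h : ∀ x : X, ∃ M : Member f, IsLocallyConstant (M.F w) ∧ x ∈ M.cover) :
    MoreMor.IsWeighting f w := by
  classical
  intro V g _ U hU
  have hc := IsPullback.of_hasPullback f g
  have : IsFinite (U.ι ≫ pullback.snd f g) := hU
  rw [IsLocallyConstant.iff_eventually_eq]
  intro v
  obtain ⟨K, _, _, ξ, rfl⟩ := exists_pt_eq v
  have := finite_lift (U.ι ≫ pullback.snd f g) ξ (Scheme.Hom.finite_preimage_singleton (U.ι ≫ pullback.snd f g) _)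
  let := Fintype.ofFinite (Lift (U.ι ≫ pullback.snd f g) ξ)
  have key : ∀ s : Lift (U.ι ≫ pullback.snd f g) ξ, ∃ D : Datum f (s.1 ≫ U.ι ≫ pullback.fst f g),
      IsLocallyConstant (MoreMor.fibreIntegral (D.j ≫ pullback.snd f D.a)
        fun x => w (pullback.fst f D.a (D.j x))) := fun s => by
    obtain ⟨M, hM, hx⟩ := h (pt (s.1 ≫ U.ι ≫ pullback.fst f g))
    exact M.exists_datum hM _ hx
  choose D hD using key
  obtain ⟨W, φ, _, ξ', c, hξ', hca, hcη⟩ := exists_common g ξ (fun s => (D s).V) (fun s => (D s).a)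
    (fun s => (D s).η) (fun s => by
      rw [(D s).hη, Category.assoc, Category.assoc, hc.w, ← Category.assoc U.ι, ← Category.assoc,
        s.2])
  have hconst : ∀ᶠ v in 𝓝 (pt ξ'), ∀ s, MoreMor.fibreIntegral
      ((D s).piece (φ ≫ g) (c s) (hca s) ≫ pullback.snd f (φ ≫ g))
      (fun x => w (pullback.fst f (φ ≫ g) ((D s).piece (φ ≫ g) (c s) (hca s) x))) v =
      MoreMor.fibreIntegral ((D s).piece (φ ≫ g) (c s) (hca s) ≫ pullback.snd f (φ ≫ g))
      (fun x => w (pullback.fst f (φ ≫ g) ((D s).piece (φ ≫ g) (c s) (hca s) x))) (pt ξ') :=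
    eventually_all.mpr fun s => (isLocallyConstant_piece (D s) _ _ (hca s) (hD s)).eventually_eq _
  have hsum := eventually_decomp f hc U.ι ξ D φ ξ' hξ' c hca hcη w
  rw [← hξ', pt_comp]
  refine eventually_eq_of_comp φ φ.isOpenMap ?_
  filter_upwards [hsum, hconst] with v h1 h2
  rw [h1, hsum.self_of_nhds, Finset.sum_congr rfl fun s _ => h2 s]

/-- Weightings have members through every point. -/
theorem exists_member {f : X ⟶ Y} [LocallyQuasiFinite f] [LocallyOfFiniteType f] {w : X → ℤ}
    (hw : MoreMor.IsWeighting f w) (x : X) :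
    ∃ M : Member f, IsAffine M.W ∧ IsLocallyConstant (M.F w) ∧ x ∈ M.cover := by
  obtain ⟨K, _, _, xb, rfl⟩ := exists_pt_eq x
  obtain ⟨D⟩ := nonempty_datum f xb
  obtain ⟨_, ⟨(V : D.V.Opens), (hV : IsAffineOpen V), rfl⟩, hηV, -⟩ :=
    D.V.isBasis_affineOpens.exists_subset_of_mem_open (Set.mem_univ (pt D.η)) isOpen_univ
  let η : Spec (CommRingCat.of K) ⟶ V.toScheme :=
    IsOpenImmersion.lift V.ι D.η (range_subset_of_pt_mem _ _ (by rw [Scheme.Opens.range_ι]; exact hηV))
  have hη : η ≫ V.ι = D.η := IsOpenImmersion.lift_fac _ _ _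
  let M : Member f :=
    { W := V.toScheme
      b := V.ι ≫ D.a
      etale := inferInstance
      T := pullback f (V.ι ≫ D.a)
      p := pullback.fst _ _
      π := pullback.snd _ _
      hc := IsPullback.of_hasPullback _ _
      P := _
      j := D.piece (V.ι ≫ D.a) V.ι rfl
      openImm := inferInstance
      fin := inferInstance }
  refine ⟨M, hV, D.isLocallyConstant_piece _ _ rfl hw, ?_⟩
  let σ : Spec (CommRingCat.of K) ⟶ pullback f (V.ι ≫ D.a) :=
    pullback.lift xb η (by rw [reassoc_of% hη, D.hη])
  have hσ1 : σ ≫ pullback.fst f (V.ι ≫ D.a) = xb := pullback.lift_fst _ _ _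
  have hσ2 : σ ≫ pullback.snd f (V.ι ≫ D.a) = η := pullback.lift_snd _ _ _
  have hm := D.mem_range_piece (V.ι ≫ D.a) V.ι rfl hη σ hσ1 hσ2
  let q := IsOpenImmersion.lift M.j σ (range_subset_of_pt_mem _ _ hm)
  have hq : q ≫ M.j = σ := IsOpenImmersion.lift_fac _ _ _
  refine ⟨pt q, ?_, congrArg pt (show q ≫ M.j ≫ M.p = xb by rw [reassoc_of% hq]; exact hσ1)⟩
  rw [mem_alone_iff]
  have e : ∀ s : Lift (M.j ≫ M.π) (q ≫ M.j ≫ M.π), s.1 = q := fun s => by
    have h2 : (s.1 ≫ M.j) ≫ pullback.snd f (V.ι ≫ D.a) = η :=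
      (Category.assoc _ _ _).trans ((s.2.trans ((Category.assoc _ _ _).symm.trans (congrArg (· ≫ M.π) hq) : q ≫ M.j ≫ M.π = σ ≫ M.π)).trans hσ2)
    have h3 := D.uniq_piece (V.ι ≫ D.a) V.ι rfl hη (s.1 ≫ M.j) h2 ⟨pt s.1, rfl⟩
    rw [← cancel_mono M.j, hq]
    exact pullback.hom_ext (h3.trans hσ1.symm) (h2.trans hσ2.symm)
  exact ⟨fun a b => Subtype.ext ((e a).trans (e b).symm)⟩

end Groth.Agent.H54.Members
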