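import Groth.Agent.H54.WeightingTuples
import Groth.Agent.H54.Member
import Groth.Agent.H54.LevelSets

/-!
# Constructibility of the level sets of fibre integrals along finite morphisms

For a finite morphism of finite presentation to an affine scheme, the locus where a constructible set
contains at least `m` geometric points of the fibre is constructible; hence fibre integrals of
functions with constructible level sets have constructible level sets.
-/

universe u

open AlgebraicGeometry CategoryTheory Limits Topology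

namespace Groth.Agent.H54.CountLevel

open GeomLift WeightingTuples
open Groth.Agent

variable {P W : Scheme.{u}} (π : P ⟶ W) [IsFinite π] [LocallyOfFinitePresentation π] [IsAffine W]

lemma isConstructible_agree {n : ℕ} (Q : Pow π n) (i j : Fin (n + 1)) :
    IsConstructible (agree Q i j) := by
  have : IsAffine P := isAffine_of_isAffineHom π
  have : IsAffine Q.P := Q.aff
  have : IsAffine (pullback π π) := isAffine_of_isAffineHom (pullback.fst π π)
  have : LocallyOfFinitePresentation (pullback.diagonal π ≫ pullback.fst π π) := by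
    rw [pullback.diagonal_fst]; infer_instance
  have : LocallyOfFinitePresentation (pullback.diagonal π) :=
    Lib.Lim.OpenImm.lfp_of_comp (pullback.diagonal π) (pullback.fst π π)
  refine Scheme.Hom.isConstructible_preimage _ ?_
  rw [← Set.image_univ]
  exact (pullback.diagonal π).isConstructible_image (isCompact_univ.isConstructible isOpen_univ)

/-- The locus where `S` contains at least `m` geometric points of the fibre. -/
theorem exists_atLeast (S : Set P) (hS : IsConstructible S) (m : ℕ) :
    ∃ A : Set W, IsConstructible A ∧ ∀ (K : Type u) [Field K] [IsAlgClosed K]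
      (ξ : Spec (CommRingCat.of K) ⟶ W), pt ξ ∈ A ↔ m ≤ Nat.card {s : Lift π ξ // pt s.1 ∈ S} := by
  classical
  rcases m with _ | n
  · exact ⟨Set.univ, isCompact_univ.isConstructible isOpen_univ, fun K _ _ ξ => by simp⟩
  have : IsAffine P := isAffine_of_isAffineHom π
  obtain ⟨Q⟩ := nonempty_pow (f := π) n
  have : IsAffine Q.P := Q.aff
  have : IsFinite Q.q := by
    have h := Q.fin ⊤ (IsZariskiLocalAtTarget.restrict ‹IsFinite π› ⊤)
    have : IsIso ((⊤ : W.Opens).ι) := W.topIso.isIso_hom
    have : IsIso (Q.q ⁻¹ᵁ ⊤).ι := Q.P.topIso.isIso_hom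
    have h2 : IsFinite (Q.q ∣_ ⊤ ≫ (⊤ : W.Opens).ι) := inferInstance
    rw [morphismRestrict_ι] at h2
    exact (MorphismProperty.cancel_left_of_respectsIso @IsFinite (Q.q ⁻¹ᵁ ⊤).ι Q.q).mp h2
  have : LocallyOfFinitePresentation Q.q := Q.lfp ‹_›
  let good : Set Q.P := (⋂ i, Q.c i ⁻¹' S) ∩
    ⋂ p : {p : Fin (n + 1) × Fin (n + 1) // p.1 ≠ p.2}, (agree Q p.1.1 p.1.2)ᶜ
  have hgood : IsConstructible good := by
    refine (IsConstructible.iInter fun i => (Q.c i).isConstructible_preimage hS).inter
      (IsConstructible.iInter fun p => (isConstructible_agree π Q _ _).compl)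
  refine ⟨Q.q '' good, Q.q.isConstructible_image hgood, fun K _ _ ξ => ⟨?_, fun h => ?_⟩⟩
  · rintro ⟨p, ⟨hp1, hp2⟩, hpq⟩
    obtain ⟨⟨t, ht⟩, rfl⟩ := exists_lift Q.q ξ p hpq
    have := finite_lift π ξ (π.finite_preimage_singleton _)
    let F : Fin (n + 1) → {s : Lift π ξ // pt s.1 ∈ S} := fun i =>
      ⟨⟨t ≫ Q.c i, by rw [Category.assoc, Q.fac, ht]⟩, Set.mem_iInter.mp hp1 i⟩
    have hF : Function.Injective F := fun i j hij => by
      by_contra hne
      exact Set.mem_iInter.mp hp2 ⟨(i, j), hne⟩
        ((mem_agree_iff Q t i j).mpr (congrArg (fun s => s.1.1) hij))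
    have := Nat.card_le_card_of_injective F hF
    simpa using this
  · have := finite_lift π ξ (π.finite_preimage_singleton _)
    let := Fintype.ofFinite {s : Lift π ξ // pt s.1 ∈ S}
    rw [Nat.card_eq_fintype_card] at h
    obtain ⟨e⟩ : Nonempty (Fin (n + 1) ↪ {s : Lift π ξ // pt s.1 ∈ S}) :=
      Function.Embedding.nonempty_of_card_le (by simpa using h)
    obtain ⟨l, hl⟩ := Q.lift _ (fun i => (e i).1.1) ξ fun i => (e i).1.2
    refine ⟨pt l, ⟨Set.mem_iInter.mpr fun i => ?_, Set.mem_iInter.mpr fun p hp => p.2 ?_⟩, ?_⟩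
    · show pt (l ≫ Q.c i) ∈ S
      rw [hl]; exact (e i).2
    · have h2 := (mem_agree_iff Q l _ _).mp hp
      rw [hl, hl] at h2
      exact e.injective (Subtype.ext (Subtype.ext h2))
    · exact congrArg pt (show l ≫ Q.q = ξ by rw [← Q.fac 0, reassoc_of% hl 0]; exact (e 0).1.2)

/-- Fibre integrals of functions with constructible level sets have constructible level sets. -/
theorem isConstructible_levelSet (u : P → ℤ) (hu : ∀ n, IsConstructible {p | u p = n})
    (hfin : (Set.range u).Finite) (n : ℤ) :
    IsConstructible {v | MoreMor.fibreIntegral π u v = n} := by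
  classical
  have := LevelSets.spectralSpace_of_isAffine W
  choose A hA hAiff using fun (r : ℤ) (m : ℕ) => exists_atLeast π {p | u p = r} (hu r) m
  have key : ∀ m, IsOpen[constructibleTopology W] {v | MoreMor.fibreIntegral π u v = m} := fun m => by
    refine (@isOpen_iff_forall_mem_open W (constructibleTopology _) _).mpr fun v hv => ?_
    obtain ⟨K, _, _, ξ, rfl⟩ := exists_pt_eq v
    let N : ℤ → ℕ := fun r => Nat.card {s : Lift π ξ // u (pt s.1) = r}
    let C : Set W := ⋂ r : hfin.toFinset, A r.1 (N r.1) ∩ (A r.1 (N r.1 + 1))ᶜ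
    have hC : IsConstructible C := IsConstructible.iInter fun r => (hA _ _).inter (hA _ _).compl
    refine ⟨C, ?_, (Lib.Spectral.Basic.isClopen_cons_of_isConstructible hC).2,
      Set.mem_iInter.mpr fun r => ⟨(hAiff _ _ K ξ).mpr le_rfl, fun h => ?_⟩⟩
    · intro z hz
      obtain ⟨L, _, _, ζ, rfl⟩ := exists_pt_eq z
      refine Eq.trans ?_ hv
      have h1 := finite_lift π ξ (π.finite_preimage_singleton _)
      have h2 := finite_lift π ζ (π.finite_preimage_singleton _)
      let := Fintype.ofFinite (Lift π ξ)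
      let := Fintype.ofFinite (Lift π ζ)
      have hsum : ∀ {F : Type u} [Field F] [IsAlgClosed F] (η : Spec (CommRingCat.of F) ⟶ W)
          [Fintype (Lift π η)], MoreMor.fibreIntegral π u (pt η) =
            ∑ r ∈ hfin.toFinset, r * (Nat.card {s : Lift π η // u (pt s.1) = r} : ℤ) := by
        intro F _ _ η _
        rw [fibreIntegral_eq_sum, finsum_eq_sum_of_fintype,
          ← Finset.sum_fiberwise_of_maps_to (g := fun s : Lift π η => u (pt s.1))
            (t := hfin.toFinset) (fun s _ => hfin.mem_toFinset.mpr ⟨_, rfl⟩)]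
        refine Finset.sum_congr rfl fun r _ => ?_
        rw [Finset.sum_congr rfl (g := fun _ => r) (fun s hs => (Finset.mem_filter.mp hs).2),
          Finset.sum_const, nsmul_eq_mul, Nat.card_eq_fintype_card, Fintype.card_subtype, mul_comm]
      rw [hsum ζ, hsum ξ]
      refine Finset.sum_congr rfl fun r hr => ?_
      have hzr := Set.mem_iInter.mp hz ⟨r, hr⟩
      have h3 : N r ≤ Nat.card {s : Lift π ζ // u (pt s.1) = r} := (hAiff _ _ L ζ).mp hzr.1
      have h4 : ¬ N r + 1 ≤ Nat.card {s : Lift π ζ // u (pt s.1) = r} := fun h =>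
        hzr.2 ((hAiff _ _ L ζ).mpr h)
      congr 1
      exact_mod_cast (show Nat.card {s : Lift π ζ // u (pt s.1) = r} = N r by omega)
    · exact absurd ((hAiff _ _ K ξ).mp h) (Nat.not_succ_le_self _)
  refine Lib.Spectral.Basic.isConstructible_iff_isClopen_cons.mpr
    ⟨(@isOpen_compl_iff W _ (constructibleTopology _)).mp ?_, key n⟩
  rw [show {v : W | MoreMor.fibreIntegral π u v = n}ᶜ =
    ⋃ m : {m : ℤ // m ≠ n}, {v : W | MoreMor.fibreIntegral π u v = m.1} by
      ext z
      simp only [Set.mem_compl_iff, Set.mem_iUnion, Set.mem_ofPred_eq]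
      exact ⟨fun h => ⟨⟨_, h⟩, rfl⟩, fun ⟨m, hm⟩ h => m.2 (hm.symm.trans h)⟩]
  exact @isOpen_iUnion _ _ (constructibleTopology _) _ fun m => key m.1

end Groth.Agent.H54.CountLevel
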