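import Groth.Agent.H54.ThickLocal
import Groth.Agent.Lib.LocalFlat.Fibre
import Mathlib.AlgebraicGeometry.Morphisms.Flat
import Mathlib.AlgebraicGeometry.Morphisms.FlatMono

/-!
# Flatness, isomorphisms and open immersions along deformations
-/

universe u

open AlgebraicGeometry CategoryTheory Limits TensorProduct

namespace Groth.Agent.H54.Deform

lemma flat_ring {A B C C0 : Type u} [CommRing A] [CommRing B] [CommRing C] [CommRing C0]
    [Algebra A B] [Algebra A C] [Algebra B C] [IsScalarTower A B C] [Module.Flat A C]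
    {B0 : Type u} [CommRing B0] (I : Ideal A) (hI : IsNilpotent I) (qB : B →+* B0) (qC : C →+* C0)
    (hB : Function.Surjective qB) (hC : Function.Surjective qC)
    (kB : RingHom.ker qB = I.map (algebraMap A B))
    (kC : RingHom.ker qC = (RingHom.ker qB).map (algebraMap B C))
    (g : B0 →+* C0) (hg : g.Flat) (hcomm : g.comp qB = qC.comp (algebraMap B C)) :
    Module.Flat B C := by
  let J := I.map (algebraMap A B)
  have h1 : Module.Flat (B ⧸ J) ((B ⧸ J) ⊗[B] C) := by
    have hkC : RingHom.ker qC = J.map (algebraMap B C) := by rw [kC, kB]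
    let eB := (Ideal.quotEquivOfEq kB.symm).trans (RingHom.quotientKerEquivOfSurjective hB)
    let eC := (Ideal.quotEquivOfEq hkC.symm).trans (RingHom.quotientKerEquivOfSurjective hC)
    have heq : algebraMap (B ⧸ J) (C ⧸ J.map (algebraMap B C)) =
        eC.symm.toRingHom.comp (g.comp eB.toRingHom) := by
      refine Ideal.Quotient.ringHom_ext (RingHom.ext fun b => eC.injective ?_)
      simp only [RingHom.comp_apply, RingEquiv.toRingHom_eq_coe, RingHom.coe_coe,
        RingEquiv.apply_symm_apply]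
      exact (congr($hcomm b)).symm
    have hflat : Module.Flat (B ⧸ J) (C ⧸ J.map (algebraMap B C)) := by
      rw [← RingHom.flat_algebraMap_iff, heq]
      exact RingHom.Flat.comp (RingHom.Flat.comp (.of_bijective eB.bijective) hg)
        (.of_bijective eC.symm.bijective)
    have e := (Algebra.TensorProduct.quotIdealMapEquivQuotTensor C J).toLinearEquiv
    exact Module.Flat.of_linearEquiv e.symm
  exact Groth.Agent.Lib.LocalFlat.Fibre.flat_of_nilpotent B (M := C) I hI

variable {X X' Y Y' S S' : Scheme.{u}} {iX : X ⟶ X'} {iY : Y ⟶ Y'} {iS : S ⟶ S'}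
  {f : X ⟶ Y} {f' : X' ⟶ Y'} {g : Y ⟶ S} {g' : Y' ⟶ S'}
  (hcX : IsPullback iX (f ≫ g) (f' ≫ g') iS) (hcY : IsPullback iY g g' iS)
  (w : iX ≫ f' = f ≫ iY)

include hcX hcY w in
lemma isPullback : IsPullback iX f f' iY := hcX.of_bot w hcY

include hcY in
lemma isNilpotent_ker_of_isPullback [IsClosedImmersion iS] (h : IsNilpotent iS.ker) :
    IsNilpotent iY.ker := by
  have : IsClosedImmersion iY := MorphismProperty.of_isPullback hcY.flip ‹IsClosedImmersion iS›
  obtain ⟨n, hn⟩ := h
  refine ⟨n, ?_⟩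
  refine Scheme.IdealSheafData.ext_of_iSup_eq_top
    (fun p : {p : Y'.affineOpens × S'.affineOpens // (p.1 : Y'.Opens) ≤ g' ⁻¹ᵁ p.2} => p.1.1)
    (by
      refine eq_top_iff.mpr fun y _ => ?_
      obtain ⟨_, ⟨W, hW, rfl⟩, hyW, -⟩ := S'.isBasis_affineOpens.exists_subset_of_mem_open
        (Set.mem_univ (g' y)) isOpen_univ
      obtain ⟨_, ⟨V, hV, rfl⟩, hyV, hle⟩ :=
        Y'.isBasis_affineOpens.exists_subset_of_mem_open hyW (g' ⁻¹ᵁ W).isOpen
      exact TopologicalSpace.Opens.mem_iSup.mpr ⟨⟨(⟨V, hV⟩, ⟨W, hW⟩), hle⟩, hyV⟩)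
    fun p => ?_
  obtain ⟨⟨V, W⟩, hle⟩ := p
  have h1 := congr(($hn).ideal W)
  simp only [Scheme.IdealSheafData.ideal_pow, Pi.pow_apply, Scheme.Hom.ker_apply,
    Scheme.IdealSheafData.zero_eq_bot, Scheme.IdealSheafData.ideal_bot, Pi.bot_apply] at h1 ⊢
  rw [(ThickLocal.ker_app_eq_map hcY W.2 V.2 hle).2, ← Ideal.map_pow, h1]
  simp

variable [IsClosedImmersion iS]
include hcX hcY w

lemma flat (h : IsNilpotent iS.ker) [Flat (f' ≫ g')] [Flat f] : Flat f' := by
  have : IsClosedImmersion iY := MorphismProperty.of_isPullback hcY.flip ‹IsClosedImmersion iS›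
  have : IsClosedImmersion iX := MorphismProperty.of_isPullback hcX.flip ‹IsClosedImmersion iS›
  have hc := isPullback hcX hcY w
  refine (HasRingHomProperty.iff_exists_appLE (P := @Flat)
    (RingHom.Flat.stableUnderComposition.stableUnderCompositionWithLocalizationAway
      RingHom.Flat.holdsForLocalizationAway).1).mpr fun x => ?_
  obtain ⟨_, ⟨W, hW, rfl⟩, hxW, -⟩ := S'.isBasis_affineOpens.exists_subset_of_mem_open
    (Set.mem_univ (g' (f' x))) isOpen_univ
  obtain ⟨_, ⟨V, hV, rfl⟩, hxV, hVW⟩ :=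
    Y'.isBasis_affineOpens.exists_subset_of_mem_open hxW (g' ⁻¹ᵁ W).isOpen
  obtain ⟨_, ⟨U, hU, rfl⟩, hxU, hUV⟩ :=
    X'.isBasis_affineOpens.exists_subset_of_mem_open hxV (f' ⁻¹ᵁ V).isOpen
  refine ⟨⟨V, hV⟩, ⟨U, hU⟩, hxU, hUV, ?_⟩
  show (f'.appLE V U hUV).hom.Flat
  have hmain : (f'.appLE V U hUV).hom.Flat := by
    have hA : ((f' ≫ g').appLE W U (fun z hz => hVW (hUV hz))).hom.Flat :=
      (f' ≫ g').flat_appLE hW hU _
    have he : g'.appLE W V hVW ≫ f'.appLE V U hUV =
        (f' ≫ g').appLE W U (fun z hz => hVW (hUV hz)) := Scheme.Hom.appLE_comp_appLE _ _ _ _ _ _ _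
    rw [← he, CommRingCat.hom_comp] at hA
    obtain ⟨hsB, hkB⟩ := ThickLocal.ker_app_eq_map hcY hW hV hVW
    obtain ⟨hsC, hkC⟩ := ThickLocal.ker_app_eq_map hc hV hU hUV
    have hfl : (f.appLE (iY ⁻¹ᵁ V) (iX ⁻¹ᵁ U)
        (by rw [← Scheme.Hom.comp_preimage, ← w]; exact iX.preimage_mono hUV)).hom.Flat :=
      f.flat_appLE (hV.preimage iY) (hU.preimage iX) _
    have hcomm : iY.app V ≫ f.appLE (iY ⁻¹ᵁ V) (iX ⁻¹ᵁ U)
        (by rw [← Scheme.Hom.comp_preimage, ← w]; exact iX.preimage_mono hUV) =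
          f'.appLE V U hUV ≫ iX.app U := by
      simp only [Scheme.Hom.app_eq_appLE, Scheme.Hom.appLE_comp_appLE, ← w]
    algebraize [(g'.appLE W V hVW).hom, (f'.appLE V U hUV).hom,
      (f'.appLE V U hUV).hom.comp (g'.appLE W V hVW).hom]
    refine (RingHom.flat_algebraMap_iff).mpr ?_
    exact flat_ring _ (ThickLocal.isNilpotent_ker_app iS h hW) _ _ hsB hsC hkB hkC _ hfl
      congr(CommRingCat.Hom.hom $hcomm)
  exact hmain

lemma isIso (h : IsNilpotent iS.ker) [Surjective iS] [Flat (f' ≫ g')] [IsIso f] : IsIso f' := by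
  have : IsClosedImmersion iY := MorphismProperty.of_isPullback hcY.flip ‹IsClosedImmersion iS›
  have : IsClosedImmersion iX := MorphismProperty.of_isPullback hcX.flip ‹IsClosedImmersion iS›
  have : Surjective iY := MorphismProperty.of_isPullback hcY.flip ‹Surjective iS›
  have : Surjective iX := MorphismProperty.of_isPullback hcX.flip ‹Surjective iS›
  have hc := isPullback hcX hcY w
  have hfl : Flat f' := flat hcX hcY w h
  have : Mono f' := ThickLocal.mono_of_isNilpotent hc (isNilpotent_ker_of_isPullback hcY h)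
  have : QuasiCompact f' := (ThickBasic.quasiCompact_iff w).mp inferInstance
  have : Surjective f' := by
    have : Surjective (iX ≫ f') := w ▸ inferInstance
    exact Surjective.of_comp iX f'
  exact Flat.isIso_of_surjective_of_mono f'

lemma isOpenImmersion (h : IsNilpotent iS.ker) [Surjective iS] [Flat (f' ≫ g')]
    [IsOpenImmersion f] : IsOpenImmersion f' := by
  have : IsClosedImmersion iY := MorphismProperty.of_isPullback hcY.flip ‹IsClosedImmersion iS›
  have : IsClosedImmersion iX := MorphismProperty.of_isPullback hcX.flip ‹IsClosedImmersion iS›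
  have : Surjective iY := MorphismProperty.of_isPullback hcY.flip ‹Surjective iS›
  have : Surjective iX := MorphismProperty.of_isPullback hcX.flip ‹Surjective iS›
  have hc := isPullback hcX hcY w
  have hfl : Flat f' := flat hcX hcY w h
  have hm : Mono f' := ThickLocal.mono_of_isNilpotent hc (isNilpotent_ker_of_isPullback hcY h)
  have hr : Set.range f' = iY '' Set.range f := by
    calc Set.range f' = Set.range (f' ∘ iX) := (iX.surjective.range_comp _).symm
      _ = Set.range (iY ∘ f) := by rw [← TopCat.coe_comp, ← Scheme.Hom.comp_base, w]; rfl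
      _ = iY '' Set.range f := Set.range_comp _ _
  have hopen : IsOpen (Set.range f') := by
    rw [hr]
    exact (iY.isClosedEmbedding.isEmbedding.toHomeomorphOfSurjective iY.surjective).isOpenMap _
      f.isOpenEmbedding.isOpen_range
  let U : Y'.Opens := ⟨Set.range f', hopen⟩
  let k := IsOpenImmersion.lift U.ι f' (by simp [U])
  have hk : k ≫ U.ι = f' := IsOpenImmersion.lift_fac _ _ _
  have : Flat k := ThickBasic.of_comp_mono (P := @Flat) k U.ι (hk ▸ hfl)
  have : Mono k := mono_of_mono_fac hk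
  have : Surjective k := ⟨fun ⟨y, x, hx⟩ => ⟨x, U.ι.isOpenEmbedding.injective (by
    rw [← Scheme.Hom.comp_apply, hk]; exact hx)⟩⟩
  have : QuasiCompact k := by
    refine ⟨fun V hV hVc => ?_⟩
    have hind : Topology.IsInducing (iX ≫ f') := by
      rw [w]
      exact iY.isClosedEmbedding.isInducing.comp f.isOpenEmbedding.isInducing
    have h1 : IsCompact (iX ⁻¹' (k ⁻¹' V)) := by
      rw [hind.isCompact_iff]
      have h2 : (iX ≫ f') '' (iX ⁻¹' (k ⁻¹' V)) = U.ι '' V := by
        rw [Scheme.Hom.comp_base, TopCat.coe_comp, Set.image_comp,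
          Set.image_preimage_eq _ iX.surjective, ← hk, Scheme.Hom.comp_base, TopCat.coe_comp,
          Set.image_comp, Set.image_preimage_eq _ k.surjective]
      rw [h2]
      exact hVc.image U.ι.continuous
    have h3 := h1.image iX.continuous
    rwa [Set.image_preimage_eq _ iX.surjective] at h3
  rw [← hk]
  have := Flat.isIso_of_surjective_of_mono k
  infer_instance

end Groth.Agent.H54.Deform
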