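import Groth.Agent.H54.DepthFlat
import Groth.Agent.Lib.Depth.CM
import Mathlib.RingTheory.KrullDimension.Module
import Mathlib.RingTheory.LocalRing.Module
import Mathlib.RingTheory.Ideal.GoingDown
import Mathlib.RingTheory.Ideal.AssociatedPrime.Localization

/-!
# Dimension and Cohen–Macaulayness of `N ⊗ M` for a flat local homomorphism
-/

universe u

open TensorProduct IsLocalRing LocCoh
open scoped Pointwise

namespace Groth.Agent.H54.DimFlat

section

variable {A B : Type u} [CommRing A] [CommRing B] [Algebra A B]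
  {M : Type u} [AddCommGroup M] [Module A M] [Module.Finite A M]
  {N : Type u} [AddCommGroup N] [Module B N] [Module A N] [IsScalarTower A B N] [Module.Finite B N]

/-- A prime in the support maps nontrivially to its residue field. -/
theorem exists_functional (q : Ideal B) [q.IsPrime] (hq : Module.annihilator B N ≤ q) :
    ∃ (n : N) (φ : N →ₗ[B] q.ResidueField), φ n ≠ 0 := by
  have hmem : (⟨q, inferInstance⟩ : PrimeSpectrum B) ∈ Module.support B N := by
    rw [Module.support_eq_zeroLocus]; exact hq
  rw [Module.mem_support_iff_nontrivial_residueField_tensorProduct] at hmem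
  let b := Module.Basis.ofVectorSpace q.ResidueField (q.ResidueField ⊗[B] N)
  obtain ⟨i⟩ : Nonempty (Module.Basis.ofVectorSpaceIndex q.ResidueField (q.ResidueField ⊗[B] N)) := by
    by_contra hc
    rw [not_nonempty_iff] at hc
    exact not_subsingleton (q.ResidueField ⊗[B] N) (b.repr.toEquiv.subsingleton)
  let φ : N →ₗ[B] q.ResidueField := ((b.coord i).restrictScalars B).comp
    (TensorProduct.mk B q.ResidueField N 1)
  by_contra hc
  push Not at hc
  have h0 : ∀ z : q.ResidueField ⊗[B] N, b.coord i z = 0 := fun z => by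
    induction z using TensorProduct.induction_on with
    | zero => simp
    | add a c ha hc => rw [map_add, ha, hc, add_zero]
    | tmul a n =>
      rw [show a ⊗ₜ[B] n = a • ((1 : q.ResidueField) ⊗ₜ[B] n) by
        rw [TensorProduct.smul_tmul', smul_eq_mul, mul_one], map_smul]
      rw [show b.coord i ((1 : q.ResidueField) ⊗ₜ[B] n) = 0 from hc n φ, smul_zero]
  exact one_ne_zero (by simpa using h0 (b i) : (1 : q.ResidueField) = 0)

theorem le_annihilator_tensor :
    Module.annihilator B N ⊔ (Module.annihilator A M).map (algebraMap A B) ≤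
      Module.annihilator B (N ⊗[A] M) := by
  refine sup_le (fun b hb => ?_) (Ideal.map_le_iff_le_comap.2 fun a ha => ?_)
  · rw [Module.mem_annihilator] at hb ⊢
    intro z
    induction z using TensorProduct.induction_on with
    | zero => simp
    | add x y hx hy => rw [smul_add, hx, hy, add_zero]
    | tmul n m => rw [TensorProduct.smul_tmul', hb, TensorProduct.zero_tmul]
  · rw [Ideal.mem_comap, Module.mem_annihilator]
    rw [Module.mem_annihilator] at ha
    intro z
    induction z using TensorProduct.induction_on with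
    | zero => simp
    | add x y hx hy => rw [smul_add, hx, hy, add_zero]
    | tmul n m =>
      rw [algebraMap_smul, ← TensorProduct.tmul_smul, ha, TensorProduct.tmul_zero]

theorem annihilator_tensor_le {q : Ideal B} [q.IsPrime] (hN : Module.annihilator B N ≤ q)
    (hM : Module.annihilator A M ≤ q.comap (algebraMap A B)) :
    Module.annihilator B (N ⊗[A] M) ≤ q := by
  intro b hb
  obtain ⟨n, φ, hφ⟩ := exists_functional q hN
  let p := q.comap (algebraMap A B)
  obtain ⟨m, ψ₀, hψ₀⟩ := exists_functional (B := A) (N := M) p hM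
  let ι : p.ResidueField →ₐ[A] q.ResidueField :=
    Ideal.ResidueField.mapₐ p q (Algebra.ofId A B) rfl
  let ψ : M →ₗ[A] q.ResidueField := ι.toLinearMap.comp ψ₀
  let μ : N ⊗[A] M →ₗ[B] q.ResidueField := AlgebraTensorModule.lift
    { toFun := fun n => φ n • ψ
      map_add' := fun x y => by rw [map_add, add_smul]
      map_smul' := fun c x => by rw [map_smul, RingHom.id_apply, smul_assoc] }
  have h1 : μ (n ⊗ₜ m) = φ n * ψ m := rfl
  have h2 : μ (n ⊗ₜ m) ≠ 0 := h1 ▸ mul_ne_zero hφ (fun h => hψ₀ (ι.toRingHom.injective (h.trans (map_zero ι).symm)))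
  have h3 := congrArg μ (Module.mem_annihilator.1 hb (n ⊗ₜ m))
  rw [map_smul, map_zero, Algebra.smul_def, mul_eq_zero, or_iff_left h2] at h3
  exact Ideal.algebraMap_residueField_eq_zero.1 h3

theorem supportDim_tensor_eq_ringKrullDim :
    Module.supportDim B (N ⊗[A] M) =
      ringKrullDim (B ⧸ (Module.annihilator B N ⊔ (Module.annihilator A M).map (algebraMap A B))) := by
  rw [Module.supportDim_eq_ringKrullDim_quotient_annihilator, ringKrullDim_quotient, ringKrullDim_quotient]
  suffices h : PrimeSpectrum.zeroLocus (Module.annihilator B (N ⊗[A] M) : Set B) =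
      PrimeSpectrum.zeroLocus
        ((Module.annihilator B N ⊔ (Module.annihilator A M).map (algebraMap A B) : Ideal B) : Set B) by
    rw [h]
  refine Set.Subset.antisymm (PrimeSpectrum.zeroLocus_anti_mono le_annihilator_tensor) fun q hq => ?_
  rw [PrimeSpectrum.mem_zeroLocus, SetLike.coe_subset_coe, sup_le_iff, Ideal.map_le_iff_le_comap] at hq
  exact annihilator_tensor_le hq.1 hq.2

end

section GoingDown

variable {A B : Type u} [CommRing A] [CommRing B] [IsNoetherianRing B] [Algebra A B]
  {N : Type u} [AddCommGroup N] [Module B N] [Module A N] [IsScalarTower A B N] [Module.Finite B N]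
  [Module.Flat A N]

/-- Going down for the support of a flat module. -/
theorem exists_prime_over {p : Ideal A} [p.IsPrime] (q' : Ideal B) [q'.IsPrime]
    (hN : Module.annihilator B N ≤ q') (hp : p.map (algebraMap A B) ≤ q') :
    ∃ q : Ideal B, q.IsPrime ∧ q ≤ q' ∧ Module.annihilator B N ≤ q ∧ q.comap (algebraMap A B) = p := by
  let J := p.map (algebraMap A B)
  obtain ⟨q, hq, hqle⟩ := Ideal.exists_minimalPrimes_le (sup_le hN hp)
  have hqp : q.IsPrime := hq.1.1
  have hle := sup_le_iff.1 hq.1.2
  refine ⟨q, hqp, hqle, hle.1, le_antisymm (fun r hr => ?_) (Ideal.map_le_iff_le_comap.1 hle.2)⟩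
  by_contra hrp
  let N' := N ⧸ J • (⊤ : Submodule B N)
  have hmin : q ∈ (Module.annihilator B N').minimalPrimes := by
    refine ⟨⟨hqp, ?_⟩, fun Q ⟨hQ, hQa⟩ hQq => hq.2 ⟨hQ, sup_le ?_ ?_⟩ hQq⟩
    · intro b hb
      by_contra hbq
      obtain ⟨n, φ, hφ⟩ := exists_functional q hle.1
      have hJ : J • (⊤ : Submodule B N) ≤ LinearMap.ker φ := Submodule.smul_le.2 fun c hc x _ => by
        rw [LinearMap.mem_ker, map_smul, Algebra.smul_def,
          Ideal.algebraMap_residueField_eq_zero.2 (hle.2 hc), zero_mul]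
      have := congrArg (Submodule.liftQ _ φ hJ) (Module.mem_annihilator.1 hb (Submodule.Quotient.mk n))
      rw [map_smul, map_zero, Submodule.liftQ_apply, Algebra.smul_def, mul_eq_zero, or_iff_left hφ] at this
      exact hbq (Ideal.algebraMap_residueField_eq_zero.1 this)
    · intro b hb
      refine hQa (Module.mem_annihilator.2 fun z => ?_)
      obtain ⟨z, rfl⟩ := Submodule.Quotient.mk_surjective _ z
      rw [← Submodule.Quotient.mk_smul, Module.mem_annihilator.1 hb, Submodule.Quotient.mk_zero]
    · intro b hb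
      refine hQa (Module.mem_annihilator.2 fun z => ?_)
      obtain ⟨z, rfl⟩ := Submodule.Quotient.mk_surjective _ z
      rw [← Submodule.Quotient.mk_smul, Submodule.Quotient.mk_eq_zero]
      exact Submodule.smul_mem_smul hb Submodule.mem_top
  have hass := Module.associatedPrimes.minimalPrimes_annihilator_subset_associatedPrimes B N' hmin
  obtain ⟨-, z₀, hz₀⟩ := isAssociatedPrime_iff.mp hass
  have hz : algebraMap A B r • z₀ = 0 := by
    have : algebraMap A B r ∈ q := hr
    rw [hz₀] at this
    simpa [Submodule.mem_colon_singleton] using this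
  have hne : z₀ ≠ 0 := fun h => hqp.ne_top (by rw [hz₀, h]; ext; simp [Submodule.mem_colon_singleton])
  obtain ⟨z, rfl⟩ := Submodule.Quotient.mk_surjective _ z₀
  refine hne ?_
  rw [← Submodule.Quotient.mk_smul, Submodule.Quotient.mk_eq_zero] at hz
  rw [Submodule.Quotient.mk_eq_zero]
  have hres : ∀ x : N, x ∈ J • (⊤ : Submodule B N) ↔ x ∈ p • (⊤ : Submodule A N) := fun x => by
    rw [← Submodule.restrictScalars_mem A (J • (⊤ : Submodule B N)), Ideal.smul_restrictScalars,
      Submodule.restrictScalars_top]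
  rw [hres, algebraMap_smul] at hz
  rw [hres]
  let e := TensorProduct.tensorQuotEquivQuotSMul N p
  let v : A ⧸ p →ₗ[A] A ⧸ p := LinearMap.lsmul A (A ⧸ p) r
  have hv : Function.Injective v := by
    intro a c hac
    obtain ⟨a, rfl⟩ := Ideal.Quotient.mk_surjective a
    obtain ⟨c, rfl⟩ := Ideal.Quotient.mk_surjective c
    rw [Ideal.Quotient.eq]
    have : r * a - r * c ∈ p := Ideal.Quotient.eq.1 hac
    rw [← mul_sub] at this
    exact (‹p.IsPrime›.mem_or_mem this).resolve_left hrp
  have hinj := Module.Flat.lTensor_preserves_injective_linearMap (M := N) v hv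
  have hmul : ∀ w, v.lTensor N w = r • w := fun w => by
    induction w using TensorProduct.induction_on with
    | zero => simp
    | add a c ha hc => rw [map_add, ha, hc, smul_add]
    | tmul a c => simp [v, TensorProduct.smul_tmul']
  have h0 : e.symm (Submodule.Quotient.mk z) = 0 := hinj (by
    rw [hmul, map_zero, ← map_smul, ← Submodule.Quotient.mk_smul,
      (Submodule.Quotient.mk_eq_zero _).2 hz, map_zero])
  rw [← Submodule.Quotient.mk_eq_zero (p • (⊤ : Submodule A N))]
  exact e.symm.injective (h0.trans (map_zero _).symm)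

end GoingDown

variable (A B : Type u) [CommRing A] [CommRing B] [IsNoetherianRing A] [IsNoetherianRing B]
  [IsLocalRing A] [IsLocalRing B] [Algebra A B] [IsLocalHom (algebraMap A B)]
  (M : Type u) [AddCommGroup M] [Module A M] [Module.Finite A M] [Nontrivial M]
  (N : Type u) [AddCommGroup N] [Module B N] [Module A N] [IsScalarTower A B N]
  [Module.Finite B N] [Nontrivial N]

theorem supportDim_fibre : Module.supportDim B (EGA4.FibMod A B N) =
    ringKrullDim (B ⧸ (Module.annihilator B N ⊔ EGA4.mB A B)) := by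
  let e : (EGA4.FibMod A B N) ≃ₗ[B] (B ⧸ EGA4.mB A B) ⊗[B] N :=
    (TensorProduct.quotTensorEquivQuotSMul N (EGA4.mB A B)).symm
  rw [Module.supportDim_eq_of_equiv e, supportDim_tensor_eq_ringKrullDim (A := B) (B := B),
    Ideal.annihilator_quotient, Algebra.algebraMap_self, Ideal.map_id, sup_comm]

theorem supportDim_tensor [Module.Flat A N] :
    Module.supportDim B (N ⊗[A] M) = Module.supportDim A M + Module.supportDim B (EGA4.FibMod A B N) := by
  let I := Module.annihilator A M
  let J := Module.annihilator B N ⊔ I.map (algebraMap A B)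
  have hI : I ≠ ⊤ := fun h => not_subsingleton M (Module.annihilator_eq_top_iff.1 h)
  have hN : Module.annihilator B N ≠ ⊤ := fun h => not_subsingleton N (Module.annihilator_eq_top_iff.1 h)
  have hJ : J ≤ maximalIdeal B := sup_le (le_maximalIdeal hN)
    ((Ideal.map_mono (le_maximalIdeal hI)).trans DepthFlat.map_maximalIdeal_le)
  have hIJ : I ≤ J.comap (algebraMap A B) := Ideal.map_le_iff_le_comap.1 le_sup_right
  rw [supportDim_tensor_eq_ringKrullDim, Module.supportDim_eq_ringKrullDim_quotient_annihilator,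
    supportDim_fibre]
  change ringKrullDim (B ⧸ J) = ringKrullDim (A ⧸ I) + _
  letI : Algebra (A ⧸ I) (B ⧸ J) := (Ideal.quotientMap J (algebraMap A B) hIJ).toAlgebra
  haveI : Nontrivial (A ⧸ I) := Ideal.Quotient.nontrivial_iff.2 hI
  haveI : Nontrivial (B ⧸ J) := Ideal.Quotient.nontrivial_iff.2
    fun h => (maximalIdeal.isMaximal B).ne_top (top_le_iff.1 (h ▸ hJ))
  haveI : IsLocalRing (A ⧸ I) := IsLocalRing.of_surjective' _ Ideal.Quotient.mk_surjective
  haveI : IsLocalRing (B ⧸ J) := IsLocalRing.of_surjective' _ Ideal.Quotient.mk_surjective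
  have hcomp : ∀ a : A, algebraMap (A ⧸ I) (B ⧸ J) (Ideal.Quotient.mk I a) =
      Ideal.Quotient.mk J (algebraMap A B a) := fun a => Ideal.quotientMap_mk
  have hmA : (maximalIdeal A).map (Ideal.Quotient.mk I) = maximalIdeal (A ⧸ I) :=
    IsLocalRing.map_maximalIdeal_of_surjective _ Ideal.Quotient.mk_surjective
  haveI : IsLocalHom (algebraMap (A ⧸ I) (B ⧸ J)) := ⟨fun a ha => by
    obtain ⟨a, rfl⟩ := Ideal.Quotient.mk_surjective a
    rw [hcomp] at ha
    have := IsLocalHom.of_surjective (Ideal.Quotient.mk J) Ideal.Quotient.mk_surjective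
    exact (IsUnit.of_map (algebraMap A B) a (IsUnit.of_map (Ideal.Quotient.mk J) _ ha)).map _⟩
  haveI : (maximalIdeal (B ⧸ J)).LiesOver (maximalIdeal (A ⧸ I)) :=
    ⟨(((local_hom_TFAE (algebraMap (A ⧸ I) (B ⧸ J))).out 0 4 rfl rfl).mp inferInstance).symm⟩
  haveI : Algebra.HasGoingDown (A ⧸ I) (B ⧸ J) := ⟨fun {p} hp Q hQ hlt => by
    let p' := p.comap (Ideal.Quotient.mk I)
    let Q' := Q.comap (Ideal.Quotient.mk J)
    have hQ' : J ≤ Q' := (Ideal.mk_ker (I := J)).symm.le.trans (Ideal.comap_mono bot_le)
    have hp' : p'.map (algebraMap A B) ≤ Q' := Ideal.map_le_iff_le_comap.2 fun a ha => by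
      have h1 : algebraMap (A ⧸ I) (B ⧸ J) (Ideal.Quotient.mk I a) ∈ Q := hlt.le ha
      rwa [hcomp] at h1
    obtain ⟨q, hqp, hqle, hqN, hqc⟩ := exists_prime_over Q' ((le_sup_left : _ ≤ J).trans hQ') hp'
    have hqJ : J ≤ q := sup_le hqN (Ideal.map_le_iff_le_comap.2 (hqc.symm ▸
      (Ideal.mk_ker (I := I)).symm.le.trans (Ideal.comap_mono bot_le)))
    have hback : (q.map (Ideal.Quotient.mk J)).comap (Ideal.Quotient.mk J) = q := by
      rw [Ideal.comap_map_of_surjective' _ Ideal.Quotient.mk_surjective, Ideal.mk_ker, sup_eq_left.2 hqJ]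
    refine ⟨q.map (Ideal.Quotient.mk J), (Ideal.map_mono hqle).trans Ideal.map_comap_le,
      Ideal.map_isPrime_of_surjective Ideal.Quotient.mk_surjective (by rwa [Ideal.mk_ker]), ⟨?_⟩⟩
    refine Ideal.comap_injective_of_surjective _ Ideal.Quotient.mk_surjective ?_
    show p' = _
    rw [← hqc]
    ext a
    rw [Ideal.mem_comap, Ideal.mem_comap, Ideal.mem_comap, hcomp, ← Ideal.mem_comap (f := Ideal.Quotient.mk J), hback]⟩
  have key := Ideal.height_eq_height_add_of_liesOver_of_hasGoingDown (maximalIdeal (A ⧸ I)) (maximalIdeal (B ⧸ J))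
  let K := (maximalIdeal (A ⧸ I)).map (algebraMap (A ⧸ I) (B ⧸ J))
  have hK : K = (EGA4.mB A B).map (Ideal.Quotient.mk J) := by
    show Ideal.map _ _ = _
    rw [← hmA, EGA4.mB, Ideal.map_map, Ideal.map_map]
    exact congrArg (fun f => (maximalIdeal A).map f) (RingHom.ext hcomp)
  haveI : IsLocalRing ((B ⧸ J) ⧸ K) := by
    haveI : Nontrivial ((B ⧸ J) ⧸ K) := Ideal.Quotient.nontrivial_iff.2 fun h =>
      (maximalIdeal.isMaximal (B ⧸ J)).ne_top (top_le_iff.1 (h ▸ IsLocalRing.map_maximalIdeal_le _))
    exact IsLocalRing.of_surjective' _ Ideal.Quotient.mk_surjective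
  rw [IsLocalRing.map_maximalIdeal_of_surjective (Ideal.Quotient.mk K) Ideal.Quotient.mk_surjective] at key
  have key' := congrArg (fun x : ℕ∞ => (x : WithBot ℕ∞)) key
  simp only [WithBot.coe_add, IsLocalRing.maximalIdeal_height_eq_ringKrullDim] at key'
  rw [key']
  congr 1
  have hJK : J ⊔ EGA4.mB A B = Module.annihilator B N ⊔ EGA4.mB A B :=
    le_antisymm (sup_le (sup_le le_sup_left ((Ideal.map_mono (le_maximalIdeal hI)).trans le_sup_right)) le_sup_right)
      (sup_le (le_sup_left.trans le_sup_left) le_sup_right)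
  refine IsLocalRing.maximalIdeal_height_eq_ringKrullDim.trans ?_
  exact ringKrullDim_eq_of_ringEquiv ((Ideal.quotEquivOfEq hK).trans
    ((DoubleQuot.quotQuotEquivQuotSup J (EGA4.mB A B)).trans (Ideal.quotEquivOfEq hJK)))

/-- Cohen–Macaulayness of `N ⊗ M`. -/
theorem isCohenMacaulayModule_tensor_iff [Module.Flat A N] :
    IsCohenMacaulayModule B (N ⊗[A] M) ↔
      IsCohenMacaulayModule A M ∧ IsCohenMacaulayModule B (EGA4.FibMod A B N) := by
  have := DepthFlat.nontrivial_fibre (A := A) (B := B) (N := N)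
  simp only [IsCohenMacaulayModule, supportDim_tensor A B M N, DepthFlat.depth_tensor M N, WithBot.coe_add]
  refine ⟨fun h => ?_, fun ⟨h1, h2⟩ => by rw [h1, h2]⟩
  obtain ⟨a, ha⟩ := ENat.ne_top_iff_exists.1 (Lib.Depth.Assoc.depth_ne_top (R := A) M)
  obtain ⟨b, hb⟩ := ENat.ne_top_iff_exists.1 (Lib.Depth.Assoc.depth_ne_top (R := B) (EGA4.FibMod A B N))
  obtain ⟨c, hc⟩ := Lib.Depth.CM.supportDim_eq_nat (R := A) M
  obtain ⟨d, hd⟩ := Lib.Depth.CM.supportDim_eq_nat (R := B) (EGA4.FibMod A B N)
  have h1 := Lib.Depth.Assoc.depth_le_supportDim (R := A) M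
  have h2 := Lib.Depth.Assoc.depth_le_supportDim (R := B) (EGA4.FibMod A B N)
  rw [← ha, ← hb, hc, hd] at h ⊢
  rw [← ha, hc] at h1
  rw [← hb, hd] at h2
  have e : ∀ x : ℕ, (((x : ℕ∞)) : WithBot ℕ∞) = ((x : ℕ) : WithBot ℕ∞) := fun x => rfl
  simp only [← WithBot.coe_add, ← Nat.cast_add, e] at h h1 h2 ⊢
  norm_cast at h h1 h2 ⊢
  omega

omit [IsLocalHom (algebraMap A B)] in
theorem isCohenMacaulayModule_iff_of_surjective (R : Type u) [CommRing R] [IsLocalRing R]
    [Algebra B R] (hs : Function.Surjective (algebraMap B R))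
    (P : Type u) [AddCommGroup P] [Module B P] [Module R P] [IsScalarTower B R P]
    (hdim : Module.supportDim B P = Module.supportDim R P) :
    IsCohenMacaulayModule B P ↔ IsCohenMacaulayModule R P := by
  rw [IsCohenMacaulayModule, IsCohenMacaulayModule, hdim, Lib.Depth.Basic.depth_eq_of_surjective hs]

end Groth.Agent.H54.DimFlat

namespace Groth.Agent.H54.DimFlat

/-- The dimension of a module does not depend on the quotient ring over which it is considered. -/
theorem supportDim_eq_of_surjective {B R : Type u} [CommRing B] [CommRing R] [Algebra B R]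
    (hs : Function.Surjective (algebraMap B R)) (P : Type u) [AddCommGroup P] [Module B P] [Module R P]
    [IsScalarTower B R P] [Module.Finite B P] [Module.Finite R P] :
    Module.supportDim B P = Module.supportDim R P := by
  rw [Module.supportDim_eq_ringKrullDim_quotient_annihilator, Module.supportDim_eq_ringKrullDim_quotient_annihilator]
  have h : (Module.annihilator R P).comap (algebraMap B R) = Module.annihilator B P := by
    ext b
    simp [Module.mem_annihilator]
  exact ringKrullDim_eq_of_ringEquiv (RingEquiv.ofBijective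
    (Ideal.quotientMap (Module.annihilator R P) (algebraMap B R) h.ge)
    ⟨Ideal.quotientMap_injective' h.le, Ideal.quotientMap_surjective hs⟩)

theorem isCohenMacaulayModule_fibre_iff (A B : Type u) [CommRing A] [CommRing B] [IsLocalRing A]
    [IsLocalRing B] [Algebra A B] [IsLocalHom (algebraMap A B)] [IsNoetherianRing B] (N : Type u) [AddCommGroup N]
    [Module B N] [Module.Finite B N] :
    IsCohenMacaulayModule B (EGA4.FibMod A B N) ↔
      IsCohenMacaulayModule (EGA4.FibRing A B) (EGA4.FibMod A B N) :=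
  haveI : Module.Finite (EGA4.FibRing A B) (EGA4.FibMod A B N) :=
    Module.Finite.of_restrictScalars_finite B _ _
  isCohenMacaulayModule_iff_of_surjective B (EGA4.FibRing A B) Ideal.Quotient.mk_surjective _
    (supportDim_eq_of_surjective Ideal.Quotient.mk_surjective _)

/-- Cohen–Macaulay rings under flat local homomorphisms. -/
theorem isCohenMacaulayLocalRing_iff_of_flat (A B : Type u) [CommRing A] [CommRing B] [IsNoetherianRing A]
    [IsNoetherianRing B] [IsLocalRing A] [IsLocalRing B] [Algebra A B] [IsLocalHom (algebraMap A B)]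
    [Module.Flat A B] :
    IsCohenMacaulayLocalRing B ↔
      IsCohenMacaulayLocalRing A ∧ IsCohenMacaulayLocalRing (B ⧸ (maximalIdeal A).map (algebraMap A B)) := by
  have hB : IsCohenMacaulayLocalRing B ↔ IsCohenMacaulayModule B B :=
    ⟨fun h => h.supportDim_eq_depth, fun h => { supportDim_eq_depth := h }⟩
  have hA : IsCohenMacaulayLocalRing A ↔ IsCohenMacaulayModule A A :=
    ⟨fun h => h.supportDim_eq_depth, fun h => { supportDim_eq_depth := h }⟩
  haveI : IsLocalRing (B ⧸ (maximalIdeal A).map (algebraMap A B)) := EGA4.isLocalRing_fibRing A B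
  rw [hB, hA, Lib.Depth.CM.isCohenMacaulayLocalRing_quotient_iff_module,
    ← Lib.Depth.CM.isCohenMacaulayModule_congr (Algebra.TensorProduct.rid A B B).toLinearEquiv,
    isCohenMacaulayModule_tensor_iff A B A B,
    Lib.Depth.CM.isCohenMacaulayModule_congr (M' := B ⧸ (maximalIdeal A).map (algebraMap A B))
      (Submodule.quotEquivOfEq _ ((maximalIdeal A).map (algebraMap A B)) (by rw [smul_eq_mul, Ideal.mul_top]))]

end Groth.Agent.H54.DimFlat
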