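import Groth.Agent.Lib.Flat55.FlatEquidim
import Groth.Agent.Lib.TopDim.Basic
import Groth.Agent.Lib.GrpSch.DenseDim
import Groth.Agent.Lib.SourceDescent.Scheme
import Mathlib.AlgebraicGeometry.Morphisms.Etale
import Groth.Agent.Lib.DescAlg.EtaleFibre

/-!
# Local dimension is invariant under etale morphisms
-/

set_option autoImplicit false

universe u

open CategoryTheory AlgebraicGeometry Topology TopologicalSpace

namespace Groth.Agent.H54.EtaleLocalDim

variable {X Y : Scheme.{u}} (e : X ⟶ Y)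

lemma exists_lift [Flat e] (W : X.Opens) : ∀ (n : ℕ) (g : Fin (n + 1) → Y),
    (∀ i : Fin n, g i.succ ⤳ g i.castSucc) → g 0 ∈ e '' (W : Set X) →
    ∃ g' : Fin (n + 1) → W, (∀ i, e (g' i).1 = g i) ∧ ∀ i : Fin n, (g' i.succ).1 ⤳ (g' i.castSucc).1 := by
  intro n
  induction n with
  | zero =>
    rintro g - ⟨x, hx, hxg⟩
    exact ⟨fun _ => ⟨x, hx⟩, fun i => by obtain rfl := Subsingleton.elim (α := Fin 1) i 0; exact hxg,
      fun i => i.elim0⟩
  | succ n ih =>
    intro g hg h0
    obtain ⟨g', hg', hs⟩ := ih (g ∘ Fin.castSucc) (fun i => hg i.castSucc) h0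
    obtain ⟨x, hxl, hx⟩ := Flat.generalizingMap e (show g (Fin.last (n + 1)) ⤳ e (g' (Fin.last n)).1 by
      rw [hg' (Fin.last n)]
      exact hg (Fin.last n))
    refine ⟨Fin.snoc g' ⟨x, hxl.mem_open W.2 (g' (Fin.last n)).2⟩, fun i => ?_, fun i => ?_⟩
    · induction i using Fin.lastCases with
      | last => rw [Fin.snoc_last]; exact hx
      | cast i => rw [Fin.snoc_castSucc]; exact hg' i
    · induction i using Fin.lastCases with
      | last => rw [Fin.succ_last, Fin.snoc_last, Fin.snoc_castSucc]; exact hxl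
      | cast i => rw [Fin.succ_castSucc, Fin.snoc_castSucc, Fin.snoc_castSucc]; exact hs i

theorem topologicalKrullDim_image_le [Flat e] (W : X.Opens) (hO : IsOpen (e '' (W : Set X))) :
    topologicalKrullDim ↥(e '' (W : Set X)) ≤ topologicalKrullDim ↥(W : Set X) := by
  haveI : QuasiSober ↥(e '' (W : Set X)) := hO.isOpenEmbedding_subtypeVal.quasiSober
  haveI : QuasiSober ↥(W : Set X) := W.2.isOpenEmbedding_subtypeVal.quasiSober
  rw [Groth.Agent.Lib.GrpSch.topologicalKrullDim_eq_krullDim_subset,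
    Groth.Agent.Lib.GrpSch.topologicalKrullDim_eq_krullDim_subset]
  refine iSup_le fun s => ?_
  obtain ⟨g', hg', hs⟩ := exists_lift e W s.length (fun i => (s i).1)
    (fun i => show (s i.succ).1 ⤳ (s i.castSucc).1 from (s.step i).le) (s 0).2
  refine Order.LTSeries.length_le_krullDim (α := {x : X // x ∈ (W : Set X)})
    { length := s.length, toFun := g', step := fun i => ?_ }
  show g' i.castSucc < g' i.succ
  refine lt_iff_le_not_ge.2 ⟨hs i, fun h => ?_⟩
  have h' : (g' i.castSucc).1 ⤳ (g' i.succ).1 := h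
  have h'' := h'.map e.continuous
  rw [hg', hg'] at h''
  exact (lt_iff_le_not_ge.1 (s.step i)).2 h''

theorem localDim_eq [Etale e] (x : X) : FlatMor.localDim ↥X x = FlatMor.localDim ↥Y (e x) := by
  refine le_antisymm ?_ ?_
  · refine le_iInf fun V => ?_
    let W := e ⁻¹ᵁ V.1
    refine (Groth.Agent.Lib.TopDim.Basic.localDim_le x (U := W) V.2).trans ?_
    haveI : LocallyQuasiFinite e := Groth.Agent.Lib.SourceDescent.Scheme.locallyQuasiFinite_of_etale e
    haveI : Etale (e.resLE V.1 W le_rfl) := inferInstance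
    haveI : LocallyQuasiFinite (e.resLE V.1 W le_rfl) :=
      Groth.Agent.Lib.SourceDescent.Scheme.locallyQuasiFinite_of_etale _
    exact (Groth.Agent.Lib.Flat55.FlatEquidim.topologicalKrullDim_le_of_quasiFinite (e.resLE V.1 W le_rfl)).trans
      (topologicalKrullDim_subspace_le (Scheme.Opens.toScheme V.1) _)
  · refine le_iInf fun W => ?_
    have hO : IsOpen (e '' (W.1 : Set X)) := e.isOpenMap _ W.1.2
    exact (Groth.Agent.Lib.TopDim.Basic.localDim_le (e x) (U := ⟨_, hO⟩) ⟨x, W.2, rfl⟩).trans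
      (topologicalKrullDim_image_le e W.1 hO)

end Groth.Agent.H54.EtaleLocalDim

namespace Groth.Agent.H54.EtaleLocalDim

variable {X Y : Scheme.{u}} (f : X ⟶ Y)

lemma fibreDimAt_fiberι (y : Y) (z : ↥(f.fiber y)) :
    FlatMor.localDim ↥(f.fiber y) z = FlatMor.fibreDimAt f (f.fiberι y z) := by
  have hy : f (f.fiberι y z) = y := (f.range_fiberι y).le ⟨z, rfl⟩
  have key : ∀ (y' : Y) (z' : ↥(f.fiber y')) (x : X), f x = y' → f.fiberι y' z' = x →
      FlatMor.localDim ↥(f.fiber y') z' = FlatMor.fibreDimAt f x := by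
    rintro y' z' x rfl hz
    rw [(f.fiberι (f x)).isEmbedding.injective (hz.trans (f.fiberι_asFiber x).symm)]
    rfl
  exact key y z _ hy rfl

theorem fibreDimAt_eq {U U' V V' : Scheme.{u}} (h : U ⟶ V) (h' : U' ⟶ V') (a : U' ⟶ U)
    (b : V' ⟶ V) [Etale a] [Etale b] (comm : h' ≫ b = a ≫ h) (u' : U') :
    FlatMor.fibreDimAt h (a u') = FlatMor.fibreDimAt h' u' := by
  let φ : h'.fiber (h' u') ⟶ h.fiber (b (h' u')) := Limits.pullback.lift (h'.fiberι _ ≫ a)
    (h'.fiberToSpecResidueField _ ≫ Spec.map (b.residueFieldMap (h' u'))) (by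
      rw [Category.assoc, Category.assoc, b.SpecMap_residueFieldMap_fromSpecResidueField, ← comm, ← Category.assoc,
        ← Category.assoc]
      exact congrArg (· ≫ b) Limits.pullback.condition)
  have hφ1 : φ ≫ h.fiberι _ = h'.fiberι _ ≫ a := Limits.pullback.lift_fst _ _ _
  haveI := Groth.Agent.Lib.DescAlg.EtaleFibre.fiber_map h h' a b comm (h' u') φ hφ1 (Limits.pullback.lift_snd _ _ _)
  have e := localDim_eq φ (h'.asFiber u')
  rw [fibreDimAt_fiberι h, ← Scheme.Hom.comp_apply, hφ1, Scheme.Hom.comp_apply, h'.fiberι_asFiber] at e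
  exact e.symm

end Groth.Agent.H54.EtaleLocalDim
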