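import Groth.Agent.H54.GeomLift
import Groth.Agent.H56.EtaleNbhd
import Mathlib.RingTheory.Etale.StandardEtale
import Mathlib.RingTheory.Polynomial.ScaleRoots
import Mathlib.FieldTheory.PrimitiveElement
import Mathlib.FieldTheory.PurelyInseparable.Basic
import Mathlib.FieldTheory.SeparableClosure
import Mathlib.RingTheory.Unramified.LocalStructure

/-!
# Etale neighbourhoods isolating a geometric point
-/

universe u

open AlgebraicGeometry CategoryTheory Limits Polynomial

namespace Groth.Agent.H54.EtaleSep

open GeomLift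

lemma locallyQuasiFinite_of_formallyUnramified {X Y : Scheme.{u}} (f : X ⟶ Y) [FormallyUnramified f]
    [LocallyOfFiniteType f] : LocallyQuasiFinite f := by
  rw [HasRingHomProperty.iff_appLE (P := @LocallyQuasiFinite)]
  intro U V e
  have h1 := f.formallyUnramified_appLE U.2 V.2 e
  have h2 := f.finiteType_appLE U.2 V.2 e
  algebraize [(f.appLE U V e).hom]
  exact RingHom.quasiFinite_algebraMap.mpr inferInstance

/-- A finite separable extension of a residue field is generated by an etale algebra. -/
theorem exists_etale_lift (R K L : Type u) [CommRing R] [Field K] [Field L] [Algebra R K]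
    [Algebra K L] [Algebra R L] [IsScalarTower R K L] [FiniteDimensional K L]
    [Algebra.IsSeparable K L]
    (hK : ∀ c : K, ∃ a b : R, algebraMap R K b ≠ 0 ∧ c * algebraMap R K b = algebraMap R K a) :
    ∃ (R' : Type u) (_ : CommRing R') (_ : Algebra R R') (_ : Algebra.Etale R R') (φ : R' →ₐ[R] L),
      ∀ S : Subfield L, Set.range φ ⊆ S → S = ⊤ := by
  classical
  obtain ⟨α, hα⟩ := Field.exists_primitive_element K L
  have hint : IsIntegral K α := Algebra.IsIntegral.isIntegral α
  set m := minpoly K α with hm_def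
  have hden : ∀ s : Finset ℕ, ∃ d : R, algebraMap R K d ≠ 0 ∧
      ∀ i ∈ s, ∃ a, m.coeff i * algebraMap R K d = algebraMap R K a := by
    intro s
    induction s using Finset.induction with
    | empty => exact ⟨1, by simp, by simp⟩
    | insert i s _ ih =>
      obtain ⟨d, hd, hs⟩ := ih
      obtain ⟨a, b, hb, hab⟩ := hK (m.coeff i)
      refine ⟨d * b, by simp [hd, hb], fun j hj => ?_⟩
      rcases Finset.mem_insert.mp hj with rfl | hj
      · exact ⟨a * d, by rw [map_mul, map_mul, ← hab]; ring⟩
      · obtain ⟨a', ha'⟩ := hs j hj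
        exact ⟨a' * b, by rw [map_mul, map_mul, ← ha']; ring⟩
  obtain ⟨d, hd, hcoef⟩ := hden (Finset.range m.natDegree)
  set c := algebraMap R K d with hc_def
  set G := scaleRoots m c with hG
  have hm : m.Monic := minpoly.monic hint
  have hGm : G.Monic := (monic_scaleRoots_iff c).mpr hm
  have hlifts : G ∈ Polynomial.lifts (algebraMap R K) := by
    rw [Polynomial.lifts_iff_coeff_lifts]
    intro i
    rw [hG, coeff_scaleRoots]
    rcases lt_trichotomy i m.natDegree with h | h | h
    · obtain ⟨a, ha⟩ := hcoef i (Finset.mem_range.mpr h)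
      refine ⟨a * d ^ (m.natDegree - i - 1), ?_⟩
      rw [map_mul, map_pow, ← ha, ← hc_def, mul_assoc, ← pow_succ',
        show m.natDegree - i - 1 + 1 = m.natDegree - i by omega]
    · exact ⟨1, by subst h; simp [hm.coeff_natDegree]⟩
    · exact ⟨0, by simp [coeff_eq_zero_of_natDegree_lt h]⟩
  obtain ⟨F, hFG, -, hFm⟩ := Polynomial.lifts_and_natDegree_eq_and_monic hlifts hGm
  set α' : L := algebraMap K L c * α with hα'
  have hcL : algebraMap K L c ≠ 0 := by simpa using hd
  have hroot : aeval α' G = 0 := scaleRoots_aeval_eq_zero (minpoly.aeval K α)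
  have hgen : IntermediateField.adjoin K {α'} = ⊤ := by
    rw [eq_top_iff, ← hα, IntermediateField.adjoin_simple_le_iff]
    have h1 : α = (algebraMap K L c)⁻¹ * α' := by rw [hα', inv_mul_cancel_left₀ hcL]
    rw [h1, ← map_inv₀]
    exact mul_mem (IntermediateField.algebraMap_mem _ _) (IntermediateField.mem_adjoin_simple_self K α')
  have hint' : IsIntegral K α' := Algebra.IsIntegral.isIntegral α'
  have hdeg : G.natDegree = (minpoly K α').natDegree := by
    rw [hG, natDegree_scaleRoots, hm_def, ← IntermediateField.adjoin.finrank hint,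
      ← IntermediateField.adjoin.finrank hint', hα, hgen]
  have hGmin : G = minpoly K α' := by
    refine (eq_of_monic_of_dvd_of_natDegree_le (minpoly.monic hint') hGm (minpoly.dvd K α' hroot) hdeg.le).symm.symm
  have hsep : aeval α' (derivative G) ≠ 0 := by
    rw [hGmin]
    exact (Algebra.IsSeparable.isSeparable K α').aeval_derivative_ne_zero (minpoly.aeval K α')
  let P : StandardEtalePair R := ⟨F, hFm, derivative F, 1, 0, 1, by simp⟩
  have hmap : P.HasMap α' := by
    refine ⟨?_, isUnit_iff_ne_zero.mpr ?_⟩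
    · show aeval α' F = 0
      rw [← aeval_map_algebraMap (A := K) α' F, hFG, hroot]
    · show aeval α' (derivative F) ≠ 0
      rwa [← aeval_map_algebraMap (A := K) α' (derivative F), ← derivative_map, hFG]
  refine ⟨P.Ring, inferInstance, inferInstance, inferInstance, P.lift α' hmap, fun S hS => ?_⟩
  rw [eq_top_iff]
  intro x _
  have hK' : ∀ z : K, algebraMap K L z ∈ S := by
    intro z
    obtain ⟨a, b, hb, hab⟩ := hK z
    have hrb : algebraMap R L b ∈ S := hS ⟨algebraMap R _ b, AlgHom.commutes _ _⟩
    have hra : algebraMap R L a ∈ S := hS ⟨algebraMap R _ a, AlgHom.commutes _ _⟩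
    have hb' : algebraMap R L b ≠ 0 := by
      rw [IsScalarTower.algebraMap_apply R K L]; simpa using hb
    have h1 : algebraMap K L z = algebraMap R L a * (algebraMap R L b)⁻¹ := by
      rw [eq_mul_inv_iff_mul_eq₀ hb', IsScalarTower.algebraMap_apply R K L, ← map_mul, hab,
        ← IsScalarTower.algebraMap_apply]
    rw [h1]
    exact mul_mem hra (inv_mem hrb)
  let S' : IntermediateField K L := S.toIntermediateField hK'
  have h2 : IntermediateField.adjoin K {α'} ≤ S' :=
    IntermediateField.adjoin_simple_le_iff.mpr (hS ⟨P.X, P.lift_X _ _⟩)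
  rw [hgen] at h2
  exact h2 (IntermediateField.mem_top (x := x))

/-- Scheme version: realize a finite separable residue extension by an etale morphism. -/
theorem exists_etale_point {Y : Scheme.{u}} (y : Y) (L : Type u) [Field L]
    [Algebra (Y.residueField y) L] [FiniteDimensional (Y.residueField y) L]
    [Algebra.IsSeparable (Y.residueField y) L] :
    ∃ (V : Scheme.{u}) (a : V ⟶ Y) (_ : Etale a) (ℓ : Spec (CommRingCat.of L) ⟶ V),
      ℓ ≫ a = Spec.map (CommRingCat.ofHom (algebraMap (Y.residueField y) L)) ≫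
          Y.fromSpecResidueField y ∧
        ∀ (v : V) (e : V.residueField v ⟶ CommRingCat.of L),
          ℓ = Spec.map e ≫ V.fromSpecResidueField v → Function.Surjective e.hom := by
  obtain ⟨_, ⟨W, hW, rfl⟩, hyW, -⟩ := Y.isBasis_affineOpens.exists_subset_of_mem_open
    (Set.mem_univ y) isOpen_univ
  let ρ : Γ(Y, W) ⟶ Y.residueField y := Y.presheaf.germ W y hyW ≫ Y.residue y
  have hρ : Spec.map ρ ≫ hW.fromSpec = Y.fromSpecResidueField y := by
    rw [Spec.map_comp, Category.assoc, ← IsAffineOpen.fromSpecStalk, hW.fromSpecStalk_eq_fromSpecStalk]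
    rfl
  let := ρ.hom.toAlgebra
  let : Algebra Γ(Y, W) L := ((algebraMap (Y.residueField y) L).comp ρ.hom).toAlgebra
  have : IsScalarTower Γ(Y, W) (Y.residueField y) L := IsScalarTower.of_algebraMap_eq fun _ => rfl
  have hK : ∀ c : Y.residueField y, ∃ a b : Γ(Y, W), algebraMap Γ(Y, W) (Y.residueField y) b ≠ 0 ∧
      c * algebraMap _ _ b = algebraMap _ _ a := by
    intro c
    obtain ⟨c, rfl⟩ := Y.residue_surjective y c
    let := (Y.presheaf.germ W y hyW).hom.toAlgebra
    have := hW.isLocalization_stalk ⟨y, hyW⟩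
    obtain ⟨⟨a, b⟩, hab⟩ := IsLocalization.surj (hW.primeIdealOf ⟨y, hyW⟩).asIdeal.primeCompl c
    refine ⟨a, b.1, ?_, ?_⟩
    · exact ((IsLocalization.map_units (Y.presheaf.stalk y) b).map (Y.residue y).hom).ne_zero
    · exact ((map_mul (Y.residue y).hom _ _).symm.trans (congrArg (Y.residue y).hom hab))
  obtain ⟨R', _, _, _, φ, hφ⟩ := exists_etale_lift Γ(Y, W) (Y.residueField y) L hK
  have : Etale (Spec.map (CommRingCat.ofHom (algebraMap Γ(Y, W) R'))) :=
    HasRingHomProperty.Spec_iff.mpr (RingHom.etale_algebraMap.mpr ‹_›)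
  refine ⟨Spec (CommRingCat.of R'), Spec.map (CommRingCat.ofHom (algebraMap Γ(Y, W) R')) ≫ hW.fromSpec,
    inferInstance, Spec.map (CommRingCat.ofHom φ.toRingHom), ?_, fun v e he => ?_⟩
  · rw [← Spec.map_comp_assoc,
      show CommRingCat.ofHom (algebraMap Γ(Y, W) R') ≫ CommRingCat.ofHom φ.toRingHom =
        ρ ≫ CommRingCat.ofHom (algebraMap (Y.residueField y) L) from
        CommRingCat.hom_ext φ.comp_algebraMap,
      Spec.map_comp, Category.assoc, hρ]
    rfl
  · obtain ⟨ψ, hψ⟩ := Spec.map_surjective ((Spec (CommRingCat.of R')).fromSpecResidueField v)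
    rw [← hψ, ← Spec.map_comp, Spec.map_inj] at he
    intro z
    have h3 := hφ e.hom.fieldRange (by
      rintro _ ⟨r, rfl⟩
      exact ⟨ψ r, (congr($he r)).symm⟩)
    have : z ∈ e.hom.fieldRange := by rw [h3]; trivial
    exact this

/-- For a geometric point of the source of a locally quasi-finite morphism there is an etale neighbourhood
over which it becomes the unique geometric lift in a finite open piece. -/
theorem exists_datum {X Y : Scheme.{u}} (f : X ⟶ Y) [LocallyQuasiFinite f] [LocallyOfFiniteType f]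
    {k : Type u} [Field k] [IsAlgClosed k] (xb : Spec (CommRingCat.of k) ⟶ X) :
    ∃ (V : Scheme.{u}) (a : V ⟶ Y) (_ : Etale a) (η : Spec (CommRingCat.of k) ⟶ V)
      (P : Scheme.{u}) (j : P ⟶ pullback f a) (_ : IsOpenImmersion j)
      (p : Lift (j ≫ pullback.snd f a) η),
      IsFinite (j ≫ pullback.snd f a) ∧ η ≫ a = xb ≫ f ∧ p.1 ≫ j ≫ pullback.fst f a = xb ∧
        ∀ q : Lift (j ≫ pullback.snd f a) η, q = p := by
  let x := pt xb
  obtain ⟨e, he⟩ : ∃ e : X.residueField x ⟶ CommRingCat.of k,
      xb = Spec.map e ≫ X.fromSpecResidueField x := exists_of_pt xb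
  let K := Y.residueField (f x)
  let := (f.residueFieldMap x).hom.toAlgebra
  have : Module.Finite K (X.residueField x) := residueFieldMap_finite f x
  let L := separableClosure K (X.residueField x)
  obtain ⟨V0, a0, _, ℓ, hℓ, hℓs⟩ := exists_etale_point (f x) L
  let ι : CommRingCat.of L ⟶ X.residueField x := CommRingCat.ofHom (algebraMap L (X.residueField x))
  let q0 : Spec (X.residueField x) ⟶ pullback f a0 :=
    pullback.lift (X.fromSpecResidueField x) (Spec.map ι ≫ ℓ) (by
      rw [Category.assoc, hℓ, ← Spec.map_comp_assoc,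
        show CommRingCat.ofHom (algebraMap K L) ≫ ι = f.residueFieldMap x from
          CommRingCat.hom_ext (IsScalarTower.algebraMap_eq K L (X.residueField x)).symm,
        Scheme.Hom.SpecMap_residueFieldMap_fromSpecResidueField])
  have hq0fst : q0 ≫ pullback.fst f a0 = X.fromSpecResidueField x := pullback.lift_fst _ _ _
  have hq0snd : q0 ≫ pullback.snd f a0 = Spec.map ι ≫ ℓ := pullback.lift_snd _ _ _
  set w := pt (k := X.residueField x) q0 with hw
  obtain ⟨δ, hδ⟩ : ∃ δ : (pullback f a0).residueField w ⟶ X.residueField x,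
      q0 = Spec.map δ ≫ (pullback f a0).fromSpecResidueField w :=
    exists_of_pt (k := X.residueField x) q0
  have hfw : pullback.fst f a0 w = x := by
    rw [hw, ← pt_comp, hq0fst, pt, Scheme.fromSpecResidueField_apply]
  have hδs : Function.Bijective δ.hom := by
    refine ⟨δ.hom.injective, fun z => ?_⟩
    obtain ⟨α, hα⟩ : ∃ α : X.residueField x ⟶ (pullback f a0).residueField w,
        (pullback f a0).fromSpecResidueField w ≫ pullback.fst f a0 =
          Spec.map α ≫ X.fromSpecResidueField x := by
      have h1 : pt (k := (pullback f a0).residueField w)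
          ((pullback f a0).fromSpecResidueField w ≫ pullback.fst f a0) = x := by
        rw [pt, Scheme.Hom.comp_apply, Scheme.fromSpecResidueField_apply, hfw]
      have gen : ∀ x', pt (k := (pullback f a0).residueField w)
          ((pullback f a0).fromSpecResidueField w ≫ pullback.fst f a0) = x' →
            ∃ α : X.residueField x' ⟶ (pullback f a0).residueField w,
              (pullback f a0).fromSpecResidueField w ≫ pullback.fst f a0 =
                Spec.map α ≫ X.fromSpecResidueField x' := by
        rintro _ rfl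
        exact exists_of_pt (k := (pullback f a0).residueField w) _
      exact gen x h1
    have h2 : Spec.map (α ≫ δ) ≫ X.fromSpecResidueField x = 𝟙 _ ≫ X.fromSpecResidueField x := by
      rw [Spec.map_comp, Category.assoc, ← hα, ← reassoc_of% hδ, hq0fst, Category.id_comp]
    rw [cancel_mono, ← Spec.map_id, Spec.map_inj] at h2
    exact ⟨α.hom z, congr($h2 z)⟩
  obtain ⟨U, g, u, hu, -, P, v, hvP, hfin, hvu, huniq, hvw, -⟩ :=
    H56.EtaleNbhd.exists_isEtaleNbhd_finite_part (pullback.snd f a0) w
      ((pullback.snd f a0).quasiFiniteAt w)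
  have := hu.etale
  let z0 : Spec (CommRingCat.of k) ⟶ pullback f a0 := Spec.map e ≫ q0
  have hz0 : pt z0 = w := by
    rw [hw, pt, Scheme.Hom.comp_apply]
    congr 1
    exact Subsingleton.elim _ _
  let π₁ := P.ι ≫ pullback.fst (pullback.snd f a0) g
  have : LocallyQuasiFinite (pullback.fst (pullback.snd f a0) g) :=
    locallyQuasiFinite_of_formallyUnramified _
  have : LocallyQuasiFinite π₁ := inferInstanceAs (LocallyQuasiFinite (P.ι ≫ _))
  obtain ⟨z1, hz1⟩ := exists_lift π₁ z0 (⟨v, hvP⟩ : (P : Scheme.{u})) (by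
    show pullback.fst (pullback.snd f a0) g v = _
    rw [hvw, hz0])
  let η : Spec (CommRingCat.of k) ⟶ U := z1.1 ≫ P.ι ≫ pullback.snd (pullback.snd f a0) g
  let ε : pullback (pullback.snd f a0) g ≅ pullback f (g ≫ a0) :=
    pullbackLeftPullbackSndIso f a0 g
  have hεs : ε.hom ≫ pullback.snd f (g ≫ a0) = pullback.snd (pullback.snd f a0) g :=
    pullbackLeftPullbackSndIso_hom_snd f a0 g
  have hεf : ε.hom ≫ pullback.fst f (g ≫ a0) =
      pullback.fst (pullback.snd f a0) g ≫ pullback.fst f a0 := pullbackLeftPullbackSndIso_hom_fst f a0 g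
  have hsnd : (P.ι ≫ ε.hom) ≫ pullback.snd f (g ≫ a0) = P.ι ≫ pullback.snd (pullback.snd f a0) g := by
    rw [Category.assoc, hεs]
  refine ⟨U, g ≫ a0, inferInstance, η, P, P.ι ≫ ε.hom, inferInstance,
    ⟨z1.1, by rw [hsnd]⟩, hsnd ▸ hfin, ?_, ?_, fun q => ?_⟩
  · have h3 : η ≫ g = z0 ≫ pullback.snd f a0 := by
      rw [← z1.2]
      simp [η, π₁, pullback.condition]
    rw [reassoc_of% h3, ← pullback.condition, Category.assoc, reassoc_of% hq0fst, ← Category.assoc]
    exact congrArg (· ≫ f) he.symm
  · show z1.1 ≫ (P.ι ≫ ε.hom) ≫ pullback.fst f (g ≫ a0) = xb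
    rw [Category.assoc, hεf]
    have := congrArg (· ≫ pullback.fst f a0) z1.2
    simp only [π₁, z0, Category.assoc, hq0fst] at this
    rw [this]
    exact he.symm
  · obtain ⟨q, hq⟩ := q
    rw [hsnd] at hq
    apply Subtype.ext
    show q = z1.1
    rw [← cancel_mono P.ι]
    have hηu : pt η = u := by
      rw [show η = z1.1 ≫ P.ι ≫ pullback.snd (pullback.snd f a0) g from rfl, pt_comp, hz1]
      exact hvu
    have hqv : (q ≫ P.ι) (IsLocalRing.closedPoint k) = v := by
      refine huniq _ (pt q).2 ?_
      rw [← Scheme.Hom.comp_apply, Category.assoc, hq]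
      exact hηu
    refine pullback.hom_ext ?_ (by rw [Category.assoc, hq, Category.assoc])
    let z : Spec (CommRingCat.of k) ⟶ pullback f a0 :=
      (q ≫ P.ι) ≫ pullback.fst (pullback.snd f a0) g
    show z = (z1.1 ≫ P.ι) ≫ pullback.fst (pullback.snd f a0) g
    rw [Category.assoc, z1.2]
    have hzw : pt z = w := by
      show pullback.fst (pullback.snd f a0) g ((q ≫ P.ι) (IsLocalRing.closedPoint k)) = w
      rw [hqv, hvw]
    obtain ⟨ε', hε'⟩ : ∃ ε' : (pullback f a0).residueField w ⟶ CommRingCat.of k,
        z = Spec.map ε' ≫ (pullback f a0).fromSpecResidueField w := by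
      have gen : ∀ w', pt z = w' → ∃ ε' : (pullback f a0).residueField w' ⟶ CommRingCat.of k,
          z = Spec.map ε' ≫ (pullback f a0).fromSpecResidueField w' := by
        rintro _ rfl
        exact exists_of_pt z
      exact gen w hzw
    let δi : X.residueField x ⟶ (pullback f a0).residueField w :=
      CommRingCat.ofHom (RingEquiv.ofBijective δ.hom hδs).symm.toRingHom
    have hδi : δ ≫ δi = 𝟙 _ := CommRingCat.hom_ext (RingHom.ext fun r => by
      exact (RingEquiv.ofBijective δ.hom hδs).symm_apply_apply r)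
    let e' : X.residueField x ⟶ CommRingCat.of k := δi ≫ ε'
    have hz' : z = Spec.map e' ≫ q0 := by
      rw [hδ, ← Spec.map_comp_assoc, show δ ≫ e' = ε' by simp [e', reassoc_of% hδi], hε']
    have h4 : z ≫ pullback.snd f a0 = z0 ≫ pullback.snd f a0 := by
      have hA : z ≫ pullback.snd f a0 = η ≫ g := by
        simp only [z, Category.assoc, pullback.condition]
        rw [reassoc_of% hq]
      have hB : η ≫ g = z0 ≫ pullback.snd f a0 := by
        rw [← z1.2]
        simp [η, π₁, pullback.condition]
      rw [hA, hB]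
    rw [hz'] at h4 ⊢
    simp only [z0, Category.assoc, hq0snd, ← Spec.map_comp_assoc] at h4 ⊢
    obtain ⟨e'', he''⟩ := exists_of_pt (k := L) ℓ
    rw [he''] at h4
    simp only [← Category.assoc, ← Spec.map_comp] at h4
    rw [cancel_mono, Spec.map_inj] at h4
    have hs := hℓs _ e'' he''
    have h5 : ∀ l : L, e'.hom (ι.hom l) = e.hom (ι.hom l) := by
      intro l
      obtain ⟨r, rfl⟩ := hs l
      exact congr($h4 r)
    have : e' = e := CommRingCat.hom_ext
      (IsPurelyInseparable.injective_comp_algebraMap L (X.residueField x) k (RingHom.ext h5))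
    rw [this]

end Groth.Agent.H54.EtaleSep
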