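import Groth.Agent.Lib.DescAlg.EtaleFibre
import Mathlib.RingTheory.AlgebraicIndependent.TranscendenceBasis
import Mathlib.RingTheory.AlgebraicIndependent.Transcendental

/-!
# Transcendence degrees of residue extensions are etale local
-/

set_option autoImplicit false

universe u

open CategoryTheory AlgebraicGeometry

namespace Groth.Agent.H54.EtaleTrdeg

/-- The transcendence degree of a ring map. -/
noncomputable def trd {K L : CommRingCat.{u}} (φ : K ⟶ L) : Cardinal.{u} :=
  @Algebra.trdeg K L _ _ φ.hom.toAlgebra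

variable {K L M : Type u} [Field K] [Field L] [Field M]

lemma trdeg_comp (φ : K →+* L) (ψ : L →+* M) :
    @Algebra.trdeg K M _ _ (ψ.comp φ).toAlgebra =
      @Algebra.trdeg K L _ _ φ.toAlgebra + @Algebra.trdeg L M _ _ ψ.toAlgebra := by
  letI := φ.toAlgebra
  letI := ψ.toAlgebra
  letI := (ψ.comp φ).toAlgebra
  haveI : IsScalarTower K L M := IsScalarTower.of_algebraMap_eq fun _ => rfl
  exact (trdeg_add_eq (R := K) (S := L) (A := M)).symm

lemma trdeg_eq_zero_of_etale (φ : K →+* L) (h : φ.Etale) : @Algebra.trdeg K L _ _ φ.toAlgebra = 0 := by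
  algebraize [φ]
  haveI : Algebra.IsSeparable K L := Algebra.FormallyUnramified.isSeparable K L
  exact trdeg_eq_zero

variable {U U' V V' : Scheme.{u}}

lemma congr_map {f g : U' ⟶ V} (e : f = g) (u : U') :
    @Algebra.trdeg (V.residueField (f u)) (U'.residueField u) _ _ (f.residueFieldMap u).hom.toAlgebra =
      @Algebra.trdeg (V.residueField (g u)) (U'.residueField u) _ _ (g.residueFieldMap u).hom.toAlgebra := by
  subst e; rfl

theorem trdeg_eq (h : U ⟶ V) (h' : U' ⟶ V') (a : U' ⟶ U)
    (b : V' ⟶ V) [Etale a] [Etale b] (comm : h' ≫ b = a ≫ h) (u' : U') :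
    @Algebra.trdeg (V.residueField (h (a u'))) (U.residueField (a u')) _ _ (h.residueFieldMap (a u')).hom.toAlgebra =
      @Algebra.trdeg (V'.residueField (h' u')) (U'.residueField u') _ _ (h'.residueFieldMap u').hom.toAlgebra := by
  have e1 := congr_map comm u'
  rw [Scheme.residueFieldMap_comp, Scheme.residueFieldMap_comp] at e1
  have za := trdeg_eq_zero_of_etale _ (Groth.Agent.Lib.DescAlg.EtaleFibre.residueFieldMap_etale a u')
  have zb := trdeg_eq_zero_of_etale _ (Groth.Agent.Lib.DescAlg.EtaleFibre.residueFieldMap_etale b (h' u'))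
  have l := trdeg_comp (b.residueFieldMap (h' u')).hom (h'.residueFieldMap u').hom
  have r := trdeg_comp (h.residueFieldMap (a u')).hom (a.residueFieldMap u').hom
  rw [zb, zero_add] at l
  rw [za, add_zero] at r
  exact r.symm.trans (e1.symm.trans l)

end Groth.Agent.H54.EtaleTrdeg
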