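import Groth.Prelude.Def_MoreMor

/-!
# Fibre integrals under open immersions
-/

universe u

open AlgebraicGeometry CategoryTheory Limits

namespace Groth.Agent.H54.FibreIntegral

/-- The separable degree of a ring map between fields. -/
noncomputable def sepDeg {K L : Type u} [Field K] [Field L] (φ : K →+* L) : ℕ :=
  letI := φ.toAlgebra
  Field.finSepDegree K L

lemma sepDeg_comp_bijective {K L M : Type u} [Field K] [Field L] [Field M] (φ : K →+* L)
    (ψ : L →+* M) (h : Function.Bijective ψ) : sepDeg (ψ.comp φ) = sepDeg φ := by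
  let := φ.toAlgebra
  let : Algebra K M := (ψ.comp φ).toAlgebra
  exact (Field.finSepDegree_eq_of_equiv K L M
    (AlgEquiv.ofBijective ({ ψ with commutes' := fun _ => rfl } : L →ₐ[K] M) h)).symm

lemma fibreIntegral_eq {U V : Scheme.{u}} (π : U ⟶ V) (w : U → ℤ) (v : V) :
    MoreMor.fibreIntegral π w v =
      ∑ᶠ u : {u : U // π u = v}, w u.1 * (sepDeg (π.residueFieldMap u.1).hom : ℤ) := rfl

lemma fibreIntegral_congr {U V : Scheme.{u}} {π π' : U ⟶ V} (h : π = π') (w : U → ℤ) (v : V) :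
    MoreMor.fibreIntegral π w v = MoreMor.fibreIntegral π' w v := by subst h; rfl

lemma fibreIntegral_comp_iso {U U' V : Scheme.{u}} (e : U' ⟶ U) [IsIso e] (π : U ⟶ V)
    (w : U → ℤ) (v : V) :
    MoreMor.fibreIntegral (e ≫ π) (fun u => w (e u)) v = MoreMor.fibreIntegral π w v := by
  rw [fibreIntegral_eq, fibreIntegral_eq]
  let φ : {u : U' // (e ≫ π) u = v} ≃ {u : U // π u = v} :=
    Equiv.subtypeEquiv e.homeomorph.toEquiv fun u => by
      simp only [Homeomorph.coe_toEquiv, Scheme.Hom.homeomorph_apply, Scheme.Hom.comp_apply]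
  refine finsum_eq_of_bijective φ φ.bijective fun u => ?_
  have h1 : (e ≫ π).residueFieldMap u.1 = π.residueFieldMap (e u.1) ≫ e.residueFieldMap u.1 :=
    Scheme.residueFieldMap_comp e π u.1
  exact congrArg (fun n : ℕ => w (e u.1) * (n : ℤ))
    ((congrArg (fun ρ : V.residueField ((e ≫ π) u.1) ⟶ U'.residueField u.1 => sepDeg ρ.hom) h1).trans
      (sepDeg_comp_bijective (π.residueFieldMap (e u.1)).hom (e.residueFieldMap u.1).hom
        (ConcreteCategory.bijective_of_isIso _)))

lemma isWeighting_restrict {X Y : Scheme.{u}} (f : X ⟶ Y) (w : X → ℤ)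
    (hw : MoreMor.IsWeighting f w) (X' : X.Opens) :
    MoreMor.IsWeighting (X'.ι ≫ f) (fun x => w (X'.ι x)) := by
  intro V g _ U hU
  let j : pullback (X'.ι ≫ f) g ⟶ pullback f g :=
    pullback.map _ _ _ _ X'.ι (𝟙 V) (𝟙 Y) (by simp) (by simp)
  have hj₁ : j ≫ pullback.fst f g = pullback.fst (X'.ι ≫ f) g ≫ X'.ι := pullback.lift_fst _ _ _
  have hj₂ : j ≫ pullback.snd f g = pullback.snd (X'.ι ≫ f) g :=
    (pullback.lift_snd _ _ _).trans (Category.comp_id _)
  have hj : IsPullback j (pullback.fst (X'.ι ≫ f) g) (pullback.fst f g) X'.ι :=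
    IsPullback.of_right (hj₂.symm ▸ (IsPullback.of_hasPullback (X'.ι ≫ f) g).flip) hj₁
      (IsPullback.of_hasPullback f g).flip
  have : IsOpenImmersion j := MorphismProperty.of_isPullback hj.flip (inferInstanceAs (IsOpenImmersion X'.ι))
  let W : (pullback f g).Opens := (U.ι ≫ j).opensRange
  let e : (U : Scheme.{u}) ≅ (W : Scheme.{u}) := (U.ι ≫ j).isoOpensRange
  have he : e.hom ≫ W.ι = U.ι ≫ j := Scheme.Hom.isoOpensRange_hom_ι _
  have hsnd : e.hom ≫ (W.ι ≫ pullback.snd f g) = U.ι ≫ pullback.snd (X'.ι ≫ f) g := by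
    rw [reassoc_of% he, hj₂]
  have hfin : IsFinite (W.ι ≫ pullback.snd f g) :=
    (MorphismProperty.cancel_left_of_respectsIso @IsFinite e.hom _).mp (hsnd ▸ hU)
  have hlc := hw V g W hfin
  have hfst : ∀ u : (U : Scheme.{u}), w (X'.ι (pullback.fst (X'.ι ≫ f) g (U.ι u))) =
      w (pullback.fst f g (W.ι (e.hom u))) := by
    intro u
    congr 1
    have h2 : U.ι ≫ pullback.fst (X'.ι ≫ f) g ≫ X'.ι = e.hom ≫ W.ι ≫ pullback.fst f g := by
      rw [reassoc_of% he, hj₁]
    exact congrArg (fun k => k.base u) h2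
  convert hlc using 1
  funext v
  rw [show (fun u => (fun x => w (X'.ι x)) (pullback.fst (X'.ι ≫ f) g (U.ι u))) =
      fun u => (fun u' => w (pullback.fst f g (W.ι u'))) (e.hom u) from funext hfst,
    fibreIntegral_congr hsnd.symm]
  exact fibreIntegral_comp_iso e.hom (W.ι ≫ pullback.snd f g) (fun u' => w (pullback.fst f g (W.ι u'))) v

end Groth.Agent.H54.FibreIntegral
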