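import Groth.Agent.H54.FibreIntegral
import Mathlib.AlgebraicGeometry.Morphisms.QuasiFinite
import Mathlib.FieldTheory.IsAlgClosed.AlgebraicClosure

/-!
# Fibre integrals as sums over geometric lifts
-/

universe u

open AlgebraicGeometry CategoryTheory Limits

namespace Groth.Agent.H54.GeomLift

variable {U V U' V' W : Scheme.{u}} {k : Type u} [Field k]

/-- The image of a field-valued point. -/
noncomputable abbrev pt (s : Spec (CommRingCat.of k) ⟶ U) : U := s (IsLocalRing.closedPoint k)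

/-- The lifts of a field-valued point along a morphism. -/
def Lift (π : U ⟶ V) (ξ : Spec (CommRingCat.of k) ⟶ V) : Type u :=
  {s : Spec (CommRingCat.of k) ⟶ U // s ≫ π = ξ}

lemma pt_comp (s : Spec (CommRingCat.of k) ⟶ U) (π : U ⟶ V) : pt (s ≫ π) = π (pt s) := rfl

lemma apply_pt {π : U ⟶ V} {ξ : Spec (CommRingCat.of k) ⟶ V} (s : Lift π ξ) :
    π (pt s.1) = pt ξ := congrArg pt s.2

lemma pt_specMap_fromSpecResidueField {u : U} (e : U.residueField u ⟶ CommRingCat.of k) :
    pt (Spec.map e ≫ U.fromSpecResidueField u) = u := by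
  rw [pt, Scheme.Hom.comp_apply, Scheme.fromSpecResidueField_apply]

lemma exists_of_pt (s : Spec (CommRingCat.of k) ⟶ U) :
    ∃ e : U.residueField (pt s) ⟶ CommRingCat.of k,
      s = Spec.map e ≫ U.fromSpecResidueField (pt s) :=
  ⟨_, (Scheme.descResidueField_stalkClosedPointTo_fromSpecResidueField k U s).symm⟩

/-- Every point underlies a geometric point. -/
lemma exists_pt_eq (v : V) : ∃ (K : Type u) (_ : Field K) (_ : IsAlgClosed K)
    (ξ : Spec (CommRingCat.of K) ⟶ V), pt ξ = v :=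
  ⟨AlgebraicClosure (V.residueField v), inferInstance, inferInstance,
    Spec.map (CommRingCat.ofHom (algebraMap (V.residueField v) (AlgebraicClosure (V.residueField v)))) ≫
      V.fromSpecResidueField v, pt_specMap_fromSpecResidueField _⟩

lemma residueFieldMap_finite (π : U ⟶ V) [LocallyQuasiFinite π] (u : U) :
    (π.residueFieldMap u).hom.Finite := by
  have h1 : LocallyQuasiFinite (Spec.map (π.residueFieldMap u) ≫ V.fromSpecResidueField (π u)) := by
    rw [Scheme.Hom.SpecMap_residueFieldMap_fromSpecResidueField]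
    infer_instance
  have h2 : LocallyQuasiFinite (Spec.map (π.residueFieldMap u)) :=
    LocallyQuasiFinite.of_comp _ (V.fromSpecResidueField (π u))
  have h3 : (π.residueFieldMap u).hom.QuasiFinite :=
    (HasRingHomProperty.Spec_iff (P := @LocallyQuasiFinite)).mp h2
  algebraize [(π.residueFieldMap u).hom]
  exact Module.Finite.of_quasiFinite

section Fibre

variable (π : U ⟶ V) (ξ : Spec (CommRingCat.of k) ⟶ V)

lemma card_pt_eq [IsAlgClosed k] [LocallyQuasiFinite π] (u : U) (hu : π u = pt ξ) :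
    Finite {s : Lift π ξ // pt s.1 = u} ∧ 0 < Nat.card {s : Lift π ξ // pt s.1 = u} ∧
      Nat.card {s : Lift π ξ // pt s.1 = u} = FibreIntegral.sepDeg (π.residueFieldMap u).hom := by
  obtain ⟨η, hη⟩ : ∃ η : V.residueField (π u) ⟶ CommRingCat.of k,
      ξ = Spec.map η ≫ V.fromSpecResidueField (π u) := by
    rw [hu]; exact exists_of_pt ξ
  subst hη
  have hfin := residueFieldMap_finite π u
  let := (π.residueFieldMap u).hom.toAlgebra
  let := η.hom.toAlgebra
  have : Module.Finite (V.residueField (π u)) (U.residueField u) := hfin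
  have key : ∀ e : U.residueField u ⟶ CommRingCat.of k,
      (Spec.map e ≫ U.fromSpecResidueField u) ≫ π =
        Spec.map (π.residueFieldMap u ≫ e) ≫ V.fromSpecResidueField (π u) := fun e => by
    rw [Spec.map_comp, Category.assoc, Category.assoc,
      Scheme.Hom.SpecMap_residueFieldMap_fromSpecResidueField]
  let F : (U.residueField u →ₐ[V.residueField (π u)] k) →
      {s : Lift π (Spec.map η ≫ V.fromSpecResidueField (π u)) // pt s.1 = u} := fun σ =>
    ⟨⟨Spec.map (CommRingCat.ofHom σ.toRingHom) ≫ U.fromSpecResidueField u, by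
      rw [key]
      congr 2
      exact CommRingCat.hom_ext σ.comp_algebraMap⟩, pt_specMap_fromSpecResidueField _⟩
  have hF : Function.Bijective F := by
    refine ⟨fun σ τ h => ?_, fun s => ?_⟩
    · have h1 : Spec.map (CommRingCat.ofHom σ.toRingHom) = Spec.map (CommRingCat.ofHom τ.toRingHom) :=
        (cancel_mono (U.fromSpecResidueField u)).mp (congrArg (fun a => a.1.1) h)
      rw [Spec.map_inj] at h1
      exact AlgHom.ext fun x => congr($h1 x)
    · obtain ⟨⟨s, hs⟩, hsu⟩ := s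
      obtain ⟨e, he⟩ : ∃ e : U.residueField u ⟶ CommRingCat.of k,
          s = Spec.map e ≫ U.fromSpecResidueField u := by
        rw [← show pt s = u from hsu]
        exact exists_of_pt s
      have h1 : π.residueFieldMap u ≫ e = η := by
        have h2 := hs
        rw [he, key] at h2
        exact Spec.map_injective ((cancel_mono (V.fromSpecResidueField (π u))).mp h2)
      refine ⟨⟨e.hom, fun r => congr($h1 r)⟩, Subtype.ext (Subtype.ext ?_)⟩
      exact he.symm
  rw [← Nat.card_congr (Equiv.ofBijective F hF)]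
  have h2 := Field.finSepDegree_eq_of_isAlgClosed (V.residueField (π u)) (U.residueField u) k
  refine ⟨Finite.of_equiv _ (Equiv.ofBijective F hF), ?_, h2.symm⟩
  rw [← h2]
  exact Nat.pos_of_ne_zero (NeZero.ne _)

variable [IsAlgClosed k] [LocallyQuasiFinite π]

lemma exists_lift (u : U) (hu : π u = pt ξ) : ∃ s : Lift π ξ, pt s.1 = u := by
  obtain ⟨-, h, -⟩ := card_pt_eq π ξ u hu
  obtain ⟨s⟩ := (Nat.card_pos_iff.mp h).1
  exact ⟨s.1, s.2⟩

lemma finite_fibre [Finite (Lift π ξ)] : (π ⁻¹' {pt ξ}).Finite := by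
  refine (Set.finite_range fun s : Lift π ξ => pt s.1).subset fun u hu => ?_
  exact exists_lift π ξ u hu

lemma finite_lift (h : (π ⁻¹' {pt ξ}).Finite) : Finite (Lift π ξ) := by
  have : Finite {u : U // π u = pt ξ} := h.to_subtype
  have : ∀ u : {u : U // π u = pt ξ}, Finite {s : Lift π ξ // pt s.1 = u.1} := fun u =>
    (card_pt_eq π ξ u.1 u.2).1
  exact Finite.of_surjective (fun p : Σ u : {u : U // π u = pt ξ}, {s : Lift π ξ // pt s.1 = u.1} => p.2.1)
    fun s => ⟨⟨⟨pt s.1, apply_pt s⟩, ⟨s, rfl⟩⟩, rfl⟩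

lemma fibreIntegral_eq_sum [Finite (Lift π ξ)] (w : U → ℤ) :
    MoreMor.fibreIntegral π w (pt ξ) = ∑ᶠ s : Lift π ξ, w (pt s.1) := by
  classical
  have : Finite {u : U // π u = pt ξ} := (finite_fibre π ξ).to_subtype
  let := Fintype.ofFinite {u : U // π u = pt ξ}
  let := Fintype.ofFinite (Lift π ξ)
  rw [FibreIntegral.fibreIntegral_eq, finsum_eq_sum_of_fintype, finsum_eq_sum_of_fintype,
    ← Finset.sum_fiberwise Finset.univ (fun s : Lift π ξ => (⟨pt s.1, apply_pt s⟩ : {u : U // π u = pt ξ}))]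
  refine Finset.sum_congr rfl fun u _ => ?_
  rw [← (card_pt_eq π ξ u.1 u.2).2.2]
  have hcard : Nat.card {s : Lift π ξ // pt s.1 = u.1} =
      (Finset.univ.filter fun s : Lift π ξ => (⟨pt s.1, apply_pt s⟩ : {u : U // π u = pt ξ}) = u).card := by
    rw [Nat.card_eq_fintype_card, Fintype.card_subtype]
    congr 1
    ext s
    simp [Subtype.ext_iff]
  rw [hcard, Finset.sum_congr rfl (g := fun _ => w u.1)
    (fun s hs => by rw [← congrArg Subtype.val (Finset.mem_filter.mp hs).2]),
    Finset.sum_const, nsmul_eq_mul]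
  exact mul_comm _ _

lemma fibreIntegral_nonneg_single [Finite (Lift π ξ)] (w : U → ℤ) (hw : ∀ u, 0 ≤ w u)
    (s : Lift π ξ) : w (pt s.1) ≤ MoreMor.fibreIntegral π w (pt ξ) := by
  classical
  let := Fintype.ofFinite (Lift π ξ)
  rw [fibreIntegral_eq_sum, finsum_eq_sum_of_fintype]
  exact Finset.single_le_sum (f := fun s : Lift π ξ => w (pt s.1)) (fun i _ => hw _) (Finset.mem_univ s)

end Fibre

/-- Lifts along a base change. -/
noncomputable def baseChangeEquiv {π : U ⟶ V} {π' : U' ⟶ V'} {h : U' ⟶ U} {g : V' ⟶ V}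
    (hc : IsPullback h π' π g) (ξ : Spec (CommRingCat.of k) ⟶ V') :
    Lift π' ξ ≃ Lift π (ξ ≫ g) where
  toFun s := ⟨s.1 ≫ h, by rw [Category.assoc, hc.w, reassoc_of% s.2]⟩
  invFun t := ⟨hc.lift t.1 ξ t.2, hc.lift_snd _ _ _⟩
  left_inv s := Subtype.ext (hc.hom_ext (hc.lift_fst _ _ _) ((hc.lift_snd _ _ _).trans s.2.symm))
  right_inv t := Subtype.ext (hc.lift_fst _ _ _)

/-- Lifts along a composition. -/
noncomputable def compEquiv (a : U ⟶ W) (b : W ⟶ V) (ξ : Spec (CommRingCat.of k) ⟶ V) :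
    Lift (a ≫ b) ξ ≃ Σ t : Lift b ξ, Lift a t.1 where
  toFun s := ⟨⟨s.1 ≫ a, by rw [Category.assoc, s.2]⟩, ⟨s.1, rfl⟩⟩
  invFun p := ⟨p.2.1, by rw [reassoc_of% p.2.2, p.1.2]⟩
  left_inv s := rfl
  right_inv p := by
    obtain ⟨⟨t, ht⟩, ⟨s, hs⟩⟩ := p
    revert hs
    show ∀ hs : s ≫ a = t, _
    intro hs
    subst hs
    rfl

lemma finite_fibre_of_isPullback {π : U ⟶ V} [LocallyQuasiFinite π] {π' : U' ⟶ V'} {h : U' ⟶ U}
    {g : V' ⟶ V} (hc : IsPullback h π' π g) (v' : V') (hfin : (π ⁻¹' {g v'}).Finite) :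
    (π' ⁻¹' {v'}).Finite := by
  have : LocallyQuasiFinite π' := MorphismProperty.of_isPullback hc ‹_›
  obtain ⟨K, _, _, ξ, rfl⟩ := exists_pt_eq v'
  have := finite_lift π (ξ ≫ g) hfin
  have := Finite.of_equiv _ (baseChangeEquiv hc ξ).symm
  exact finite_fibre π' ξ

/-- Fibre integrals commute with base change. -/
lemma fibreIntegral_baseChange {π : U ⟶ V} [LocallyQuasiFinite π] {π' : U' ⟶ V'} {h : U' ⟶ U}
    {g : V' ⟶ V} (hc : IsPullback h π' π g) (w : U → ℤ) (v' : V') (hfin : (π ⁻¹' {g v'}).Finite) :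
    MoreMor.fibreIntegral π' (w ∘ h) v' = MoreMor.fibreIntegral π w (g v') := by
  have : LocallyQuasiFinite π' := MorphismProperty.of_isPullback hc ‹_›
  obtain ⟨K, _, _, ξ, rfl⟩ := exists_pt_eq v'
  have := finite_lift π (ξ ≫ g) hfin
  have := Finite.of_equiv _ (baseChangeEquiv hc ξ).symm
  rw [fibreIntegral_eq_sum π' ξ, ← pt_comp ξ g, fibreIntegral_eq_sum π (ξ ≫ g)]
  exact finsum_eq_of_bijective _ (baseChangeEquiv hc ξ).bijective fun s => rfl

end Groth.Agent.H54.GeomLift
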