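import Groth.Agent.H54.LevelSets
import Groth.Agent.H54.WeightingOpen
import Mathlib.AlgebraicGeometry.Morphisms.QuasiSeparated

/-!
# Level sets of fibre integrals of weightings
-/

universe u

open AlgebraicGeometry CategoryTheory Limits Topology

namespace Groth.Agent.H54.IntegralLevelSets

open GeomLift Weighting

variable {X Y : Scheme.{u}} {f : X ⟶ Y} [LocallyQuasiFinite f] [LocallyOfFinitePresentation f]
  [QuasiCompact f] [QuasiSeparated f] {w : X → ℤ}

theorem exists_constructible_eq [IsAffine Y] (hw : MoreMor.IsWeighting f w) (y : Y) :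
    ∃ C : Set Y, IsConstructible C ∧ y ∈ C ∧
      ∀ z ∈ C, MoreMor.fibreIntegral f w z = MoreMor.fibreIntegral f w y := by
  classical
  obtain ⟨K, _, _, ξ, rfl⟩ := exists_pt_eq y
  have := finite_lift f ξ (f.finite_preimage_singleton _)
  let := Fintype.ofFinite (Lift f ξ)
  let D : ∀ s : Lift f ξ, Datum f s.1 := fun s => (nonempty_datum f _).some
  obtain ⟨W', φ', hφ', η', c', hη', hca', hcη'⟩ := exists_common (𝟙 Y) ξ (fun s => (D s).V)
    (fun s => (D s).a) (fun s => (D s).η) (fun s => by rw [(D s).hη, s.2, Category.comp_id])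
  obtain ⟨_, ⟨(W₀ : W'.Opens), (hW₀ : IsAffineOpen W₀), rfl⟩, hηW₀, -⟩ :=
    W'.isBasis_affineOpens.exists_subset_of_mem_open (Set.mem_univ (pt η')) isOpen_univ
  have : IsAffine W₀.toScheme := hW₀
  let η : Spec (CommRingCat.of K) ⟶ W₀.toScheme :=
    IsOpenImmersion.lift W₀.ι η' (range_subset_of_pt_mem _ _ (by rw [Scheme.Opens.range_ι]; exact hηW₀))
  have hηι : η ≫ W₀.ι = η' := IsOpenImmersion.lift_fac _ _ _
  let φ := W₀.ι ≫ φ'
  have hη : η ≫ φ = ξ := by rw [reassoc_of% hηι, hη']
  let c := fun s => W₀.ι ≫ c' s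
  have hca : ∀ s, c s ≫ (D s).a = φ := fun s => by rw [Category.assoc, hca', Category.comp_id]
  have hcη : ∀ s, η ≫ c s = (D s).η := fun s => by rw [reassoc_of% hηι, hcη']
  let π := pullback.snd f φ
  let σ : Lift f ξ → (Spec (CommRingCat.of K) ⟶ pullback f φ) := fun s =>
    pullback.lift s.1 η (by rw [s.2, hη])
  have hσ1 : ∀ s, σ s ≫ π = η := fun s => pullback.lift_snd _ _ _
  have hσ2 : ∀ s, σ s ≫ pullback.fst f φ = s.1 := fun s => pullback.lift_fst _ _ _
  let i := fun s => (D s).piece φ (c s) (hca s)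
  have hinj : Function.Injective σ := fun s s' h => Subtype.ext (by rw [← hσ2, h, hσ2])
  have huniq : ∀ s q, q ≫ π = η → pt q ∈ Set.range (i s) → q = σ s := fun s q hq hm =>
    pullback.hom_ext (by rw [(D s).uniq_piece _ _ _ (hcη s) q hq hm, hσ2]) (hq.trans (hσ1 s).symm)
  have hmem : ∀ s, pt (σ s) ∈ Set.range (i s) := fun s =>
    (D s).mem_range_piece _ _ _ (hcη s) _ (hσ2 s) (hσ1 s)
  let T : Scheme.{u} := pullback f φ
  have : CompactSpace T := (quasiCompact_iff_compactSpace π).mp inferInstance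
  have : QuasiSeparatedSpace T := quasiSeparatedSpace_of_quasiSeparated π
  have : SpectralSpace T := { }
  have := LevelSets.spectralSpace_of_isAffine W₀.toScheme
  have hclop : ∀ s, @IsClopen T (constructibleTopology T) (Set.range (i s)) := fun s => by
    refine Lib.Spectral.Basic.isClopen_cons (i s).isOpenEmbedding.isOpen_range ?_
    have : CompactSpace ↥(pullback (D s).j ((D s).toT φ (c s) (hca s))) :=
      (quasiCompact_iff_compactSpace (i s ≫ π)).mp inferInstance
    exact isCompact_range (i s).continuous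
  let bad : Set T := (⋃ s, Set.range (i s))ᶜ ∪
    ⋃ s, ⋃ s' : {s' // s' ≠ s}, Set.range (i s) ∩ Set.range (i s'.1)
  have hbad : IsClosed[constructibleTopology T] bad := by
    refine @IsClosed.union T _ _ (constructibleTopology T) ?_ (@isClosed_iUnion_of_finite T _ (constructibleTopology T) _ _ fun s =>
      @isClosed_iUnion_of_finite T _ (constructibleTopology T) _ _ fun s' =>
        @IsClosed.inter T _ _ (constructibleTopology T) (hclop s).1 (hclop s'.1).1)
    exact (@isClosed_compl_iff T (constructibleTopology T) _).mpr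
      (@isOpen_iUnion T _ (constructibleTopology T) _ fun s => (hclop s).2)
  let G₁ : Set W₀.toScheme := (π '' bad)ᶜ
  have hG₁ : IsOpen[constructibleTopology W₀.toScheme] G₁ :=
    (@isOpen_compl_iff _ _ (constructibleTopology _)).mpr
      (Lib.Spectral.Basic.isClosed_cons_image (quasiCompact_iff_isSpectralMap.mp inferInstance) hbad)
  let F := fun s => MoreMor.fibreIntegral (i s ≫ π) (fun p => w (pullback.fst f φ (i s p)))
  let G : Set W₀.toScheme := G₁ ∩ ⋂ s, {v | F s v = F s (pt η)}
  have hG : IsOpen[constructibleTopology W₀.toScheme] G :=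
    @IsOpen.inter _ (constructibleTopology _) _ _ hG₁ (Lib.Spectral.Basic.isOpen_cons_of_isOpen
      (isOpen_iInter_of_finite fun s =>
        ((D s).isLocallyConstant_piece φ (c s) (hca s) hw).isOpen_fiber (F s (pt η))))
  have hηG : pt η ∈ G := by
    refine ⟨fun ⟨t, ht, htη⟩ => ?_, Set.mem_iInter.mpr fun s => rfl⟩
    obtain ⟨q, rfl⟩ := exists_lift π η t htη
    rcases ht with ht | ht
    · refine ht (Set.mem_iUnion.mpr ⟨⟨q.1 ≫ pullback.fst f φ, ?_⟩, ?_⟩)
      · rw [Category.assoc, pullback.condition, reassoc_of% q.2, hη]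
      · have : q.1 = σ ⟨q.1 ≫ pullback.fst f φ, by rw [Category.assoc, pullback.condition, reassoc_of% q.2, hη]⟩ :=
          pullback.hom_ext (hσ2 ⟨q.1 ≫ pullback.fst f φ, _⟩).symm (q.2.trans (hσ1 _).symm)
        exact Set.mem_of_eq_of_mem (congrArg pt this) (hmem _)
    · obtain ⟨s, hs⟩ := Set.mem_iUnion.mp ht
      obtain ⟨s', hs1, hs2⟩ := Set.mem_iUnion.mp hs
      exact s'.2 (hinj ((huniq _ _ q.2 hs2).symm.trans (huniq _ _ q.2 hs1)))
  have hsum : ∀ v ∈ G, MoreMor.fibreIntegral f w (φ v) = ∑ s, F s (pt η) := by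
    rintro v ⟨hv1, hv2⟩
    rw [← fibreIntegral_baseChange (IsPullback.of_hasPullback f φ) w v (f.finite_preimage_singleton _),
      ← Finset.sum_congr rfl fun s _ => (Set.mem_iInter.mp hv2 s : F s v = F s (pt η))]
    rw [Finset.sum_congr rfl fun s _ => fibreIntegral_openImmersion (i s) π (fun t => w (pullback.fst f φ t)) v]
    rw [← fibreIntegral_finset_sum π Finset.univ
      (fun s => (Set.range (i s)).indicator fun t => w (pullback.fst f φ t)) v fun s _ =>
        (π.finite_preimage_singleton v).subset fun t ht => ht.1]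
    refine fibreIntegral_congr_on π v fun t ht => ?_
    by_cases h : t ∈ ⋃ s, Set.range (i s)
    · obtain ⟨s, hs⟩ := Set.mem_iUnion.mp h
      rw [Finset.sum_eq_single s (fun s' _ hne => Set.indicator_of_notMem (fun hm => hv1 ⟨t, Or.inr
          (Set.mem_iUnion.mpr ⟨s, Set.mem_iUnion.mpr ⟨⟨s', hne⟩, hs, hm⟩⟩), ht⟩) _)
        (fun hs' => (hs' (Finset.mem_univ s)).elim), Set.indicator_of_mem hs]
      rfl
    · exact (hv1 ⟨t, Or.inl h, ht⟩).elim
  obtain ⟨C, hC, hηC, hCG⟩ := Lib.Spectral.Basic.exists_isConstructible_subset hG hηG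
  refine ⟨φ '' C, φ.isConstructible_image hC, ⟨pt η, hηC, congrArg pt hη⟩, ?_⟩
  rintro _ ⟨v, hv, rfl⟩
  rw [hsum v (hCG hv), ← hsum _ (hCG hηC)]
  exact congrArg (MoreMor.fibreIntegral f w) (congrArg pt hη)

theorem isConstructible_levelSet [IsAffine Y] (hw : MoreMor.IsWeighting f w) (n : ℤ) :
    IsConstructible {y : Y | MoreMor.fibreIntegral f w y = n} := by
  have := LevelSets.spectralSpace_of_isAffine Y
  have key : ∀ m, IsOpen[constructibleTopology Y] {y : Y | MoreMor.fibreIntegral f w y = m} := fun m => by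
    refine (@isOpen_iff_forall_mem_open Y (constructibleTopology _) _).mpr fun y hy => ?_
    obtain ⟨C, hC, hyC, hCw⟩ := exists_constructible_eq hw y
    exact ⟨C, fun z hz => (hCw z hz).trans hy, (Lib.Spectral.Basic.isClopen_cons_of_isConstructible hC).2, hyC⟩
  refine Lib.Spectral.Basic.isConstructible_iff_isClopen_cons.mpr
    ⟨(@isOpen_compl_iff Y _ (constructibleTopology _)).mp ?_, key n⟩
  rw [show {y : Y | MoreMor.fibreIntegral f w y = n}ᶜ =
    ⋃ m : {m : ℤ // m ≠ n}, {y : Y | MoreMor.fibreIntegral f w y = m.1} by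
      ext z
      simp only [Set.mem_compl_iff, Set.mem_iUnion, Set.mem_ofPred_eq]
      exact ⟨fun h => ⟨⟨_, h⟩, rfl⟩, fun ⟨m, hm⟩ h => m.2 (hm.symm.trans h)⟩]
  exact @isOpen_iUnion _ _ (constructibleTopology _) _ fun m => key m.1

theorem isLocallyConstructible_levelSet (hw : MoreMor.IsWeighting f w) (n : ℤ) :
    IsLocallyConstructible {y : Y | MoreMor.fibreIntegral f w y = n} := by
  refine IsLocallyConstructible.of_isOpenCover (U := fun U : Y.affineOpens => U.1) ?_ ?_
  · rw [TopologicalSpace.IsOpenCover, ← top_le_iff]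
    intro x _
    obtain ⟨_, ⟨U, hU, rfl⟩, hxU, -⟩ := Y.isBasis_affineOpens.exists_subset_of_mem_open
      (Set.mem_univ x) isOpen_univ
    exact TopologicalSpace.Opens.mem_iSup.mpr ⟨⟨U, hU⟩, hxU⟩
  · intro U
    have : IsAffine U.1.toScheme := U.2
    have hc := (isPullback_morphismRestrict f U.1).flip
    have hw' := isWeighting_baseChange hw hc
    have h := (isConstructible_levelSet (f := f ∣_ U.1) hw' n).isLocallyConstructible
    have e : {v : U.1.toScheme | MoreMor.fibreIntegral (f ∣_ U.1) (w ∘ (f ⁻¹ᵁ U.1).ι) v = n} =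
        U.1.ι ⁻¹' {y : Y | MoreMor.fibreIntegral f w y = n} := by
      ext v
      rw [Set.mem_preimage, Set.mem_ofPred_eq, Set.mem_ofPred_eq,
        fibreIntegral_baseChange hc w v (f.finite_preimage_singleton _)]
    exact e ▸ h

end Groth.Agent.H54.IntegralLevelSets
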