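import Groth.Prelude.Def_LCI2
import Groth.Prelude.Def_DRing2
import Groth.Agent.Lib.Wiebe.Bridge
import Groth.Agent.Lib.Wiebe.AcycRegular
import Mathlib.RingTheory.Extension.Cotangent.Basic
import Mathlib.RingTheory.LocalProperties.FinitePresentation
import Mathlib.RingTheory.LocalProperties.Projective
import Mathlib.RingTheory.Flat.Localization
import Mathlib.Algebra.Homology.Double
import Mathlib.Algebra.Homology.HomotopyCategory
import Mathlib.Algebra.Category.ModuleCat.Abelian

/-!
# The naive cotangent complex of a local complete intersection map is perfect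
-/

universe u

open CategoryTheory CategoryTheory.Limits

attribute [local instance] HasDerivedCategory.standard

namespace Groth.Agent.H54.NLPerfect

section Cube

open Groth.Agent.Lib.TorObstruction.Cube Groth.Agent.Lib.Wiebe.Exterior Groth.Agent.Lib.Wiebe.Link
open Groth.Agent.Lib.Wiebe.AcycRegular

variable {Q : Type u} [CommRing Q]

/-- A vector as a cube function supported in weight one. -/
def wone : ∀ {m : ℕ}, (Fin m → Q) → V Q m
  | 0, _ => 0
  | m + 1, a => pair (wone (Fin.tail a)) (a 0 • delta Q m)

lemma wone_apply_O : ∀ {m : ℕ} (a : Fin m → Q), wone a (O m) = 0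
  | 0, _ => rfl
  | m + 1, a => by
    refine (apply_O_succ _).trans ?_
    rw [wone, face_pair_false]
    exact wone_apply_O (Fin.tail a)

lemma opI_wone : ∀ {m : ℕ} (f a : Fin m → Q), opI f (wone a) = (∑ i, a i * f i) • delta Q m
  | 0, _, _ => by simp [wone]
  | m + 1, f, a => by
    refine ext_face ?_ ?_
    · rw [face_opI_false, wone, face_pair_false, face_pair_true, opI_wone (Fin.tail f) (Fin.tail a),
        map_smul, face_delta_false, smul_smul, ← add_smul, Fin.sum_univ_succ, mul_comm (f 0), add_comm]
      rfl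
    · rw [face_opI_true, wone, face_pair_true, map_smul, opI_delta, smul_zero, neg_zero, map_smul,
        face_delta_true, smul_zero]

lemma exists_apply_wone : ∀ {m : ℕ} (a : Fin m → Q) (i : Fin m), ∃ b, wone a b = a i
  | 0, _, i => i.elim0
  | m + 1, a, i => by
    induction i using Fin.cases with
    | zero =>
      refine ⟨Fin.cons true (O m), ?_⟩
      show face true (wone a) (O m) = a 0
      rw [wone, face_pair_true, Pi.smul_apply, show delta Q m (O m) = 1 from if_pos rfl, smul_eq_mul,
        mul_one]
    | succ i =>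
      obtain ⟨b, hb⟩ := exists_apply_wone (Fin.tail a) i
      refine ⟨Fin.cons false b, ?_⟩
      show face false (wone a) b = a i.succ
      rw [wone, face_pair_false, hb]
      rfl

/-- Relations between the members of a Koszul-regular sequence have coefficients in its ideal. -/
theorem mem_span_of_relation {n : ℕ} (f : Fin n → Q) (hf : LCI.IsKoszulRegularSeq Q (List.ofFn f))
    {a : Fin n → Q} (ha : ∑ i, a i * f i = 0) (i : Fin n) : a i ∈ Ideal.span (Set.range f) := by
  obtain ⟨w, hw⟩ := Groth.Agent.Lib.Wiebe.Bridge.acyc_of_isKoszulRegularSeq f hf (wone a)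
    (by rw [opI_wone, ha, zero_smul]) (wone_apply_O a)
  obtain ⟨b, hb⟩ := exists_apply_wone a i
  rw [← hb, ← hw]
  exact opI_mem _ _ _

end Cube

section Conormal

variable {R S : Type u} [CommRing R] [CommRing S] [Algebra R S] (P : Algebra.Extension.{u} R S)

open Algebra

/-- Local conormal bases: a map from a free module which is bijective after inverting `t`. -/
theorem exists_basis_away (g : P.Ring) {L : Type u} [CommRing L] [Algebra P.Ring L]
    [IsLocalization.Away g L] (l : List L) (hl : LCI.IsKoszulRegularSeq L l)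
    (hgen : P.ker.map (algebraMap P.Ring L) = Ideal.ofList l) :
    ∃ (r : ℕ) (φ : (Fin r → S) →ₗ[S] P.Cotangent),
      (∀ v, φ v = 0 → ∃ k : ℕ, (algebraMap P.Ring S g) ^ k • v = 0) ∧
      ∀ x, ∃ (k : ℕ) (v : Fin r → S), φ v = (algebraMap P.Ring S g) ^ k • x := by
  classical
  let f : Fin l.length → L := l.get
  have hlf : List.ofFn f = l := List.ofFn_get l
  have hfspan : Ideal.span (Set.range f) = Ideal.ofList l := by
    rw [Ideal.ofList]
    congr 1
    ext x
    simp [f, List.mem_iff_get]
  let J : Ideal L := P.ker.map (algebraMap P.Ring L)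
  have hJ : J = Ideal.span (Set.range f) := by rw [hfspan]; exact hgen
  have hh : ∀ i, ∃ (x : P.ker) (s : Submonoid.powers g),
      f i * algebraMap P.Ring L s = algebraMap P.Ring L x := fun i => by
    have : f i ∈ J := hJ ▸ Ideal.subset_span ⟨i, rfl⟩
    obtain ⟨⟨x, s⟩, hxs⟩ := (IsLocalization.mem_map_algebraMap_iff (Submonoid.powers g) L).mp this
    exact ⟨x, s, hxs⟩
  choose h s hs using hh
  let φ : (Fin l.length → S) →ₗ[S] P.Cotangent := Fintype.linearCombination S fun i => Extension.Cotangent.mk (h i)
  have hφ : ∀ p : Fin l.length → P.Ring,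
      φ (fun i => algebraMap P.Ring S (p i)) = Extension.Cotangent.mk (∑ i, p i • h i) := fun p => by
    simp only [φ, Fintype.linearCombination_apply, map_sum, map_smul, algebraMap_smul]
  refine ⟨_, φ, fun v hv => ?_, fun x => ?_⟩
  · choose p hp using fun i => P.algebraMap_surjective (v i)
    have hv' : Extension.Cotangent.mk (∑ i, p i • h i) = (0 : P.Cotangent) := by
      rw [← hφ]
      simpa [hp] using hv
    have hsq : (∑ i, p i * (h i : P.Ring)) ∈ P.ker ^ 2 := by
      have := congrArg Extension.Cotangent.val hv'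
      rw [Extension.Cotangent.val_mk, Extension.Cotangent.val_zero, Ideal.toCotangent_eq_zero] at this
      simpa using this
    have hJ2 : algebraMap P.Ring L (∑ i, p i * (h i : P.Ring)) ∈ J • Ideal.span (Set.range f) := by
      have := Ideal.mem_map_of_mem (algebraMap P.Ring L) hsq
      rw [Ideal.map_pow, pow_two] at this
      rwa [← hJ, smul_eq_mul]
    obtain ⟨c, hcJ, hc⟩ := (Submodule.mem_ideal_smul_span_iff_exists_sum J f _).mp hJ2
    have hrel : ∑ i, (algebraMap P.Ring L (p i * s i) - c i) * f i = 0 := by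
      rw [Finsupp.sum_fintype _ _ (by simp)] at hc
      simp only [smul_eq_mul] at hc
      simp only [sub_mul, Finset.sum_sub_distrib, hc, map_sum, map_mul]
      rw [sub_eq_zero]
      refine Finset.sum_congr rfl fun i _ => ?_
      rw [← hs i]; ring
    have hk : ∀ i, ∃ k : ℕ, g ^ k * p i ∈ P.ker := fun i => by
      have h1 := mem_span_of_relation f (hlf.symm ▸ hl) hrel i
      rw [← hJ] at h1
      have h2 : algebraMap P.Ring L (p i * s i) ∈ J := by simpa using add_mem h1 (hcJ i)
      rw [map_mul, Ideal.mul_unit_mem_iff_mem _ (IsLocalization.map_units L (s i)),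
        IsLocalization.algebraMap_mem_map_algebraMap_iff (Submonoid.powers g) L] at h2
      obtain ⟨_, ⟨k, rfl⟩, hk⟩ := h2
      exact ⟨k, hk⟩
    choose k hk using hk
    refine ⟨Finset.univ.sup k, funext fun i => ?_⟩
    obtain ⟨d, hd⟩ := Nat.exists_eq_add_of_le (Finset.le_sup (f := k) (Finset.mem_univ i))
    have : algebraMap P.Ring S (g ^ k i * p i) = 0 := hk i
    rw [Pi.smul_apply, Pi.zero_apply, smul_eq_mul, ← hp i, hd, pow_add, mul_comm (_ ^ k i), mul_assoc,
      ← map_pow _ g (k i), ← map_mul _ (g ^ k i), this, mul_zero]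
  · obtain ⟨x, rfl⟩ := Extension.Cotangent.mk_surjective x
    have hx : algebraMap P.Ring L x ∈ Ideal.span (Set.range (algebraMap P.Ring L ∘ fun i => (h i : P.Ring))) := by
      refine Ideal.span_le.mpr ?_ (hJ.le (Ideal.mem_map_of_mem _ x.2))
      rintro _ ⟨i, rfl⟩
      rw [SetLike.mem_coe, ← Ideal.mul_unit_mem_iff_mem _ (IsLocalization.map_units L (s i)), hs i]
      exact Ideal.subset_span ⟨i, rfl⟩
    rw [Set.range_comp, ← Ideal.map_span,
      IsLocalization.algebraMap_mem_map_algebraMap_iff (Submonoid.powers g) L] at hx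
    obtain ⟨_, ⟨k, rfl⟩, hk⟩ := hx
    obtain ⟨p, hp⟩ := Ideal.mem_span_range_iff_exists_fun.mp hk
    refine ⟨k, fun i => algebraMap P.Ring S (p i), ?_⟩
    rw [hφ, ← map_pow, algebraMap_smul, ← map_smul]
    congr 1
    ext
    simpa using hp

/-- The conormal module of a Koszul-regular presentation is finite projective. -/
theorem finite_projective_cotangent
    (hP : LCI.IsKoszulRegularIdeal P.ker) :
    Module.Finite S P.Cotangent ∧ Module.Projective S P.Cotangent := by
  classical
  let T : Set S := {t | ∃ g : P.Ring, algebraMap P.Ring S g = t ∧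
    ∃ l : List (Localization.Away g), LCI.IsKoszulRegularSeq (Localization.Away g) l ∧
      P.ker.map (algebraMap _ (Localization.Away g)) = Ideal.span {x | x ∈ l}}
  have hT : Ideal.span T = ⊤ := by
    by_contra hne
    obtain ⟨m, hm, hle⟩ := Ideal.exists_le_maximal _ hne
    obtain ⟨g, hg, hl⟩ := hP ⟨m.comap (algebraMap P.Ring S), Ideal.IsPrime.comap _⟩
      (Ideal.comap_mono bot_le)
    exact hg (hle (Ideal.subset_span ⟨g, rfl, hl⟩))
  have key : ∀ t : T, Module.FinitePresentation (Localization.Away t.1) (LocalizedModule.Away t.1 P.Cotangent) ∧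
      Module.Flat (Localization.Away t.1) (LocalizedModule.Away t.1 P.Cotangent) := by
    rintro ⟨_, g, rfl, l, hl, hgen⟩
    obtain ⟨r, φ, hinj, hsurj⟩ := exists_basis_away P g l hl hgen
    let M := Submonoid.powers (algebraMap P.Ring S g)
    let Φ := LocalizedModule.map M φ
    have hΦ : Function.Bijective Φ := by
      constructor
      · refine (injective_iff_map_eq_zero Φ).mpr fun z hz => ?_
        induction z using LocalizedModule.induction_on with
        | h v s =>
          rw [LocalizedModule.map_mk, ← LocalizedModule.zero_mk s, LocalizedModule.mk_eq] at hz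
          obtain ⟨⟨_, a, rfl⟩, hu⟩ := hz
          obtain ⟨_, b, rfl⟩ := s
          simp only [Submonoid.smul_def, smul_zero] at hu
          rw [← map_smul, ← map_smul] at hu
          obtain ⟨k, hk⟩ := hinj _ hu
          rw [← LocalizedModule.zero_mk 1, LocalizedModule.mk_eq]
          refine ⟨⟨_, k + a + b, rfl⟩, ?_⟩
          simp only [Submonoid.smul_def, smul_zero, OneMemClass.coe_one, one_smul]
          simp only [pow_add, mul_smul]
          exact hk
      · intro z
        induction z using LocalizedModule.induction_on with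
        | h x s =>
          obtain ⟨k, v, hv⟩ := hsurj x
          refine ⟨LocalizedModule.mk v (⟨_, k, rfl⟩ * s), ?_⟩
          rw [LocalizedModule.map_mk, hv, LocalizedModule.mk_eq]
          refine ⟨1, ?_⟩
          simp only [Submonoid.smul_def, Submonoid.coe_mul, OneMemClass.coe_one, one_smul, smul_smul]
          rw [mul_comm]
    let e := LinearEquiv.ofBijective Φ hΦ
    have : Module.Free (Localization M) (LocalizedModule M (Fin r → S)) :=
      Module.free_of_isLocalizedModule M (LocalizedModule.mkLinearMap M (Fin r → S))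
    have : Module.Finite (Localization M) (LocalizedModule M (Fin r → S)) :=
      Module.Finite.of_isLocalizedModule M (LocalizedModule.mkLinearMap M (Fin r → S))
    have : Module.FinitePresentation (Localization M) (LocalizedModule M (Fin r → S)) :=
      Module.finitePresentation_of_projective _ _
    exact ⟨Module.FinitePresentation.of_equiv e, Module.Flat.of_linearEquiv e.symm⟩
  have hfp := Module.FinitePresentation.of_localizationSpan T hT fun t => (key t).1
  have : Module.Flat S P.Cotangent := Module.flat_of_localized_span S P.Cotangent T hT fun t => by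
    have := (key t).2
    exact Module.Flat.trans S (Localization.Away t.1) _
  exact ⟨inferInstance, Module.Flat.projective_of_finitePresentation⟩

end Conormal

end Groth.Agent.H54.NLPerfect

namespace Groth.Agent.H54.NLPerfect

section Double

variable {A : Type u} [CommRing A]

open HomologicalComplex

variable {X₀ X₁ Y₀ Y₁ : ModuleCat.{u} A} (f : X₀ ⟶ X₁) (g : Y₀ ⟶ Y₁)

/-- The two-term complex in degrees `-1, 0`. -/
noncomputable abbrev two : CochainComplex (ModuleCat.{u} A) ℤ :=
  double f (show (ComplexShape.up ℤ).Rel (-1) 0 by simp)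

/-- A map of two-term complexes. -/
noncomputable def twoMap (a : X₀ ⟶ Y₀) (b : X₁ ⟶ Y₁) (w : f ≫ b = a ≫ g) : two f ⟶ two g :=
  mkHomFromDouble _ (by simp) (a ≫ (doubleXIso₀ g _).inv) (b ≫ (doubleXIso₁ g _ (by simp)).inv)
    (by rw [double_d g _ (by simp)]; simp [reassoc_of% w])
    (fun k _ => by rw [double_d_eq_zero₀ _ _ _ _ (by simp), comp_zero])

theorem nonempty_homotopy (a a' : X₀ ⟶ Y₀) (b b' : X₁ ⟶ Y₁) (w : f ≫ b = a ≫ g) (w' : f ≫ b' = a' ≫ g)
    (s : X₁ ⟶ Y₀) (h₀ : a - a' = f ≫ s) (h₁ : b - b' = s ≫ g) :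
    Nonempty (Homotopy (twoMap f g a b w) (twoMap f g a' b' w')) := by
  let h : ∀ i j : ℤ, (ComplexShape.up ℤ).Rel j i → ((two f).X i ⟶ (two g).X j) := fun i j _ =>
    if hij : i = 0 ∧ j = -1 then
      eqToHom (congrArg (fun k => (two f).X k) hij.1) ≫ (doubleXIso₁ f _ (by simp)).hom ≫ s ≫ (doubleXIso₀ g _).inv ≫
        eqToHom (congrArg (fun k => (two g).X k) hij.2.symm)
    else 0
  have e : twoMap f g a b w - twoMap f g a' b' w' = Homotopy.nullHomotopicMap' h := by
    apply from_double_hom_ext
    · rw [Homotopy.nullHomotopicMap'_f (show (ComplexShape.up ℤ).Rel (-2) (-1) by simp)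
        (show (ComplexShape.up ℤ).Rel (-1) 0 by simp)]
      rw [HomologicalComplex.sub_f_apply]
      simp only [twoMap, mkHomFromDouble_f₀, h, double_d f _ (show (-1 : ℤ) ≠ 0 by simp)]
      rw [dif_pos (by simp), double_d_eq_zero₀ g _ _ _ (by simp), comp_zero, add_zero,
        ← Preadditive.comp_sub, ← Preadditive.sub_comp, h₀]
      simp
    · rw [Homotopy.nullHomotopicMap'_f (show (ComplexShape.up ℤ).Rel (-1) 0 by simp)
        (show (ComplexShape.up ℤ).Rel 0 1 by simp)]
      rw [HomologicalComplex.sub_f_apply]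
      simp only [twoMap, mkHomFromDouble_f₁, h, double_d g _ (show (-1 : ℤ) ≠ 0 by simp)]
      rw [double_d_eq_zero₀ f _ _ _ (by simp), zero_comp, zero_add, dif_pos (by simp),
        ← Preadditive.comp_sub, ← Preadditive.sub_comp, h₁]
      simp
  exact ⟨Homotopy.equivSubZero.symm ((Homotopy.ofEq e).trans (Homotopy.nullHomotopy' h))⟩

theorem twoMap_comp {Z₀ Z₁ : ModuleCat.{u} A} (k : Z₀ ⟶ Z₁) (a : X₀ ⟶ Y₀) (b : X₁ ⟶ Y₁)
    (w : f ≫ b = a ≫ g) (a' : Y₀ ⟶ Z₀) (b' : Y₁ ⟶ Z₁) (w' : g ≫ b' = a' ≫ k) :
    twoMap f g a b w ≫ twoMap g k a' b' w' =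
      twoMap f k (a ≫ a') (b ≫ b') (by rw [reassoc_of% w, w', Category.assoc]) := by
  apply from_double_hom_ext <;> simp [twoMap]

theorem twoMap_id : twoMap f f (𝟙 _) (𝟙 _) (by simp) = 𝟙 (two f) := by
  apply from_double_hom_ext <;> simp [twoMap]

/-- Two-term complexes homotopy equivalent term by term are isomorphic in the derived category. -/
theorem nonempty_iso (a : X₀ ⟶ Y₀) (b : X₁ ⟶ Y₁) (w : f ≫ b = a ≫ g) (a' : Y₀ ⟶ X₀) (b' : Y₁ ⟶ X₁)
    (w' : g ≫ b' = a' ≫ f) (s : X₁ ⟶ X₀) (t : Y₁ ⟶ Y₀) (hs₀ : a ≫ a' - 𝟙 _ = f ≫ s)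
    (hs₁ : b ≫ b' - 𝟙 _ = s ≫ f) (ht₀ : a' ≫ a - 𝟙 _ = g ≫ t) (ht₁ : b' ≫ b - 𝟙 _ = t ≫ g) :
    Nonempty (DerivedCategory.Q.obj (two f) ≅ DerivedCategory.Q.obj (two g)) := by
  obtain ⟨H₁⟩ := nonempty_homotopy f f (a ≫ a') (𝟙 _) (b ≫ b') (𝟙 _)
    (by rw [reassoc_of% w, w', Category.assoc]) (by simp) s hs₀ hs₁
  obtain ⟨H₂⟩ := nonempty_homotopy g g (a' ≫ a) (𝟙 _) (b' ≫ b) (𝟙 _)
    (by rw [reassoc_of% w', w, Category.assoc]) (by simp) t ht₀ ht₁
  let E : HomotopyEquiv (two f) (two g) :=
    { hom := twoMap f g a b w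
      inv := twoMap g f a' b' w'
      homotopyHomInvId := (Homotopy.ofEq (twoMap_comp f g f a b w a' b' w')).trans
        (H₁.trans (Homotopy.ofEq (twoMap_id f)))
      homotopyInvHomId := (Homotopy.ofEq (twoMap_comp g f g a' b' w' a b w)).trans
        (H₂.trans (Homotopy.ofEq (twoMap_id g))) }
  exact ⟨(DerivedCategory.quotientCompQhIso (ModuleCat.{u} A)).symm.app _ ≪≫
    DerivedCategory.Qh.mapIso (HomotopyCategory.isoOfHomotopyEquiv E) ≪≫
      (DerivedCategory.quotientCompQhIso (ModuleCat.{u} A)).app _⟩

end Double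

section NL

open Algebra

variable {A B : Type u} [CommRing A] [CommRing B] [Algebra A B]

/-- The naive cotangent complexes of two presentations agree in the derived category. -/
theorem nonempty_iso_presentations (P P' : Extension.{u} A B) (u₁ : P.Hom P') (u₂ : P'.Hom P) :
    Nonempty (DerivedCategory.Q.obj (two (ModuleCat.ofHom P.cotangentComplex)) ≅
      DerivedCategory.Q.obj (two (ModuleCat.ofHom P'.cotangentComplex))) := by
  refine nonempty_iso _ _ (ModuleCat.ofHom (Extension.Cotangent.map u₁))
    (ModuleCat.ofHom (Extension.CotangentSpace.map u₁)) ?_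
    (ModuleCat.ofHom (Extension.Cotangent.map u₂))
    (ModuleCat.ofHom (Extension.CotangentSpace.map u₂)) ?_
    (ModuleCat.ofHom ((u₂.comp u₁).sub (.id P))) (ModuleCat.ofHom ((u₁.comp u₂).sub (.id P')))
    ?_ ?_ ?_ ?_
  · ext x; exact Extension.CotangentSpace.map_cotangentComplex u₁ x
  · ext x; exact Extension.CotangentSpace.map_cotangentComplex u₂ x
  · refine ModuleCat.hom_ext (LinearMap.ext fun x => ?_)
    have := LinearMap.congr_fun (Extension.Cotangent.map_sub_map (u₂.comp u₁) (.id P)) x
    rw [Extension.Cotangent.map_id, Extension.Cotangent.map_comp] at this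
    exact this
  · refine ModuleCat.hom_ext (LinearMap.ext fun x => ?_)
    have := LinearMap.congr_fun (Extension.CotangentSpace.map_sub_map (u₂.comp u₁) (.id P)) x
    rw [Extension.CotangentSpace.map_id, Extension.CotangentSpace.map_comp] at this
    exact this
  · refine ModuleCat.hom_ext (LinearMap.ext fun x => ?_)
    have := LinearMap.congr_fun (Extension.Cotangent.map_sub_map (u₁.comp u₂) (.id P')) x
    rw [Extension.Cotangent.map_id, Extension.Cotangent.map_comp] at this
    exact this
  · refine ModuleCat.hom_ext (LinearMap.ext fun x => ?_)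
    have := LinearMap.congr_fun (Extension.CotangentSpace.map_sub_map (u₁.comp u₂) (.id P')) x
    rw [Extension.CotangentSpace.map_id, Extension.CotangentSpace.map_comp] at this
    exact this

/-- **The naive cotangent complex of a local complete intersection map is perfect of amplitude `[-1, 0]`.** -/
theorem isPerfect_NL (h : LCI.IsLCI A B) :
    DRing.IsPerfect B (LCI.NL A B) ∧ DRing.HasTorAmplitudeIn B (-1) 0 (LCI.NL A B) := by
  obtain ⟨-, n, f, hf, hI⟩ := h
  have hv : MvPolynomial.aeval (R := A) (fun i => f (MvPolynomial.X i)) = f :=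
    MvPolynomial.algHom_ext fun i => by simp
  let G : Generators A B (Fin n) :=
    Generators.ofSurjective (fun i => f (MvPolynomial.X i)) (hv.symm ▸ hf)
  let P := G.toExtension
  have hker : P.ker = RingHom.ker f.toRingHom := by
    show RingHom.ker (algebraMap P.Ring B) = _
    ext x
    exact RingHom.mem_ker.trans ((iff_of_eq (congrArg (· = 0) (DFunLike.congr_fun hv x))).trans RingHom.mem_ker.symm)
  have : Module.Finite B P.CotangentSpace := Module.Finite.of_basis G.cotangentSpaceBasis
  have : Module.Projective B P.CotangentSpace := Module.Projective.of_basis G.cotangentSpaceBasis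
  obtain ⟨_, _⟩ := finite_projective_cotangent P (hker.symm ▸ hI)
  obtain ⟨e⟩ := nonempty_iso_presentations P (Generators.self A B).toExtension
    (G.defaultHom (Generators.self A B)).toExtensionHom
    ((Generators.self A B).defaultHom G).toExtensionHom
  have hv : ∀ i : ℤ, i < -1 ∨ 0 < i → IsZero ((two (ModuleCat.ofHom P.cotangentComplex)).X i) :=
    fun i hi => HomologicalComplex.isZero_double_X _ _ _ (by lia) (by lia)
  have hX : ∀ i : ℤ, Module.Finite B ((two (ModuleCat.ofHom P.cotangentComplex)).X i) ∧
      Module.Projective B ((two (ModuleCat.ofHom P.cotangentComplex)).X i) := fun i => by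
    by_cases h1 : i = -1
    · subst h1
      have e₀ := (HomologicalComplex.doubleXIso₀ (ModuleCat.ofHom P.cotangentComplex)
        (show (ComplexShape.up ℤ).Rel (-1) 0 by simp)).symm.toLinearEquiv
      exact ⟨Module.Finite.equiv e₀, Module.Projective.of_equiv e₀⟩
    by_cases h2 : i = 0
    · subst h2
      have e₁ := (HomologicalComplex.doubleXIso₁ (ModuleCat.ofHom P.cotangentComplex)
        (show (ComplexShape.up ℤ).Rel (-1) 0 by simp) (by simp)).symm.toLinearEquiv
      exact ⟨Module.Finite.equiv e₁, Module.Projective.of_equiv e₁⟩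
    have := ModuleCat.subsingleton_of_isZero (hv i (by lia))
    exact ⟨inferInstance, inferInstance⟩
  exact ⟨⟨_, -1, 0, hv, hX, ⟨e⟩⟩, ⟨_, hv, fun i => have := (hX i).2; inferInstance, ⟨e⟩⟩⟩

end NL

end Groth.Agent.H54.NLPerfect
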