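import Groth.Agent.H54.PCLocal
import Mathlib.AlgebraicGeometry.Morphisms.Flat
import Mathlib.RingTheory.TensorProduct.MvPolynomial
import Mathlib.RingTheory.Flat.Stability

/-!
# Flat base change of pseudo-coherent maps
-/

universe u

open CategoryTheory CategoryTheory.Limits CategoryTheory.Pretriangulated AlgebraicGeometry
open Groth.Agent.Lib.DR
open Groth.Agent.Lib.DR.Basic Groth.Agent.Lib.DR.FiniteComplex Groth.Agent.Lib.DR.PseudoCoherent
open Groth.Agent.H54.PCRestrict Groth.Agent.H54.PCPresent Groth.Agent.H54.RelPC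
open scoped TensorProduct

attribute [local instance] HasDerivedCategory.standard

namespace Groth.Agent.H54.PCBaseChange

attribute [local instance] MvPolynomial.algebraMvPolynomial in
theorem hom_baseChange {R A R' : Type u} [CommRing R] [CommRing A] [CommRing R'] [Algebra R A]
    [Algebra R R'] [Module.Flat R R'] (h : MoreMor.IsPseudoCoherentHom R A) :
    MoreMor.IsPseudoCoherentHom R' (R' ⊗[R] A) := by
  obtain ⟨n, α, hα, hα'⟩ := hom_iff.1 h
  let _ : Algebra (MvPolynomial (Fin n) R) A := α.toRingHom.toAlgebra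
  have : IsScalarTower R (MvPolynomial (Fin n) R) A := IsScalarTower.of_algebraMap_eq fun r => (α.commutes r).symm
  have : Algebra.IsPushout R (MvPolynomial (Fin n) R) R' (MvPolynomial (Fin n) R') := inferInstance
  have : Module.Flat (MvPolynomial (Fin n) R) (MvPolynomial (Fin n) R') := Module.Flat.isBaseChange (R := R) (S := (MvPolynomial (Fin n) R)) (M := R') (MvPolynomial (Fin n) R') this.out
  let β : (MvPolynomial (Fin n) R') →ₐ[R'] R' ⊗[R] A := MvPolynomial.aeval fun i => 1 ⊗ₜ[R] α (MvPolynomial.X i)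
  let e : (MvPolynomial (Fin n) R') ⊗[(MvPolynomial (Fin n) R)] A ≃ₐ[R'] R' ⊗[R] A := Algebra.IsPushout.cancelBaseChangeAlg R R' (MvPolynomial (Fin n) R) (MvPolynomial (Fin n) R') A
  have he : β = (e : (MvPolynomial (Fin n) R') ⊗[(MvPolynomial (Fin n) R)] A →ₐ[R'] R' ⊗[R] A).comp Algebra.TensorProduct.includeLeft := by
    refine MvPolynomial.algHom_ext fun i => ?_
    show β (MvPolynomial.X i) = e (MvPolynomial.X i ⊗ₜ[(MvPolynomial (Fin n) R)] 1)
    have h1 : (MvPolynomial.X i : (MvPolynomial (Fin n) R')) ⊗ₜ[(MvPolynomial (Fin n) R)] (1 : A) = 1 ⊗ₜ[(MvPolynomial (Fin n) R)] α (MvPolynomial.X i) := by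
      rw [show (MvPolynomial.X i : (MvPolynomial (Fin n) R')) = (MvPolynomial.X i : (MvPolynomial (Fin n) R)) • (1 : (MvPolynomial (Fin n) R')) by
          rw [Algebra.smul_def, mul_one]; exact (MvPolynomial.map_X (algebraMap R R') i).symm,
        TensorProduct.smul_tmul, Algebra.smul_def, mul_one]
      rfl
    rw [h1]
    exact (MvPolynomial.aeval_X _ i).trans (Algebra.IsPushout.cancelBaseChangeAlg_tmul R R' (MvPolynomial (Fin n) R) (MvPolynomial (Fin n) R') A _).symm
  have he' : ∀ (q : (MvPolynomial (Fin n) R')) (x : (MvPolynomial (Fin n) R') ⊗[(MvPolynomial (Fin n) R)] A), e (q • x) = β q * e x := fun q x => by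
    rw [he]
    show e (q • x) = e (q ⊗ₜ[(MvPolynomial (Fin n) R)] 1) * e x
    rw [← map_mul]
    refine congrArg e ?_
    induction x using TensorProduct.induction_on with
    | zero => rw [smul_zero, mul_zero]
    | add x y hx hy => rw [smul_add, mul_add, hx, hy]
    | tmul p a => rw [TensorProduct.smul_tmul', Algebra.TensorProduct.tmul_mul_tmul, one_mul, smul_eq_mul]
  have hβ : Function.Surjective β := by
    intro y
    induction y using TensorProduct.induction_on with
    | zero => exact ⟨0, map_zero β⟩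
    | add x y hx hy =>
      obtain ⟨p, rfl⟩ := hx
      obtain ⟨q, rfl⟩ := hy
      exact ⟨p + q, map_add β p q⟩
    | tmul r a =>
      obtain ⟨p, rfl⟩ := hα a
      refine ⟨r • MvPolynomial.map (algebraMap R R') p, ?_⟩
      rw [map_smul]
      have : (β.restrictScalars R).comp (MvPolynomial.mapAlgHom (Algebra.ofId R R')) =
          Algebra.TensorProduct.includeRight.comp α := MvPolynomial.algHom_ext fun i => by
        show β (MvPolynomial.map _ (MvPolynomial.X i)) = _
        rw [MvPolynomial.map_X]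
        exact MvPolynomial.aeval_X _ i
      have h2 : β (MvPolynomial.map (algebraMap R R') p) = (1 : R') ⊗ₜ[R] α p := AlgHom.congr_fun this p
      rw [h2, TensorProduct.smul_tmul', smul_eq_mul, mul_one]
  refine hom_iff.2 ⟨n, β, hβ, fun m => ?_⟩
  have h' : DRing.IsPseudoCoherentModule (MvPolynomial (Fin n) R) m A := (isPseudoCoherent_iff _ _).2
    ((hα' m).of_iso ((sgl (MvPolynomial (Fin n) R) 0).mapIso (FlatBC.resEquiv (MvPolynomial (Fin n) R) A).toModuleIso))
  refine ((isPseudoCoherent_iff _ _).1 ((Groth.Agent.S7000.result (B := (MvPolynomial (Fin n) R')) m A).1 h')).of_iso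
    ((sgl (MvPolynomial (Fin n) R') 0).mapIso (?_ : _ ≅ (res β.toRingHom).obj (ModuleCat.of (R' ⊗[R] A) (R' ⊗[R] A))))
  let N : ModuleCat.{u} (MvPolynomial (Fin n) R') :=
    (res β.toRingHom).obj (ModuleCat.of (R' ⊗[R] A) (R' ⊗[R] A))
  let e₁ : MvPolynomial (Fin n) R' ⊗[MvPolynomial (Fin n) R] A ≃ₗ[MvPolynomial (Fin n) R'] N :=
    { toFun := fun x => (e x : R' ⊗[R] A)
      invFun := fun y => e.symm (y : R' ⊗[R] A)
      left_inv := e.symm_apply_apply
      right_inv := e.apply_symm_apply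
      map_add' := fun x y => map_add e x y
      map_smul' := fun q x => he' q x }
  exact e₁.toModuleIso

theorem Q_baseChange {R A R' A' : CommRingCat.{u}} {a : R ⟶ A} {b : R ⟶ R'} {c : A ⟶ A'} {d : R' ⟶ A'}
    (h : IsPushout a b c d) (ha : PCLocal.Q a.hom) (hb : b.hom.Flat) : PCLocal.Q d.hom := by
  algebraize [a.hom, b.hom, c.hom, d.hom, c.hom.comp a.hom]
  have : IsScalarTower R R' A' := IsScalarTower.of_algebraMap_eq' (congrArg CommRingCat.Hom.hom h.w)
  have : Algebra.IsPushout R R' A A' := CommRingCat.isPushout_iff_isPushout.mp h.flip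
  have hT := hom_baseChange (R' := R') ((PCLocal.Q_algebraMap R A).1 ha)
  let e : R' ⊗[R] A ≃ₐ[R'] A' := Algebra.IsPushout.equiv R R' A A'
  have h2 := PCLocal.Q_isLocal.respectsIso.left (algebraMap R' (R' ⊗[R] A)) e.toRingEquiv
    ((PCLocal.Q_algebraMap _ _).2 hT)
  have h3 : e.toRingEquiv.toRingHom.comp (algebraMap R' (R' ⊗[R] A)) = d.hom :=
    RingHom.ext fun r => e.commutes r
  rwa [h3] at h2

theorem mor_baseChange {X S X' S' : Scheme.{u}} (f : X ⟶ S) (f' : X' ⟶ S') (g' : X' ⟶ X) (g : S' ⟶ S)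
    [Flat g] (hc : IsPullback g' f' f g) (hf : MoreMor.IsPseudoCoherentMor f) :
    MoreMor.IsPseudoCoherentMor f' := by
  rw [PCLocal.iff_exists]
  intro x
  obtain ⟨_, ⟨(W : S.Opens), (hW : IsAffineOpen W), rfl⟩, hxW, -⟩ :=
    S.isBasis_affineOpens.exists_subset_of_mem_open (Set.mem_univ (g (f' x))) isOpen_univ
  obtain ⟨_, ⟨(V : S'.Opens), (hV : IsAffineOpen V), rfl⟩, hxV, hVW⟩ :=
    S'.isBasis_affineOpens.exists_subset_of_mem_open (show f' x ∈ g ⁻¹ᵁ W from hxW) (g ⁻¹ᵁ W).isOpen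
  have hxW' : g' x ∈ f ⁻¹ᵁ W := by
    show f (g' x) ∈ W
    rw [← Scheme.Hom.comp_apply, hc.w, Scheme.Hom.comp_apply]
    exact hxW
  obtain ⟨_, ⟨(U : X.Opens), (hU : IsAffineOpen U), rfl⟩, hxU, hUW⟩ :=
    X.isBasis_affineOpens.exists_subset_of_mem_open hxW' (f ⁻¹ᵁ W).isOpen
  let UY := g' ⁻¹ᵁ U ⊓ f' ⁻¹ᵁ V
  have hp := Scheme.Hom.isPullback_resLE hc hVW hUW (rfl : UY = _)
  have hUY : IsAffineOpen UY := by
    haveI : IsAffine W.toScheme := hW
    haveI : IsAffine V.toScheme := hV
    haveI : IsAffine U.toScheme := hU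
    exact .of_isIso hp.isoPullback.hom
  refine ⟨UY, V, inf_le_right, hUY, hV, ⟨hxU, hxV⟩, ?_⟩
  exact Q_baseChange
    ((isIso_pushoutSection_iff hc hVW hUW (rfl : UY = _)).mp
      (isIso_pushoutSection_of_isAffineOpen hc hVW hUW rfl hW hV hU))
    (hf U W hU hW hUW) (g.flat_appLE hW hV hVW)

end Groth.Agent.H54.PCBaseChange
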