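import Groth.Agent.H54.PCBaseChange
import Groth.Agent.Lib.DR.Descent
import Mathlib.RingTheory.Finiteness.Descent
import Mathlib.AlgebraicGeometry.Morphisms.Descent
import Mathlib.RingTheory.RingHom.FaithfullyFlat

/-!
# Faithfully flat descent of pseudo-coherent maps
-/

universe u

open CategoryTheory CategoryTheory.Limits CategoryTheory.Pretriangulated AlgebraicGeometry
open Groth.Agent.Lib.DR
open Groth.Agent.Lib.DR.Basic Groth.Agent.Lib.DR.FiniteComplex Groth.Agent.Lib.DR.PseudoCoherent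
open Groth.Agent.H54.PCRestrict Groth.Agent.H54.RelPC
open scoped TensorProduct

attribute [local instance] HasDerivedCategory.standard

namespace Groth.Agent.H54.PCDescent

attribute [local instance] MvPolynomial.algebraMvPolynomial in
theorem exists_presentation_baseChange {R A R' : Type u} [CommRing R] [CommRing A] [CommRing R']
    [Algebra R A] [Algebra R R'] {n : ℕ} (α : MvPolynomial (Fin n) R →ₐ[R] A) (hα : Function.Surjective α)
    [Algebra (MvPolynomial (Fin n) R) A] (hαA : algebraMap (MvPolynomial (Fin n) R) A = α.toRingHom) :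
    ∃ (β : MvPolynomial (Fin n) R' →ₐ[R'] R' ⊗[R] A), Function.Surjective β ∧
      Nonempty (ModuleCat.of (MvPolynomial (Fin n) R') (MvPolynomial (Fin n) R' ⊗[MvPolynomial (Fin n) R] A) ≅
        (res β.toRingHom).obj (ModuleCat.of (R' ⊗[R] A) (R' ⊗[R] A))) := by
  have : IsScalarTower R (MvPolynomial (Fin n) R) A := IsScalarTower.of_algebraMap_eq fun r => by
    rw [hαA]; exact (α.commutes r).symm
  have : Algebra.IsPushout R (MvPolynomial (Fin n) R) R' (MvPolynomial (Fin n) R') := inferInstance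
  let β : (MvPolynomial (Fin n) R') →ₐ[R'] R' ⊗[R] A := MvPolynomial.aeval fun i => 1 ⊗ₜ[R] α (MvPolynomial.X i)
  let e : (MvPolynomial (Fin n) R') ⊗[(MvPolynomial (Fin n) R)] A ≃ₐ[R'] R' ⊗[R] A := Algebra.IsPushout.cancelBaseChangeAlg R R' (MvPolynomial (Fin n) R) (MvPolynomial (Fin n) R') A
  have he : β = (e : (MvPolynomial (Fin n) R') ⊗[(MvPolynomial (Fin n) R)] A →ₐ[R'] R' ⊗[R] A).comp Algebra.TensorProduct.includeLeft := by
    refine MvPolynomial.algHom_ext fun i => ?_
    show β (MvPolynomial.X i) = e (MvPolynomial.X i ⊗ₜ[(MvPolynomial (Fin n) R)] 1)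
    have h1 : (MvPolynomial.X i : (MvPolynomial (Fin n) R')) ⊗ₜ[(MvPolynomial (Fin n) R)] (1 : A) = 1 ⊗ₜ[(MvPolynomial (Fin n) R)] α (MvPolynomial.X i) := by
      rw [show (MvPolynomial.X i : (MvPolynomial (Fin n) R')) = (MvPolynomial.X i : (MvPolynomial (Fin n) R)) • (1 : (MvPolynomial (Fin n) R')) by
          rw [Algebra.smul_def, mul_one]; exact (MvPolynomial.map_X (algebraMap R R') i).symm,
        TensorProduct.smul_tmul, Algebra.smul_def, mul_one, hαA]
      rfl
    rw [h1]
    exact (MvPolynomial.aeval_X _ i).trans (Algebra.IsPushout.cancelBaseChangeAlg_tmul R R' (MvPolynomial (Fin n) R) (MvPolynomial (Fin n) R') A _).symm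
  have he' : ∀ (q : (MvPolynomial (Fin n) R')) (x : (MvPolynomial (Fin n) R') ⊗[(MvPolynomial (Fin n) R)] A), e (q • x) = β q * e x := fun q x => by
    rw [he]
    show e (q • x) = e (q ⊗ₜ[(MvPolynomial (Fin n) R)] 1) * e x
    rw [← map_mul]
    refine congrArg e ?_
    induction x using TensorProduct.induction_on with
    | zero => rw [smul_zero, mul_zero]
    | add x y hx hy => rw [smul_add, mul_add, hx, hy]
    | tmul p a => rw [TensorProduct.smul_tmul', Algebra.TensorProduct.tmul_mul_tmul, one_mul, smul_eq_mul]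
  have hβ : Function.Surjective β := by
    intro y
    induction y using TensorProduct.induction_on with
    | zero => exact ⟨0, map_zero β⟩
    | add x y hx hy =>
      obtain ⟨p, rfl⟩ := hx
      obtain ⟨q, rfl⟩ := hy
      exact ⟨p + q, map_add β p q⟩
    | tmul r a =>
      obtain ⟨p, rfl⟩ := hα a
      refine ⟨r • MvPolynomial.map (algebraMap R R') p, ?_⟩
      rw [map_smul]
      have : (β.restrictScalars R).comp (MvPolynomial.mapAlgHom (Algebra.ofId R R')) =
          Algebra.TensorProduct.includeRight.comp α := MvPolynomial.algHom_ext fun i => by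
        show β (MvPolynomial.map _ (MvPolynomial.X i)) = _
        rw [MvPolynomial.map_X]
        exact MvPolynomial.aeval_X _ i
      have h2 : β (MvPolynomial.map (algebraMap R R') p) = (1 : R') ⊗ₜ[R] α p := AlgHom.congr_fun this p
      rw [h2, TensorProduct.smul_tmul', smul_eq_mul, mul_one]
  exact ⟨β, hβ, ⟨LinearEquiv.toModuleIso (AddEquiv.toLinearEquiv
    (M₂ := (res β.toRingHom).obj (ModuleCat.of (R' ⊗[R] A) (R' ⊗[R] A))) e.toAddEquiv he')⟩⟩

attribute [local instance] MvPolynomial.algebraMvPolynomial in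
theorem hom_descent {R A R' : Type u} [CommRing R] [CommRing A] [CommRing R']
    [Algebra R A] [Algebra R R'] [Module.FaithfullyFlat R R']
    (h : MoreMor.IsPseudoCoherentHom R' (R' ⊗[R] A)) : MoreMor.IsPseudoCoherentHom R A := by
  obtain ⟨k, φ, hφ, -⟩ := hom_iff.1 h
  have : Algebra.FiniteType R' (R' ⊗[R] A) := Algebra.FiniteType.iff_quotient_mvPolynomial''.mpr ⟨k, φ, hφ⟩
  have : Algebra.FiniteType R A := Algebra.FiniteType.of_finiteType_tensorProduct_of_faithfullyFlat R'
  obtain ⟨n, α, hα⟩ := Algebra.FiniteType.iff_quotient_mvPolynomial''.mp this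
  let _ : Algebra (MvPolynomial (Fin n) R) A := α.toRingHom.toAlgebra
  obtain ⟨β, hβ, ⟨e⟩⟩ := exists_presentation_baseChange (R' := R') α hα rfl
  have hpush : Algebra.IsPushout R (MvPolynomial (Fin n) R) R' (MvPolynomial (Fin n) R') := inferInstance
  have : Module.FaithfullyFlat (MvPolynomial (Fin n) R) (MvPolynomial (Fin n) R') :=
    Module.FaithfullyFlat.of_linearEquiv _ _
      ((hpush.out.equiv).symm :
        MvPolynomial (Fin n) R' ≃ₗ[MvPolynomial (Fin n) R] MvPolynomial (Fin n) R ⊗[R] R')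
  refine hom_iff.2 ⟨n, α, hα, fun m => ?_⟩
  have h' : ∀ m, PCn (ff (MvPolynomial (Fin n) R')) m
      (Dual.inD (MvPolynomial (Fin n) R') (MvPolynomial (Fin n) R' ⊗[MvPolynomial (Fin n) R] A)) :=
    fun m => ((hom_iff_of_surjective β hβ).1 h m).of_iso ((sgl _ 0).mapIso e.symm)
  have hd := Descent.pcn_desc (Descent.detects_faithfullyFlat (MvPolynomial (Fin n) R')) m
    (Dual.inD (MvPolynomial (Fin n) R) A) fun _ => (h' m).of_iso
      (FlatBC.mapInD (A := MvPolynomial (Fin n) R) (B := MvPolynomial (Fin n) R') (M := A)).symm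
  exact hd.of_iso ((sgl _ 0).mapIso (FlatBC.resEquiv (MvPolynomial (Fin n) R) A).symm.toModuleIso)

theorem Q_descent {R A R' A' : CommRingCat.{u}} {a : R ⟶ A} {b : R ⟶ R'} {c : A ⟶ A'} {d : R' ⟶ A'}
    (h : IsPushout a b c d) (hd : PCLocal.Q d.hom) (hb : b.hom.FaithfullyFlat) : PCLocal.Q a.hom := by
  algebraize [a.hom, b.hom, c.hom, d.hom, c.hom.comp a.hom]
  have : IsScalarTower R R' A' := IsScalarTower.of_algebraMap_eq' (congrArg CommRingCat.Hom.hom h.w)
  have : Algebra.IsPushout R R' A A' := CommRingCat.isPushout_iff_isPushout.mp h.flip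
  let e : R' ⊗[R] A ≃ₐ[R'] A' := Algebra.IsPushout.equiv R R' A A'
  have h2 := PCLocal.Q_isLocal.respectsIso.left d.hom e.symm.toRingEquiv hd
  have h3 : e.symm.toRingEquiv.toRingHom.comp d.hom = algebraMap R' (R' ⊗[R] A) :=
    RingHom.ext fun r => e.symm.commutes r
  exact (PCLocal.Q_algebraMap R A).2 (hom_descent ((PCLocal.Q_algebraMap _ _).1 (h3 ▸ h2)))

theorem mor_descent {X S X' S' : Scheme.{u}} (f : X ⟶ S) (f' : X' ⟶ S') (g' : X' ⟶ X) (g : S' ⟶ S)
    [Flat g] [Surjective g] [QuasiCompact g] (hc : IsPullback g' f' f g)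
    (hf' : MoreMor.IsPseudoCoherentMor f') : MoreMor.IsPseudoCoherentMor f := by
  intro U V hU hV hUV
  have : CompactSpace ↥(g ⁻¹ᵁ V).toScheme :=
    isCompact_iff_compactSpace.mp (g.isCompact_preimage hV.isCompact)
  obtain ⟨T, p, hps, hloc, hT⟩ := (g ⁻¹ᵁ V).toScheme.exists_hom_isAffine_of_isZariskiLocalAtSource @IsLocalIso
  let q : T ⟶ S' := p ≫ (g ⁻¹ᵁ V).ι
  let h : T ⟶ S := q ≫ g
  have : IsLocalIso p := hloc
  have : Flat p := (IsLocalIso.le_of_isZariskiLocalAtSource @Flat) _ _ p hloc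
  have hc' : IsPullback (hc.lift (pullback.fst f h) (pullback.snd f h ≫ q)
      (by rw [Category.assoc]; exact pullback.condition)) (pullback.snd f h) f' q := by
    refine IsPullback.of_right ?_ (hc.lift_snd _ _ _) hc
    rw [hc.lift_fst]
    exact IsPullback.of_hasPullback f h
  have hfT : MoreMor.IsPseudoCoherentMor (pullback.snd f h) :=
    PCBaseChange.mor_baseChange f' (pullback.snd f h) _ q hc' hf'
  have hle : (⊤ : T.Opens) ≤ h ⁻¹ᵁ V := fun t _ => by
    show g ((g ⁻¹ᵁ V).ι (p t)) ∈ V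
    exact (p t).2
  have hsq : IsPullback (pullback.fst f h) (pullback.snd f h) f h := IsPullback.of_hasPullback f h
  let UY := pullback.fst f h ⁻¹ᵁ U ⊓ pullback.snd f h ⁻¹ᵁ (⊤ : T.Opens)
  have htop : IsAffineOpen (⊤ : T.Opens) := isAffineOpen_top T
  have hp := Scheme.Hom.isPullback_resLE hsq hle hUV (rfl : UY = _)
  have hUY : IsAffineOpen UY := by
    haveI : IsAffine V.toScheme := hV
    haveI : IsAffine (⊤ : T.Opens).toScheme := htop
    haveI : IsAffine U.toScheme := hU
    exact .of_isIso hp.isoPullback.hom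
  have hb : (h.appLE V ⊤ hle).hom.FaithfullyFlat := by
    rw [RingHom.FaithfullyFlat.iff_flat_and_comap_surjective]
    refine ⟨h.flat_appLE hV htop hle, ?_⟩
    intro P
    obtain ⟨s', hs'⟩ := g.surjective (hV.fromSpec P)
    have hmem : s' ∈ g ⁻¹ᵁ V := by
      show g s' ∈ V
      rw [hs']
      exact hV.range_fromSpec.subset (Set.mem_range_self P)
    obtain ⟨t, ht⟩ := p.surjective ⟨s', hmem⟩
    have htop' : t ∈ Set.range htop.fromSpec := by rw [htop.range_fromSpec]; trivial
    obtain ⟨P', rfl⟩ := htop'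
    refine ⟨P', hV.fromSpec.isOpenEmbedding.injective ?_⟩
    show hV.fromSpec (Spec.map (h.appLE V ⊤ hle) P') = _
    rw [← Scheme.Hom.comp_apply, IsAffineOpen.SpecMap_appLE_fromSpec h hV htop hle, Scheme.Hom.comp_apply]
    show g ((g ⁻¹ᵁ V).ι (p (htop.fromSpec P'))) = _
    rw [ht]
    exact hs'
  exact Q_descent
    ((isIso_pushoutSection_iff hsq hle hUV (rfl : UY = _)).mp
      (isIso_pushoutSection_of_isAffineOpen hsq hle hUV rfl hV htop hU))
    (hfT UY ⊤ hUY htop inf_le_right) hb

end Groth.Agent.H54.PCDescent
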