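import Groth.Agent.H54.PCFlatBase
import Groth.Agent.H54.TorDimHom

/-!
# Base change of flat pseudo-coherent ring maps
-/

universe u

open CategoryTheory CategoryTheory.Limits CategoryTheory.Pretriangulated
open Groth.Agent.Lib.DR
open Groth.Agent.Lib.DR.Basic Groth.Agent.Lib.DR.FiniteComplex Groth.Agent.Lib.DR.PseudoCoherent
open Groth.Agent.Lib.DR.BaseChange
open Groth.Agent.H54.PCRestrict Groth.Agent.H54.RelPC Groth.Agent.H54.PCFlatBase
open scoped TensorProduct

attribute [local instance] HasDerivedCategory.standard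

namespace Groth.Agent.H54.PCFlatHom

/-- Restriction of scalars in a tower. -/
noncomputable def resEquiv' {A B : Type u} [CommRing A] [CommRing B] [Algebra A B] (C : Type u)
    [AddCommGroup C] [Module B C] [Module A C] [IsScalarTower A B C] :
    ((res (algebraMap A B)).obj (ModuleCat.of B C) : Type u) ≃ₗ[A] C :=
  TorDimHom.towerEquiv C

attribute [local instance] MvPolynomial.algebraMvPolynomial in
theorem hom_baseChange_of_flat {R A R' : Type u} [CommRing R] [CommRing A] [CommRing R'] [Algebra R A]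
    [Algebra R R'] [Module.Flat R A] (h : MoreMor.IsPseudoCoherentHom R A) :
    MoreMor.IsPseudoCoherentHom R' (R' ⊗[R] A) := by
  obtain ⟨n, α, hα, hα'⟩ := hom_iff.1 h
  let _ : Algebra (MvPolynomial (Fin n) R) A := α.toRingHom.toAlgebra
  have : IsScalarTower R (MvPolynomial (Fin n) R) A := IsScalarTower.of_algebraMap_eq fun r => (α.commutes r).symm
  have : Algebra.IsPushout R (MvPolynomial (Fin n) R) R' (MvPolynomial (Fin n) R') := inferInstance
  let β : (MvPolynomial (Fin n) R') →ₐ[R'] R' ⊗[R] A := MvPolynomial.aeval fun i => 1 ⊗ₜ[R] α (MvPolynomial.X i)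
  let e : (MvPolynomial (Fin n) R') ⊗[(MvPolynomial (Fin n) R)] A ≃ₐ[R'] R' ⊗[R] A := Algebra.IsPushout.cancelBaseChangeAlg R R' (MvPolynomial (Fin n) R) (MvPolynomial (Fin n) R') A
  have he : β = (e : (MvPolynomial (Fin n) R') ⊗[(MvPolynomial (Fin n) R)] A →ₐ[R'] R' ⊗[R] A).comp Algebra.TensorProduct.includeLeft := by
    refine MvPolynomial.algHom_ext fun i => ?_
    show β (MvPolynomial.X i) = e (MvPolynomial.X i ⊗ₜ[(MvPolynomial (Fin n) R)] 1)
    have h1 : (MvPolynomial.X i : (MvPolynomial (Fin n) R')) ⊗ₜ[(MvPolynomial (Fin n) R)] (1 : A) = 1 ⊗ₜ[(MvPolynomial (Fin n) R)] α (MvPolynomial.X i) := by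
      rw [show (MvPolynomial.X i : (MvPolynomial (Fin n) R')) = (MvPolynomial.X i : (MvPolynomial (Fin n) R)) • (1 : (MvPolynomial (Fin n) R')) by
          rw [Algebra.smul_def, mul_one]; exact (MvPolynomial.map_X (algebraMap R R') i).symm,
        TensorProduct.smul_tmul, Algebra.smul_def, mul_one]
      rfl
    rw [h1]
    exact (MvPolynomial.aeval_X _ i).trans (Algebra.IsPushout.cancelBaseChangeAlg_tmul R R' (MvPolynomial (Fin n) R) (MvPolynomial (Fin n) R') A _).symm
  have he' : ∀ (q : (MvPolynomial (Fin n) R')) (x : (MvPolynomial (Fin n) R') ⊗[(MvPolynomial (Fin n) R)] A), e (q • x) = β q * e x := fun q x => by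
    rw [he]
    show e (q • x) = e (q ⊗ₜ[(MvPolynomial (Fin n) R)] 1) * e x
    rw [← map_mul]
    refine congrArg e ?_
    induction x using TensorProduct.induction_on with
    | zero => rw [smul_zero, mul_zero]
    | add x y hx hy => rw [smul_add, mul_add, hx, hy]
    | tmul p a => rw [TensorProduct.smul_tmul', Algebra.TensorProduct.tmul_mul_tmul, one_mul, smul_eq_mul]
  have hβ : Function.Surjective β := by
    intro y
    induction y using TensorProduct.induction_on with
    | zero => exact ⟨0, map_zero β⟩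
    | add x y hx hy =>
      obtain ⟨p, rfl⟩ := hx
      obtain ⟨q, rfl⟩ := hy
      exact ⟨p + q, map_add β p q⟩
    | tmul r a =>
      obtain ⟨p, rfl⟩ := hα a
      refine ⟨r • MvPolynomial.map (algebraMap R R') p, ?_⟩
      rw [map_smul]
      have : (β.restrictScalars R).comp (MvPolynomial.mapAlgHom (Algebra.ofId R R')) =
          Algebra.TensorProduct.includeRight.comp α := MvPolynomial.algHom_ext fun i => by
        show β (MvPolynomial.map _ (MvPolynomial.X i)) = _
        rw [MvPolynomial.map_X]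
        exact MvPolynomial.aeval_X _ i
      have h2 : β (MvPolynomial.map (algebraMap R R') p) = (1 : R') ⊗ₜ[R] α p := AlgHom.congr_fun this p
      rw [h2, TensorProduct.smul_tmul', smul_eq_mul, mul_one]
  refine hom_iff.2 ⟨n, β, hβ, fun m => ?_⟩
  have hflat : flat R ((res (algebraMap R (MvPolynomial (Fin n) R))).obj (ModuleCat.of (MvPolynomial (Fin n) R) A)) :=
    good_flat.iso (LinearEquiv.toModuleIso (resEquiv' (A := R) (B := MvPolynomial (Fin n) R) A)).symm
      (show flat R (ModuleCat.of R A) from ‹Module.Flat R A›)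
  refine (pcn_baseChange R R' (P' := MvPolynomial (Fin n) R') A hflat
    (fun k => (hα' k).of_iso ((sgl (MvPolynomial (Fin n) R) 0).mapIso
      (FlatBC.resEquiv (MvPolynomial (Fin n) R) A).toModuleIso)) m).of_iso
    ((sgl (MvPolynomial (Fin n) R') 0).mapIso (?_ : _ ≅ (res β.toRingHom).obj (ModuleCat.of (R' ⊗[R] A) (R' ⊗[R] A))))
  let N : ModuleCat.{u} (MvPolynomial (Fin n) R') :=
    (res β.toRingHom).obj (ModuleCat.of (R' ⊗[R] A) (R' ⊗[R] A))
  let e₁ : MvPolynomial (Fin n) R' ⊗[MvPolynomial (Fin n) R] A ≃ₗ[MvPolynomial (Fin n) R'] N :=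
    { toFun := fun x => (e x : R' ⊗[R] A)
      invFun := fun y => e.symm (y : R' ⊗[R] A)
      left_inv := e.symm_apply_apply
      right_inv := e.apply_symm_apply
      map_add' := fun x y => map_add e x y
      map_smul' := fun q x => he' q x }
  exact e₁.toModuleIso

end Groth.Agent.H54.PCFlatHom
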