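import Groth.Agent.H54.PCRestrict
import Mathlib.RingTheory.MvPolynomial.Basic
import Mathlib.RingTheory.Polynomial.Basic
import Mathlib.Algebra.MvPolynomial.Equiv
import Mathlib.Algebra.Polynomial.RingDivision

/-!
# Independence of presentations for relative pseudo-coherence
-/

universe u

open CategoryTheory CategoryTheory.Limits CategoryTheory.Pretriangulated
open Groth.Agent.Lib.DR
open Groth.Agent.Lib.DR.Basic Groth.Agent.Lib.DR.FiniteComplex Groth.Agent.Lib.DR.PseudoCoherent
open Groth.Agent.H54.PCRestrict

attribute [local instance] HasDerivedCategory.standard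

namespace Groth.Agent.H54.PCPresent

variable {A : Type u} [CommRing A]

lemma pcRing_polyEval (t : A) : PCRing (Polynomial.evalRingHom t) := by
  let N := (res (Polynomial.evalRingHom t)).obj (ModuleCat.of A A)
  let g : Polynomial A →ₗ[Polynomial A] N :=
    { toFun := fun p => (Polynomial.eval t p : A)
      map_add' := fun p q => (show Polynomial.eval t (p + q) = (Polynomial.eval t p + Polynomial.eval t q : A) from Polynomial.eval_add)
      map_smul' := fun c p => (show Polynomial.eval t (c * p) = (Polynomial.eval t c * Polynomial.eval t p : A) from Polynomial.eval_mul) }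
  let f : Polynomial A →ₗ[Polynomial A] Polynomial A :=
    LinearMap.mulLeft (Polynomial A) (Polynomial.X - Polynomial.C t)
  let S := ShortComplex.moduleCatMk f g (LinearMap.ext fun p => by
    show Polynomial.eval t ((Polynomial.X - Polynomial.C t) * p) = (0 : A)
    simp)
  have hS : S.ShortExact :=
    { exact := by
        rw [ShortComplex.moduleCat_exact_iff]
        intro x hx
        obtain ⟨y, rfl⟩ := (Polynomial.dvd_iff_isRoot (R := A) (p := x) (a := t)).2 hx
        exact ⟨y, rfl⟩
      mono_f := (ModuleCat.mono_iff_injective _).2 fun p q h =>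
        (Polynomial.monic_X_sub_C t).isRegular.left h
      epi_g := (ModuleCat.epi_iff_surjective _).2 fun (a : A) => ⟨Polynomial.C a, show Polynomial.eval t (Polynomial.C a) = a from Polynomial.eval_C⟩ }
  exact fun m => PCn.cone good_ff projective_of_ff _ hS.singleTriangle_distinguished
    (pcn_free_one _) (pcn_free_one m)

lemma pcRing_mvEval : ∀ {k : ℕ} (t : Fin k → A),
    PCRing (MvPolynomial.eval t : MvPolynomial (Fin k) A →+* A) := by
  intro k
  induction k with
  | zero =>
    intro t
    refine pcRing_of_bijective _ ?_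
    have : (MvPolynomial.eval t : MvPolynomial (Fin 0) A →+* A) =
        (MvPolynomial.isEmptyRingEquiv A (Fin 0)).toRingHom :=
      by
      refine MvPolynomial.ringHom_ext (fun r => ?_) (fun i => i.elim0)
      rw [MvPolynomial.eval_C]
      exact ((MvPolynomial.isEmptyRingEquiv_symm_apply A (Fin 0) r ▸ (MvPolynomial.isEmptyRingEquiv A (Fin 0)).apply_symm_apply r)).symm
    rw [this]
    exact (MvPolynomial.isEmptyRingEquiv A (Fin 0)).bijective
  | succ k ih =>
    intro t
    have : (MvPolynomial.eval t : MvPolynomial (Fin (k + 1)) A →+* A) =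
        (MvPolynomial.eval (t ∘ Fin.succ)).comp ((Polynomial.evalRingHom (MvPolynomial.C (t 0))).comp
          (MvPolynomial.finSuccEquiv A k).toRingEquiv.toRingHom) :=
      MvPolynomial.ringHom_ext (fun r => by simp [MvPolynomial.finSuccEquiv_apply]) (fun i => by
        refine Fin.cases ?_ (fun j => ?_) i <;> simp [MvPolynomial.finSuccEquiv_apply])
    rw [this]
    exact ((pcRing_of_bijective _ (MvPolynomial.finSuccEquiv A k).toRingEquiv.bijective).comp
      (pcRing_polyEval _)).comp (ih _)

variable {R : Type u} [CommRing R]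

lemma pcRing_elimLeft {n : ℕ} {τ : Type} (h : Fin n → MvPolynomial τ R) :
    PCRing (MvPolynomial.aeval (Sum.elim h MvPolynomial.X) :
      MvPolynomial (Fin n ⊕ τ) R →ₐ[R] MvPolynomial τ R).toRingHom := by
  have : (MvPolynomial.aeval (Sum.elim h MvPolynomial.X) :
      MvPolynomial (Fin n ⊕ τ) R →ₐ[R] MvPolynomial τ R).toRingHom =
      (MvPolynomial.eval h).comp (MvPolynomial.sumRingEquiv R (Fin n) τ).toRingHom :=
    MvPolynomial.ringHom_ext (fun r => by simp) (fun i => by cases i <;> simp)
  rw [this]
  exact (pcRing_of_bijective _ (MvPolynomial.sumRingEquiv R (Fin n) τ).bijective).comp (pcRing_mvEval h)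

lemma pcRing_elimRight {σ : Type} {k : ℕ} (g : Fin k → MvPolynomial σ R) :
    PCRing (MvPolynomial.aeval (Sum.elim MvPolynomial.X g) :
      MvPolynomial (σ ⊕ Fin k) R →ₐ[R] MvPolynomial σ R).toRingHom := by
  have : (MvPolynomial.aeval (Sum.elim MvPolynomial.X g) :
      MvPolynomial (σ ⊕ Fin k) R →ₐ[R] MvPolynomial σ R).toRingHom =
      (MvPolynomial.aeval (Sum.elim g MvPolynomial.X) :
        MvPolynomial (Fin k ⊕ σ) R →ₐ[R] MvPolynomial σ R).toRingHom.comp
      (MvPolynomial.renameEquiv R (Equiv.sumComm σ (Fin k))).toRingEquiv.toRingHom :=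
    MvPolynomial.ringHom_ext (fun r => by simp) (fun i => by cases i <;> simp)
  rw [this]
  exact (pcRing_of_bijective _
    (MvPolynomial.renameEquiv R (Equiv.sumComm σ (Fin k))).toRingEquiv.bijective).comp (pcRing_elimLeft g)

variable {B : Type u} [CommRing B] [Algebra R B]

/-- Relative pseudo-coherence does not depend on the presentation. -/
theorem pcn_indep {n k : ℕ} (α : MvPolynomial (Fin n) R →ₐ[R] B) (hα : Function.Surjective α)
    (β : MvPolynomial (Fin k) R →ₐ[R] B) (hβ : Function.Surjective β) (K : Dual.D B) (m : ℤ)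
    (h : PCn (ff (MvPolynomial (Fin n) R)) m ((DRing.restrictD α.toRingHom).obj K)) :
    PCn (ff (MvPolynomial (Fin k) R)) m ((DRing.restrictD β.toRingHom).obj K) := by
  choose g hg using fun j => hα (β (MvPolynomial.X j))
  choose h' hh' using fun i => hβ (α (MvPolynomial.X i))
  let p : MvPolynomial (Fin n ⊕ Fin k) R →ₐ[R] MvPolynomial (Fin n) R :=
    MvPolynomial.aeval (Sum.elim MvPolynomial.X g)
  let q : MvPolynomial (Fin n ⊕ Fin k) R →ₐ[R] MvPolynomial (Fin k) R :=
    MvPolynomial.aeval (Sum.elim h' MvPolynomial.X)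
  have hpq : α.comp p = β.comp q :=
    MvPolynomial.algHom_ext fun i => by cases i <;> simp [p, q, hg, hh']
  have hpq' : α.toRingHom.comp p.toRingHom = β.toRingHom.comp q.toRingHom :=
    congrArg AlgHom.toRingHom hpq
  obtain ⟨e₁⟩ := restrictD_comp p.toRingHom α.toRingHom K
  obtain ⟨e₂⟩ := restrictD_comp q.toRingHom β.toRingHom K
  refine pcn_of_res (pcRing_elimLeft h') ?_
  have h1 := (pcn_res (pcRing_elimRight g) h).of_iso e₁.symm
  rw [hpq'] at h1
  exact h1.of_iso e₂

end Groth.Agent.H54.PCPresent
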