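import Groth.Agent.Lib.DR.Representative
import Groth.Agent.Lib.DR.ExactPush
import Groth.Agent.Lib.DR.TopCohomology
import Groth.Prelude.Def_DDual2
import Mathlib.Algebra.Category.ModuleCat.ChangeOfRings
import Mathlib.RingTheory.Finiteness.Basic

/-!
# Restriction of scalars along pseudo-coherent ring maps
-/

universe u

open CategoryTheory CategoryTheory.Limits CategoryTheory.Pretriangulated
open Groth.Agent.Lib.DR
open Groth.Agent.Lib.DR.Basic Groth.Agent.Lib.DR.FiniteComplex Groth.Agent.Lib.DR.PseudoCoherent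
open Groth.Agent.Lib.DR.TopCohomology

attribute [local instance] HasDerivedCategory.standard

namespace Groth.Agent.H54.PCRestrict

variable {A B C : Type u} [CommRing A] [CommRing B] [CommRing C]

/-- The single complex of a module, in the derived category. -/
noncomputable abbrev sgl (A : Type u) [CommRing A] (n : ℤ) :
    ModuleCat.{u} A ⥤ Dual.D A := DerivedCategory.singleFunctor (ModuleCat.{u} A) n

/-- Restriction of scalars. -/
noncomputable abbrev res (φ : A →+* B) : ModuleCat.{u} B ⥤ ModuleCat.{u} A :=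
  ModuleCat.restrictScalars.{u} φ

/-- `φ` makes its target a pseudo-coherent module over its source. -/
def PCRing (φ : A →+* B) : Prop :=
  ∀ m : ℤ, PCn (ff A) m ((sgl A 0).obj ((res φ).obj (ModuleCat.of B B)))

variable {φ : A →+* B}

lemma pcn_res_ff (hφ : PCRing φ) (S : ModuleCat.{u} B) (hS : ff B S) (m n : ℤ) :
    PCn (ff A) m ((sgl A n).obj ((res φ).obj S)) := by
  refine (pcn_single_shift_iff good_ff _ m n).2 ?_
  have hfree : ∀ k : ℕ, PCn (ff A) (m - n) ((sgl A 0).obj ((res φ).obj (ModuleCat.of B (Fin k → B)))) := by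
    intro k
    induction k with
    | zero =>
      exact (bdd_zero good_ff ((sgl A 0).map_isZero ((res φ).map_isZero
        (ModuleCat.isZero_of_subsingleton _))) 0 0).pcn _
    | succ k ih =>
      let e : ModuleCat.of B (Fin (k + 1) → B) ≅ ModuleCat.of B B ⊞ ModuleCat.of B (Fin k → B) :=
        (Fin.consLinearEquiv B (fun _ : Fin (k + 1) => B)).symm.toModuleIso ≪≫
          (ModuleCat.biprodIsoProd (ModuleCat.of B B) (ModuleCat.of B (Fin k → B))).symm
      let F := res φ ⋙ sgl A 0
      have : PreservesBinaryBiproduct (ModuleCat.of B B) (ModuleCat.of B (Fin k → B)) F :=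
        preservesBinaryBiproduct_of_preservesBiproduct F _ _
      exact (PCn.biprod good_ff projective_of_ff (hφ _) ih).of_iso
        ((F.mapBiprod _ _).symm ≪≫ F.mapIso e.symm)
  obtain ⟨_, _⟩ := hS
  let b := (Module.Free.chooseBasis B S).reindex (Fintype.equivFin _)
  exact (hfree _).of_iso ((res φ ⋙ sgl A 0).mapIso b.equivFun.symm.toModuleIso)

lemma pcn_res (hφ : PCRing φ) {m : ℤ} {X : Dual.D B} (h : PCn (ff B) m X) :
    PCn (ff A) m ((DRing.restrictD φ).obj X) := by
  obtain ⟨E, a, b, f, hE, hp, hf⟩ := h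
  refine PCn.trans ?_ (ExactPush.coneLE_map (res φ) hf)
  refine bdd_induction good_ff (fun Y => PCn (ff A) m ((DRing.restrictD φ).obj Y))
    (fun hY => (bdd_zero good_ff ((DRing.restrictD φ).map_isZero hY) 0 0).pcn m)
    (fun T hT h₁ h₃ => PCn.ext good_ff projective_of_ff _
      ((DRing.restrictD φ).map_distinguished _ hT) h₁ h₃)
    E a b hE hp fun S i _ _ ⟨e⟩ => ?_
  exact (pcn_res_ff hφ S (good_ff.iso e.symm (hp i)) m i).of_iso (ExactPush.mapSingle (res φ) S i).symm

/-- Cohomology commutes with restriction of scalars. -/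
lemma homology_res (φ : A →+* B) (X : Dual.D B) (i : ℤ) :
    Nonempty ((DerivedCategory.homologyFunctor (ModuleCat.{u} A) i).obj ((DRing.restrictD φ).obj X) ≅
      (res φ).obj ((DerivedCategory.homologyFunctor (ModuleCat.{u} B) i).obj X)) := by
  obtain ⟨E, ⟨e⟩⟩ : ∃ E : DRing.Cx B, Nonempty (DerivedCategory.Q.obj E ≅ X) :=
    ⟨DerivedCategory.Q.objPreimage X, ⟨DerivedCategory.Q.objObjPreimageIso X⟩⟩
  exact ⟨(DerivedCategory.homologyFunctor (ModuleCat.{u} A) i).mapIso
    ((DRing.restrictD φ).mapIso e.symm ≪≫ ExactPush.mapQ (res φ) E) ≪≫ homologyQIso _ i ≪≫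
      (E.sc i).mapHomologyIso (res φ) ≪≫ (res φ).mapIso (homologyQIso E i).symm ≪≫
      (res φ).mapIso ((DerivedCategory.homologyFunctor (ModuleCat.{u} B) i).mapIso e)⟩

lemma isLE_of_res {X : Dual.D B} {n : ℤ} (h : DerivedCategory.IsLE ((DRing.restrictD φ).obj X) n) :
    X.IsLE n := by
  rw [isLE_iff_subsingleton] at h ⊢
  intro i hi
  obtain ⟨e⟩ := homology_res φ X i
  have := h i hi
  exact e.toLinearEquiv.toEquiv.symm.subsingleton

lemma finite_of_res (φ : A →+* B) (M : ModuleCat.{u} B) (h : Module.Finite A ((res φ).obj M)) :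
    Module.Finite B M := by
  let _ : Algebra A B := φ.toAlgebra
  let _ : Module A M := Module.compHom M φ
  have : IsScalarTower A B M := IsScalarTower.of_algebraMap_smul fun _ _ => rfl
  have : Module.Finite A M := h
  exact Module.Finite.of_restrictScalars_finite A B M

lemma pcn_of_res (hφ : PCRing φ) {m : ℤ} {X : Dual.D B} (h : PCn (ff A) m ((DRing.restrictD φ).obj X)) :
    PCn (ff B) m X := by
  obtain ⟨b, hb⟩ := h.exists_isLE
  suffices ∀ (k : ℕ) (b : ℤ) (X : Dual.D B), b + 1 ≤ m + k → X.IsLE b →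
      PCn (ff A) m ((DRing.restrictD φ).obj X) → PCn (ff B) m X from
    this (b + 1 - m).toNat b X (by lia) (isLE_of_res hb) h
  intro k
  induction k with
  | zero => intro b X hk hX _; exact pcn_of_isLE good_ff (isLE_mono hX (by lia))
  | succ k ih =>
    intro b X hk hX h
    by_cases hbm : b < m
    · exact pcn_of_isLE good_ff (isLE_mono hX (by lia))
    obtain ⟨P, M, f, g, δ, hd, hP, ⟨eM⟩, -⟩ := exists_peel_top X b hX
    obtain ⟨e⟩ := homology_res φ X b
    have hfin := (finite_top ((pcn_ff_iff_fproj _ _).1 h) (n := b) (by lia)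
      (ExactPush.isLE_map (res φ) hX)).1
    have : Module.Finite B M := by
      refine finite_of_res φ M ?_
      exact Module.Finite.equiv (e ≪≫ (res φ).mapIso eM).toLinearEquiv
    obtain ⟨F, π, hF, hπ⟩ := exists_free_cover (A := B) M
    have : Epi π := (ModuleCat.epi_iff_surjective π).2 hπ
    have hFb : Bdd (ff B) b b ((sgl B b).obj F) := bdd_single good_ff hF b
    obtain ⟨E, hE, hEp, ⟨eE⟩⟩ := hFb
    have := isKProjective_of_bounds projective_of_ff (fun i hi => hE i (Or.inr hi)) hEp
    have hzero : (eE.hom ≫ (sgl B b).map π) ≫ δ = 0 :=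
      hom_eq_zero_of_isKProjective (fun i hi => hE i (Or.inl hi))
        ((isLE_shift_iff' P 1 (b - 1) (b - 1 - 1) (by lia)).2 hP |> fun h' => isLE_mono h' (by lia)) _
    obtain ⟨ψ, hψ⟩ := Triangle.coyoneda_exact₃ _ hd (eE.hom ≫ (sgl B b).map π) hzero
    let θ : (sgl B b).obj F ⟶ X := eE.inv ≫ ψ
    have hθ : θ ≫ g = (sgl B b).map π := by
      have hψ' : ψ ≫ g = eE.hom ≫ (sgl B b).map π := hψ.symm
      exact (Category.assoc _ _ _).trans ((congrArg (eE.inv ≫ ·) hψ').trans (eE.inv_hom_id_assoc _))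
    have hmono : Mono ((DerivedCategory.homologyFunctor (ModuleCat.{u} B) b).map g) :=
      (DerivedCategory.HomologySequence.mono_homologyMap_mor₂_iff _ hd b).2
        ((DerivedCategory.isZero_of_isLE P (b - 1) b (by lia)).eq_of_src _ _)
    have hepi : Epi ((DerivedCategory.homologyFunctor (ModuleCat.{u} B) b).map θ) := by
      have hsurj : Function.Surjective ((DerivedCategory.homologyFunctor (ModuleCat.{u} B) b).map θ ≫
          (DerivedCategory.homologyFunctor (ModuleCat.{u} B) b).map g) := by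
        rw [← Functor.map_comp, hθ, ← ModuleCat.epi_iff_surjective]
        have := (coneLE_single_map π b).epi_map b (by lia)
        exact this
      rw [ModuleCat.epi_iff_surjective]
      intro x
      obtain ⟨y, hy⟩ := hsurj (((DerivedCategory.homologyFunctor (ModuleCat.{u} B) b).map g) x)
      exact ⟨y, (ModuleCat.mono_iff_injective _).1 hmono hy⟩
    obtain ⟨Z, g', δ', hd'⟩ := distinguished_cocone_triangle θ
    have hZ : Z.IsLE (b - 1) := by
      refine isLE_obj₃_of_coneLE _ hd' ((coneLE_iff θ (b - 1)).2 ⟨fun i hi => ?_, ?_⟩)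
      · exact ⟨0, (DerivedCategory.isZero_of_isLE ((sgl B b).obj F) b i (by lia)).eq_of_src _ _,
          (DerivedCategory.isZero_of_isLE X b i (by lia)).eq_of_src _ _⟩
      · rw [sub_add_cancel]; exact hepi
    have h1 : ∀ j, PCn (ff A) j ((DRing.restrictD φ).obj ((sgl B b).obj F)) := fun j =>
      (pcn_res_ff hφ F hF j b).of_iso (ExactPush.mapSingle (res φ) F b).symm
    have h3 : PCn (ff A) m ((DRing.restrictD φ).obj Z) :=
      PCn.cone good_ff projective_of_ff _ ((DRing.restrictD φ).map_distinguished _ hd') (h1 _) h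
    exact PCn.ext good_ff projective_of_ff _ hd'
      ((bdd_single good_ff hF b).pcn m) (ih (b - 1) Z (by lia) hZ h3)

theorem pcn_res_iff (hφ : PCRing φ) {m : ℤ} {X : Dual.D B} :
    PCn (ff A) m ((DRing.restrictD φ).obj X) ↔ PCn (ff B) m X :=
  ⟨pcn_of_res hφ, pcn_res hφ⟩

theorem isPseudoCoherent_res_iff (hφ : PCRing φ) (m : ℤ) (X : Dual.D B) :
    DRing.IsPseudoCoherent B m X ↔ DRing.IsPseudoCoherent A m ((DRing.restrictD φ).obj X) := by
  rw [isPseudoCoherent_iff, isPseudoCoherent_iff, pcn_res_iff hφ]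

theorem isPseudoCoherent'_res_iff (hφ : PCRing φ) (X : Dual.D B) :
    DRing.IsPseudoCoherent' B X ↔ DRing.IsPseudoCoherent' A ((DRing.restrictD φ).obj X) := by
  simp only [Representative.isPseudoCoherent'_iff_forall, pcn_res_iff hφ]

/-- Restriction along a composite. -/
lemma restrictD_comp (f : A →+* B) (g : B →+* C) (X : Dual.D C) :
    Nonempty ((DRing.restrictD (g.comp f)).obj X ≅ (DRing.restrictD f).obj ((DRing.restrictD g).obj X)) := by
  obtain ⟨E, ⟨e⟩⟩ : ∃ E : DRing.Cx C, Nonempty (DerivedCategory.Q.obj E ≅ X) :=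
    ⟨DerivedCategory.Q.objPreimage X, ⟨DerivedCategory.Q.objObjPreimageIso X⟩⟩
  exact ⟨(DRing.restrictD (g.comp f)).mapIso e.symm ≪≫ ExactPush.mapQ (res (g.comp f)) E ≪≫
    DerivedCategory.Q.mapIso
      ((NatIso.mapHomologicalComplex (ModuleCat.restrictScalarsComp.{u} f g) (ComplexShape.up ℤ)).app E) ≪≫
    (ExactPush.mapQ (res f) (((res g).mapHomologicalComplex _).obj E)).symm ≪≫
    (DRing.restrictD f).mapIso ((ExactPush.mapQ (res g) E).symm ≪≫ (DRing.restrictD g).mapIso e)⟩

lemma PCRing.comp {f : A →+* B} {g : B →+* C} (hf : PCRing f) (hg : PCRing g) : PCRing (g.comp f) :=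
  fun m => ((pcn_res hf (hg m)).of_iso (ExactPush.mapSingle (res f) _ 0)).of_iso
    ((sgl A 0).mapIso ((ModuleCat.restrictScalarsComp.{u} f g).app _).symm)

lemma pcn_free_one (m : ℤ) : PCn (ff A) m ((sgl A 0).obj (ModuleCat.of A A)) :=
  (bdd_single good_ff (P := ff A) ⟨inferInstanceAs (Module.Finite A A),
    inferInstanceAs (Module.Free A A)⟩ 0).pcn m

lemma pcRing_of_bijective (φ : A →+* B) (h : Function.Bijective φ) : PCRing φ := fun m =>
  (pcn_free_one m).of_iso ((sgl A 0).mapIso
    (LinearEquiv.toModuleIso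
      (LinearEquiv.ofBijective (M₂ := (res φ).obj (ModuleCat.of B B))
        { toFun := fun a => φ a
          map_add' := φ.map_add
          map_smul' := fun r a => φ.map_mul r a } h)))

end Groth.Agent.H54.PCRestrict
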