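import Groth.Agent.H54.PCDescent
import Groth.Agent.H54.PerfMor
import Groth.Agent.H54.PCHom
import Groth.Agent.H54.KoszulPerf
import Mathlib.AlgebraicGeometry.Morphisms.FinitePresentation

/-!
# Base change and descent of perfect maps
-/

universe u

open CategoryTheory CategoryTheory.Limits CategoryTheory.Pretriangulated AlgebraicGeometry
open Groth.Agent.Lib.DR
open Groth.Agent.Lib.DR.Basic Groth.Agent.Lib.DR.FiniteComplex Groth.Agent.Lib.DR.PseudoCoherent
open Groth.Agent.Lib.DR.BaseChange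
open Groth.Agent.H54.PCRestrict
open scoped TensorProduct

attribute [local instance] HasDerivedCategory.standard

namespace Groth.Agent.H54.PerfBaseChange

theorem perf_baseChange {R A R' : Type u} [CommRing R] [CommRing A] [CommRing R'] [Algebra R A]
    [Algebra R R'] [Module.Flat R R'] (h : MoreMor.IsPerfectHom R A) :
    MoreMor.IsPerfectHom R' (R' ⊗[R] A) := by
  obtain ⟨h1, d, hd⟩ := h
  exact ⟨PCBaseChange.hom_baseChange h1, d, (TorDim.hasTorDimLE_iff _ _).2
    (FlatBC.bdd_inD (ext_flat _) ((TorDim.hasTorDimLE_iff _ _).1 hd))⟩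

theorem perf_descent {R A R' : Type u} [CommRing R] [CommRing A] [CommRing R'] [Algebra R A]
    [Algebra R R'] [Module.FaithfullyFlat R R'] (h : MoreMor.IsPerfectHom R' (R' ⊗[R] A)) :
    MoreMor.IsPerfectHom R A := by
  obtain ⟨h1, d, hd⟩ := h
  exact ⟨PCDescent.hom_descent h1, d, (TorDim.hasTorDimLE_iff _ _).2
    (Descent.bdd_flat_desc (Descent.detects_faithfullyFlat R') (Dual.inD R A) _ _ fun _ =>
      ((TorDim.hasTorDimLE_iff _ _).1 hd).of_iso (FlatBC.mapInD (A := R) (B := R') (M := A)).symm)⟩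

theorem Qp_baseChange {R A R' A' : CommRingCat.{u}} {a : R ⟶ A} {b : R ⟶ R'} {c : A ⟶ A'} {d : R' ⟶ A'}
    (h : IsPushout a b c d) (ha : PerfMor.Qp a.hom) (hb : b.hom.Flat) : PerfMor.Qp d.hom := by
  algebraize [a.hom, b.hom, c.hom, d.hom, c.hom.comp a.hom]
  have : IsScalarTower R R' A' := IsScalarTower.of_algebraMap_eq' (congrArg CommRingCat.Hom.hom h.w)
  have : Algebra.IsPushout R R' A A' := CommRingCat.isPushout_iff_isPushout.mp h.flip
  have hT := perf_baseChange (R' := R') ((PerfMor.Qp_algebraMap R A).1 ha)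
  let e : R' ⊗[R] A ≃ₐ[R'] A' := Algebra.IsPushout.equiv R R' A A'
  have h2 := PerfMor.Qp_isLocal.respectsIso.left (algebraMap R' (R' ⊗[R] A)) e.toRingEquiv
    ((PerfMor.Qp_algebraMap _ _).2 hT)
  have h3 : e.toRingEquiv.toRingHom.comp (algebraMap R' (R' ⊗[R] A)) = d.hom :=
    RingHom.ext fun r => e.commutes r
  rwa [h3] at h2

theorem Qp_descent {R A R' A' : CommRingCat.{u}} {a : R ⟶ A} {b : R ⟶ R'} {c : A ⟶ A'} {d : R' ⟶ A'}
    (h : IsPushout a b c d) (hd : PerfMor.Qp d.hom) (hb : b.hom.FaithfullyFlat) : PerfMor.Qp a.hom := by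
  algebraize [a.hom, b.hom, c.hom, d.hom, c.hom.comp a.hom]
  have : IsScalarTower R R' A' := IsScalarTower.of_algebraMap_eq' (congrArg CommRingCat.Hom.hom h.w)
  have : Algebra.IsPushout R R' A A' := CommRingCat.isPushout_iff_isPushout.mp h.flip
  let e : R' ⊗[R] A ≃ₐ[R'] A' := Algebra.IsPushout.equiv R R' A A'
  have h2 := PerfMor.Qp_isLocal.respectsIso.left d.hom e.symm.toRingEquiv hd
  have h3 : e.symm.toRingEquiv.toRingHom.comp d.hom = algebraMap R' (R' ⊗[R] A) :=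
    RingHom.ext fun r => e.symm.commutes r
  exact (PerfMor.Qp_algebraMap R A).2 (perf_descent ((PerfMor.Qp_algebraMap _ _).1 (h3 ▸ h2)))

theorem mor_baseChange {X S X' S' : Scheme.{u}} (f : X ⟶ S) (f' : X' ⟶ S') (g' : X' ⟶ X) (g : S' ⟶ S)
    [Flat g] (hc : IsPullback g' f' f g) (hf : MoreMor.IsPerfectMor f) :
    MoreMor.IsPerfectMor f' := by
  rw [PerfMor.iff_exists]
  intro x
  obtain ⟨_, ⟨(W : S.Opens), (hW : IsAffineOpen W), rfl⟩, hxW, -⟩ :=
    S.isBasis_affineOpens.exists_subset_of_mem_open (Set.mem_univ (g (f' x))) isOpen_univ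
  obtain ⟨_, ⟨(V : S'.Opens), (hV : IsAffineOpen V), rfl⟩, hxV, hVW⟩ :=
    S'.isBasis_affineOpens.exists_subset_of_mem_open (show f' x ∈ g ⁻¹ᵁ W from hxW) (g ⁻¹ᵁ W).isOpen
  have hxW' : g' x ∈ f ⁻¹ᵁ W := by
    show f (g' x) ∈ W
    rw [← Scheme.Hom.comp_apply, hc.w, Scheme.Hom.comp_apply]
    exact hxW
  obtain ⟨_, ⟨(U : X.Opens), (hU : IsAffineOpen U), rfl⟩, hxU, hUW⟩ :=
    X.isBasis_affineOpens.exists_subset_of_mem_open hxW' (f ⁻¹ᵁ W).isOpen
  let UY := g' ⁻¹ᵁ U ⊓ f' ⁻¹ᵁ V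
  have hp := Scheme.Hom.isPullback_resLE hc hVW hUW (rfl : UY = _)
  have hUY : IsAffineOpen UY := by
    haveI : IsAffine W.toScheme := hW
    haveI : IsAffine V.toScheme := hV
    haveI : IsAffine U.toScheme := hU
    exact .of_isIso hp.isoPullback.hom
  refine ⟨UY, V, inf_le_right, hUY, hV, ⟨hxU, hxV⟩, ?_⟩
  exact Qp_baseChange
    ((isIso_pushoutSection_iff hc hVW hUW (rfl : UY = _)).mp
      (isIso_pushoutSection_of_isAffineOpen hc hVW hUW rfl hW hV hU))
    (hf U W hU hW hUW) (g.flat_appLE hW hV hVW)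

theorem mor_descent {X S X' S' : Scheme.{u}} (f : X ⟶ S) (f' : X' ⟶ S') (g' : X' ⟶ X) (g : S' ⟶ S)
    [Flat g] [Surjective g] [QuasiCompact g] (hc : IsPullback g' f' f g)
    (hf' : MoreMor.IsPerfectMor f') : MoreMor.IsPerfectMor f := by
  intro U V hU hV hUV
  have : CompactSpace ↥(g ⁻¹ᵁ V).toScheme :=
    isCompact_iff_compactSpace.mp (g.isCompact_preimage hV.isCompact)
  obtain ⟨T, p, hps, hloc, hT⟩ := (g ⁻¹ᵁ V).toScheme.exists_hom_isAffine_of_isZariskiLocalAtSource @IsLocalIso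
  let q : T ⟶ S' := p ≫ (g ⁻¹ᵁ V).ι
  let h : T ⟶ S := q ≫ g
  have : IsLocalIso p := hloc
  have : Flat p := (IsLocalIso.le_of_isZariskiLocalAtSource @Flat) _ _ p hloc
  have hc' : IsPullback (hc.lift (pullback.fst f h) (pullback.snd f h ≫ q)
      (by rw [Category.assoc]; exact pullback.condition)) (pullback.snd f h) f' q := by
    refine IsPullback.of_right ?_ (hc.lift_snd _ _ _) hc
    rw [hc.lift_fst]
    exact IsPullback.of_hasPullback f h
  have hfT : MoreMor.IsPerfectMor (pullback.snd f h) :=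
    mor_baseChange f' (pullback.snd f h) _ q hc' hf'
  have hle : (⊤ : T.Opens) ≤ h ⁻¹ᵁ V := fun t _ => by
    show g ((g ⁻¹ᵁ V).ι (p t)) ∈ V
    exact (p t).2
  have hsq : IsPullback (pullback.fst f h) (pullback.snd f h) f h := IsPullback.of_hasPullback f h
  let UY := pullback.fst f h ⁻¹ᵁ U ⊓ pullback.snd f h ⁻¹ᵁ (⊤ : T.Opens)
  have htop : IsAffineOpen (⊤ : T.Opens) := isAffineOpen_top T
  have hp := Scheme.Hom.isPullback_resLE hsq hle hUV (rfl : UY = _)
  have hUY : IsAffineOpen UY := by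
    haveI : IsAffine V.toScheme := hV
    haveI : IsAffine (⊤ : T.Opens).toScheme := htop
    haveI : IsAffine U.toScheme := hU
    exact .of_isIso hp.isoPullback.hom
  have hb : (h.appLE V ⊤ hle).hom.FaithfullyFlat := by
    rw [RingHom.FaithfullyFlat.iff_flat_and_comap_surjective]
    refine ⟨h.flat_appLE hV htop hle, ?_⟩
    intro P
    obtain ⟨s', hs'⟩ := g.surjective (hV.fromSpec P)
    have hmem : s' ∈ g ⁻¹ᵁ V := by
      show g s' ∈ V
      rw [hs']
      exact hV.range_fromSpec.subset (Set.mem_range_self P)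
    obtain ⟨t, ht⟩ := p.surjective ⟨s', hmem⟩
    have htop' : t ∈ Set.range htop.fromSpec := by rw [htop.range_fromSpec]; trivial
    obtain ⟨P', rfl⟩ := htop'
    refine ⟨P', hV.fromSpec.isOpenEmbedding.injective ?_⟩
    show hV.fromSpec (Spec.map (h.appLE V ⊤ hle) P') = _
    rw [← Scheme.Hom.comp_apply, IsAffineOpen.SpecMap_appLE_fromSpec h hV htop hle, Scheme.Hom.comp_apply]
    show g ((g ⁻¹ᵁ V).ι (p (htop.fromSpec P'))) = _
    rw [ht]
    exact hs'
  exact Qp_descent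
    ((isIso_pushoutSection_iff hsq hle hUV (rfl : UY = _)).mp
      (isIso_pushoutSection_of_isAffineOpen hsq hle hUV rfl hV htop hU))
    (hfT UY ⊤ hUY htop inf_le_right) hb

theorem mor_of_lci {X S : Scheme.{u}} (f : X ⟶ S)
    (hf : ∀ (U : X.Opens) (V : S.Opens) (_ : IsAffineOpen U) (_ : IsAffineOpen V) (hUV : U ≤ f ⁻¹ᵁ V),
        letI := (f.appLE V U hUV).hom.toAlgebra
        LCI.IsLCI Γ(S, V) Γ(X, U)) :
    LocallyOfFinitePresentation f ∧ MoreMor.IsPseudoCoherentMor f ∧ MoreMor.IsPerfectMor f := by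
  have hp : MoreMor.IsPerfectMor f := fun U V hU hV e => by
    let _ := (f.appLE V U e).hom.toAlgebra
    exact KoszulPerf.hom_of_isLCI (hf U V hU hV e)
  refine ⟨⟨fun {V} hV {U} hU e => ?_⟩, fun U V hU hV e => (hp U V hU hV e).1, hp⟩
  let _ := (f.appLE V U e).hom.toAlgebra
  exact PCHom.finitePresentation_of_isPseudoCoherentHom (hp U V hU hV e).1

end Groth.Agent.H54.PerfBaseChange
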