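import Groth.Agent.H54.KoszulPerf
import Groth.Agent.Lib.Perfect.TildeD
import Groth.Agent.Lib.Perfect.Regular
import Groth.Agent.Lib.QCoh.Pushforward
import Groth.Agent.Lib.QCoh.Tilde

/-!
# Direct images of the structure module along perfect closed immersions are perfect
-/

universe u

open CategoryTheory CategoryTheory.Limits AlgebraicGeometry
open Groth.Agent.Lib
open Groth.Agent.Lib.DR Groth.Agent.Lib.DR.Basic Groth.Agent.Lib.DR.FiniteComplex
open Groth.Agent.Lib.DR.PseudoCoherent Groth.Agent.Lib.DR.TorAmp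

attribute [local instance] HasDerivedCategory.standard

namespace Groth.Agent.H54.PerfPush

/-- A perfect finite algebra is perfect as a module. -/
theorem pf_of_hom {A B : Type u} [CommRing A] [CommRing B] [Algebra A B] [Module.Finite A B]
    (h : MoreMor.IsPerfectHom A B) : Perfect.Pf (Dual.inD A B) := by
  obtain ⟨hpc, d, hd⟩ := h
  exact pf_of_pcn_of_flat ((Representative.isPseudoCoherent'_iff_forall _).1
    ((PCFinite.hom_iff_module A B).1 hpc) _) ((TorDim.hasTorDimLE_iff B d).1 hd)

set_option backward.isDefEq.respectTransparency.types false in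
theorem isPerfect_push {Z X : Scheme.{u}} (i : Z ⟶ X) [IsClosedImmersion i]
    (hi : MoreMor.IsPerfectMor i) :
    DCoh.IsPerfect (DCoh.inD X ((Scheme.Modules.pushforward i).obj (Coh.structureModule Z))) := by
  rw [Perfect.Triangle.isPerfect_iff]
  intro x
  obtain ⟨_, ⟨U, hU, rfl⟩, hxU, -⟩ :=
    X.isBasis_affineOpens.exists_subset_of_mem_open (Set.mem_univ x) isOpen_univ
  obtain ⟨y, hy⟩ : x ∈ Set.range hU.fromSpec := by
    rw [IsAffineOpen.range_fromSpec]; exact hxU
  let R : CommRingCat.{u} := Γ(X, U)
  let j : Spec R ⟶ X := hU.fromSpec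
  let O : Z.Modules := Coh.structureModule Z
  haveI : O.IsQuasicoherent := TensorMod.QCohInv.isQCoh_structureModule _
  let P := (Scheme.Modules.pushforward i).obj O
  haveI : P.IsQuasicoherent := QCoh.Pushforward.isQCoh_pushforward i
  let M := (Scheme.Modules.restrictFunctor j).obj P
  haveI : M.IsQuasicoherent := inferInstance
  let W : X.Opens := j ''ᵁ ⊤
  have hW : IsAffineOpen W := (isAffineOpen_top _).image_of_isOpenImmersion j
  let B : Type u := Γ(Z, i ⁻¹ᵁ W)
  let θ : R ≃+* Γ(X, W) :=
    ((Scheme.ΓSpecIso R).symm ≪≫ (j.appIso ⊤).symm).commRingCatIsoToRingEquiv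
  let ψ : R →+* B := (i.app W).hom.comp θ.toRingHom
  have hsurj : Function.Surjective ψ := (i.app_surjective W hW).comp θ.surjective
  have hQ : PerfMor.Qp ψ := PerfMor.Qp_isLocal.respectsIso.2 (i.app W).hom θ (by
    have := hi (i ⁻¹ᵁ W) W (hW.preimage i) hW le_rfl
    rw [Scheme.Hom.app_eq_appLE]
    exact this)
  letI : Algebra R B := ψ.toAlgebra
  have : Module.Finite R B := Module.Finite.of_surjective (Algebra.linearMap R B) hsurj
  have hpf : Perfect.Pf (Dual.inD R B) := pf_of_hom hQ
  haveI : PreservesFiniteLimits (tilde.functor R) := inferInstance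
  let N : ModuleCat.{u} R := (QCoh.Tilde.specΓ R).obj M
  let e' : B ≃ₗ[R] N :=
    { toFun := fun b => b
      invFun := fun b => b
      map_add' := fun _ _ => rfl
      left_inv := fun _ => rfl
      right_inv := fun _ => rfl
      map_smul' := fun a b => by
        rfl }
  let e : ModuleCat.of R B ≅ (QCoh.Tilde.specΓ R).obj M := e'.toModuleIso
  have h1 : DCoh.IsPerfect (DCoh.inD (Spec R) M) :=
    Perfect.Triangle.isPerfect_of_iso
      (((tilde.functor R).mapDerivedCategorySingleFunctor 0).app _ ≪≫
        (DerivedCategory.singleFunctor _ 0).mapIso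
          ((tilde.functor R).mapIso e ≪≫ QCoh.Tilde.isoTildeSections M))
      (Perfect.TildeD.isPerfect_of_pf hpf)
  exact Perfect.Triangle.PerfAt.of_restrict (j := j) hy
    (((Perfect.Triangle.isPerfect_iff _).1 h1 y).of_iso (Perfect.Regular.RDinD j P).symm)

end Groth.Agent.H54.PerfPush
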