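import Groth.Agent.H54.PerfMor
import Groth.Agent.Lib.DR.RegularPerfect
import Mathlib.RingTheory.RegularLocalRing.Polynomial
import Mathlib.AlgebraicGeometry.Noetherian
import Mathlib.AlgebraicGeometry.Morphisms.FiniteType

/-!
# Finite type maps out of regular rings are perfect
-/

universe u

open CategoryTheory CategoryTheory.Limits CategoryTheory.Pretriangulated AlgebraicGeometry
open Groth.Agent.Lib.DR
open Groth.Agent.H54.PCRestrict

attribute [local instance] HasDerivedCategory.standard

namespace Groth.Agent.H54.PerfRegular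

theorem hom_of_regular (A B : Type u) [CommRing A] [CommRing B] [Algebra A B] [IsRegularRing A]
    [Algebra.FiniteType A B] : MoreMor.IsPerfectHom A B := by
  obtain ⟨n, φ, hφ⟩ := Algebra.FiniteType.iff_quotient_mvPolynomial''.mp ‹Algebra.FiniteType A B›
  have : Module.Finite (MvPolynomial (Fin n) A) ((res φ.toRingHom).obj (ModuleCat.of B B)) :=
    (RelPC.finite_res_iff φ.toRingHom hφ (ModuleCat.of B B)).2 (inferInstanceAs (Module.Finite B B))
  refine (PerfHom.pf_iff_of_surjective φ hφ).2 ?_
  generalize (res φ.toRingHom).obj (ModuleCat.of B B) = N at this ⊢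
  exact RegularPerfect.pmod_of_regular (fun p => inferInstance) N

theorem mor_of_regular {X S : Scheme.{u}} (f : X ⟶ S) [LocallyOfFiniteType f] [IsLocallyNoetherian S]
    (hreg : ∀ s : S, IsRegularLocalRing (S.presheaf.stalk s)) : MoreMor.IsPerfectMor f := by
  intro U V hU hV e
  algebraize [(f.appLE V U e).hom]
  have : Algebra.FiniteType Γ(S, V) Γ(X, U) := f.finiteType_appLE hV hU e
  have : IsNoetherianRing Γ(S, V) := IsLocallyNoetherian.component_noetherian ⟨V, hV⟩
  have : IsRegularRing Γ(S, V) := by
    rw [isRegularRing_iff]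
    intro p hp
    let x := hV.fromSpec ⟨p, hp⟩
    have hx : x ∈ V := hV.range_fromSpec.subset (Set.mem_range_self (⟨p, hp⟩ : PrimeSpectrum Γ(S, V)))
    letI := S.presheaf.algebra_section_stalk (⟨x, hx⟩ : V)
    have hxp : hV.primeIdealOf ⟨x, hx⟩ = ⟨p, hp⟩ := hV.fromSpec.isOpenEmbedding.injective (hV.fromSpec_primeIdealOf _)
    have hl : IsLocalization.AtPrime (S.presheaf.stalk x) (hV.primeIdealOf ⟨x, hx⟩).asIdeal :=
      hV.isLocalization_stalk ⟨x, hx⟩
    have hq : (hV.primeIdealOf ⟨x, hx⟩).asIdeal.primeCompl = p.primeCompl := by rw [hxp]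
    have : IsLocalization p.primeCompl (S.presheaf.stalk x) := hq ▸ hl
    have := hreg x
    exact IsRegularLocalRing.of_ringEquiv
      (IsLocalization.algEquiv p.primeCompl (S.presheaf.stalk x) (Localization.AtPrime p)).toRingEquiv
  exact hom_of_regular Γ(S, V) Γ(X, U)

end Groth.Agent.H54.PerfRegular
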