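import Groth.Agent.Lib.Curves.RelH2
import Groth.Agent.Lib.Amp36.Chart
import Groth.Agent.Lib.Ample.Restrict
import Groth.Agent.H52.PushInv
import Groth.Agent.H34.GlobGen
import Groth.Agent.S2431

/-!
# Invertible modules trivial on the fibres of a morphism with fibres of dimension at most one

They are generated near every fibre by a section.
-/

set_option autoImplicit false
set_option linter.style.haveILetI false
universe u

open CategoryTheory CategoryTheory.Limits AlgebraicGeometry TopologicalSpace Opposite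
open Groth.Agent.Lib Groth.Agent.Lib.TensorMod Groth.Agent.Lib.TensorMod.Dual Groth.Agent.Lib.TensorMod.Gen
open Groth.Agent.Lib.Ample Groth.Agent.Lib.Ample.GenLocus

namespace Groth.Agent.H54.PicFib

noncomputable section

/-- Over a field, a function on a connected scheme which is universally closed is
invertible everywhere as soon as it is so somewhere. -/
theorem basicOpen_eq_top {K : Type u} [Field K] {Z : Scheme.{u}} (σ : Z ⟶ Spec (CommRingCat.of K))
    [UniversallyClosed σ] [ConnectedSpace Z] (h : Γ(Z, ⊤)) {z : Z}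
    (hz : z ∈ Z.basicOpen h) : Z.basicOpen h = ⊤ := by
  let φ := ((Scheme.ΓSpecIso (CommRingCat.of K)).inv ≫ σ.appTop).hom
  have hint : φ.IsIntegral :=
    RingHom.IsIntegral.trans _ _ (RingHom.isIntegral_of_surjective _
      (ConcreteCategory.bijective_of_isIso (Scheme.ΓSpecIso (CommRingCat.of K)).inv).2)
      (isIntegral_appTop_of_universallyClosed σ)
  letI := φ.toAlgebra
  haveI : Module.Finite K (Algebra.adjoin K {h}) := Algebra.finite_adjoin_simple_of_isIntegral (hint h)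
  haveI : IsArtinianRing (Algebra.adjoin K {h}) := IsArtinianRing.of_finite K _
  obtain ⟨n, a, ha⟩ : ∃ (n : ℕ) (a : Γ(Z, ⊤)), h ^ (n + 1) = h ^ (n + 1 + 1) * a := by
    let h' : Algebra.adjoin K {h} := ⟨h, Algebra.self_mem_adjoin_singleton K h⟩
    obtain ⟨n, hn⟩ := IsArtinian.monotone_stabilizes (R := Algebra.adjoin K {h}) (M := Algebra.adjoin K {h})
      ⟨fun n => OrderDual.toDual (Ideal.span {h' ^ (n + 1)}), fun m m' hm => OrderDual.toDual_le_toDual.2
        (Ideal.span_singleton_le_span_singleton.2 (pow_dvd_pow h' (Nat.succ_le_succ hm)))⟩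
    have h1 : h' ^ (n + 1) ∈ Ideal.span {h' ^ (n + 1 + 1)} := by
      have := OrderDual.toDual.injective (hn (n + 1) (Nat.le_succ n))
      rw [← this]; exact Ideal.mem_span_singleton_self _
    obtain ⟨a, ha⟩ := Ideal.mem_span_singleton.1 h1
    exact ⟨n, a.1, congrArg Subtype.val ha⟩
  have hle : ∀ y : Z, y ∉ Z.basicOpen h → y ∈ Z.basicOpen (1 - h * a) := fun y hy => by
    rw [Scheme.mem_basicOpen_top] at hy ⊢
    rw [map_sub, map_one, map_mul]
    exact IsLocalRing.isUnit_one_sub_self_of_mem_nonunits _ fun hu => hy (isUnit_of_mul_isUnit_left hu)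
  have hdis : ∀ y : Z, y ∈ Z.basicOpen h → y ∉ Z.basicOpen (1 - h * a) := fun y hy hy' => by
    rw [Scheme.mem_basicOpen_top] at hy hy'
    have h0 : (h ^ (n + 1)) * (1 - h * a) = 0 := by
      rw [mul_sub, mul_one, sub_eq_zero, ← mul_assoc, ← pow_succ]; exact ha
    have h1 := congrArg (Z.presheaf.germ ⊤ y trivial) h0
    rw [map_mul, map_pow, map_zero] at h1
    exact not_isUnit_zero (h1 ▸ (hy.pow (n + 1)).mul hy')
  have hclopen : IsClopen (Z.basicOpen h : Set Z) := by
    refine ⟨⟨?_⟩, (Z.basicOpen h).isOpen⟩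
    have e : (Z.basicOpen h : Set Z)ᶜ = Z.basicOpen (1 - h * a) :=
      Set.ext fun y => ⟨hle y, fun hy' hy => hdis y hy hy'⟩
    rw [e]
    exact (Z.basicOpen (1 - h * a)).isOpen
  exact Opens.ext (hclopen.eq_univ ⟨z, hz⟩)

/-- A generator of the restriction to an open generates the module there. -/
theorem isGen_of_restrict {X : Scheme.{u}} {M : X.Modules} (U : X.Opens) {G : (U : Scheme.{u}).Opens}
    {e : Γ(M.restrict U.ι, G)} (he : IsGen (M.restrict U.ι) G e) :
    IsGen M (U.ι ''ᵁ G) ((M.restrictAppIso U.ι G).hom e) := fun V hV => by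
  obtain ⟨V', hV', rfl⟩ : ∃ V' : (U : Scheme.{u}).Opens, V' ≤ G ∧ U.ι ''ᵁ V' = V := by
    refine ⟨U.ι ⁻¹ᵁ V, fun v hv => ?_, ?_⟩
    · obtain ⟨w, hw, hwv⟩ := hV hv
      exact U.ι.isOpenEmbedding.injective hwv ▸ hw
    · rw [Scheme.Hom.image_preimage_eq_opensRange_inf, Scheme.Opens.opensRange_ι]
      exact inf_eq_right.2 (hV.trans (by rintro _ ⟨w, -, rfl⟩; exact w.2))
  refine (iff_of_eq (congrArg Function.Bijective (funext fun a => ?_))).1
    ((he V' hV').comp (ConcreteCategory.bijective_of_isIso (U.ι.appIso V').hom))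
  show (U.ι.appIso V').inv ((U.ι.appIso V').hom a) • rs M hV ((M.restrictAppIso U.ι G).hom e) = _
  rw [Iso.hom_inv_id_apply]

variable {X Y : Scheme.{u}} (f : X ⟶ Y) [IsProper f] [IsLocallyNoetherian Y]
  (hO : ∀ U : Y.Opens, IsIso (f.app U))
  (hdim : ∀ y : Y, topologicalKrullDim ↥(f.fiber y) ≤ 1)
  (hH1 : ∀ y : Y, Subsingleton (Coh.HH (f.fiber y) (Coh.structureModule (f.fiber y)) 1))
  {L : X.Modules} (hL : PicF.IsInvertible L)
  (htriv : ∀ y : Y, Nonempty ((Scheme.Modules.pullback (f.fiberι y)).obj L ≅ Coh.structureModule (f.fiber y)))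

include hO hdim hH1 hL htriv

theorem exists_gen (y : Y) : ∃ (W : Y.Opens) (e : Γ(L, f ⁻¹ᵁ W)), y ∈ W ∧ IsGen L (f ⁻¹ᵁ W) e := by
  obtain ⟨W, hW, hyW, -⟩ := exists_isAffineOpen_mem_and_subset (U := ⊤) (x := y) trivial
  let A := Γ(Y, W)
  haveI : IsNoetherianRing A := IsLocallyNoetherian.component_noetherian ⟨W, hW⟩
  let X₁ : Scheme.{u} := (f ⁻¹ᵁ W).toScheme
  let j : X₁ ⟶ X := (f ⁻¹ᵁ W).ι
  letI := Amp36.Chart.ov f hW
  haveI := Amp36.Chart.isProper_ov f hW
  have hd : ∀ t ∈ W, topologicalKrullDim ↥(f.fiber t) ≤ ((1 : ℕ) : WithBot ℕ∞) := fun t _ => hdim t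
  have hfib : ∀ t : ↥(Spec (CommRingCat.of A)),
      topologicalKrullDim ↥((X₁ ↘ Spec (CommRingCat.of A)).fiber t) ≤ 1 := Amp36.Chart.fiber_dim f hW 1 hd
  have h1 : Subsingleton (Coh.HH X₁ (Coh.structureModule X₁) 1) :=
    haveI : Subsingleton (Coh.HH X₁ ((CohIII.tensorAFunctor A (Coh.structureModule X₁)).obj (ModuleCat.of A A)) 1) :=
      Amp36.Chart.zero_all f hW 1 hd (fun t _ => hH1 t) (ModuleCat.of A A)
    (Curves.LES.isoK A (ZarCoh.Exchange.Main.oneIso A (Coh.structureModule X₁)) 1).symm.toEquiv.subsingleton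
  have h2 := Curves.RelH2.subsingleton_h2 (A := A) (X := X₁) hfib
  let L₁ := L.restrict j
  let α : L₁ ≅ (Scheme.Modules.pullback j).obj L := (Scheme.Modules.restrictFunctorIsoPullback j).app L
  have hL₁ : PicF.IsInvertible L₁ := Invertible.isInvertible_of_iso α.symm (PicLoc.isInvertible_pullback j hL)
  have hnef : ∀ (K : Type u) [Field K] (i : A →+* K) (J : X₁.IdealSheafData)
      (t : J.subscheme ⟶ Spec (CommRingCat.of K)),
      AlgebraicGeometry.IsIntegral J.subscheme → topologicalKrullDim ↥J.subscheme = 1 →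
      t ≫ Spec.map (CommRingCat.ofHom i) = J.subschemeι ≫ (X₁ ↘ Spec (CommRingCat.of A)) →
      0 ≤ @Curv2.deg K _ J.subscheme ⟨t⟩ ((Scheme.Modules.pullback J.subschemeι).obj L₁) 1 := by
    intro K _ i J t _ _ ht
    let σ : Spec (CommRingCat.of K) ⟶ Y := Spec.map (CommRingCat.ofHom i) ≫ hW.isoSpec.inv ≫ W.ι
    have hc : (J.subschemeι ≫ j) ≫ f = t ≫ σ := by
      rw [reassoc_of% ht]
      show _ = J.subschemeι ≫ (f ∣_ W ≫ hW.isoSpec.hom) ≫ hW.isoSpec.inv ≫ W.ι
      simp only [Category.assoc, Iso.hom_inv_id_assoc, morphismRestrict_ι]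
      rfl
    obtain ⟨⟨s, φ⟩, hσ⟩ : ∃ p, (Scheme.SpecToEquivOfField K Y).symm p = σ :=
      ⟨_, Equiv.symm_apply_apply _ _⟩
    let c : J.subscheme ⟶ f.fiber s := pullback.lift (J.subschemeι ≫ j) (t ≫ Spec.map φ) (by
      rw [hc, Category.assoc, ← hσ]; rfl)
    have hce : c ≫ f.fiberι s = J.subschemeι ≫ j := pullback.lift_fst _ _ _
    obtain ⟨τ⟩ := htriv s
    let κ : (Scheme.Modules.pullback J.subschemeι).obj L₁ ≅ Coh.structureModule J.subscheme :=
      (Scheme.Modules.pullback J.subschemeι).mapIso α ≪≫ (Scheme.Modules.pullbackComp _ _).app L ≪≫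
        (Scheme.Modules.pullbackCongr hce.symm).app L ≪≫ ((Scheme.Modules.pullbackComp _ _).app L).symm ≪≫
        (Scheme.Modules.pullback c).mapIso τ ≪≫ PicLoc.pullbackStructureIso c
    letI : J.subscheme.Over (Spec (CommRingCat.of K)) := ⟨t⟩
    have he : Curv2.euler K J.subscheme ((Scheme.Modules.pullback J.subschemeι).obj L₁) =
        Curv2.euler K J.subscheme (Coh.structureModule J.subscheme) :=
      finsum_congr fun n => by rw [(Curves.LES.isoK K κ n).finrank_eq]
    exact le_of_eq (by simp [Curv2.deg, he])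
  have hgg := Curves.RelNef.isGloballyGenerated h2 h1 hfib hL₁ hnef
  haveI : ConnectedSpace (f.fiber y) := (Groth.Agent.S2431.result f hO).1 y
  let z₀ : f.fiber y := Classical.arbitrary _
  have hmem : ∀ z : f.fiber y, f (f.fiberι y z) = y := fun z => by
    have h : f.fiberι y z ∈ Set.range (f.fiberι y) := ⟨z, rfl⟩
    rw [f.range_fiberι] at h
    exact h
  have hr : Set.range (f.fiberι y) ⊆ Set.range j := by
    rintro _ ⟨z, rfl⟩
    rw [Scheme.Opens.range_ι]
    show f (f.fiberι y z) ∈ W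
    rw [hmem]; exact hyW
  let c := IsOpenImmersion.lift j (f.fiberι y) hr
  have hc : c ≫ j = f.fiberι y := IsOpenImmersion.lift_fac _ _ _
  obtain ⟨s, hs⟩ := GG.exists_genLocus_of_genAt hL₁ (x := c z₀) (H34.GlobGen.gl_eq_top_of_gg hgg (c z₀))
  obtain ⟨τ⟩ := htriv y
  let β : (Scheme.Modules.pullback c).obj L₁ ≅ Coh.structureModule (f.fiber y) :=
    (Scheme.Modules.pullback c).mapIso α ≪≫ (Scheme.Modules.pullbackComp c j).app L ≪≫
      (Scheme.Modules.pullbackCongr hc).app L ≪≫ τ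
  let s' := ((PicLoc.pullbackStructureIso c).inv ≫ (Scheme.Modules.pullback c).map s) ≫ β.hom
  have hs' : CohB1.genLocus _ s' = c ⁻¹ᵁ CohB1.genLocus L₁ s := by
    rw [genLocus_comp_iso]
    exact genLocus_pullback c hL₁ s (PicLoc.pullbackStructureIso c).symm
  obtain ⟨a, ha⟩ := exists_coord (isGen_one (⊤ : (f.fiber y).Opens)) (sv s' ⊤)
  have hb : CohB1.genLocus _ s' = (f.fiber y).basicOpen a := by
    rw [← genLocus_inf_eq (isGen_one ⊤) s' ha, inf_top_eq]
  haveI : UniversallyClosed (f.fiberToSpecResidueField y) :=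
    inferInstanceAs (UniversallyClosed (pullback.snd f (Y.fromSpecResidueField y)))
  have htop : (f.fiber y).basicOpen a = ⊤ :=
    basicOpen_eq_top (K := Y.residueField y) (f.fiberToSpecResidueField y) a (z := z₀)
      (by rw [← hb, hs']; exact hs)
  let G := j ''ᵁ CohB1.genLocus L₁ s
  have hfib' : ∀ x, f x = y → x ∈ G := fun x hx => by
    obtain ⟨z, rfl⟩ : x ∈ Set.range (f.fiberι y) := by rw [f.range_fiberι]; exact hx
    refine ⟨c z, ?_, (Scheme.Hom.comp_apply c j z).symm.trans (congrArg (fun m => m z) hc)⟩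
    show z ∈ c ⁻¹ᵁ CohB1.genLocus L₁ s
    rw [← hs', hb, htop]; trivial
  let W' : Y.Opens := ⟨(f '' (G : Set X)ᶜ)ᶜ, (f.isClosedMap _ G.isOpen.isClosed_compl).isOpen_compl⟩
  have hle : f ⁻¹ᵁ W' ≤ G := fun x hx => by
    by_contra hxG
    exact hx ⟨x, hxG, rfl⟩
  refine ⟨W', _, ?_, (isGen_of_restrict (f ⁻¹ᵁ W) (Basis.isGen_genLocus s)).res hle⟩
  rintro ⟨x, hx, hxy⟩
  exact hx (hfib' x hxy)

end

end Groth.Agent.H54.PicFib
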