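import Groth.Agent.H97.GlueLine
import Groth.Agent.Lib.Ample.GenLocus
import Groth.Prelude.Def_MoreMor
import Mathlib.Dynamics.Newton
import Mathlib.AlgebraicGeometry.Morphisms.ClosedImmersion

/-!
# Lifting `n`-torsion invertible modules along thickenings when `n` is invertible
-/

universe u

open CategoryTheory AlgebraicGeometry Opposite TopologicalSpace
open Groth.Agent.Lib.TensorMod Groth.Agent.Lib.TensorMod.Dual Groth.Agent.Lib.TensorMod.Gen
open Groth.Agent.Lib.Ample.GenLocus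
open Groth.Agent.H97
open Groth.Agent.Lib.TensorMod.Pullback (unitSec)

namespace Groth.Agent.H54.PicTorsion

section Alg

variable {A : Type*} [CommRing A]

theorem eq_one_of_pow_eq_one {c : A} {n : ℕ} (h : c ^ n = 1)
    (hu : IsUnit (∑ j ∈ Finset.range n, c ^ j)) : c = 1 := by
  have := geom_sum_mul c n
  rw [h, sub_self] at this
  exact sub_eq_zero.1 (hu.mul_right_eq_zero.1 this)

theorem eq_of_pow_eq_of_isNilpotent_sub {a b : A} {n : ℕ} (hn : IsUnit (n : A)) (hb : IsUnit b)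
    (h : a ^ n = b ^ n) (hab : IsNilpotent (a - b)) : a = b := by
  obtain ⟨b, rfl⟩ := hb
  have h1 : (a * ↑b⁻¹) ^ n = 1 := by
    rw [mul_pow, h, ← mul_pow, Units.mul_inv, one_pow]
  have h2 : IsNilpotent (a * ↑b⁻¹ - 1) := by
    rw [show a * ↑b⁻¹ - 1 = (a - ↑b) * ↑b⁻¹ by rw [sub_mul, Units.mul_inv]]
    exact (Commute.all _ _).isNilpotent_mul_right hab
  have h3 : IsUnit (∑ j ∈ Finset.range n, (a * ↑b⁻¹) ^ j) := by
    have e : ∑ j ∈ Finset.range n, (a * ↑b⁻¹) ^ j =
        (∑ j ∈ Finset.range n, ((a * ↑b⁻¹) ^ j - 1)) + (n : A) := by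
      simp [Finset.sum_sub_distrib]
    rw [e]
    refine IsNilpotent.isUnit_add_right_of_commute ?_ hn (Commute.all _ _)
    refine isNilpotent_sum fun j _ => ?_
    obtain ⟨d, hd⟩ := sub_one_dvd_pow_sub_one (a * ↑b⁻¹ : A) j
    rw [hd]
    exact (Commute.all _ _).isNilpotent_mul_right h2
  have := eq_one_of_pow_eq_one h1 h3
  rwa [Units.mul_inv_eq_one] at this

theorem eq_of_pow_eq_of_map_eq {B : Type*} [CommRing B] (f : A →+* B)
    (hf : ∀ x, IsUnit (f x) → IsUnit x) {a b : A} {n : ℕ} (hn : IsUnit (n : B)) (hb : IsUnit b)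
    (h : a ^ n = b ^ n) (hab : f a = f b) : a = b := by
  obtain ⟨b, rfl⟩ := hb
  have h1 : (a * ↑b⁻¹) ^ n = 1 := by
    rw [mul_pow, h, ← mul_pow, Units.mul_inv, one_pow]
  have h2 : f (a * ↑b⁻¹) = 1 := by rw [map_mul, hab, ← map_mul, Units.mul_inv, map_one]
  have h3 : IsUnit (∑ j ∈ Finset.range n, (a * ↑b⁻¹) ^ j) := hf _ (by
    rw [map_sum]
    simpa [h2] using hn)
  have := eq_one_of_pow_eq_one h1 h3
  rwa [Units.mul_inv_eq_one] at this

end Alg

variable {X X' : Scheme.{u}} (i : X ⟶ X') [IsClosedImmersion i] [Surjective i]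

theorem isUnit_of_isUnit_app {W : X'.Opens} (a : Γ(X', W)) (ha : IsUnit (i.app W a)) : IsUnit a := by
  refine RingedSpace.isUnit_of_isUnit_germ _ W a fun x hx => ?_
  obtain ⟨y, rfl⟩ := i.surjective x
  have hy : y ∈ X.basicOpen (i.app W a) := by rw [X.basicOpen_of_isUnit ha]; exact hx
  rw [← Scheme.preimage_basicOpen] at hy
  exact (RingedSpace.mem_basicOpen _ _ _ hx).1 hy

theorem isNilpotent_of_app_eq_zero {W : X'.Opens} (hW : IsAffineOpen W) {a : Γ(X', W)}
    (ha : i.app W a = 0) : IsNilpotent a := by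
  rw [Scheme.isNilpotent_iff_basicOpen_eq_bot_of_isCompact hW.isCompact]
  refine eq_bot_iff.2 fun x hx => ?_
  obtain ⟨y, rfl⟩ := i.surjective x
  have hy : y ∈ i ⁻¹ᵁ X'.basicOpen a := hx
  rw [Scheme.preimage_basicOpen, ha, Scheme.basicOpen_zero] at hy
  exact hy.elim

theorem app_rf {W V : X'.Opens} (h : V ≤ W) (a : Γ(X', W)) :
    i.app V (rf h a) = rf (i.preimage_mono h) (i.app W a) :=
  ConcreteCategory.congr_hom (i.naturality (homOfLE h).op) a

variable {n : ℕ}

theorem isUnit_natCast {Y : Scheme.{u}} (hu : IsUnit (n : Γ(Y, ⊤))) (V : Y.Opens) :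
    IsUnit (n : Γ(Y, V)) := by
  have := hu.map (Y.presheaf.map (homOfLE le_top : V ⟶ ⊤).op).hom
  rwa [map_natCast] at this

theorem root_unique (hu : IsUnit (n : Γ(X, ⊤))) {W : X'.Opens} {r r' : Γ(X', W)}
    (hr' : IsUnit r') (h : r ^ n = r' ^ n) (hi : i.app W r = i.app W r') : r = r' :=
  eq_of_pow_eq_of_map_eq (i.app W).hom (fun x hx => isUnit_of_isUnit_app i x hx)
    (isUnit_natCast hu _) hr' h hi

theorem exists_root_affine (hn : 0 < n) (hu : IsUnit (n : Γ(X, ⊤))) {W : X'.Opens} (hW : IsAffineOpen W)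
    (c : Γ(X', W)) (g : Γ(X, i ⁻¹ᵁ W)) (hg : IsUnit g) (hc : g ^ n = i.app W c) :
    ∃ r : Γ(X', W), r ^ n = c ∧ i.app W r = g := by
  obtain ⟨g₀, rfl⟩ := i.app_surjective W hW g
  have hg₀ : IsUnit g₀ := isUnit_of_isUnit_app i g₀ hg
  have hnW : IsUnit (n : Γ(X', W)) := isUnit_of_isUnit_app i _ (by
    rw [map_natCast]; exact isUnit_natCast hu _)
  let P : Polynomial Γ(X', W) := Polynomial.X ^ n - Polynomial.C c
  have h1 : IsNilpotent (Polynomial.aeval g₀ P) := by
    refine isNilpotent_of_app_eq_zero i hW ?_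
    simp [P, hc]
  have h2 : IsUnit (Polynomial.aeval g₀ (Polynomial.derivative P)) := by
    simp [P, Polynomial.derivative_X_pow]
    exact ⟨hnW, hg₀.pow _⟩
  obtain ⟨r, ⟨hr, hrP⟩, -⟩ := Polynomial.existsUnique_nilpotent_sub_and_aeval_eq_zero h1 h2
  have hrn : r ^ n = c := by simpa [P, sub_eq_zero] using hrP
  refine ⟨r, hrn, eq_of_pow_eq_of_isNilpotent_sub (isUnit_natCast hu _) hg ?_ ?_⟩
  · rw [hc, ← map_pow, hrn]
  · rw [← map_sub, ← neg_sub, map_neg]
    exact (hr.map _).neg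

theorem exists_root (hn : 0 < n) (hu : IsUnit (n : Γ(X, ⊤))) {W : X'.Opens}
    (c : Γ(X', W)) (g : Γ(X, i ⁻¹ᵁ W)) (hg : IsUnit g) (hc : g ^ n = i.app W c) :
    ∃ r : Γ(X', W), r ^ n = c ∧ i.app W r = g := by
  classical
  let κ := {V : X'.Opens // IsAffineOpen V ∧ V ≤ W}
  have hcov : W ≤ ⨆ V : κ, V.1 := fun x hx => by
    obtain ⟨V, hV, hxV, hle⟩ := exists_isAffineOpen_mem_and_subset (U := W) hx
    exact Opens.mem_iSup.2 ⟨⟨V, hV, hle⟩, hxV⟩
  have hloc : ∀ V : κ, ∃ r : Γ(X', V.1), r ^ n = rf V.2.2 c ∧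
      i.app V.1 r = rf (i.preimage_mono V.2.2) g := fun V =>
    exists_root_affine i hn hu V.2.1 _ _ (hg.map _) (by rw [app_rf, ← hc, rf, rf, map_pow])
  choose r hr hri using hloc
  obtain ⟨s, hs, -⟩ := X'.sheaf.existsUnique_gluing' (fun V : κ => V.1) W (fun V => homOfLE V.2.2) hcov r
    (fun V V' => by
      change rf (inf_le_left : V.1 ⊓ V'.1 ≤ V.1) (r V) = rf (inf_le_right : V.1 ⊓ V'.1 ≤ V'.1) (r V')
      have hu' : IsUnit (r V') := isUnit_of_isUnit_app i _ (by rw [hri]; exact hg.map _)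
      refine root_unique i hu (hu'.map _) ?_ ?_
      · simp only [rf, ← map_pow]
        rw [hr, hr]
        change rf _ (rf _ c) = rf _ (rf _ c)
        rw [rf_rf, rf_rf]
      · rw [app_rf, app_rf, hri, hri, rf_rf, rf_rf])
  refine ⟨s, ?_, ?_⟩
  · refine TopCat.Sheaf.eq_of_locally_eq' X'.sheaf (fun V : κ => V.1) W (fun V => homOfLE V.2.2) hcov _ _
      fun V => ?_
    change rf V.2.2 (s ^ n) = rf V.2.2 c
    exact (map_pow (X'.presheaf.map (homOfLE V.2.2).op).hom s n).trans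
      ((congrArg (· ^ n) (hs V)).trans (hr V))
  · refine TopCat.Sheaf.eq_of_locally_eq' X.sheaf (fun V : κ => i ⁻¹ᵁ V.1) (i ⁻¹ᵁ W)
      (fun V => homOfLE (i.preimage_mono V.2.2)) ?_ _ _ fun V => ?_
    · rw [← Scheme.Hom.preimage_iSup]; exact i.preimage_mono hcov
    · change rf (i.preimage_mono V.2.2) (i.app W s) = rf (i.preimage_mono V.2.2) g
      rw [← app_rf i V.2.2, show rf V.2.2 s = r V from hs V, hri]

/-- The tensor power of a section. -/
noncomputable def tpow {L : X.Modules} {U : X.Opens} (e : Γ(L, U)) : ∀ m : ℕ, Γ(CohB1.tensorPow L m, U)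
  | 0 => one X U
  | m + 1 => (SecTwist.tmul (CohB1.tensorPow L m) L U (tpow e m) e :
      Γ(CohB1.tensorMod (CohB1.tensorPow L m) L, U))

omit [IsClosedImmersion i] [Surjective i] in
theorem isGen_tpow {Y : Scheme.{u}} {L : Y.Modules} {U : Y.Opens} {e : Γ(L, U)} (he : IsGen L U e) :
    ∀ m, IsGen (CohB1.tensorPow L m) U (tpow e m)
  | 0 => isGen_one U
  | m + 1 => isGen_tmul (isGen_tpow he m) he

omit [IsClosedImmersion i] [Surjective i] in
theorem rs_tpow {Y : Scheme.{u}} {L : Y.Modules} {U V : Y.Opens} (h : V ≤ U) (e : Γ(L, U)) :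
    ∀ m, rs (CohB1.tensorPow L m) h (tpow e m) = tpow (rs L h e) m
  | 0 => map_one (Y.presheaf.map (homOfLE h).op).hom
  | m + 1 => (rs_tmul (M := CohB1.tensorPow L m) (N := L) h (tpow e m) e).trans (by
      rw [rs_tpow h e m]; rfl)

omit [IsClosedImmersion i] [Surjective i] in
theorem tpow_smul {Y : Scheme.{u}} {L : Y.Modules} {U : Y.Opens} (a : Γ(Y, U)) (e : Γ(L, U)) :
    ∀ m, tpow (a • e) m = a ^ m • tpow e m
  | 0 => by rw [pow_zero, one_smul]; rfl
  | m + 1 => by
    change SecTwist.tmul _ _ U (tpow (a • e) m) (a • e) = _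
    rw [tpow_smul a e m, pow_succ]
    exact Groth.Agent.Lib.Ample.GenLocus.tmul_smul _ _ _ _

/-- An invertible module with trivial `n`-th power lifts to one with trivial `n`-th power. -/
theorem exists_lift (hn : 0 < n) (hu : IsUnit (n : Γ(X, ⊤))) {L : X.Modules} (hL : PicF.IsInvertible L)
    (φ : CohB1.tensorPow L n ≅ Coh.structureModule X) :
    ∃ L' : X'.Modules, PicF.IsInvertible L' ∧
      Nonempty (CohB1.tensorPow L' n ≅ Coh.structureModule X') ∧
      Nonempty ((Scheme.Modules.pullback i).obj L' ≅ L) := by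
  classical
  have hloc : ∀ x' : X', ∃ (U : X'.Opens) (e : Γ(L, i ⁻¹ᵁ U)),
      x' ∈ U ∧ IsAffineOpen U ∧ IsGen L (i ⁻¹ᵁ U) e := by
    intro x'
    obtain ⟨x, rfl⟩ := i.surjective x'
    obtain ⟨U₀, e, hx, he⟩ := isInvertible_iff.1 hL x
    obtain ⟨O, hO, hOU⟩ := i.isClosedEmbedding.isInducing.isOpen_iff.1 U₀.isOpen
    have hxO : x ∈ i.base ⁻¹' O := by rw [hOU]; exact hx
    obtain ⟨U, hU, hxU, hle⟩ := exists_isAffineOpen_mem_and_subset (U := ⟨O, hO⟩) (x := i x) hxO
    have hle' : i ⁻¹ᵁ U ≤ U₀ := fun y hy =>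
      show y ∈ (U₀ : Set X) from hOU ▸ (hle hy : i y ∈ O)
    exact ⟨U, rs L hle' e, hxU, hU, he.res hle'⟩
  choose U e hxU hU he using hloc
  have hcov : iSup U = ⊤ := top_le_iff.1 fun x _ => Opens.mem_iSup.2 ⟨x, hxU x⟩
  let v : ∀ a, Γ(X, i ⁻¹ᵁ U a) := fun a => φ.hom.app (i ⁻¹ᵁ U a) (tpow (e a) n)
  have hv : ∀ a, IsUnit (v a) := fun a => by
    have h1 := isGen_of_isIso_over (isIso_over_of_iso φ (i ⁻¹ᵁ U a)) (isGen_tpow (he a) n)
    exact isUnit_of_isGen_smul (isGen_one _) (by rw [← smul_one_eq]; exact h1)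
  choose w hw using fun a => i.app_surjective (U a) (hU a) (v a)
  have hwu : ∀ a, IsUnit (w a) := fun a => isUnit_of_isUnit_app i _ (hw a ▸ hv a)
  let Good : ∀ (a b : X') (W : X'.Opens) (_ : W ≤ U a) (_ : W ≤ U b), Γ(X', W) → Prop :=
    fun a b W ha hb r => rs L (i.preimage_mono hb) (e b) = i.app W r • rs L (i.preimage_mono ha) (e a) ∧
      r ^ n * rf ha (w a) = rf hb (w b)
  have good_unit : ∀ a b W ha hb r, Good a b W ha hb r → IsUnit r := fun a b W ha hb r h => by
    refine isUnit_of_isUnit_app i r (isUnit_of_isGen_smul ((he a).res (i.preimage_mono ha)) ?_)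
    rw [← h.1]
    exact (he b).res _
  have good_unique : ∀ a b W ha hb r r', Good a b W ha hb r → Good a b W ha hb r' → r = r' := by
    intro a b W ha hb r r' h h'
    refine root_unique i hu (good_unit a b W ha hb r' h') ?_ ?_
    · exact ((hwu a).map _).mul_left_inj.1 (h.2.trans h'.2.symm)
    · exact ((he a) _ (i.preimage_mono ha)).1 (h.1.symm.trans h'.1)
  have good_res : ∀ a b W ha hb r, Good a b W ha hb r → ∀ (V : X'.Opens) (hV : V ≤ W),
      Good a b V (hV.trans ha) (hV.trans hb) (rf hV r) := by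
    intro a b W ha hb r h V hV
    constructor
    · have := congrArg (rs L (i.preimage_mono hV)) h.1
      rw [rs_smul, rs_rs, rs_rs, ← app_rf] at this
      exact this
    · have := congrArg (rf hV) h.2
      rw [show rf hV (r ^ n * rf ha (w a)) = rf hV r ^ n * rf hV (rf ha (w a)) by simp [rf],
        rf_rf, rf_rf] at this
      exact this
  have good_ex : ∀ a b, ∃ r, Good a b (U a ⊓ U b) inf_le_left inf_le_right r := by
    intro a b
    let W := U a ⊓ U b
    obtain ⟨g, hg⟩ := exists_coord ((he a).res (i.preimage_mono (inf_le_left : W ≤ U a)))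
      (rs L (i.preimage_mono (inf_le_right : W ≤ U b)) (e b))
    have hgu : IsUnit g := isUnit_of_isGen_smul ((he a).res _) (hg ▸ (he b).res _)
    have key : ∀ c (hc : W ≤ U c), φ.hom.app (i ⁻¹ᵁ W) (tpow (rs L (i.preimage_mono hc) (e c)) n) =
        i.app W (rf hc (w c)) • one X (i ⁻¹ᵁ W) := by
      intro c hc
      rw [← rs_tpow, ← HomGlue.rs_app, app_rf, hw, ← smul_one_eq]
      rfl
    obtain ⟨d, hd⟩ := (hwu a).map (X'.presheaf.map (homOfLE (inf_le_left : W ≤ U a)).op).hom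
    have h1 := key b inf_le_right
    rw [hg, tpow_smul, Scheme.Modules.Hom.app_smul, key a inf_le_left, smul_smul] at h1
    have h2 : g ^ n * i.app W (rf inf_le_left (w a)) = i.app W (rf inf_le_right (w b)) := by
      refine (isGen_one (i ⁻¹ᵁ W) _ le_rfl).1 ?_
      simp only [rs_self]
      exact h1
    have h3 : g ^ n = i.app W (rf (inf_le_right : W ≤ U b) (w b) * ↑d⁻¹) := by
      rw [map_mul, ← h2, mul_assoc, ← map_mul, show rf inf_le_left (w a) = (d : Γ(X', W)) from hd.symm,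
        Units.mul_inv, map_one, mul_one]
    obtain ⟨r, hr, hri⟩ := exists_root i hn hu _ g hgu h3
    refine ⟨r, by rw [hri]; exact hg, ?_⟩
    rw [hr, mul_assoc, show rf inf_le_left (w a) = (d : Γ(X', W)) from hd.symm, Units.inv_mul, mul_one]
  choose tr htr using good_ex
  have good_one : ∀ a W (ha : W ≤ U a), Good a a W ha ha 1 := fun a W ha => by
    refine ⟨?_, ?_⟩
    · rw [map_one, one_smul]
    · rw [one_pow, one_mul]
  let c : GlueLine.Cocycle U :=
    { u := tr
      self := fun a W h => good_unique a a W _ _ _ _ (good_res a a _ _ _ _ (htr a a) W h)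
        (good_one a W (h.trans inf_le_left))
      trans := fun a b d W ha hb hd => by
        refine good_unique a d W ha hd _ _ ?_ (good_res a d _ _ _ _ (htr a d) W (le_inf ha hd))
        have h1 := good_res a b _ _ _ _ (htr a b) W (le_inf ha hb)
        have h2 := good_res b d _ _ _ _ (htr b d) W (le_inf hb hd)
        refine ⟨?_, ?_⟩
        · rw [h2.1, h1.1, smul_smul, map_mul, mul_comm]
        · rw [← h2.2, ← h1.2]; ring }
  have hgood : ∀ a b W (ha : W ≤ U a) (hb : W ≤ U b), Good a b W ha hb (c.tr a b ha hb) :=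
    fun a b W ha hb => good_res a b _ _ _ _ (htr a b) W (le_inf ha hb)
  refine ⟨GlueLine.glue c, GlueLine.isInvertible_glue c hcov, ?_, ?_⟩
  · obtain ⟨ψ, -⟩ := HomGlue.exists_iso_of_gen hcov (fun a => tpow (GlueLine.gen c a) n)
      (fun a => isGen_tpow (GlueLine.isGen_gen c a) n) (fun a => w a • one X' (U a))
      (fun a => IsGen_smul_isUnit (isGen_one _) (hwu a)) fun a b W ha hb r hr => by
        rw [rs_tpow, rs_tpow, GlueLine.rs_gen c b a hb ha, tpow_smul] at hr
        have hrr : c.tr b a hb ha ^ n = r :=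
          ((isGen_tpow ((GlueLine.isGen_gen c b).res hb) n) W le_rfl).1 (by simpa only [rs_self] using hr)
        subst hrr
        rw [rs_smul, rs_smul, smul_smul, (hgood b a W hb ha).2]
        exact congrArg (_ • ·) ((map_one (X'.presheaf.map (homOfLE ha).op).hom).trans
          (map_one (X'.presheaf.map (homOfLE hb).op).hom).symm)
    exact ⟨ψ⟩
  · have hpre : (⨆ a, i ⁻¹ᵁ U a) = ⊤ := by rw [← Scheme.Hom.preimage_iSup, hcov]; rfl
    obtain ⟨ψ, -⟩ := HomGlue.exists_iso_of_gen hpre (fun a => unitSec i _ (GlueLine.gen c a))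
      (fun a => isGen_unitSec i (GlueLine.isGen_gen c a)) e he fun a b W ha hb r hr => by
        let Z : X'.Opens := U a ⊓ U b
        have hWZ : W ≤ i ⁻¹ᵁ Z := le_inf ha hb
        have h1 := congrArg (unitSec i _)
          (GlueLine.rs_gen c b a (inf_le_right : Z ≤ U b) (inf_le_left : Z ≤ U a))
        rw [unitSec_smul, ← unitSec_rs, ← unitSec_rs] at h1
        have h2 := congrArg (rs _ hWZ) h1
        rw [rs_smul, rs_rs, rs_rs] at h2
        have hrr : r = rf hWZ (i.app Z (c.tr b a inf_le_right inf_le_left)) :=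
          ((isGen_unitSec i (GlueLine.isGen_gen c b)) W hb).1 (hr.symm.trans h2)
        subst hrr
        have h3 := congrArg (rs L hWZ) (hgood b a Z inf_le_right inf_le_left).1
        rw [rs_smul, rs_rs, rs_rs] at h3
        exact h3
    exact ⟨ψ⟩

end Groth.Agent.H54.PicTorsion
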