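import Groth.Agent.H54.FlatFP
import Groth.Agent.H54.PCFinite

/-!
# Quotients of pseudo-coherent algebras
-/

universe u

open CategoryTheory CategoryTheory.Limits CategoryTheory.Pretriangulated
open Groth.Agent.Lib.DR
open Groth.Agent.Lib.DR.Basic Groth.Agent.Lib.DR.FiniteComplex Groth.Agent.Lib.DR.PseudoCoherent
open Groth.Agent.H54.PCRestrict Groth.Agent.H54.RelPC

attribute [local instance] HasDerivedCategory.standard

namespace Groth.Agent.H54.QuotPC

theorem hom_iff_module_of_hom {R A B : Type u} [CommRing R] [CommRing A] [CommRing B] [Algebra R A]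
    [Algebra A B] [Algebra R B] [IsScalarTower R A B] [Module.Finite A B]
    (hA : MoreMor.IsPseudoCoherentHom R A) :
    MoreMor.IsPseudoCoherentHom R B ↔ DRing.IsPseudoCoherentModule' A B := by
  obtain ⟨k, φ, hφ, -⟩ := hom_iff.1 hA
  have : Algebra.FiniteType R A := Algebra.FiniteType.iff_quotient_mvPolynomial''.mpr ⟨k, φ, hφ⟩
  have : Algebra.FiniteType R B := Algebra.FiniteType.trans (S := A) inferInstance inferInstance
  obtain ⟨n, α, hα⟩ := Algebra.FiniteType.iff_quotient_mvPolynomial''.mp
    (inferInstance : Algebra.FiniteType R B)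
  rw [hom_iff_of_surjective α hα, ← PCFinite.pcRing_algebraMap_iff]
  refine forall_congr' fun m => ?_
  have h1 : PCn (ff (MvPolynomial (Fin n) R)) m ((sgl _ 0).obj ((res α.toRingHom).obj (ModuleCat.of B B))) ↔
      DerCA.IsRelPseudoCoherent R B m (Dual.inD B B) := (relModule_iff α hα m B).symm
  refine h1.trans ((rel_finite_iff (A := A) (Dual.inD B B) m).trans ?_)
  rw [rel_iff_of_hom hA, isPseudoCoherent_iff]
  exact ⟨fun h => h.of_iso (ExactPush.mapSingle (res (algebraMap A B)) (ModuleCat.of B B) 0),
    fun h => h.of_iso (ExactPush.mapSingle (res (algebraMap A B)) (ModuleCat.of B B) 0).symm⟩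

theorem quot_iff_ideal {B : Type u} [CommRing B] (I : Ideal B) :
    DRing.IsPseudoCoherentModule' B (B ⧸ I) ↔ DRing.IsPseudoCoherentModule' B I := by
  let T := ShortComplex.moduleCatMk (X₁ := I) (X₂ := B) (X₃ := B ⧸ I) (Submodule.subtype I) (Submodule.mkQ I)
    (LinearMap.ext fun x => (Submodule.Quotient.mk_eq_zero I).2 x.2)
  have hT : T.ShortExact :=
    { exact := by
        rw [ShortComplex.moduleCat_exact_iff]
        intro x hx
        exact ⟨⟨x, (Submodule.Quotient.mk_eq_zero I).1 hx⟩, rfl⟩
      mono_f := (ModuleCat.mono_iff_injective _).2 Subtype.val_injective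
      epi_g := (ModuleCat.epi_iff_surjective _).2 (Submodule.mkQ_surjective I) }
  have hd := hT.singleTriangle_distinguished
  have hB : ∀ m, PCn (ff B) m ((sgl B 0).obj (ModuleCat.of B B)) := fun m => pcn_free_one m
  refine ((Representative.isPseudoCoherent'_iff_forall _).trans ?_).trans
    (Representative.isPseudoCoherent'_iff_forall _).symm
  exact ⟨fun h m => PCn.fiber good_ff projective_of_ff _ hd (hB m) (h (m - 1)),
    fun h m => PCn.cone good_ff projective_of_ff _ hd (h (m + 1)) (hB m)⟩

theorem hom_quot_iff {A B : Type u} [CommRing A] [CommRing B] [Algebra A B]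
    (hB : MoreMor.IsPseudoCoherentHom A B) (I : Ideal B) :
    MoreMor.IsPseudoCoherentHom A (B ⧸ I) ↔ DRing.IsPseudoCoherentModule' B ↥I :=
  (hom_iff_module_of_hom hB).trans (quot_iff_ideal I)

end Groth.Agent.H54.QuotPC
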