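import Groth.Agent.Lib.HilbD.Closed
import Groth.Agent.Lib.HilbD.Content
import Groth.Agent.Lib.DescAlg.Descends
import Mathlib.AlgebraicGeometry.Morphisms.FlatRank

/-!
# Relative Hilbert schemes of points inside absolute ones
-/

set_option autoImplicit false
set_option linter.style.haveILetI false
set_option backward.isDefEq.respectTransparency false
universe u

open CategoryTheory CategoryTheory.Limits AlgebraicGeometry
open Groth.Agent.Lib.HilbD Groth.Agent.Lib.HilbD.Basic Groth.Agent.Lib.HilbD.Closed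

namespace Groth.Agent.H54.RelHilb

noncomputable section

variable {X B C K : Scheme.{u}} (g : X ⟶ K) (b : B ⟶ K) (π : C ⟶ B) (j : C ⟶ X)
  (h : j ≫ g = π ≫ b)

/-- A scheme over `B` seen over `K`. -/
abbrev ov (T : Over B) : Over K := Over.mk (T.hom ≫ b)

/-- A morphism over `B` seen over `K`. -/
abbrev ovMap {T T' : Over B} (q : T' ⟶ T) : ov b T' ⟶ ov b T :=
  Over.homMk q.left (by show q.left ≫ T.hom ≫ b = T'.hom ≫ b; rw [← Category.assoc, Over.w q])

/-- The map `C ×_B T ⟶ X ×_K T`. -/
def M (T : Over B) : PicF.XT π T ⟶ PicF.XT g (ov b T) :=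
  pullback.map π T.hom g (T.hom ≫ b) j (𝟙 T.left) b h.symm (Category.id_comp _).symm

theorem M_fst (T : Over B) :
    M g b π j h T ≫ pullback.fst g (ov b T).hom = pullback.fst π T.hom ≫ j :=
  pullback.lift_fst _ _ _

theorem M_proj (T : Over B) : M g b π j h T ≫ PicF.XTproj g (ov b T) = PicF.XTproj π T :=
  (pullback.lift_snd _ _ _).trans (Category.comp_id _)

instance isClosedImmersion_M [IsClosedImmersion j] [IsSeparated b] (T : Over B) :
    IsClosedImmersion (M g b π j h T) := by
  have e : M g b π j h T = (pullback.mapDesc π T.hom b ≫ (pullback.congrHom h.symm rfl).hom) ≫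
      mapXT j g (ov b T) := by
    apply pullback.hom_ext
    · simp [M, mapXT, pullback.mapDesc]
    · simp [M, mapXT, pullback.mapDesc]
  rw [e]
  infer_instance

theorem XTmap_M {T T' : Over B} (q : T' ⟶ T) :
    PicF.XTmap π q ≫ M g b π j h T = M g b π j h T' ≫ PicF.XTmap g (ovMap b q) := by
  apply pullback.hom_ext
  · rw [Category.assoc, M_fst, ← Category.assoc, XTmap_fst, Category.assoc]
    exact ((congrArg (M g b π j h T' ≫ ·) (XTmap_fst g (ovMap b q))).trans (M_fst g b π j h T')).symm
  · show _ ≫ PicF.XTproj g (ov b T) = _ ≫ PicF.XTproj g (ov b T)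
    rw [Category.assoc, M_proj, XTmap_snd, Category.assoc, XTmap_snd, ← Category.assoc, M_proj]
    rfl

theorem ker_M [IsClosedImmersion j] [IsSeparated b] {T T' : Over B} (q : T' ⟶ T) :
    (M g b π j h T).ker.comap (PicF.XTmap g (ovMap b q)) = (M g b π j h T').ker := by
  have sq : IsPullback (M g b π j h T') (PicF.XTmap π q) (PicF.XTmap g (ovMap b q)) (M g b π j h T) := by
    refine (IsPullback.of_bot (h₃₁ := q.left) (v₂₁ := PicF.XTproj g (ov b T')) (v₂₂ := PicF.XTproj g (ov b T))
      ?_ (XTmap_M g b π j h q) (isPullback_XTmap g (ovMap b q))).flip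
    rw [M_proj, M_proj]
    exact isPullback_XTmap π q
  rw [← Scheme.IdealSheafData.ker_fst_of_isClosedImmersion, ← sq.isoPullback_inv_fst,
    Scheme.Hom.ker_comp_of_isIso]

theorem pull_map [IsClosedImmersion j] [IsSeparated b] {T T' : Over B} (q : T' ⟶ T)
    (I : (PicF.XT π T).IdealSheafData) :
    HilbD.pull g (ovMap b q) (I.map (M g b π j h T)) = (HilbD.pull π q I).map (M g b π j h T') := by
  rw [pull_eq_comap, pull_eq_comap]
  have hle : (M g b π j h T').ker ≤ (I.map (M g b π j h T)).comap (PicF.XTmap g (ovMap b q)) := by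
    rw [← ker_M g b π j h q]
    exact Scheme.IdealSheafData.comap_mono _ (Scheme.Hom.le_ker_comp _ _)
  rw [← map_comap (M g b π j h T') hle, ← Scheme.IdealSheafData.comap_comp, ← XTmap_M,
    Scheme.IdealSheafData.comap_comp, comap_map]

variable [IsClosedImmersion j] [IsSeparated b] {d : ℕ} (H : Over K) (Z : HilbD.Obj g d H)
  (hZ : HilbD.IsUniversal g d H Z) (H' : Over B) (Z' : HilbD.Obj π d H')
  (hZ' : HilbD.IsUniversal π d H' Z') (m : ov b H' ⟶ H)
  (hm : HilbD.pull g m Z.1 = Z'.1.map (M g b π j h H'))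

include hZ hZ' hm

/-- Into the product with `B` the comparison map is a closed immersion. -/
theorem isClosedImmersion_lift :
    IsClosedImmersion (pullback.lift m.left H'.hom (Over.w m) : H'.left ⟶ pullback H.hom b) := by
  let T : Over B := Over.mk (pullback.snd H.hom b)
  let q : ov b T ⟶ H := Over.homMk (pullback.fst H.hom b) pullback.condition
  let W : HilbD.Obj g d (ov b T) := pullObj g q Z
  let E : T.left.IdealSheafData :=
    Content.inclLocus (PicF.XTproj g (ov b T)) W.1 W.2.1 (M g b π j h T).ker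
  let T₀ : Over B := Over.mk (E.subschemeι ≫ T.hom)
  let ι : T₀ ⟶ T := Over.homMk E.subschemeι rfl
  have hE : ∀ {U : Over B} (v : U ⟶ T), E.comap v.left = ⊥ ↔
      (M g b π j h U).ker ≤ HilbD.pull g (ovMap b v) W.1 := fun v => by
    rw [pull_eq_comap, ← ker_M g b π j h v]
    exact Content.inclLocus_comap_eq_bot_iff (isPullback_XTmap g (ovMap b v)) _ _ _
  have hι : (M g b π j h T₀).ker ≤ HilbD.pull g (ovMap b ι) W.1 :=
    (hE ι).mp ((exists_lift_iff _ _).mp ⟨𝟙 _, Category.id_comp _⟩)
  let Z₀ : HilbD.Obj π d T₀ :=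
    ⟨(HilbD.pull g (ovMap b ι) W.1).comap (M g b π j h T₀),
      finLocFreeOfDeg_comap _ hι (M_proj g b π j h T₀) (pullObj g (ovMap b ι) W).2⟩
  have hmap₀ : Z₀.1.map (M g b π j h T₀) = HilbD.pull g (ovMap b ι) W.1 := map_comap _ hι
  have hpm : ∀ {U : Over B} (v : U ⟶ T), HilbD.pull g (ovMap b v) W.1 =
      HilbD.pull g (ovMap b v ≫ q) Z.1 := fun v => (pull_comp g q (ovMap b v) Z.1).symm
  let mt : H' ⟶ T := Over.homMk (pullback.lift m.left H'.hom (Over.w m)) (pullback.lift_snd _ _ _)
  have hmt : ovMap b mt ≫ q = m := Over.OverMorphism.ext (pullback.lift_fst _ _ _)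
  obtain ⟨l, hl⟩ := (exists_lift_iff mt.left E).mpr ((hE mt).mpr (by
    rw [hpm, hmt, hm]; exact Scheme.Hom.le_ker_comp _ _))
  let θ : H' ⟶ T₀ := Over.homMk l (by
    show l ≫ E.subschemeι ≫ T.hom = H'.hom
    rw [← Category.assoc, hl, Over.w mt])
  have hθ : θ ≫ ι = mt := Over.OverMorphism.ext hl
  obtain ⟨η, hη, -⟩ := hZ' T₀ Z₀
  have h1 : θ ≫ η = 𝟙 H' := hom_ext π hZ' (by
    rw [pull_comp, hη, pull_id]
    show HilbD.pull π θ Z₀.1 = Z'.1
    rw [← comap_map (M g b π j h H') (I := HilbD.pull π θ Z₀.1), ← pull_map, hmap₀,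
      ← pull_comp, ← comap_map (M g b π j h H') (I := Z'.1), ← hm, ← hmt]
    refine congrArg (fun I : (PicF.XT g (ov b H')).IdealSheafData => I.comap (M g b π j h H')) ?_
    have e : ovMap b θ ≫ ovMap b ι = ovMap b mt := Over.OverMorphism.ext hl
    rw [e]
    exact hpm mt)
  have h2 : η ≫ θ = 𝟙 T₀ := by
    have e : η ≫ mt = ι := by
      apply Over.OverMorphism.ext
      apply pullback.hom_ext
      · have e1 : ovMap b η ≫ m = ovMap b ι ≫ q := hom_ext g hZ (by
          rw [pull_comp, hm, pull_map, hη, hmap₀, hpm])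
        show (η.left ≫ mt.left) ≫ _ = ι.left ≫ _
        rw [Category.assoc]
        exact (congrArg (η.left ≫ ·) (pullback.lift_fst _ _ _)).trans (congrArg (fun a => a.left) e1)
      · show (η.left ≫ mt.left) ≫ T.hom = ι.left ≫ T.hom
        rw [Category.assoc, Over.w mt, Over.w η, Over.w ι]
    apply Over.OverMorphism.ext
    apply (cancel_mono E.subschemeι).mp
    show (η.left ≫ l) ≫ E.subschemeι = 𝟙 _ ≫ E.subschemeι
    rw [Category.assoc, hl, Category.id_comp]
    exact congrArg (fun a => a.left) e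
  haveI : IsIso θ := ⟨η, h1, h2⟩
  haveI : IsIso θ.left := (Over.forget B).map_isIso θ
  show IsClosedImmersion mt.left
  rw [← hl]
  show IsClosedImmersion (θ.left ≫ E.subschemeι)
  infer_instance

/-- The comparison map is a closed immersion. -/
theorem isClosedImmersion (hd : 0 < d) : IsClosedImmersion m.left := by
  haveI := isClosedImmersion_lift g b π j h H Z hZ H' Z' hZ' m hm
  let p : Z.1.subscheme ⟶ H.left := Z.1.subschemeι ≫ PicF.XTproj g H
  haveI : IsFinite p := Z.2.1.1
  haveI : Flat p := Z.2.1.2.1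
  haveI : LocallyOfFinitePresentation p := Z.2.1.2.2
  haveI : Surjective p := p.one_le_finrank_iff_surjective.1 fun y => by
    show 1 ≤ p.finrank y
    rw [Z.2.2 y]; exact hd
  let W := Z.1.comap (PicF.XTmap g m)
  let φ : W.subscheme ⟶ Z.1.subscheme := comapMap (PicF.XTmap g m) Z.1
  let p' : W.subscheme ⟶ H'.left := W.subschemeι ≫ PicF.XTproj g (ov b H')
  have sq : IsPullback φ p' p m.left := isPullback_comap_proj (isPullback_XTmap g m) Z.1
  refine MorphismProperty.of_isPullback_of_descendsAlong (P := @IsClosedImmersion)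
    (Q := @Surjective ⊓ @Flat ⊓ @QuasiCompact) (f := p) (g := m.left) sq
    ⟨⟨‹_›, ‹_›⟩, inferInstance⟩ ?_
  let x : Z.1.subscheme ⟶ X := Z.1.subschemeι ≫ pullback.fst g H.hom
  let WC := pullback x j
  have hx : x ≫ g = p ≫ H.hom := by
    simp only [x, p, Category.assoc]
    exact congrArg (Z.1.subschemeι ≫ ·) pullback.condition
  let ψ : WC ⟶ pullback H.hom b := pullback.lift (pullback.fst x j ≫ p) (pullback.snd x j ≫ π) (by
    rw [Category.assoc, ← hx, ← Category.assoc, pullback.condition, Category.assoc, h, Category.assoc])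
  have hle : (M g b π j h H').ker ≤ W := by
    have e : W = Z'.1.map (M g b π j h H') := by rw [← hm, pull_eq_comap]
    rw [e]; exact Scheme.Hom.le_ker_comp _ _
  let c := IsClosedImmersion.lift (M g b π j h H') W.subschemeι
    (by rwa [Scheme.IdealSheafData.ker_subschemeι])
  have hc : c ≫ M g b π j h H' = W.subschemeι := IsClosedImmersion.lift_fac _ _ _
  let γ : W.subscheme ⟶ C := c ≫ pullback.fst π H'.hom
  have hγ : φ ≫ x = γ ≫ j := by
    show φ ≫ Z.1.subschemeι ≫ pullback.fst g H.hom = (c ≫ pullback.fst π H'.hom) ≫ j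
    rw [← Category.assoc, (isPullback_comapMap (PicF.XTmap g m) Z.1).w, Category.assoc, XTmap_fst,
      Category.assoc, ← M_fst g b π j h H', ← Category.assoc, hc]
  have hπ : γ ≫ π = p' ≫ H'.hom := by
    show (c ≫ pullback.fst π H'.hom) ≫ π = (W.subschemeι ≫ PicF.XTproj g (ov b H')) ≫ H'.hom
    rw [Category.assoc, pullback.condition, ← hc, Category.assoc c, M_proj, Category.assoc]
  let φC : W.subscheme ⟶ WC := pullback.lift φ γ hγ
  have sqC : IsPullback φC p' ψ (pullback.lift m.left H'.hom (Over.w m)) := by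
    have w : φC ≫ ψ = p' ≫ pullback.lift m.left H'.hom (Over.w m) := by
      apply pullback.hom_ext
      · simp only [φC, ψ, Category.assoc, pullback.lift_fst, pullback.lift_fst_assoc]
        exact sq.w
      · simp only [φC, ψ, Category.assoc, pullback.lift_snd, pullback.lift_snd_assoc]
        exact hπ
    refine ⟨⟨w⟩, ⟨PullbackCone.IsLimit.mk _
      (fun s => sq.lift (s.fst ≫ pullback.fst x j) s.snd ?_) (fun s => ?_) (fun s => sq.lift_snd _ _ _)
      (fun s a ha1 ha2 => sq.hom_ext ?_ ?_)⟩⟩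
    · have e := congrArg (· ≫ pullback.fst H.hom b) s.condition
      simpa only [ψ, Category.assoc, pullback.lift_fst] using e
    · apply (cancel_mono (pullback.fst x j)).mp
      simp only [φC, Category.assoc, pullback.lift_fst, sq.lift_fst]
    · rw [sq.lift_fst, ← ha1]
      simp only [φC, Category.assoc, pullback.lift_fst]
    · rw [sq.lift_snd, ← ha2]
  haveI : IsClosedImmersion φC := MorphismProperty.of_isPullback sqC.flip inferInstance
  have hφ : φ = φC ≫ pullback.fst x j := (pullback.lift_fst _ _ _).symm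
  rw [hφ]
  infer_instance

end

end Groth.Agent.H54.RelHilb
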