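import Groth.Agent.H54.RelPC
import Groth.Agent.Lib.DR.Descent
import Mathlib.Algebra.Module.LocalizedModule.Basic
import Mathlib.RingTheory.Localization.BaseChange
import Mathlib.RingTheory.Localization.Away.Basic

/-!
# Relative pseudo-coherence and localization
-/

universe u

open CategoryTheory CategoryTheory.Limits CategoryTheory.Pretriangulated
open Groth.Agent.Lib.DR
open Groth.Agent.Lib.DR.Basic Groth.Agent.Lib.DR.FiniteComplex Groth.Agent.Lib.DR.PseudoCoherent
open Groth.Agent.H54.PCRestrict Groth.Agent.H54.PCPresent Groth.Agent.H54.RelPC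
open scoped TensorProduct

attribute [local instance] HasDerivedCategory.standard

namespace Groth.Agent.H54.RelLoc

section

variable {P A : Type u} [CommRing P] [CommRing A] (α : P →+* A) {g : P} {f : A} (hgf : α g = f)
variable (Pg Af : Type u) [CommRing Pg] [CommRing Af] [Algebra P Pg] [Algebra A Af]
  [IsLocalization.Away g Pg] [IsLocalization.Away f Af]

include hgf in
lemma isUnit_image : IsUnit ((algebraMap A Af).comp α g) := by
  rw [RingHom.comp_apply, hgf]
  exact IsLocalization.map_units Af (⟨f, Submonoid.mem_powers f⟩ : Submonoid.powers f)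

/-- The induced map of localizations. -/
noncomputable def locMap : Pg →+* Af :=
  IsLocalization.Away.lift g (isUnit_image α hgf Af)

lemma locMap_comp : (locMap α hgf Pg Af).comp (algebraMap P Pg) = (algebraMap A Af).comp α :=
  IsLocalization.Away.lift_comp g (isUnit_image α hgf Af)

lemma locMap_apply (p : P) : locMap α hgf Pg Af (algebraMap P Pg p) = algebraMap A Af (α p) :=
  RingHom.congr_fun (locMap_comp α hgf Pg Af) p

lemma locMap_surjective (hα : Function.Surjective α) : Function.Surjective (locMap α hgf Pg Af) := by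
  intro y
  obtain ⟨n, a, ha⟩ := IsLocalization.Away.surj f y
  obtain ⟨p, rfl⟩ := hα a
  refine ⟨IsLocalization.mk' Pg p (⟨g ^ n, n, rfl⟩ : Submonoid.powers g), ?_⟩
  have hu : IsUnit (algebraMap A Af f ^ n) :=
    (IsLocalization.map_units Af (⟨f, Submonoid.mem_powers f⟩ : Submonoid.powers f)).pow n
  refine hu.mul_left_injective ?_
  show _ * algebraMap A Af f ^ n = y * algebraMap A Af f ^ n
  have h1 := congrArg (locMap α hgf Pg Af)
    (IsLocalization.mk'_spec Pg p (⟨g ^ n, n, rfl⟩ : Submonoid.powers g))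
  simp only [map_mul, locMap_apply, map_pow, hgf] at h1
  exact h1.trans ha.symm

/-- The adjoint comparison map. -/
noncomputable def unitMap : res α ⟶
    (ModuleCat.extendScalars.{u, u, u} (algebraMap A Af) ⋙ res (locMap α hgf Pg Af)) ⋙ res (algebraMap P Pg) where
  app M := ModuleCat.ofHom (X := (res α).obj M)
    (Y := ((ModuleCat.extendScalars.{u, u, u} (algebraMap A Af) ⋙ res (locMap α hgf Pg Af)) ⋙
      res (algebraMap P Pg)).obj M)
    { toFun := fun m => (ModuleCat.extendRestrictScalarsAdj.{u} (algebraMap A Af)).unit.app M m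
      map_add' := fun x y => map_add ((ModuleCat.extendRestrictScalarsAdj.{u} (algebraMap A Af)).unit.app M).hom x y
      map_smul' := fun p m => by
        refine (map_smul ((ModuleCat.extendRestrictScalarsAdj.{u} (algebraMap A Af)).unit.app M).hom (α p) m).trans ?_
        exact congrArg (fun c : Af => c • (show ((ModuleCat.extendScalars.{u, u, u} (algebraMap A Af)).obj M : Type u)
          from (ModuleCat.extendRestrictScalarsAdj.{u} (algebraMap A Af)).unit.app M m))
          (locMap_apply α hgf Pg Af p).symm }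
  naturality {M N} φ := by
    refine ModuleCat.hom_ext (LinearMap.ext fun m => ?_)
    exact congr($((ModuleCat.extendRestrictScalarsAdj.{u} (algebraMap A Af)).unit.naturality φ) m)

/-- Localization commutes with restriction along a surjection. -/
noncomputable def theta : res α ⋙ ModuleCat.extendScalars.{u, u, u} (algebraMap P Pg) ⟶
    ModuleCat.extendScalars.{u, u, u} (algebraMap A Af) ⋙ res (locMap α hgf Pg Af) where
  app M := ((ModuleCat.extendRestrictScalarsAdj.{u} (algebraMap P Pg)).homEquiv _ _).symm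
    ((unitMap α hgf Pg Af).app M)
  naturality {M N} φ := by
    refine ((ModuleCat.extendRestrictScalarsAdj.{u} (algebraMap P Pg)).homEquiv_naturality_left_symm _ _).symm.trans ?_
    rw [(unitMap α hgf Pg Af).naturality φ]
    exact (ModuleCat.extendRestrictScalarsAdj.{u} (algebraMap P Pg)).homEquiv_naturality_right_symm _ _

include hgf in
lemma bijective_theta_core (M : Type u) [AddCommGroup M] [Module A M] [Module P M]
    (hM : ∀ (p : P) (m : M), p • m = α p • m) [Module P (Af ⊗[A] M)]
    (hT : ∀ (p : P) (x : Af ⊗[A] M), p • x = α p • x)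
    (h : Pg ⊗[P] M →ₗ[P] Af ⊗[A] M) (h1 : ∀ m, h (1 ⊗ₜ m) = 1 ⊗ₜ m) : Function.Bijective h := by
  let i₁ : M →ₗ[P] Pg ⊗[P] M := TensorProduct.mk P Pg M 1
  let i₂ : M →ₗ[P] Af ⊗[A] M :=
    { toFun := fun m => 1 ⊗ₜ m
      map_add' := fun x y => TensorProduct.tmul_add _ x y
      map_smul' := fun p m => by rw [hM, RingHom.id_apply, hT, TensorProduct.tmul_smul] }
  have hf : IsLocalizedModule (Submonoid.powers f) (TensorProduct.mk A Af M 1) :=
    (isLocalizedModule_iff_isBaseChange (Submonoid.powers f) Af _).mpr (TensorProduct.isBaseChange A M Af)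
  haveI : IsLocalizedModule (Submonoid.powers g) i₁ :=
    (isLocalizedModule_iff_isBaseChange (Submonoid.powers g) Pg _).mpr (TensorProduct.isBaseChange P M Pg)
  have hsmul : ∀ (n : ℕ) (x : Af ⊗[A] M), g ^ n • x = f ^ n • x := fun n x => by rw [hT, map_pow, hgf]
  haveI : IsLocalizedModule (Submonoid.powers g) i₂ := by
    refine ⟨?_, ?_, ?_⟩
    · rintro ⟨x, n, rfl⟩
      rw [Module.End.isUnit_iff]
      have := (Module.End.isUnit_iff _).mp (hf.map_units ⟨f ^ n, n, rfl⟩)
      convert this using 1
      exact funext fun x => hsmul n x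
    · intro y
      obtain ⟨⟨m, ⟨x, n, rfl⟩⟩, hm⟩ := hf.surj y
      exact ⟨⟨m, ⟨g ^ n, n, rfl⟩⟩, (hsmul n y).trans hm⟩
    · intro x₁ x₂ hx
      obtain ⟨⟨c, n, rfl⟩, hc⟩ := hf.exists_of_eq (x₁ := x₁) (x₂ := x₂) hx
      refine ⟨⟨g ^ n, n, rfl⟩, ?_⟩
      show g ^ n • x₁ = g ^ n • x₂
      rw [hM, hM, map_pow, hgf]
      exact hc
  have : h = (IsLocalizedModule.linearEquiv (Submonoid.powers g) i₁ i₂).toLinearMap := by
    refine IsLocalizedModule.linearMap_ext (Submonoid.powers g) i₁ i₂ (LinearMap.ext fun m => ?_)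
    exact (h1 m).trans (IsLocalizedModule.linearEquiv_apply (Submonoid.powers g) i₁ i₂ m).symm
  rw [this]
  exact (IsLocalizedModule.linearEquiv (Submonoid.powers g) i₁ i₂).bijective

instance isIso_theta (M : ModuleCat.{u} A) : IsIso ((theta α hgf Pg Af).app M) := by
  refine (ConcreteCategory.isIso_iff_bijective _).mpr ?_
  let _ : Module P M := Module.compHom M α
  let _ : Module P (Af ⊗[A] M) := Module.compHom _ α
  let e₁ := FlatBC.extEquiv P Pg M
  let e₂ := FlatBC.extEquiv A Af M
  let h : Pg ⊗[P] M →ₗ[P] Af ⊗[A] M :=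
    { toFun := fun x => e₂ ((theta α hgf Pg Af).app M (e₁.symm x))
      map_add' := fun x y => by
        rw [map_add e₁.symm]
        exact (congrArg e₂ (map_add ((theta α hgf Pg Af).app M).hom _ _)).trans (map_add e₂ _ _)
      map_smul' := fun p x => by
        rw [← algebraMap_smul Pg p x, map_smul e₁.symm, RingHom.id_apply]
        refine (congrArg e₂ (map_smul ((theta α hgf Pg Af).app M).hom (algebraMap P Pg p) _)).trans ?_
        refine (map_smul e₂ (locMap α hgf Pg Af (algebraMap P Pg p)) _).trans ?_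
        rw [locMap_apply]
        exact algebraMap_smul Af (α p) _ }
  have hh := bijective_theta_core α hgf Pg Af M (fun _ _ => rfl) (fun _ _ => rfl) h fun m => by
    show e₂ ((theta α hgf Pg Af).app M (e₁.symm (1 ⊗ₜ m))) = _
    refine congrArg e₂ (?_ : _ = (ModuleCat.extendRestrictScalarsAdj.{u} (algebraMap A Af)).unit.app M m)
    exact one_smul Pg (show ((ModuleCat.extendScalars.{u, u, u} (algebraMap A Af) ⋙
      res (locMap α hgf Pg Af)).obj M : Type u) from (ModuleCat.extendRestrictScalarsAdj.{u} (algebraMap A Af)).unit.app M m)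
  have h' : ⇑((theta α hgf Pg Af).app M) = e₂.symm ∘ h ∘ e₁ := funext fun x =>
    ((e₂.symm_apply_apply _).trans (congrArg _ (e₁.symm_apply_apply x))).symm
  rw [h']
  exact e₂.symm.bijective.comp (hh.comp e₁.bijective)

/-- The comparison isomorphism in the derived category, for a complex. -/
noncomputable def locResIso [Module.Flat P Pg] [Module.Flat A Af] (K : DRing.Cx A) :
    (ModuleCat.extendScalars.{u, u, u} (algebraMap P Pg)).mapDerivedCategory.obj
        ((DRing.restrictD α).obj (DerivedCategory.Q.obj K)) ≅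
      (DRing.restrictD (locMap α hgf Pg Af)).obj (DerivedCategory.Q.obj
        (((ModuleCat.extendScalars.{u, u, u} (algebraMap A Af)).mapHomologicalComplex _).obj K)) :=
  haveI : IsIso (theta α hgf Pg Af) := NatIso.isIso_of_isIso_app _
  (ModuleCat.extendScalars.{u, u, u} (algebraMap P Pg)).mapDerivedCategory.mapIso (ExactPush.mapQ (res α) K) ≪≫
    ExactPush.mapQ _ _ ≪≫
    DerivedCategory.Q.mapIso
      ((NatIso.mapHomologicalComplex (asIso (theta α hgf Pg Af)) (ComplexShape.up ℤ)).app K) ≪≫
    (ExactPush.mapQ (res (locMap α hgf Pg Af))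
      (((ModuleCat.extendScalars.{u, u, u} (algebraMap A Af)).mapHomologicalComplex _).obj K)).symm

end

/-! ### Localization at an element is pseudo-coherent -/

lemma eq_zero_of_mul_eq_zero {A : Type u} [CommRing A] (f : A) (q : Polynomial A)
    (h : (Polynomial.C f * Polynomial.X - 1) * q = 0) : q = 0 := by
  have h' : q = Polynomial.C f * (Polynomial.X * q) := by linear_combination -h
  refine Polynomial.ext fun n => ?_
  induction n with
  | zero => rw [h']; simp
  | succ n ih =>
    rw [h', Polynomial.coeff_C_mul, Polynomial.coeff_X_mul, ih]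
    simp

lemma pcRing_away {A : Type u} [CommRing A] (f : A) (Af : Type u) [CommRing Af] [Algebra A Af]
    [IsLocalization.Away f Af] :
    PCRing (Polynomial.eval₂RingHom (algebraMap A Af) (IsLocalization.Away.invSelf f)) := by
  let ψ := Polynomial.eval₂RingHom (algebraMap A Af) (IsLocalization.Away.invSelf f)
  let N := (res ψ).obj (ModuleCat.of Af Af)
  let q : Polynomial A →ₗ[Polynomial A] N :=
    { toFun := fun p => (ψ p : Af)
      map_add' := fun p q => (show ψ (p + q) = (ψ p + ψ q : Af) from map_add _ _ _)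
      map_smul' := fun c p => (show ψ (c * p) = (ψ c * ψ p : Af) from map_mul _ _ _) }
  let d : Polynomial A := Polynomial.C f * Polynomial.X - 1
  let S := ShortComplex.moduleCatMk (LinearMap.mulLeft (Polynomial A) d) q (LinearMap.ext fun p => by
    show ψ (d * p) = (0 : Af)
    simp [ψ, d, IsLocalization.Away.mul_invSelf])
  let e := Localization.awayEquivAdjoin f
  let e' : Localization.Away f ≃ₐ[A] Af := IsLocalization.algEquiv (Submonoid.powers f) _ _
  let φ : AdjoinRoot d ≃ₐ[A] Af := e.symm.trans e'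
  have hψ : ψ = φ.toRingEquiv.toRingHom.comp (AdjoinRoot.mk d) := by
    refine Polynomial.ringHom_ext (fun a => ?_) ?_
    · simp [ψ]
    · have hu : IsUnit (algebraMap A Af f) :=
        IsLocalization.map_units Af (⟨f, Submonoid.mem_powers f⟩ : Submonoid.powers f)
      refine hu.mul_right_injective ?_
      show algebraMap A Af f * ψ Polynomial.X = algebraMap A Af f * φ (AdjoinRoot.mk d Polynomial.X)
      rw [← φ.commutes f, ← map_mul]
      simp only [ψ, Polynomial.coe_eval₂RingHom, Polynomial.eval₂_X]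
      rw [φ.commutes, IsLocalization.Away.mul_invSelf, ← map_one φ]
      congr 1
      rw [AdjoinRoot.algebraMap_eq, ← AdjoinRoot.mk_C, ← map_mul, eq_comm, ← map_one (AdjoinRoot.mk d),
        AdjoinRoot.mk_eq_mk]
  have hS : S.ShortExact :=
    { exact := by
        rw [ShortComplex.moduleCat_exact_iff]
        intro x hx
        have hx' : φ (AdjoinRoot.mk d x) = 0 := (RingHom.congr_fun hψ x).symm.trans hx
        obtain ⟨y, rfl⟩ := (AdjoinRoot.mk_eq_zero (f := d) (g := x)).1
          (φ.injective (hx'.trans (map_zero φ).symm))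
        exact ⟨y, rfl⟩
      mono_f := (ModuleCat.mono_iff_injective _).2 fun (p p' : Polynomial A) (h : d * p = d * p') =>
        sub_eq_zero.1 (eq_zero_of_mul_eq_zero f (p - p') ((mul_sub d p p').trans (sub_eq_zero.2 h)))
      epi_g := (ModuleCat.epi_iff_surjective _).2 fun (a : Af) => by
        obtain ⟨p, hp⟩ := AdjoinRoot.mk_surjective (φ.symm a)
        exact ⟨p, show ψ p = a by rw [RingHom.congr_fun hψ p]; exact (congrArg φ hp).trans (φ.apply_symm_apply a)⟩ }
  exact fun m => PCn.cone good_ff projective_of_ff _ hS.singleTriangle_distinguished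
    (pcn_free_one _) (pcn_free_one m)

end Groth.Agent.H54.RelLoc

namespace Groth.Agent.H54.RelLoc

variable {R A B : Type u} [CommRing R] [CommRing A] [CommRing B] [Algebra R A]

theorem hom_comp [Algebra A B] [Algebra R B] [IsScalarTower R A B]
    (h₁ : MoreMor.IsPseudoCoherentHom R A) (h₂ : MoreMor.IsPseudoCoherentHom A B) :
    MoreMor.IsPseudoCoherentHom R B := by
  obtain ⟨k, β, hβ, hb⟩ := hom_iff.1 h₂
  have : Algebra.FiniteType A B := Algebra.FiniteType.iff_quotient_mvPolynomial''.mpr ⟨k, β, hβ⟩
  have h : ∀ m, DerCA.IsRelPseudoCoherent R B m (Dual.inD B B) := fun m =>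
    (rel_base_iff h₁ _ m).1 ((relModule_iff β hβ m B).2 (hb m))
  obtain ⟨n, γ, hγ, -⟩ := h 0
  exact hom_iff.2 ⟨n, γ, hγ, fun m => (relModule_iff γ hγ m B).1 (h m)⟩

theorem hom_away (f : A) (Af : Type u) [CommRing Af] [Algebra A Af] [IsLocalization.Away f Af] :
    MoreMor.IsPseudoCoherentHom A Af := by
  let φ : MvPolynomial (Fin 1) A →ₐ[A] Af := MvPolynomial.aeval fun _ => IsLocalization.Away.invSelf f
  let e : MvPolynomial (Fin 1) A →+* Polynomial A :=
    (MvPolynomial.uniqueAlgEquiv A (Fin 1)).toRingEquiv.toRingHom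
  have he : φ.toRingHom = (Polynomial.eval₂RingHom (algebraMap A Af) (IsLocalization.Away.invSelf f)).comp e :=
    MvPolynomial.ringHom_ext (fun r => by simp [φ, e]) (fun i => by simp [φ, e])
  refine hom_iff.2 ⟨1, φ, ?_, ?_⟩
  · intro y
    obtain ⟨n, a, ha⟩ := IsLocalization.Away.surj f y
    refine ⟨MvPolynomial.C a * MvPolynomial.X 0 ^ n, ?_⟩
    simp only [φ, map_mul, map_pow, MvPolynomial.aeval_C, MvPolynomial.aeval_X]
    rw [← ha, mul_assoc, ← mul_pow, IsLocalization.Away.mul_invSelf, one_pow, mul_one]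
  · rw [he]
    exact (pcRing_of_bijective _ (MvPolynomial.uniqueAlgEquiv A (Fin 1)).bijective).comp (pcRing_away f Af)

/-- Along `P → Pg → Af` for a presentation. -/
lemma exists_loc_pres [Algebra A B] [Algebra R B] [IsScalarTower R A B] {n : ℕ}
    (α : MvPolynomial (Fin n) R →ₐ[R] A) (hα : Function.Surjective α) (g : MvPolynomial (Fin n) R) (f : A)
    (hgf : α.toRingHom g = f) [IsLocalization.Away f B] :
    ∃ (γ : MvPolynomial (Fin (n + 1)) R →ₐ[R] B) (η : MvPolynomial (Fin (n + 1)) R →+* Localization.Away g),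
      Function.Surjective γ ∧ PCRing η ∧
        γ.toRingHom = (locMap α.toRingHom hgf (Localization.Away g) B).comp η := by
  let Pg := Localization.Away g
  let ψ : Polynomial (MvPolynomial (Fin n) R) →+* Pg :=
    Polynomial.eval₂RingHom (algebraMap _ Pg) (IsLocalization.Away.invSelf g)
  let e := (MvPolynomial.finSuccEquiv R n).toRingEquiv
  let η : MvPolynomial (Fin (n + 1)) R →+* Pg := ψ.comp e.toRingHom
  let χ := (locMap α.toRingHom hgf Pg B).comp η
  have hC : ∀ r, χ (MvPolynomial.C r) = algebraMap R B r := fun r => by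
    simp [χ, η, ψ, e, MvPolynomial.finSuccEquiv_apply, locMap_apply, ← IsScalarTower.algebraMap_apply]
  let γ : MvPolynomial (Fin (n + 1)) R →ₐ[R] B := { χ with commutes' := hC }
  refine ⟨γ, η, ?_, (pcRing_of_bijective _ e.bijective).comp (pcRing_away g Pg), rfl⟩
  have hψ : Function.Surjective ψ := by
    intro y
    obtain ⟨k, a, ha⟩ := IsLocalization.Away.surj g y
    refine ⟨Polynomial.C a * Polynomial.X ^ k, ?_⟩
    simp only [ψ, map_mul, map_pow, Polynomial.coe_eval₂RingHom, Polynomial.eval₂_C, Polynomial.eval₂_X]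
    rw [← ha, mul_assoc, ← mul_pow, IsLocalization.Away.mul_invSelf, one_pow, mul_one]
  exact (locMap_surjective α.toRingHom hgf Pg B hα).comp (hψ.comp e.surjective)

/-- Relative pseudo-coherence localizes. -/
theorem rel_localization [Algebra A B] [Algebra R B] [IsScalarTower R A B] (f : A) [IsLocalization.Away f B]
    (K : DRing.Cx A) (m : ℤ) (h : DerCA.IsRelPseudoCoherent R A m (DRing.toD K)) :
    DerCA.IsRelPseudoCoherent R B m
      (DRing.toD (((ModuleCat.extendScalars.{u, u, u} (algebraMap A B)).mapHomologicalComplex _).obj K)) := by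
  obtain ⟨n, α, hα, h⟩ := h
  obtain ⟨g, hg⟩ := hα f
  obtain ⟨γ, η, hγ, hη, hγη⟩ := exists_loc_pres (B := B) α hα g f hg
  have : Module.Flat A B := IsLocalization.flat B (Submonoid.powers f)
  refine (rel_iff γ hγ m _).2 ?_
  rw [hγη, pcn_comp_iff hη]
  exact (ExactPush.pcn_map _ (BaseChange.ext_ff _) ((via_iff α m _).1 h)).of_iso
    (locResIso α.toRingHom hg (Localization.Away g) B K)

/-- Relative pseudo-coherence is local on the ring. -/
theorem rel_of_localizations {r : ℕ} (f : Fin r → A) (hf : Ideal.span (Set.range f) = ⊤)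
    [Algebra.FiniteType R A] (Af : Fin r → Type u) [∀ i, CommRing (Af i)] [∀ i, Algebra A (Af i)]
    [∀ i, Algebra R (Af i)] [∀ i, IsScalarTower R A (Af i)] [∀ i, IsLocalization.Away (f i) (Af i)]
    (K : DRing.Cx A) (m : ℤ)
    (h : ∀ i, DerCA.IsRelPseudoCoherent R (Af i) m
      (DRing.toD (((ModuleCat.extendScalars.{u, u, u} (algebraMap A (Af i))).mapHomologicalComplex _).obj K))) :
    DerCA.IsRelPseudoCoherent R A m (DRing.toD K) := by
  obtain ⟨n, α, hα⟩ := Algebra.FiniteType.iff_quotient_mvPolynomial''.mp ‹Algebra.FiniteType R A›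
  choose g hg using fun i => hα (f i)
  obtain ⟨c, hc⟩ := (Submodule.mem_span_range_iff_exists_fun A).1 (hf ▸ Submodule.mem_top : (1 : A) ∈ _)
  choose c' hc' using fun i => hα (c i)
  let g₀ := 1 - ∑ i, c' i * g i
  have hg₀ : α.toRingHom g₀ = 0 := by
    show α g₀ = 0
    simp only [g₀, map_sub, map_one, map_sum, map_mul, hc', hg]
    rw [show ∑ i, c i * f i = 1 from hc, sub_self]
  let G' : Fin (r + 1) → MvPolynomial (Fin n) R := Fin.cons g₀ g
  have hG : Ideal.span (Set.range G') = ⊤ := by
    rw [Ideal.eq_top_iff_one]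
    have : (1 : MvPolynomial (Fin n) R) = g₀ + ∑ i, c' i * g i := by simp [g₀]
    rw [this]
    refine add_mem (Ideal.subset_span ⟨0, rfl⟩) (Ideal.sum_mem _ fun i _ => Ideal.mul_mem_left _ _
      (Ideal.subset_span ⟨i.succ, by simp [G']⟩))
  have (q : MvPolynomial (Fin n) R) : Module.Flat (MvPolynomial (Fin n) R) (Localization.Away q) :=
    IsLocalization.flat _ (Submonoid.powers q)
  refine (rel_iff α hα m _).2 (Descent.pcn_desc (Descent.detects_away G' hG) m _ fun i => ?_)
  refine Fin.cases ?_ (fun i => ?_) i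
  · show PCn _ m ((ModuleCat.extendScalars.{u, u, u} (algebraMap (MvPolynomial (Fin n) R) (Localization.Away g₀))).mapDerivedCategory.obj _)
    let T := Localization.Away (0 : A)
    have : Subsingleton T := IsLocalization.subsingleton (M := Submonoid.powers (0 : A)) ⟨1, pow_one _⟩
    refine PCn.of_iso ?_ (locResIso α.toRingHom hg₀ (Localization.Away g₀) T K).symm
    refine (bdd_zero good_ff ?_ 0 0).pcn m
    refine (DRing.restrictD _).map_isZero (DerivedCategory.Q.map_isZero ?_)
    rw [IsZero.iff_id_eq_zero]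
    exact HomologicalComplex.hom_ext _ _ fun j =>
      (have := Module.subsingleton T ((ModuleCat.extendScalars.{u, u, u} (algebraMap A T)).obj (K.X j))
       ModuleCat.isZero_of_subsingleton ((ModuleCat.extendScalars.{u, u, u} (algebraMap A T)).obj (K.X j))).eq_of_src _ _
  · show PCn _ m ((ModuleCat.extendScalars.{u, u, u} (algebraMap (MvPolynomial (Fin n) R) (Localization.Away (g i)))).mapDerivedCategory.obj _)
    obtain ⟨γ, η, hγ, hη, hγη⟩ := exists_loc_pres (B := Af i) α hα (g i) (f i) (hg i)
    have : Module.Flat A (Af i) := IsLocalization.flat (Af i) (Submonoid.powers (f i))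
    have h' := (rel_iff γ hγ m _).1 (h i)
    rw [hγη, pcn_comp_iff hη] at h'
    exact h'.of_iso (locResIso α.toRingHom (hg i) (Localization.Away (g i)) (Af i) K).symm

theorem rel_localization_iff [Algebra.FiniteType R A] {r : ℕ} (f : Fin r → A) (hf : Ideal.span (Set.range f) = ⊤)
    (K : DRing.Cx A) (m : ℤ) :
    DerCA.IsRelPseudoCoherent R A m (DRing.toD K) ↔
      ∀ i, DerCA.IsRelPseudoCoherent R (Localization.Away (f i)) m
        (DRing.toD (((ModuleCat.extendScalars.{u, u, u} (algebraMap A (Localization.Away (f i)))).mapHomologicalComplex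
          (ComplexShape.up ℤ)).obj K)) :=
  ⟨fun h i => rel_localization (f i) K m h,
    fun h => rel_of_localizations f hf (fun i => Localization.Away (f i)) K m h⟩

end Groth.Agent.H54.RelLoc
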