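import Groth.Agent.H54.RelPCApp
import Groth.Agent.H54.PCFlatBase
import Groth.Agent.H54.TorDimHom
import Groth.Agent.Lib.DR.FlatAcyclic
import Mathlib.LinearAlgebra.TensorProduct.Tower
import Mathlib.RingTheory.TensorProduct.MvPolynomial

/-!
# Relative pseudo-coherence of base changes along flat relatively pseudo-coherent algebras
-/

universe u

open CategoryTheory CategoryTheory.Limits CategoryTheory.Pretriangulated
open Groth.Agent.Lib.DR
open Groth.Agent.Lib.DR.Basic Groth.Agent.Lib.DR.FiniteComplex Groth.Agent.Lib.DR.PseudoCoherent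
open Groth.Agent.Lib.DR.BaseChange Groth.Agent.Lib.DR.Representative
open Groth.Agent.H54.PCRestrict Groth.Agent.H54.RelPC
open scoped TensorProduct MonoidalCategory

attribute [local instance] HasDerivedCategory.standard

namespace Groth.Agent.H54.RelPCTensor

variable {A P Q : Type u} [CommRing A] [CommRing P] [CommRing Q] [Algebra A P] (ρ : Q →+* P)
  (M : Type u) [AddCommGroup M] [Module A M]

/-- `X ↦ X ⊗[P] (P ⊗[A] M)`. -/
noncomputable abbrev tf (A P : Type u) [CommRing A] [CommRing P] [Algebra A P] (M : Type u)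
    [AddCommGroup M] [Module A M] : ModuleCat.{u} P ⥤ ModuleCat.{u} P :=
  MonoidalCategory.tensorRight (ModuleCat.of P (P ⊗[A] M))

/-- `X ⊗[P] (P ⊗[A] M) ≅ X ⊗[A] M`. -/
noncomputable def tfIso (N : Type u) [AddCommGroup N] [Module P N] [Module A N] [IsScalarTower A P N] :
    (tf A P M).obj (ModuleCat.of P N) ≅ ModuleCat.of P (N ⊗[A] M) :=
  (TensorProduct.AlgebraTensorModule.cancelBaseChange A P P N M).toModuleIso

lemma acyclic_tf (C : DRing.Cx P) (b : ℤ) (hb : ∀ i, b < i → IsZero (C.X i)) (hC : C.Acyclic)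
    (hflat : ∀ i, flat A ((res (algebraMap A P)).obj (C.X i))) :
    (((tf A P M).mapHomologicalComplex (ComplexShape.up ℤ)).obj C).Acyclic := by
  letI (i : ℤ) : Module A (C.X i) := Module.compHom (C.X i) (algebraMap A P)
  haveI (i : ℤ) : IsScalarTower A P (C.X i) := IsScalarTower.of_algebraMap_smul fun _ _ => rfl
  intro j
  rw [HomologicalComplex.exactAt_iff' _ (j - 1) j (j + 1) (by simp) (by simp),
    ShortComplex.ShortExact.moduleCat_exact_iff_function_exact]
  have hex : ∀ i j k : ℤ, i + 1 = j → j + 1 = k → Function.Exact (C.d i j).hom (C.d j k).hom := by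
    intro i j k hij hjk
    have h := hC j
    rw [HomologicalComplex.exactAt_iff' C i j k (by simp; lia) (by simp; lia),
      ShortComplex.ShortExact.moduleCat_exact_iff_function_exact] at h
    exact h
  have h := FlatAcyclic.exact_lTensor (A := A) (fun i => C.X i)
    (fun i k => (C.d i k).hom.restrictScalars A) hflat b
    (fun i hi => ModuleCat.subsingleton_of_isZero (hb i hi)) hex M (j - 1) j (j + 1) (by lia) rfl
  let e (i : ℤ) : M ⊗[A] C.X i ≃+ ((((tf A P M).mapHomologicalComplex (ComplexShape.up ℤ)).obj C).X i) :=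
    (TensorProduct.comm A M (C.X i)).toAddEquiv.trans
      (TensorProduct.AlgebraTensorModule.cancelBaseChange A P P (C.X i) M).symm.toAddEquiv
  refine (Function.Exact.iff_of_ladder_addEquiv (e (j - 1)) (e j) (e (j + 1))
    (g₁₂ := ((((tf A P M).mapHomologicalComplex (ComplexShape.up ℤ)).obj C).d (j - 1) j).hom.toAddMonoidHom)
    (g₂₃ := ((((tf A P M).mapHomologicalComplex (ComplexShape.up ℤ)).obj C).d j (j + 1)).hom.toAddMonoidHom)
    (f₁₂ := (((C.d (j - 1) j).hom.restrictScalars A).lTensor M).toAddMonoidHom)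
    (f₂₃ := (((C.d j (j + 1)).hom.restrictScalars A).lTensor M).toAddMonoidHom)
    (AddMonoidHom.ext fun x => ?_) (AddMonoidHom.ext fun x => ?_)).2 h
  · induction x using TensorProduct.induction_on with
    | zero => simp
    | add x y hx hy => simp only [map_add, hx, hy]
    | tmul s m => rfl
  · induction x using TensorProduct.induction_on with
    | zero => simp
    | add x y hx hy => simp only [map_add, hx, hy]
    | tmul s m => rfl

lemma pcn_tf_ff {m : ℤ} (hM : PCn (ff Q) m ((sgl Q 0).obj ((res ρ).obj (ModuleCat.of P (P ⊗[A] M)))))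
    (S : ModuleCat.{u} P) (hS : ff P S) :
    PCn (ff Q) m ((sgl Q 0).obj ((res ρ).obj ((tf A P M).obj S))) := by
  let F := tf A P M ⋙ res ρ ⋙ sgl Q 0
  have hfree : ∀ k : ℕ, PCn (ff Q) m (F.obj (ModuleCat.of P (Fin k → P))) := by
    intro k
    induction k with
    | zero =>
      exact (bdd_zero good_ff (F.map_isZero (ModuleCat.isZero_of_subsingleton _)) 0 0).pcn _
    | succ k ih =>
      let e : ModuleCat.of P (Fin (k + 1) → P) ≅ ModuleCat.of P P ⊞ ModuleCat.of P (Fin k → P) :=
        (Fin.consLinearEquiv P (fun _ : Fin (k + 1) => P)).symm.toModuleIso ≪≫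
          (ModuleCat.biprodIsoProd (ModuleCat.of P P) (ModuleCat.of P (Fin k → P))).symm
      have : PreservesBinaryBiproduct (ModuleCat.of P P) (ModuleCat.of P (Fin k → P)) F :=
        preservesBinaryBiproduct_of_preservesBiproduct F _ _
      have h1 : PCn (ff Q) m (F.obj (ModuleCat.of P P)) :=
        hM.of_iso ((sgl Q 0).mapIso ((res ρ).mapIso
          (TensorProduct.lid P (P ⊗[A] M)).symm.toModuleIso))
      exact (PCn.biprod good_ff projective_of_ff h1 ih).of_iso
        ((F.mapBiprod _ _).symm ≪≫ F.mapIso e.symm)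
  obtain ⟨_, _⟩ := hS
  let b := (Module.Free.chooseBasis P S).reindex (Fintype.equivFin _)
  exact (hfree _).of_iso (F.mapIso b.equivFun.symm.toModuleIso)

/-- Tensoring an `A`-flat pseudo-coherent `P`-module with `M`. -/
theorem pcn_tensor [Module.Flat A P] (N : Type u) [AddCommGroup N] [Module P N] [Module A N]
    [IsScalarTower A P N] [Module.Flat A N] (hN : ∀ k, PCn (ff P) k (Dual.inD P N)) {m : ℤ}
    (hM : PCn (ff Q) m ((sgl Q 0).obj ((res ρ).obj (ModuleCat.of P (P ⊗[A] M))))) :
    PCn (ff Q) m ((sgl Q 0).obj ((res ρ).obj (ModuleCat.of P (N ⊗[A] M)))) := by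
  obtain ⟨E, hE, hp, ⟨e⟩⟩ :=
    ba_ff_of_forall hN (b := 0) (inferInstance : DerivedCategory.IsLE (Dual.inD P N) 0)
  have := isKProjective_of_bounds projective_of_ff hE hp
  let K := (CochainComplex.singleFunctor (ModuleCat.{u} P) 0).obj (ModuleCat.of P N)
  obtain ⟨s, hs⟩ := exists_Q_map_eq (K := K)
    (e.hom ≫ ((DerivedCategory.singleFunctorIsoCompQ (ModuleCat.{u} P) 0).app (ModuleCat.of P N)).hom)
  have : QuasiIso s := by
    rw [← DerivedCategory.isIso_Q_map_iff_quasiIso, hs]
    infer_instance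
  have hgP : (algebraMap A P).Flat := by rw [RingHom.flat_algebraMap_iff]; infer_instance
  have hKz : ∀ i, i ≠ 0 → IsZero (K.X i) := fun i hi => HomologicalComplex.isZero_single_obj_X _ _ _ _ hi
  have hN' : flat A ((res (algebraMap A P)).obj (ModuleCat.of P N)) :=
    good_flat.iso (LinearEquiv.toModuleIso (TorDimHom.towerEquiv (A := A) (B := P) N)).symm
      (show flat A (ModuleCat.of A N) from ‹Module.Flat A N›)
  have hflat : ∀ i, flat A ((res (algebraMap A P)).obj ((CochainComplex.mappingCone s).X i)) := fun i => by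
    refine good_flat.iso ((res (algebraMap A P)).mapIso
      (HomologicalComplex.homotopyCofiber.XIsoBiprod s i (i + 1) rfl).symm) ?_
    haveI := preservesBinaryBiproduct_of_preservesBiproduct (res (algebraMap A P)) (E.X (i + 1)) (K.X i)
    refine good_flat.iso ((res (algebraMap A P)).mapBiprod _ _).symm (good_flat.biprod
      (TorPoly.res_flat hgP _ (flat_of_fproj _ (fproj_of_ff _ (hp (i + 1))))) ?_)
    by_cases hi : i = 0
    · subst hi
      exact good_flat.iso ((res (algebraMap A P)).mapIso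
        (HomologicalComplex.singleObjXSelf (ComplexShape.up ℤ) 0 (ModuleCat.of P N))).symm hN'
    · exact good_flat.zero ((res (algebraMap A P)).map_isZero (hKz i hi))
  have hz : ∀ i, 0 < i → IsZero ((CochainComplex.mappingCone s).X i) := fun i hi => by
    refine IsZero.of_iso ?_ (HomologicalComplex.homotopyCofiber.XIsoBiprod s i (i + 1) rfl)
    rw [biprod_isZero_iff]
    exact ⟨hE _ (by lia), hKz i (by lia)⟩
  let F := (tf A P M).mapHomologicalComplex (ComplexShape.up ℤ)
  have hacy := acyclic_tf M (CochainComplex.mappingCone s) 0 hz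
    ((quasiIso_iff_acyclic s).1 inferInstance) hflat
  have : QuasiIso (F.map s) := by
    rw [quasiIso_iff_acyclic]
    intro i
    exact (hacy i).of_iso (CochainComplex.mappingCone.mapHomologicalComplexIso s _)
  have : IsIso (DerivedCategory.Q.map (F.map s)) :=
    Localization.inverts DerivedCategory.Q
      (HomologicalComplex.quasiIso (ModuleCat.{u} P) (ComplexShape.up ℤ)) _ this
  let T : DRing.Cx Q := ((res ρ).mapHomologicalComplex _).obj (F.obj E)
  have hT : PCn (ff Q) m (DerivedCategory.Q.obj T) := by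
    refine (isPseudoCoherent_iff _ _).1 ((Groth.Agent.S6938.result _ m T 0
      fun i hi => (res ρ).map_isZero ((tf A P M).map_isZero (hE i hi))).1 fun i => ?_)
    refine (isPseudoCoherent_iff _ _).2 ?_
    by_cases hi : 0 < i
    · exact (bdd_zero good_ff ((sgl Q 0).map_isZero ((res ρ).map_isZero
        ((tf A P M).map_isZero (hE i hi)))) 0 0).pcn _
    · exact PCn.mono (pcn_tf_ff ρ M hM _ (hp i)) (by lia)
  have e' : DerivedCategory.Q.obj (F.obj E) ≅ (sgl P 0).obj (ModuleCat.of P (N ⊗[A] M)) :=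
    asIso (DerivedCategory.Q.map (F.map s)) ≪≫
    DerivedCategory.Q.mapIso ((HomologicalComplex.singleMapHomologicalComplex
      (tf A P M) (ComplexShape.up ℤ) 0).app (ModuleCat.of P N)) ≪≫
    ((DerivedCategory.singleFunctorIsoCompQ (ModuleCat.{u} P) 0).app _).symm ≪≫
    (sgl P 0).mapIso (tfIso M N)
  exact hT.of_iso ((ExactPush.mapQ (res ρ) (F.obj E)).symm ≪≫ (DRing.restrictD ρ).mapIso e' ≪≫
    ExactPush.mapSingle (res ρ) _ 0)

/-- Base change of a module to a polynomial ring, seen over a presentation. -/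
theorem pcn_map {k : ℕ} (α : Q →+* A) {m : ℤ}
    (h : PCn (ff Q) m ((sgl Q 0).obj ((res α).obj (ModuleCat.of A M)))) :
    PCn (ff (MvPolynomial (Fin k) Q)) m ((sgl _ 0).obj ((res (MvPolynomial.map α)).obj
      (ModuleCat.of (MvPolynomial (Fin k) A) (MvPolynomial (Fin k) A ⊗[A] M)))) := by
  letI : Module Q M := Module.compHom M α
  have h1 : PCn (ff Q) m (Dual.inD Q M) := h
  have h2 : PCn (ff (MvPolynomial (Fin k) Q)) m
      (Dual.inD (MvPolynomial (Fin k) Q) (MvPolynomial (Fin k) Q ⊗[Q] M)) :=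
    FlatBC.pcn_inD (ext_ff _) h1
  let e₀ : MvPolynomial (Fin k) Q ⊗[Q] M ≃+ MvPolynomial (Fin k) A ⊗[A] M :=
    (TensorProduct.equivFinsuppOfBasisLeft (N := M) (MvPolynomial.basisMonomials (Fin k) Q)).toAddEquiv.trans
      (TensorProduct.equivFinsuppOfBasisLeft (N := M) (MvPolynomial.basisMonomials (Fin k) A)).symm.toAddEquiv
  have he₀ : ∀ (p : MvPolynomial (Fin k) Q) (x : M), e₀ (p ⊗ₜ x) = MvPolynomial.map α p ⊗ₜ x := by
    intro p x
    apply (TensorProduct.equivFinsuppOfBasisLeft (N := M) (MvPolynomial.basisMonomials (Fin k) A)).injective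
    refine ((TensorProduct.equivFinsuppOfBasisLeft (N := M) (MvPolynomial.basisMonomials (Fin k) A)).apply_symm_apply _).trans ?_
    ext d
    show TensorProduct.equivFinsuppOfBasisLeft (MvPolynomial.basisMonomials (Fin k) Q) (p ⊗ₜ x) d = _
    simp only [TensorProduct.equivFinsuppOfBasisLeft_apply_tmul_apply]
    show MvPolynomial.coeff d p • x = MvPolynomial.coeff d (MvPolynomial.map α p) • x
    rw [MvPolynomial.coeff_map]
    rfl
  have he : ∀ (q : MvPolynomial (Fin k) Q) (x : MvPolynomial (Fin k) Q ⊗[Q] M),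
      e₀ (q • x) = MvPolynomial.map α q • e₀ x := by
    intro q x
    induction x using TensorProduct.induction_on with
    | zero => simp
    | add x y hx hy => rw [smul_add, map_add, map_add, hx, hy, smul_add]
    | tmul p a => rw [TensorProduct.smul_tmul', smul_eq_mul, he₀, he₀, map_mul,
        TensorProduct.smul_tmul', smul_eq_mul]
  let e : MvPolynomial (Fin k) Q ⊗[Q] M ≃ₗ[MvPolynomial (Fin k) Q]
      (res (MvPolynomial.map α)).obj
        (ModuleCat.of (MvPolynomial (Fin k) A) (MvPolynomial (Fin k) A ⊗[A] M)) :=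
    AddEquiv.toLinearEquiv (M₂ := (res (MvPolynomial.map α)).obj
      (ModuleCat.of (MvPolynomial (Fin k) A) (MvPolynomial (Fin k) A ⊗[A] M))) e₀ fun q x => he q x
  exact h2.of_iso ((sgl _ 0).mapIso e.toModuleIso)

end Groth.Agent.H54.RelPCTensor

namespace Groth.Agent.H54.RelPCTensor

open MvPolynomial in
theorem relModule_baseChange {R A B : Type u} [CommRing R] [CommRing A] [CommRing B] [Algebra R A]
    [Algebra A B] [Algebra R B] [IsScalarTower R A B] [Algebra.FiniteType R A] [Algebra.FiniteType A B]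
    [Module.Flat A B] (hB : DerCA.IsRelPseudoCoherentModuleAll A B B) (m : ℤ) (M : Type u)
    [AddCommGroup M] [Module A M] (hM : DerCA.IsRelPseudoCoherentModule R A m M) :
    DerCA.IsRelPseudoCoherentModule R B m (B ⊗[A] M) := by
  obtain ⟨n, α, hα⟩ := RelPCApp.exists_pres ‹Algebra.FiniteType R A›
  obtain ⟨k, β, hβ⟩ := RelPCApp.exists_pres ‹Algebra.FiniteType A B›
  let γ : MvPolynomial (Fin (n + k)) R →ₐ[R] B :=
    aeval (Fin.addCases (fun i => algebraMap A B (α (X i))) fun j => β (X j))
  let ε : MvPolynomial (Fin (n + k)) R →+* MvPolynomial (Fin k) (MvPolynomial (Fin n) R) :=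
    (sumRingEquiv R (Fin k) (Fin n)).toRingHom.comp
      (renameEquiv R (finSumFinEquiv.symm.trans (Equiv.sumComm (Fin n) (Fin k)))).toRingEquiv.toRingHom
  have hε : Function.Bijective ε :=
    (sumRingEquiv R (Fin k) (Fin n)).bijective.comp
      (renameEquiv R (finSumFinEquiv.symm.trans (Equiv.sumComm (Fin n) (Fin k)))).bijective
  have hγ' : γ.toRingHom = (β.toRingHom.comp (MvPolynomial.map α.toRingHom)).comp ε := by
    refine MvPolynomial.ringHom_ext (fun r => ?_) (fun i => ?_)
    · simp [γ, ε, ← IsScalarTower.algebraMap_apply]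
    · refine Fin.addCases (fun i => ?_) (fun i => ?_) i <;> simp [γ, ε]
  have hγ : Function.Surjective γ := by
    have : Function.Surjective γ.toRingHom := by
      rw [hγ']
      exact (hβ.comp (MvPolynomial.map_surjective _ hα)).comp hε.2
    exact this
  let _ : Algebra (MvPolynomial (Fin k) A) B := β.toRingHom.toAlgebra
  have : IsScalarTower A (MvPolynomial (Fin k) A) B := IsScalarTower.of_algebraMap_eq fun a => (β.commutes a).symm
  have hN : ∀ j, PCn (ff (MvPolynomial (Fin k) A)) j (Dual.inD (MvPolynomial (Fin k) A) B) := fun j =>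
    ((relModule_iff β hβ j B).1 (hB j)).of_iso
      ((sgl _ 0).mapIso (FlatBC.resEquiv (MvPolynomial (Fin k) A) B).toModuleIso)
  have h := pcn_tensor (MvPolynomial.map α.toRingHom : MvPolynomial (Fin k) _ →+* _) M B hN
    (pcn_map M α.toRingHom ((relModule_iff α hα m M).1 hM))
  rw [relModule_iff γ hγ, hγ']
  have h3 : PCn (ff (MvPolynomial (Fin k) (MvPolynomial (Fin n) R))) m
      ((sgl _ 0).obj ((res (β.toRingHom.comp (MvPolynomial.map α.toRingHom))).obj
        (ModuleCat.of B (B ⊗[A] M)))) := by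
    refine h.of_iso ((sgl _ 0).mapIso ?_)
    exact (res (MvPolynomial.map α.toRingHom)).mapIso
      (LinearEquiv.toModuleIso (X₁ := (res β.toRingHom).obj (ModuleCat.of B (B ⊗[A] M)))
        (TorDimHom.towerEquiv (A := MvPolynomial (Fin k) A) (B := B) (B ⊗[A] M))).symm ≪≫
      ((ModuleCat.restrictScalarsComp.{u} (MvPolynomial.map α.toRingHom) β.toRingHom).app
        (ModuleCat.of B (B ⊗[A] M))).symm
  refine ((pcn_res (pcRing_of_bijective _ hε) h3).of_iso (ExactPush.mapSingle (res ε) _ 0)).of_iso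
    ((sgl _ 0).mapIso ((ModuleCat.restrictScalarsComp.{u} ε _).app _).symm)

end Groth.Agent.H54.RelPCTensor
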