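import Mathlib.RingTheory.Regular.Flat
import Mathlib.RingTheory.RingHom.Flat
import Mathlib.RingTheory.RingHom.StandardSmooth
import Mathlib.RingTheory.Kaehler.Basic
import Mathlib.RingTheory.TensorProduct.MvPolynomial
import Mathlib.RingTheory.Etale.Basic
import Mathlib.RingTheory.RingHom.Etale
import Mathlib.RingTheory.MvPolynomial.Ideal

/-!
# The diagonal ideal of a standard smooth algebra
-/

universe u

open TensorProduct RingTheory.Sequence

namespace Groth.Agent.H54.SmoothDiag

section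
open MvPolynomial

variable {k : Type u} [CommRing k] {n : ℕ}

/-- The variables form a weakly regular sequence. -/
lemma weaklyRegular_X : IsWeaklyRegular (MvPolynomial (Fin n) k)
    (List.ofFn (X : Fin n → MvPolynomial (Fin n) k)) := by
  classical
  rw [isWeaklyRegular_iff_Fin]
  intro i
  rw [isSMulRegular_quotient_iff_mem_of_smul_mem]
  set j : Fin n := ⟨i, by simpa using i.2⟩
  have e : (Ideal.ofList ((List.ofFn (X : Fin n → MvPolynomial (Fin n) k)).take i) •
      (⊤ : Submodule (MvPolynomial (Fin n) k) (MvPolynomial (Fin n) k))) =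
      Ideal.span (X '' {l : Fin n | (l : ℕ) < i}) := by
    rw [smul_eq_mul, Ideal.mul_top, Ideal.ofList]
    congr 1
    ext a
    simp only [Set.mem_ofPred_eq, List.mem_take_iff_getElem, List.length_ofFn, List.getElem_ofFn,
      Set.mem_image]
    constructor
    · rintro ⟨l, hl, rfl⟩; exact ⟨⟨l, by omega⟩, (by omega : l < i), rfl⟩
    · rintro ⟨l, hl, rfl⟩; exact ⟨l, lt_min hl l.2, rfl⟩
  rw [e]
  simp only [Fin.getElem_fin, List.getElem_ofFn, smul_eq_mul]
  intro y hy
  rw [mem_ideal_span_X_image] at hy ⊢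
  intro m hm
  have hm' : Finsupp.single j 1 + m ∈ (X j * y).support := by
    rw [MvPolynomial.mem_support_iff, coeff_X_mul]
    exact MvPolynomial.mem_support_iff.mp hm
  obtain ⟨l, hl, hne⟩ := hy _ hm'
  refine ⟨l, hl, ?_⟩
  have hne' : l ≠ j := fun h => by
    rw [h] at hl
    exact lt_irrefl (i : ℕ) hl
  simpa [hne'.symm] using hne

end

variable (A B : Type u) [CommRing A] [CommRing B] [Algebra A B]

/-- For a standard smooth algebra the diagonal ideal is, away from a function which is one on the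
diagonal, generated by a weakly regular sequence. -/
theorem exists_diag [Algebra.IsStandardSmooth A B] :
    ∃ (g : B ⊗[A] B) (rs : List (B ⊗[A] B)), IsWeaklyRegular (B ⊗[A] B) rs ∧
      g - 1 ∈ KaehlerDifferential.ideal A B ∧
      Ideal.ofList rs ≤ KaehlerDifferential.ideal A B ∧
      ∀ x ∈ KaehlerDifferential.ideal A B, g * x ∈ Ideal.ofList rs := by
  classical
  obtain ⟨n, φ₀, hφC, hφ₀⟩ := RingHom.IsStandardSmooth.exists_etale_mvPolynomial
    (RingHom.isStandardSmooth_algebraMap.mpr ‹Algebra.IsStandardSmooth A B›)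
  let φ : MvPolynomial (Fin n) A →ₐ[A] B := { φ₀ with commutes' := fun a => congrFun (congrArg DFunLike.coe hφC) a }
  have hφ : φ.toRingHom.Etale := hφ₀
  let P := MvPolynomial (Fin n) A
  let t : Fin n → B := fun i => φ (MvPolynomial.X i)
  let d : Fin n → B ⊗[A] B := fun i => (1 : B) ⊗ₜ[A] t i - t i ⊗ₜ[A] (1 : B)
  let rs := List.ofFn d
  let J := KaehlerDifferential.ideal A B
  have hdJ : Ideal.ofList rs ≤ J := Ideal.span_le.mpr fun x hx => by
    obtain ⟨i, rfl⟩ := List.mem_ofFn.mp hx
    exact KaehlerDifferential.one_smul_sub_smul_one_mem_ideal A (t i)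
  -- regularity
  let ψ₁ : B ⊗[A] P →ₐ[B] B ⊗[A] B := Algebra.TensorProduct.map (AlgHom.id B B) φ
  have hψ₁ : ψ₁.toRingHom.Flat :=
    RingHom.Flat.tensorProductMap (RingHom.Flat.id B) (RingHom.Etale.iff_flat_and_formallyUnramified.mp hφ).1
  let τ : MvPolynomial (Fin n) B ≃ₐ[B] MvPolynomial (Fin n) B :=
    AlgEquiv.ofAlgHom (MvPolynomial.aeval fun i => MvPolynomial.X i - MvPolynomial.C (t i))
      (MvPolynomial.aeval fun i => MvPolynomial.X i + MvPolynomial.C (t i))
      (by ext i; simp) (by ext i; simp)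
  let e := (MvPolynomial.algebraTensorAlgEquiv (σ := Fin n) A B).symm
  let ψ : MvPolynomial (Fin n) B →ₐ[B] B ⊗[A] B := ψ₁.comp (e.toAlgHom.comp τ.toAlgHom)
  have hψ : ψ.toRingHom.Flat :=
    RingHom.Flat.comp (f := e.toAlgHom.toRingHom.comp τ.toAlgHom.toRingHom) (g := ψ₁.toRingHom)
      (RingHom.Flat.comp (f := τ.toAlgHom.toRingHom) (g := e.toAlgHom.toRingHom)
        (.of_bijective τ.bijective) (.of_bijective e.bijective)) hψ₁
  have hψX : ∀ i, ψ (MvPolynomial.X i) = d i := fun i => by
    show ψ₁ (e (τ (MvPolynomial.X i))) = _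
    rw [show τ (MvPolynomial.X i) = MvPolynomial.X i - MvPolynomial.C (t i) from
      MvPolynomial.aeval_X _ i, map_sub, map_sub,
      show MvPolynomial.C (t i) = algebraMap B (MvPolynomial (Fin n) B) (t i) from rfl,
      AlgEquiv.commutes, AlgHom.commutes, MvPolynomial.algebraTensorAlgEquiv_symm_X]
    simp [ψ₁, d, t, P]
  have hreg : IsWeaklyRegular (B ⊗[A] B) rs := by
    let := ψ.toRingHom.toAlgebra
    have : Module.Flat (MvPolynomial (Fin n) B) (B ⊗[A] B) := hψ
    have := (weaklyRegular_X (k := B) (n := n)).of_flat (S := B ⊗[A] B)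
    rw [List.map_ofFn] at this
    rw [show rs = List.ofFn (algebraMap (MvPolynomial (Fin n) B) (B ⊗[A] B) ∘ MvPolynomial.X) from
      congrArg List.ofFn (funext fun i => (hψX i).symm)]
    exact this
  -- the conormal module is spanned by the differences of coordinates
  let := φ.toRingHom.toAlgebra
  have : Algebra.Etale P B := hφ
  have hJ : J ≤ Ideal.ofList rs ⊔ J * J := by
    let K := Ideal.ofList rs ⊔ J * J
    let q := Ideal.Quotient.mk K
    let α : B →ₐ[A] (B ⊗[A] B) ⧸ K :=
      (Ideal.Quotient.mkₐ A K).comp Algebra.TensorProduct.includeLeft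
    let β : B →ₐ[A] (B ⊗[A] B) ⧸ K :=
      (Ideal.Quotient.mkₐ A K).comp Algebra.TensorProduct.includeRight
    let := (α.comp φ).toRingHom.toAlgebra
    have hαβ : α.comp φ = β.comp φ := MvPolynomial.algHom_ext fun i => by
      refine (Ideal.Quotient.eq.mpr ?_).symm
      exact Ideal.mem_sup_left (Ideal.subset_span (List.mem_ofFn.mpr ⟨i, rfl⟩))
    let α' : B →ₐ[P] (B ⊗[A] B) ⧸ K := { α.toRingHom with commutes' := fun p => rfl }
    let β' : B →ₐ[P] (B ⊗[A] B) ⧸ K :=
      { β.toRingHom with commutes' := fun p => (DFunLike.congr_fun hαβ p).symm }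
    have hle : K ≤ J := sup_le hdJ Ideal.mul_le_left
    have hab : α' = β' := Algebra.FormallyUnramified.ext' (Ideal.Quotient.factor hle)
      ⟨2, by
        rw [pow_two, Ideal.zero_eq_bot, eq_bot_iff]
        refine Ideal.mul_le.mpr fun a ha b hb => ?_
        obtain ⟨a, rfl⟩ := Ideal.Quotient.mk_surjective a
        obtain ⟨b, rfl⟩ := Ideal.Quotient.mk_surjective b
        rw [RingHom.mem_ker, Ideal.Quotient.factor_mk, Ideal.Quotient.eq_zero_iff_mem] at ha hb
        rw [Ideal.mem_bot, ← map_mul, Ideal.Quotient.eq_zero_iff_mem]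
        exact Ideal.mem_sup_right (Ideal.mul_mem_mul ha hb)⟩
      α' β' fun b => Eq.symm (Ideal.Quotient.eq.mpr
        (KaehlerDifferential.one_smul_sub_smul_one_mem_ideal A b))
    show KaehlerDifferential.ideal A B ≤ _
    rw [← KaehlerDifferential.span_range_eq_ideal, Ideal.span_le]
    rintro _ ⟨b, rfl⟩
    exact Ideal.Quotient.eq.mp (DFunLike.congr_fun hab b).symm
  -- Nakayama
  let N : Submodule (B ⊗[A] B) ((B ⊗[A] B) ⧸ Ideal.ofList rs) :=
    Submodule.map (Ideal.ofList rs).mkQ J
  have hNfg : N.FG := Submodule.FG.map _ (KaehlerDifferential.ideal_fg A B)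
  have hN : N ≤ J • N := by
    rw [← Submodule.map_smul'']
    calc N ≤ Submodule.map (Ideal.ofList rs).mkQ (Ideal.ofList rs ⊔ J * J) := Submodule.map_mono hJ
      _ = _ := by
        rw [Submodule.map_sup, Submodule.mkQ_map_self, bot_sup_eq]
        rfl
  obtain ⟨g, hg1, hg⟩ := Submodule.exists_sub_one_mem_and_smul_eq_zero_of_fg_of_le_smul J N hNfg hN
  refine ⟨g, rs, hreg, hg1, hdJ, fun x hx => ?_⟩
  have := hg _ (Submodule.mem_map_of_mem hx)
  rwa [← map_smul, Submodule.mkQ_apply, Submodule.Quotient.mk_eq_zero] at this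

end Groth.Agent.H54.SmoothDiag
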