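import Groth.Agent.H54.PerfMor
import Groth.Agent.H54.PCFlatHom
import Groth.Agent.H54.PCFinite
import Groth.Agent.S7067
import Mathlib.RingTheory.Smooth.NoetherianDescent
import Mathlib.RingTheory.Smooth.Flat
import Mathlib.RingTheory.RingHom.StandardSmooth
import Mathlib.AlgebraicGeometry.Morphisms.Smooth
import Mathlib.RingTheory.Unramified.Finite

/-!
# Smooth morphisms and perfectness
-/

universe u

open CategoryTheory CategoryTheory.Limits CategoryTheory.Pretriangulated AlgebraicGeometry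
open Groth.Agent.Lib.DR
open Groth.Agent.Lib.DR.Basic Groth.Agent.Lib.DR.FiniteComplex Groth.Agent.Lib.DR.PseudoCoherent
open Groth.Agent.Lib.DR.TorAmp Groth.Agent.Lib.DR.BaseChange
open Groth.Agent.H54.PCRestrict
open scoped TensorProduct

attribute [local instance] HasDerivedCategory.standard

namespace Groth.Agent.H54.SmoothPerf

theorem hom_of_smooth (R P : Type u) [CommRing R] [CommRing P] [Algebra R P] [Algebra.Smooth R P] :
    MoreMor.IsPseudoCoherentHom R P := by
  obtain ⟨R₀, P₀, _, _, hfg, hs, ⟨e⟩⟩ := Algebra.Smooth.exists_subalgebra_fg ℤ R P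
  have : Algebra.FiniteType ℤ R₀ := (Subalgebra.fg_iff_finiteType R₀).mp hfg
  have : IsNoetherianRing R₀ := Algebra.FiniteType.isNoetherianRing ℤ R₀
  have h1 := PCFlatHom.hom_baseChange_of_flat (R' := R) (Groth.Agent.S7067.result R₀ P₀)
  refine (PCLocal.Q_algebraMap R P).1 ?_
  rw [show algebraMap R P = (e.symm.toAlgHom.toRingHom).comp (algebraMap R (R ⊗[↥R₀] P₀)) from
    RingHom.ext fun r => (e.symm.commutes r).symm]
  refine PCLocal.Q_comp _ _ ((PCLocal.Q_algebraMap _ _).2 h1) ?_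
  let _ := e.symm.toAlgHom.toRingHom.toAlgebra
  have := IsLocalization.away_of_isUnit_of_bijective (R := R ⊗[↥R₀] P₀) (r := 1) P isUnit_one
    e.symm.bijective
  exact (PCLocal.Q_algebraMap _ _).1 (PCLocal.Q_away P (1 : R ⊗[↥R₀] P₀))

theorem Q_of_smooth {R P : Type u} [CommRing R] [CommRing P] {φ : R →+* P} (h : φ.Smooth) :
    PCLocal.Q φ := by
  let _ := φ.toAlgebra
  have : Algebra.Smooth R P := h
  exact hom_of_smooth R P

/-- The tor amplitude of a module over an étale algebra is at most that over the base. -/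
theorem bdd_flat_etale {P P' : Type u} [CommRing P] [CommRing P'] [Algebra P P'] [Algebra.Etale P P']
    (M : Type u) [AddCommGroup M] [Module P' M] [Module P M] [IsScalarTower P P' M] {a : ℤ}
    (h : Bdd (flat P) a 0 (Dual.inD P M)) : Bdd (flat P') a 0 (Dual.inD P' M) := by
  have h' : Bdd (flat P') a 0 (Dual.inD P' (P' ⊗[P] M)) := FlatBC.bdd_inD (ext_flat _) h
  let r : Retract (ModuleCat.of P' M) (ModuleCat.of P' (P' ⊗[P] M)) :=
    { i := ModuleCat.ofHom (Algebra.FormallyUnramified.sec P P' M)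
      r := ModuleCat.ofHom _
      retract := ModuleCat.hom_ext (Algebra.FormallyUnramified.comp_sec P P' M) }
  exact bdd_flat_retract (r.map (sgl P' 0)) h'

/-- Finite tor dimension descends along standard smooth maps. -/
theorem hasFiniteTorDim_of_standardSmooth {R P B : Type u} [CommRing R] [CommRing P] [CommRing B]
    [Algebra R P] [Algebra P B] [Algebra R B] [IsScalarTower R P B]
    (hsm : (algebraMap R P).IsStandardSmooth) (h : DRing.HasFiniteTorDim R B) :
    DRing.HasFiniteTorDim P B := by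
  obtain ⟨n, g, hg, het⟩ := hsm.exists_etale_mvPolynomial
  let γ : MvPolynomial (Fin n) R →+* B := (algebraMap P B).comp g
  let _ := g.toAlgebra
  let _ := γ.toAlgebra
  have : IsScalarTower (MvPolynomial (Fin n) R) P B := IsScalarTower.of_algebraMap_eq fun _ => rfl
  have : Algebra.Etale (MvPolynomial (Fin n) R) P := het
  have hγ : γ.comp MvPolynomial.C = algebraMap R B := by
    rw [RingHom.comp_assoc, hg, ← IsScalarTower.algebraMap_eq]
  obtain ⟨d, hd⟩ := h
  have h1 : Bdd (flat R) (-(d : ℤ)) 0 ((sgl R 0).obj ((res (γ.comp MvPolynomial.C)).obj (ModuleCat.of B B))) :=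
    ((TorDim.hasTorDimLE_iff B d).1 hd).of_iso ((sgl R 0).mapIso
      ((eqToIso (congrArg (fun f => (res f).obj (ModuleCat.of B B)) hγ)) ≪≫
        (FlatBC.resEquiv R B).toModuleIso).symm)
  have h2 : Bdd (flat (MvPolynomial (Fin n) R)) (-(d : ℤ) - n) 0 (Dual.inD (MvPolynomial (Fin n) R) B) :=
    (TorPoly.bdd_flat_mv γ (ModuleCat.of B B) _ h1).of_iso
      ((sgl _ 0).mapIso (FlatBC.resEquiv (MvPolynomial (Fin n) R) B).toModuleIso)
  exact ⟨d + n, (TorDim.hasTorDimLE_iff B _).2 ((bdd_flat_etale B h2).mono (by lia) le_rfl)⟩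

theorem mor_of_smooth {X S : Scheme.{u}} (f : X ⟶ S) [Smooth f] : MoreMor.IsPseudoCoherentMor f :=
  fun U V hU hV e => Q_of_smooth (f.smooth_appLE hV hU e)

theorem perf_of_comp {X Y S : Scheme.{u}} (f : X ⟶ Y) (g : Y ⟶ S) [Smooth g]
    (h : MoreMor.IsPerfectMor (f ≫ g)) : MoreMor.IsPerfectMor f := by
  have hf : MoreMor.IsPseudoCoherentMor f :=
    PCLocal.of_comp f g (fun U V hU hV e => (h U V hU hV e).1) (mor_of_smooth g)
  rw [PerfMor.iff_exists]
  intro x
  obtain ⟨W, hW, V, hV, hxV, hVW, hsm⟩ := Smooth.exists_isStandardSmooth g (f x)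
  obtain ⟨_, ⟨(U : X.Opens), (hU : IsAffineOpen U), rfl⟩, hxU, hUV⟩ :=
    X.isBasis_affineOpens.exists_subset_of_mem_open (show x ∈ f ⁻¹ᵁ V from hxV) (f ⁻¹ᵁ V).isOpen
  have hc : PerfMor.Qp ((f.appLE V U hUV).hom.comp (g.appLE W V hVW).hom) := by
    rw [← CommRingCat.hom_comp, Scheme.Hom.appLE_comp_appLE]
    exact h U W hU hW (SetLike.coe_subset_coe.1 hUV |>.trans (f.preimage_mono hVW))
  refine ⟨U, V, hUV, hU, hV, hxU, hf U V hU hV hUV, ?_⟩
  let _ := (g.appLE W V hVW).hom.toAlgebra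
  let _ := (f.appLE V U hUV).hom.toAlgebra
  let _ := ((f.appLE V U hUV).hom.comp (g.appLE W V hVW).hom).toAlgebra
  have : IsScalarTower Γ(S, W) Γ(Y, V) Γ(X, U) := IsScalarTower.of_algebraMap_eq fun _ => rfl
  exact hasFiniteTorDim_of_standardSmooth hsm hc.2

end Groth.Agent.H54.SmoothPerf
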