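import Mathlib.RingTheory.Kaehler.Basic
import Mathlib.RingTheory.Kaehler.TensorProduct
import Mathlib.RingTheory.Unramified.Basic
import Mathlib.RingTheory.FiniteType
import Mathlib.RingTheory.Finiteness.Nakayama
import Mathlib.RingTheory.Nakayama
import Mathlib.LinearAlgebra.TensorProduct.Quotient

/-!
# Ring maps modulo a nil ideal of the base
-/

universe u

namespace Groth.Agent.H54.ThickAlg

open scoped TensorProduct

variable {A B : Type u} [CommRing A] [CommRing B] [Algebra A B] (I : Ideal A)

lemma kaehler_D_mem_smul_top {x : B} (hx : x ∈ I.map (algebraMap A B)) :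
    KaehlerDifferential.D A B x ∈ (I.map (algebraMap A B)) • (⊤ : Submodule B Ω[B⁄A]) := by
  induction hx using Submodule.span_induction with
  | mem x h =>
    obtain ⟨a, ha, rfl⟩ := h
    simp
  | zero => simp
  | add x y _ _ hx hy => rw [map_add]; exact add_mem hx hy
  | smul b x hx hDx =>
    rw [smul_eq_mul, Derivation.leibniz]
    exact add_mem (Submodule.smul_mem _ _ hDx) (Submodule.smul_mem_smul hx Submodule.mem_top)

lemma kaehler_eq_smul_top [Algebra.FormallyUnramified A (B ⧸ I.map (algebraMap A B))] :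
    (⊤ : Submodule B Ω[B⁄A]) = I.map (algebraMap A B) • (⊤ : Submodule B Ω[B⁄A]) := by
  refine le_antisymm ?_ le_top
  rw [← KaehlerDifferential.span_range_derivation, Submodule.span_le,
    KaehlerDifferential.span_range_derivation]
  rintro _ ⟨b, rfl⟩
  set J := I.map (algebraMap A B) with hJ
  let e := TensorProduct.quotTensorEquivQuotSMul Ω[B⁄A] J
  have hsurj : Function.Surjective (algebraMap B (B ⧸ J)) := Ideal.Quotient.mk_surjective
  have hex := KaehlerDifferential.exact_kerCotangentToTensor_mapBaseChange A B (B ⧸ J) hsurj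
  obtain ⟨c, hc⟩ := (hex ((1 : B ⧸ J) ⊗ₜ[B] KaehlerDifferential.D A B b)).mp (Subsingleton.elim _ _)
  obtain ⟨⟨x, hx⟩, rfl⟩ := Ideal.toCotangent_surjective _ c
  rw [KaehlerDifferential.kerCotangentToTensor_toCotangent] at hc
  have hxJ : x ∈ J := by
    simpa [RingHom.mem_ker, Ideal.Quotient.algebraMap_eq, Ideal.Quotient.eq_zero_iff_mem] using hx
  have h1 := congrArg e hc
  rw [show (1 : B ⧸ J) = Ideal.Quotient.mk J 1 by simp,
    TensorProduct.quotTensorEquivQuotSMul_mk_tmul,
    TensorProduct.quotTensorEquivQuotSMul_mk_tmul, one_smul, one_smul] at h1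
  rw [Submodule.Quotient.eq] at h1
  have h2 := sub_mem (kaehler_D_mem_smul_top I hxJ) h1
  simpa using h2

lemma formallyUnramified_of_isNilpotent [Algebra.FormallyUnramified A (B ⧸ I.map (algebraMap A B))]
    (hI : IsNilpotent I) : Algebra.FormallyUnramified A B := by
  rw [Algebra.formallyUnramified_iff]
  set J := I.map (algebraMap A B) with hJ
  have h := kaehler_eq_smul_top (B := B) I
  have hn : ∀ n : ℕ, (⊤ : Submodule B Ω[B⁄A]) = J ^ n • ⊤ := by
    intro n
    induction n with
    | zero => simp
    | succ n ih => rw [pow_succ, Submodule.mul_smul, ← h, ← ih]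
  obtain ⟨n, hn'⟩ := hI
  have h2 := hn n
  rw [hJ, ← Ideal.map_pow, hn', Ideal.zero_eq_bot, Ideal.map_bot, Submodule.bot_smul] at h2
  exact (Submodule.subsingleton_iff B).mp (subsingleton_of_bot_eq_top h2.symm)

lemma formallyUnramified_of_le_nilradical [Algebra.EssFiniteType A B]
    [Algebra.FormallyUnramified A (B ⧸ I.map (algebraMap A B))]
    (hI : I ≤ nilradical A) : Algebra.FormallyUnramified A B := by
  rw [Algebra.formallyUnramified_iff]
  have hle : I.map (algebraMap A B) ≤ Ideal.jacobson ⊥ := by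
    rw [Ideal.map_le_iff_le_comap]
    intro a ha
    have h1 : algebraMap A B a ∈ nilradical B :=
      mem_nilradical.mpr ((mem_nilradical.mp (hI ha)).map (algebraMap A B))
    exact Ideal.radical_le_jacobson h1
  have h := Submodule.eq_bot_of_le_smul_of_le_jacobson_bot (I.map (algebraMap A B))
    (⊤ : Submodule B Ω[B⁄A]) Module.Finite.fg_top (kaehler_eq_smul_top (B := B) I).le hle
  exact (Submodule.subsingleton_iff B).mp (subsingleton_of_bot_eq_top h.symm)

lemma finiteType_of_isNilpotent [Algebra.FiniteType A (B ⧸ I.map (algebraMap A B))]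
    (hI : IsNilpotent I) : Algebra.FiniteType A B := by
  classical
  obtain ⟨s, hs⟩ := (‹Algebra.FiniteType A (B ⧸ I.map (algebraMap A B))›).out
  choose g hg using fun x : B ⧸ I.map (algebraMap A B) => Ideal.Quotient.mk_surjective x
  refine ⟨⟨s.image g, ?_⟩⟩
  let S := Algebra.adjoin A (↑(s.image g) : Set B)
  have hmap : S.map (Ideal.Quotient.mkₐ A (I.map (algebraMap A B))) = ⊤ := by
    rw [AlgHom.map_adjoin, ← hs]
    congr 1
    ext x
    simp [hg]
  have h1 : (⊤ : Submodule A B) ≤ Subalgebra.toSubmodule S ⊔ I • (⊤ : Submodule A B) := by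
    intro x _
    have hx : Ideal.Quotient.mkₐ A (I.map (algebraMap A B)) x ∈
        S.map (Ideal.Quotient.mkₐ A (I.map (algebraMap A B))) := by rw [hmap]; trivial
    obtain ⟨y, hy, hxy⟩ := Subalgebra.mem_map.mp hx
    refine Submodule.mem_sup.mpr ⟨y, hy, x - y, ?_, by abel⟩
    rw [Ideal.smul_top_eq_map]
    exact (Ideal.Quotient.eq (I := I.map (algebraMap A B))).mp (by simpa using hxy.symm)
  have h2 : ∀ n : ℕ, (⊤ : Submodule A B) ≤ Subalgebra.toSubmodule S ⊔ I ^ n • (⊤ : Submodule A B) := by
    intro n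
    induction n with
    | zero => rw [pow_zero, Ideal.one_eq_top, Submodule.top_smul]; exact le_sup_right
    | succ n ih =>
      refine ih.trans (sup_le le_sup_left ?_)
      refine (smul_mono_right _ h1).trans ?_
      rw [Submodule.smul_sup, ← Submodule.mul_smul, ← pow_succ]
      exact sup_le_sup_right Submodule.smul_le_right _
  obtain ⟨n, hn⟩ := hI
  have h3 := h2 n
  rw [hn, Ideal.zero_eq_bot, Submodule.bot_smul, sup_bot_eq] at h3
  exact eq_top_iff.mpr fun x _ => h3 Submodule.mem_top

end Groth.Agent.H54.ThickAlg
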