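import Groth.Agent.H54.ThickLocal
import Groth.Agent.H54.ThickAffine
import Mathlib.AlgebraicGeometry.Morphisms.FinitePresentation
import Mathlib.AlgebraicGeometry.Morphisms.Finite
import Mathlib.AlgebraicGeometry.Noetherian

/-!
# Finiteness along thickenings with finitely generated locally nilpotent ideal
-/

universe u

open AlgebraicGeometry CategoryTheory Limits

namespace Groth.Agent.H54.ThickFG

theorem finiteType_of_nilpotent_fg {A B : Type u} [CommRing A] [CommRing B] [Algebra A B] (J : Ideal B)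
    (hJ : J.FG) (hn : IsNilpotent J) [h : Algebra.FiniteType A (B ⧸ J)] : Algebra.FiniteType A B := by
  classical
  obtain ⟨s, hs⟩ := h.out
  obtain ⟨t, ht⟩ := hJ
  choose g hg using fun x : B ⧸ J => Ideal.Quotient.mk_surjective x
  refine ⟨⟨s.image g ∪ t, ?_⟩⟩
  set S := Algebra.adjoin A (↑(s.image g ∪ t) : Set B)
  have hmap : S.map (Ideal.Quotient.mkₐ A J) = ⊤ := by
    rw [AlgHom.map_adjoin, eq_top_iff, ← hs]
    refine Algebra.adjoin_mono fun x hx => ⟨g x, ?_, hg x⟩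
    exact Finset.mem_union_left _ (Finset.mem_image_of_mem g hx)
  have h1 : ∀ x : B, ∃ y ∈ S, x - y ∈ J := fun x => by
    have hx : Ideal.Quotient.mkₐ A J x ∈ S.map (Ideal.Quotient.mkₐ A J) := by rw [hmap]; trivial
    obtain ⟨y, hy, hxy⟩ := Subalgebra.mem_map.mp hx
    exact ⟨y, hy, (Ideal.Quotient.eq (I := J)).mp (by simpa using hxy.symm)⟩
  have h2 : ∀ m : ℕ, ∀ x ∈ J ^ m, ∃ y ∈ S, x - y ∈ J ^ (m + 1) := by
    intro m
    induction m with
    | zero => intro x _; simpa using h1 x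
    | succ m ih =>
      intro x hx
      rw [pow_succ] at hx
      induction hx using Submodule.mul_induction_on' with
      | add a _ b _ ha hb =>
        obtain ⟨y, hy, hay⟩ := ha
        obtain ⟨z, hz, hbz⟩ := hb
        exact ⟨y + z, add_mem hy hz, by simpa [add_sub_add_comm] using add_mem hay hbz⟩
      | mem_mul_mem a ha b hb =>
        rw [← ht] at hb
        induction hb using Submodule.span_induction generalizing a with
        | zero => exact ⟨0, zero_mem S, by simp⟩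
        | add b c _ _ hb hc =>
          obtain ⟨y, hy, hay⟩ := hb a ha
          obtain ⟨z, hz, haz⟩ := hc a ha
          exact ⟨y + z, add_mem hy hz, by simpa [mul_add, add_sub_add_comm] using add_mem hay haz⟩
        | smul c b _ hb =>
          obtain ⟨y, hy, hay⟩ := hb (a * c) (Ideal.mul_mem_right _ _ ha)
          exact ⟨y, hy, by simpa [mul_assoc] using hay⟩
        | mem b hb =>
          obtain ⟨y, hy, hay⟩ := ih a ha
          refine ⟨y * b, mul_mem hy (Algebra.subset_adjoin (Finset.mem_union_right _ hb)), ?_⟩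
          rw [← sub_mul, pow_succ]
          exact Ideal.mul_mem_mul hay (ht ▸ Ideal.subset_span hb)
  have h3 : ∀ m : ℕ, ∀ x : B, ∃ y ∈ S, x - y ∈ J ^ m := by
    intro m
    induction m with
    | zero => exact fun x => ⟨0, zero_mem S, by simp⟩
    | succ m ih =>
      intro x
      obtain ⟨y, hy, hxy⟩ := ih x
      obtain ⟨z, hz, hxz⟩ := h2 m _ hxy
      exact ⟨y + z, add_mem hy hz, by rwa [← sub_sub]⟩
  obtain ⟨n, hn⟩ := hn
  refine eq_top_iff.mpr fun x _ => ?_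
  obtain ⟨y, hy, hxy⟩ := h3 n x
  rw [hn, Ideal.zero_eq_bot, Ideal.mem_bot, sub_eq_zero] at hxy
  exact hxy ▸ hy

theorem locallyOfFiniteType_of_comp {Y₀ Y X : Scheme.{u}} (i : Y₀ ⟶ Y) (F : Y ⟶ X) [IsClosedImmersion i]
    (hinil : ∀ U : Y.affineOpens, IsNilpotent (i.ker.ideal U))
    (hfg : ∀ U : Y.affineOpens, (i.ker.ideal U).FG) [LocallyOfFiniteType (i ≫ F)] : LocallyOfFiniteType F := by
  refine ⟨fun {V} hV {U} hU e => ?_⟩
  have h := (i ≫ F).finiteType_appLE hV (hU.preimage i)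
    (show i ⁻¹ᵁ U ≤ (i ≫ F) ⁻¹ᵁ V from i.preimage_mono e)
  have heq : (i ≫ F).appLE V (i ⁻¹ᵁ U) (i.preimage_mono e) = F.appLE V U e ≫ i.app U := by
    simp only [Scheme.Hom.app_eq_appLE, Scheme.Hom.appLE_comp_appLE]
  rw [heq, CommRingCat.hom_comp] at h
  algebraize [(F.appLE V U e).hom, (i.app U).hom, (i.app U).hom.comp (F.appLE V U e).hom]
  haveI : Algebra.FiniteType Γ(X, V) Γ(Y₀, i ⁻¹ᵁ U) := h
  let e' := Ideal.quotientKerAlgEquivOfSurjective (f := IsScalarTower.toAlgHom Γ(X, V) Γ(Y, U) Γ(Y₀, i ⁻¹ᵁ U))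
    (i.app_surjective U hU)
  haveI : Algebra.FiniteType Γ(X, V) (Γ(Y, U) ⧸ RingHom.ker (i.app U).hom) :=
    ‹Algebra.FiniteType Γ(X, V) Γ(Y₀, i ⁻¹ᵁ U)›.equiv e'.symm
  have hk : i.ker.ideal ⟨U, hU⟩ = RingHom.ker (i.app U).hom := i.ker_apply ⟨U, hU⟩
  exact finiteType_of_nilpotent_fg (RingHom.ker (i.app U).hom) (hk ▸ hfg ⟨U, hU⟩) (hk ▸ hinil ⟨U, hU⟩)

theorem locallyOfFiniteType_iff {X X₀ Y Y₀ : Scheme.{u}} (F : Y ⟶ X) (F₀ : Y₀ ⟶ X₀) (i : Y₀ ⟶ Y) (j : X₀ ⟶ X)
    [IsClosedImmersion i] [IsClosedImmersion j]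
    (hinil : ∀ U : Y.affineOpens, IsNilpotent (i.ker.ideal U))
    (hfg : ∀ U : Y.affineOpens, (i.ker.ideal U).FG) (w : F₀ ≫ j = i ≫ F) :
    LocallyOfFiniteType F ↔ LocallyOfFiniteType F₀ := by
  refine ⟨fun _ => ?_, fun _ => ?_⟩
  · have : LocallyOfFiniteType (F₀ ≫ j) := by rw [w]; infer_instance
    exact AlgebraicGeometry.locallyOfFiniteType_of_comp F₀ j
  · have : LocallyOfFiniteType (i ≫ F) := by rw [← w]; infer_instance
    exact locallyOfFiniteType_of_comp i F hinil hfg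

theorem isFinite_iff {X X₀ Y Y₀ : Scheme.{u}} (F : Y ⟶ X) (F₀ : Y₀ ⟶ X₀) (i : Y₀ ⟶ Y) (j : X₀ ⟶ X)
    [IsClosedImmersion i] [Surjective i] [IsClosedImmersion j]
    (hjnil : ∀ U : X.affineOpens, IsNilpotent (j.ker.ideal U)) (hc : IsPullback F₀ i j F) :
    IsFinite F ↔ IsFinite F₀ := by
  refine ⟨fun h => MorphismProperty.of_isPullback hc.flip h, fun h => ?_⟩
  rw [IsFinite.iff_isIntegralHom_and_locallyOfFiniteType] at h ⊢
  obtain ⟨h1, h2⟩ := h
  refine ⟨(ThickAffine.isIntegralHom_iff hc.w.symm).mp h1, ⟨fun {V} hV {U} hU hUV => ?_⟩⟩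
  let := (F.appLE V U hUV).hom.toAlgebra
  have := ThickLocal.finiteType_algebra hc.flip hV hU hUV
  refine ThickAlg.finiteType_of_isNilpotent (RingHom.ker (j.app V).hom) ?_
  have hk : j.ker.ideal ⟨V, hV⟩ = RingHom.ker (j.app V).hom := j.ker_apply ⟨V, hV⟩
  exact hk ▸ hjnil ⟨V, hV⟩

theorem locallyOfFinitePresentation_iff {X X₀ Y Y₀ : Scheme.{u}} [IsLocallyNoetherian X] (F : Y ⟶ X)
    (F₀ : Y₀ ⟶ X₀) (i : Y₀ ⟶ Y) (j : X₀ ⟶ X) [IsClosedImmersion i] [IsClosedImmersion j]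
    (hinil : ∀ U : Y.affineOpens, IsNilpotent (i.ker.ideal U))
    (hfg : ∀ U : Y.affineOpens, (i.ker.ideal U).FG) (w : F₀ ≫ j = i ≫ F) :
    LocallyOfFinitePresentation F ↔ LocallyOfFinitePresentation F₀ := by
  have : IsLocallyNoetherian X₀ := LocallyOfFiniteType.isLocallyNoetherian j
  refine ⟨fun _ => ?_, fun _ => ?_⟩
  · have := (locallyOfFiniteType_iff F F₀ i j hinil hfg w).mp inferInstance
    infer_instance
  · have := (locallyOfFiniteType_iff F F₀ i j hinil hfg w).mpr inferInstance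
    infer_instance

end Groth.Agent.H54.ThickFG
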