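import Groth.Agent.H54.Weighting
import Mathlib.RingTheory.LocalRing.Length
import Mathlib.RingTheory.RamificationInertia.Basic
import Mathlib.AlgebraicGeometry.Morphisms.FlatRank
import Mathlib.FieldTheory.PurelyInseparable.Tower

/-!
# The weighting of a flat locally quasi-finite morphism
-/

universe u

open AlgebraicGeometry CategoryTheory Limits TensorProduct

namespace Groth.Agent.H54.WeightFlat

open IsLocalRing

/-- The inseparable degree of a ring map between fields. -/
noncomputable def insepDeg {K L : Type u} [Field K] [Field L] (φ : K →+* L) : ℕ :=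
  letI := φ.toAlgebra
  Field.finInsepDegree K L

/-- Length of the closed fibre times the inseparable degree of the residue extension. -/
noncomputable def wLoc {A B : Type u} [CommRing A] [CommRing B] [IsLocalRing A] [IsLocalRing B]
    (φ : A →+* B) [IsLocalHom φ] : ℤ :=
  (Module.length B (B ⧸ (maximalIdeal A).map φ)).toNat * (insepDeg (ResidueField.map φ) : ℤ)

theorem wLoc_eq {A A' B B' : Type u} [CommRing A] [CommRing A'] [CommRing B] [CommRing B']
    [IsLocalRing A] [IsLocalRing A'] [IsLocalRing B] [IsLocalRing B']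
    (φ : A →+* B) (φ' : A' →+* B') (a : A →+* A') (b : B →+* B')
    [IsLocalHom φ] [IsLocalHom φ'] [IsLocalHom a] [IsLocalHom b]
    (hcomm : φ'.comp a = b.comp φ) (hflat : b.Flat)
    (ha : (maximalIdeal A).map a = maximalIdeal A') (hb : (maximalIdeal B).map b = maximalIdeal B')
    (hsa : letI := (ResidueField.map a).toAlgebra; Algebra.IsSeparable (ResidueField A) (ResidueField A'))
    (hsb : letI := (ResidueField.map b).toAlgebra; Algebra.IsSeparable (ResidueField B) (ResidueField B'))
    (halg : (ResidueField.map φ).IsIntegral) :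
    wLoc φ' = wLoc φ := by
  have h1 : (maximalIdeal A').map φ' = ((maximalIdeal A).map φ).map b := by
    rw [← ha, Ideal.map_map, Ideal.map_map, hcomm]
  have hlen : Module.length B' (B' ⧸ (maximalIdeal A').map φ') = Module.length B (B ⧸ (maximalIdeal A).map φ) := by
    let := b.toAlgebra
    have : Module.Flat B B' := hflat
    have : IsLocalHom (algebraMap B B') := ‹IsLocalHom b›
    rw [h1]
    show Module.length B' (B' ⧸ Ideal.map (algebraMap B B') _) = _
    rw [(Algebra.TensorProduct.quotIdealMapEquivTensorQuot B' ((maximalIdeal A).map φ)).toLinearEquiv.length_eq,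
      IsLocalRing.length_baseChange]
    have h2 : Module.length B' (B' ⧸ (maximalIdeal B).map (algebraMap B B')) = 1 := by
      rw [Module.length_eq_one_iff, isSimpleModule_iff_isCoatom, ← Ideal.isMaximal_def,
        RingHom.algebraMap_toAlgebra, hb]
      exact maximalIdeal.isMaximal B'
    rw [h2, mul_one]
  have hdeg : insepDeg (ResidueField.map φ') = insepDeg (ResidueField.map φ) := by
    let := (ResidueField.map a).toAlgebra
    let := (ResidueField.map b).toAlgebra
    let := (ResidueField.map φ).toAlgebra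
    let := (ResidueField.map φ').toAlgebra
    let : Algebra (ResidueField A) (ResidueField B') :=
      ((ResidueField.map b).comp (ResidueField.map φ)).toAlgebra
    have : IsScalarTower (ResidueField A) (ResidueField B) (ResidueField B') :=
      IsScalarTower.of_algebraMap_eq fun _ => rfl
    have : IsScalarTower (ResidueField A) (ResidueField A') (ResidueField B') :=
      IsScalarTower.of_algebraMap_eq fun x => by
        obtain ⟨x, rfl⟩ := residue_surjective x
        simp only [RingHom.algebraMap_toAlgebra, RingHom.comp_apply, ResidueField.map_residue]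
        exact congrArg (residue B') (RingHom.congr_fun hcomm x).symm
    have : Algebra.IsIntegral (ResidueField A) (ResidueField B) := ⟨halg⟩
    have h3 := Field.finInsepDegree_mul_finInsepDegree_of_isAlgebraic (ResidueField A) (ResidueField B) (ResidueField B')
    have h4 := Field.finInsepDegree_mul_finInsepDegree_of_isAlgebraic (ResidueField A) (ResidueField A') (ResidueField B')
    rw [hsb.finInsepDegree_eq, mul_one] at h3
    rw [hsa.finInsepDegree_eq, one_mul] at h4
    exact h4.trans h3.symm
  simp only [wLoc, hlen, hdeg]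

variable {X Y U V : Scheme.{u}}

/-- The weight of a flat locally quasi-finite morphism at a point. -/
noncomputable def wFlat (f : X ⟶ Y) (x : X) : ℤ :=
  (Module.length ↑(X.presheaf.stalk x) (↑(X.presheaf.stalk x) ⧸ Ideal.map (f.stalkMap x).hom (IsLocalRing.maximalIdeal ↑(Y.presheaf.stalk (f x))))).toNat *
  (letI := (f.residueFieldMap x).hom.toAlgebra
   (Field.finInsepDegree (Y.residueField (f x)) (X.residueField x) : ℤ))

lemma wFlat_eq (f : X ⟶ Y) (x : X) : wFlat f x = wLoc (f.stalkMap x).hom := rfl

lemma isSeparable_of_bijective {K L : Type u} [Field K] [Field L] [Algebra K L]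
    (h : Function.Bijective (algebraMap K L)) : Algebra.IsSeparable K L :=
  AlgEquiv.Algebra.isSeparable (AlgEquiv.ofBijective (Algebra.ofId K L) h)

lemma wLoc_congr {A A' B : Type u} [CommRing A] [CommRing A'] [CommRing B] [IsLocalRing A]
    [IsLocalRing A'] [IsLocalRing B] (e : A ≃+* A') (φ : A →+* B) (φ' : A' →+* B) [IsLocalHom φ]
    [IsLocalHom φ'] (h : φ'.comp e.toRingHom = φ) (halg : (ResidueField.map φ).IsIntegral) :
    wLoc φ' = wLoc φ := by
  have : IsLocalHom e.toRingHom := ⟨fun x hx => by simpa using hx.map e.symm⟩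
  refine wLoc_eq φ φ' e.toRingHom (RingHom.id B) h (RingHom.Flat.id B) ?_ (Ideal.map_id _) ?_ ?_ halg
  · exact IsLocalRing.eq_maximalIdeal (Ideal.map_isMaximal_of_equiv e)
  · let := (ResidueField.map e.toRingHom).toAlgebra
    exact isSeparable_of_bijective ⟨RingHom.injective _, Ideal.Quotient.lift_surjective_of_surjective _ _
      (Ideal.Quotient.mk_surjective.comp e.surjective)⟩
  · let := (ResidueField.map (RingHom.id B)).toAlgebra
    exact isSeparable_of_bijective
      ⟨RingHom.injective _, fun z => ⟨z, by rw [RingHom.algebraMap_toAlgebra, ResidueField.map_id]; rfl⟩⟩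

lemma residueFieldMap_isIntegral (f : X ⟶ Y) [LocallyQuasiFinite f] (x : X) :
    (ResidueField.map (f.stalkMap x).hom).IsIntegral :=
  (GeomLift.residueFieldMap_finite f x).to_isIntegral

/-- The weight is invariant under étale localisation on source and target. -/
theorem wFlat_eq_of_etale {π : U ⟶ V} {f : X ⟶ Y} [LocallyQuasiFinite f] (h : U ⟶ X) (g : V ⟶ Y)
    [Etale h] [Etale g] (hc : h ≫ f = π ≫ g) (u : U) : wFlat π u = wFlat f (h u) := by
  rw [wFlat_eq, wFlat_eq]
  have hpt : f (h u) = g (π u) := congrArg (fun m => m u) hc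
  have : IsLocalHom (g.stalkMap (π u)).hom := inferInstance
  let a : Y.presheaf.stalk (f (h u)) ⟶ V.presheaf.stalk (π u) :=
    (Y.presheaf.stalkCongr (.of_eq hpt)).hom ≫ g.stalkMap (π u)
  have : IsLocalHom (Y.presheaf.stalkCongr (.of_eq hpt)).hom.hom :=
    ⟨fun x hx => by
      let e := (Y.presheaf.stalkCongr (.of_eq hpt)).commRingCatIsoToRingEquiv
      have h8 : IsUnit (e.symm (e x)) := IsUnit.map e.symm (show IsUnit (e x) from hx)
      rwa [e.symm_apply_apply] at h8⟩
  have : IsLocalHom a.hom := RingHom.isLocalHom_comp _ _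
  have hcomm : f.stalkMap (h u) ≫ h.stalkMap u = a ≫ π.stalkMap u := by
    rw [← Scheme.Hom.stalkMap_comp, Scheme.Hom.stalkMap_congr_hom (h ≫ f) (π ≫ g) hc u,
      Scheme.Hom.stalkMap_comp, Category.assoc]
    rfl
  have unr : ∀ {X Y : Scheme.{u}} (g : X ⟶ Y) [Etale g] (x : X),
      (maximalIdeal (Y.presheaf.stalk (g x))).map (g.stalkMap x).hom = maximalIdeal _ := by
    intro X Y g _ x
    algebraize [(g.stalkMap x).hom]
    have : IsLocalHom (algebraMap (Y.presheaf.stalk (g x)) (X.presheaf.stalk x)) :=
      inferInstanceAs <| IsLocalHom (g.stalkMap x).hom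
    have : Algebra.EssFiniteType (Y.presheaf.stalk (g x)) (X.presheaf.stalk x) := by
      rw [← RingHom.essFiniteType_algebraMap, RingHom.algebraMap_toAlgebra]
      exact LocallyOfFiniteType.stalkMap g x
    have : Algebra.FormallyUnramified (Y.presheaf.stalk (g x)) (X.presheaf.stalk x) := by
      rw [← RingHom.formallyUnramified_algebraMap, RingHom.algebraMap_toAlgebra]
      exact FormallyUnramified.stalkMap g x
    exact Algebra.FormallyUnramified.map_maximalIdeal
  refine wLoc_eq (f.stalkMap (h u)).hom (π.stalkMap u).hom a.hom (h.stalkMap u).hom ?_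
    (Flat.stalkMap h u) ?_ (unr h u) ?_ ?_ (residueFieldMap_isIntegral f (h u))
  · exact congrArg CommRingCat.Hom.hom hcomm.symm
  · let e := (Y.presheaf.stalkCongr (.of_eq hpt)).commRingCatIsoToRingEquiv
    show (maximalIdeal _).map ((g.stalkMap (π u)).hom.comp e.toRingHom) = _
    rw [← Ideal.map_map]
    have h5 : (maximalIdeal (Y.presheaf.stalk (f (h u)))).map e.toRingHom = maximalIdeal _ :=
      IsLocalRing.eq_maximalIdeal (Ideal.map_isMaximal_of_equiv e)
    rw [h5]
    exact unr g (π u)
  · have key : ∀ y, (hy : y = g (π u)) → ∀ [IsLocalHom ((Y.presheaf.stalkCongr (.of_eq hy)).hom ≫ g.stalkMap (π u)).hom],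
        letI := (ResidueField.map ((Y.presheaf.stalkCongr (.of_eq hy)).hom ≫ g.stalkMap (π u)).hom).toAlgebra
        Algebra.IsSeparable (ResidueField (Y.presheaf.stalk y)) (ResidueField (V.presheaf.stalk (π u))) := by
      intro y hy
      subst hy
      intro _
      have h6 : ((Y.presheaf.stalkCongr (.of_eq rfl)).hom ≫ g.stalkMap (π u)).hom = (g.stalkMap (π u)).hom := by
        simp [TopCat.Presheaf.stalkCongr]
      convert! (inferInstance : letI := (g.residueFieldMap (π u)).hom.toAlgebra
        Algebra.IsSeparable (Y.residueField (g (π u))) (V.residueField (π u)))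
      refine RingHom.ext fun x => ?_
      obtain ⟨x, rfl⟩ := residue_surjective x
      simp only [ResidueField.map_residue, h6]
      rfl
    exact key _ hpt
  · exact (inferInstance : letI := (h.residueFieldMap u).hom.toAlgebra
        Algebra.IsSeparable (X.residueField (h u)) (U.residueField u))

section Rank

/-- Length of the closed fibre times the residue degree. -/
noncomputable def dLoc {A B : Type u} [CommRing A] [CommRing B] [IsLocalRing A] [IsLocalRing B]
    (φ : A →+* B) [IsLocalHom φ] : ℕ :=
  (Module.length B (B ⧸ (maximalIdeal A).map φ)).toNat *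
    (letI := (ResidueField.map φ).toAlgebra; Module.finrank (ResidueField A) (ResidueField B))

lemma dLoc_congr {A A' B B' : Type u} [CommRing A] [CommRing A'] [CommRing B] [CommRing B']
    [IsLocalRing A] [IsLocalRing A'] [IsLocalRing B] [IsLocalRing B']
    (φ : A →+* B) (φ' : A' →+* B') [IsLocalHom φ] [IsLocalHom φ'] (a : A ≃+* A') (b : B ≃+* B')
    (h : φ'.comp a.toRingHom = b.toRingHom.comp φ) : dLoc φ' = dLoc φ := by
  have hma : (maximalIdeal A).map a.toRingHom = maximalIdeal A' :=
    IsLocalRing.eq_maximalIdeal (Ideal.map_isMaximal_of_equiv a)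
  have h1 : (maximalIdeal A').map φ' = ((maximalIdeal A).map φ).map b.toRingHom := by
    rw [← hma, Ideal.map_map, Ideal.map_map, h]
  unfold dLoc
  congr 1
  · congr 1
    let := b.toRingHom.toAlgebra
    have : RingHomSurjective b.toRingHom := ⟨b.surjective⟩
    let e : (B ⧸ (maximalIdeal A).map φ) ≃+* (B' ⧸ (maximalIdeal A').map φ') :=
      Ideal.quotientEquiv _ _ b h1
    have h2 : Module.length B (B' ⧸ (maximalIdeal A').map φ') =
        Module.length B' (B' ⧸ (maximalIdeal A').map φ') :=
      Module.length_eq_of_surjective b.surjective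
    rw [← h2]
    refine ((LinearEquiv.length_eq (R := B) { e.toAddEquiv with map_smul' := fun r x => ?_ })).symm
    obtain ⟨x, rfl⟩ := Ideal.Quotient.mk_surjective x
    exact congrArg (Ideal.Quotient.mk _) (map_mul b r x)
  · let := (ResidueField.map φ).toAlgebra
    let := (ResidueField.map φ').toAlgebra
    refine (Algebra.finrank_eq_of_equiv_equiv (ResidueField.mapEquiv a) (ResidueField.mapEquiv b) ?_).symm
    refine RingHom.ext fun x => ?_
    obtain ⟨x, rfl⟩ := residue_surjective x
    exact congrArg (residue B') (RingHom.congr_fun h x)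

lemma wFlat_mul_sepDeg (f : X ⟶ Y) [LocallyQuasiFinite f] (x : X) :
    wFlat f x * (FibreIntegral.sepDeg (f.residueFieldMap x).hom : ℤ) = dLoc (f.stalkMap x).hom := by
  rw [wFlat, dLoc, Nat.cast_mul, mul_assoc]
  congr 1
  let := (f.residueFieldMap x).hom.toAlgebra
  have : Module.Finite (Y.residueField (f x)) (X.residueField x) := GeomLift.residueFieldMap_finite f x
  show (Field.finInsepDegree (Y.residueField (f x)) (X.residueField x) : ℤ) *
    (Field.finSepDegree (Y.residueField (f x)) (X.residueField x) : ℤ) = _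
  rw [← Nat.cast_mul, mul_comm, Field.finSepDegree_mul_finInsepDegree]
  rfl

lemma fibreIntegral_spec (R S : Type u) [CommRing R] [CommRing S] [Algebra R S] [Module.Finite R S]
    [Module.Flat R S] (q : PrimeSpectrum R) :
    MoreMor.fibreIntegral (Spec.map (CommRingCat.ofHom (algebraMap R S)))
      (wFlat (Spec.map (CommRingCat.ofHom (algebraMap R S)))) q = Module.rankAtStalk S q := by
  classical
  let π := Spec.map (CommRingCat.ofHom (algebraMap R S))
  have : IsFinite π := (IsFinite.SpecMap_iff _).mpr (RingHom.finite_algebraMap.mpr ‹_›)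
  have hf : (π ⁻¹' {q}).Finite := π.finite_preimage_singleton q
  have : Finite {P : Spec (CommRingCat.of S) // π P = q} := hf.to_subtype
  let := Fintype.ofFinite {P : Spec (CommRingCat.of S) // π P = q}
  let e : {P : Spec (CommRingCat.of S) // π P = q} ≃ q.asIdeal.primesOver S :=
    { toFun := fun P => ⟨P.1.asIdeal, P.1.isPrime, ⟨(congrArg PrimeSpectrum.asIdeal P.2).symm⟩⟩
      invFun := fun P => ⟨⟨P.1, P.2.1⟩, PrimeSpectrum.ext P.2.2.over.symm⟩
      left_inv := fun P => rfl
      right_inv := fun P => rfl }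
  let := Fintype.ofEquiv _ e
  rw [FibreIntegral.fibreIntegral_eq, finsum_eq_sum_of_fintype, Module.rankAtStalk_eq,
    show Module.finrank q.asIdeal.ResidueField (TensorProduct R q.asIdeal.ResidueField S) =
      Module.finrank q.asIdeal.ResidueField (q.asIdeal.Fiber S) from rfl,
    ← Ideal.sum_ramification_inertia_eq_finrank_fiber, Nat.cast_sum, ← e.sum_comp]
  refine Finset.sum_congr rfl fun P _ => ?_
  obtain ⟨P, rfl⟩ := P
  show wFlat π P * (FibreIntegral.sepDeg (π.residueFieldMap P).hom : ℤ) = _
  rw [wFlat_mul_sepDeg, Nat.cast_inj]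
  let p' : Ideal R := (π P).asIdeal
  have : P.asIdeal.LiesOver p' := ⟨rfl⟩
  let := Localization.AtPrime.algebraOfLiesOver p' P.asIdeal
  show _ = P.asIdeal.ramificationIdx R * P.asIdeal.inertiaDeg R
  rw [Ideal.ramificationIdx_eq p' P.asIdeal, Ideal.inertiaDeg_eq p' P.asIdeal]
  let ρ := Localization.localRingHom p' P.asIdeal (algebraMap R S) rfl
  trans dLoc ρ
  · refine dLoc_congr ρ (π.stalkMap P).hom
      (StructureSheaf.stalkIso R (π P)).toRingEquiv
      (StructureSheaf.stalkIso S P).toRingEquiv ?_
    refine RingHom.ext fun x => ?_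
    have := congrArg (fun m => m.hom ((StructureSheaf.stalkIso R (π P)) x))
      (localRingHom_comp_stalkIso (CommRingCat.ofHom (algebraMap R S)) P)
    simp only [CommRingCat.hom_comp, RingHom.comp_apply] at this
    exact this.symm.trans (congrArg (StructureSheaf.stalkIso S P) (congrArg ρ
      ((StructureSheaf.stalkIso R (π P)).symm_apply_apply x)))
  · rw [dLoc, Localization.AtPrime.map_eq_maximalIdeal.symm]
    congr 1
    rw [Ideal.map_map, show ρ.comp (algebraMap R (Localization.AtPrime p')) =
      algebraMap R (Localization.AtPrime P.asIdeal) from RingHom.ext fun r => by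
        rw [RingHom.comp_apply, Localization.localRingHom_to_map,
          ← IsScalarTower.algebraMap_apply]]
    · have halg : (ResidueField.map ρ).toAlgebra =
          (inferInstance : Algebra p'.ResidueField P.asIdeal.ResidueField) := by
        refine Algebra.algebra_ext _ _ fun r => ?_
        obtain ⟨r, rfl⟩ := residue_surjective r
        rfl
      exact congrArg (fun A : Algebra p'.ResidueField P.asIdeal.ResidueField =>
        @Module.finrank p'.ResidueField P.asIdeal.ResidueField _ _ A.toModule) halg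

lemma fibreIntegral_eq_finrank (π : U ⟶ V) [IsFinite π] [Flat π] (v : V) :
    MoreMor.fibreIntegral π (wFlat π) v = π.finrank v := by
  obtain ⟨_, ⟨(V' : V.Opens), (hV : IsAffineOpen V'), rfl⟩, hvV, -⟩ :=
    V.isBasis_affineOpens.exists_subset_of_mem_open (Set.mem_univ v) isOpen_univ
  have : IsAffine V'.toScheme := hV
  have : IsAffine (π ⁻¹ᵁ V').toScheme := hV.preimage π
  have hV' : IsFinite (π ∣_ V') := IsZariskiLocalAtTarget.restrict ‹_› V'
  have hVf : Flat (π ∣_ V') := IsZariskiLocalAtTarget.restrict ‹_› V'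
  let φ := (π ∣_ V').appTop
  let := φ.hom.toAlgebra
  let π₀ := Spec.map (CommRingCat.ofHom (algebraMap Γ(V'.toScheme, ⊤) Γ((π ⁻¹ᵁ V').toScheme, ⊤)))
  have : Module.Finite Γ(V'.toScheme, ⊤) Γ((π ⁻¹ᵁ V').toScheme, ⊤) := (π ∣_ V').finite_appTop
  have : Module.Flat Γ(V'.toScheme, ⊤) Γ((π ⁻¹ᵁ V').toScheme, ⊤) := (π ∣_ V').flat_appTop
  have hsq : IsPullback ((π ⁻¹ᵁ V').toScheme.isoSpec.inv ≫ (π ⁻¹ᵁ V').ι) π₀ π
      (V'.toScheme.isoSpec.inv ≫ V'.ι) := by
    refine IsPullback.paste_horiz (IsPullback.of_horiz_isIso ⟨?_⟩) (isPullback_morphismRestrict π V').flip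
    exact (Scheme.isoSpec_inv_naturality _).symm
  let q : PrimeSpectrum Γ(V'.toScheme, ⊤) := V'.toScheme.isoSpec.hom ⟨v, hvV⟩
  have hq : (V'.toScheme.isoSpec.inv ≫ V'.ι) q = v := by
    rw [← Scheme.Hom.comp_apply, Iso.hom_inv_id_assoc]; rfl
  rw [← hq, ← Scheme.Hom.finrank_of_isPullback _ π₀ π _ hsq,
    Scheme.Hom.finrank_SpecMap_algebraMap, ← fibreIntegral_spec,
    ← GeomLift.fibreIntegral_baseChange hsq _ q (π.finite_preimage_singleton _)]
  refine congrArg (fun w => MoreMor.fibreIntegral π₀ w q) (funext fun u => ?_)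
  exact (wFlat_eq_of_etale (π := π₀) _ _ hsq.w u).symm

theorem isWeighting (f : X ⟶ Y) [LocallyQuasiFinite f] [Flat f] [LocallyOfFinitePresentation f] :
    MoreMor.IsWeighting f (wFlat f) := by
  intro V g _ U hU
  have := (U.ι ≫ pullback.snd f g).isLocallyConstant_finrank
  convert this.comp ((↑) : ℕ → ℤ) using 1
  funext v
  rw [Function.comp_apply, ← fibreIntegral_eq_finrank]
  congr 1
  funext u
  exact (wFlat_eq_of_etale (π := U.ι ≫ pullback.snd f g) (U.ι ≫ pullback.fst f g) g
    (by rw [Category.assoc, Category.assoc, pullback.condition]) u).symm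

theorem wFlat_pos (f : X ⟶ Y) [LocallyQuasiFinite f] [LocallyOfFiniteType f] (x : X) :
    0 < wFlat f x := by
  obtain ⟨_, ⟨(V : Y.Opens), (hV : IsAffineOpen V), rfl⟩, hxV, -⟩ :=
    Y.isBasis_affineOpens.exists_subset_of_mem_open (Set.mem_univ (f x)) isOpen_univ
  obtain ⟨_, ⟨(W : X.Opens), (hW : IsAffineOpen W), rfl⟩, hxW, hWV⟩ :=
    X.isBasis_affineOpens.exists_subset_of_mem_open hxV (f ⁻¹ᵁ V).2
  have hQ : (f.appLE V W hWV).hom.QuasiFinite :=
    HasRingHomProperty.appLE (P := @LocallyQuasiFinite) f ‹_› ⟨V, hV⟩ ⟨W, hW⟩ hWV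
  let := (f.appLE V W hWV).hom.toAlgebra
  have : Algebra.QuasiFinite Γ(Y, V) Γ(X, W) := hQ
  have hlen : Module.length (X.presheaf.stalk x)
      (X.presheaf.stalk x ⧸ (maximalIdeal (Y.presheaf.stalk (f x))).map (f.stalkMap x).hom) ≠ 0 := by
    rw [← pos_iff_ne_zero, Module.length_pos_iff, Submodule.Quotient.nontrivial_iff,
      ← lt_top_iff_ne_top]
    exact map_maximalIdeal_lt_top _
  let P := hW.primeIdealOf ⟨x, hxW⟩
  let := (X.presheaf.germ W x hxW).hom.toAlgebra
  have := hW.isLocalization_stalk ⟨x, hxW⟩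
  let := (Y.presheaf.germ V (f x) hxV).hom.toAlgebra
  have := hV.isLocalization_stalk ⟨f x, hxV⟩
  have hq : P.asIdeal.under Γ(Y, V) = (hV.primeIdealOf ⟨f x, hxV⟩).asIdeal := by
    have h0 : hV.primeIdealOf ⟨f x, hxV⟩ = Spec.map (f.appLE V W hWV) P := by
      apply hV.fromSpec.isOpenEmbedding.injective
      rw [← Scheme.Hom.comp_apply, IsAffineOpen.SpecMap_appLE_fromSpec f hV hW hWV,
        Scheme.Hom.comp_apply, hW.fromSpec_primeIdealOf, hV.fromSpec_primeIdealOf]
    exact (congrArg PrimeSpectrum.asIdeal h0).symm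
  have hmap : (maximalIdeal (Y.presheaf.stalk (f x))).map (f.stalkMap x).hom =
      (P.asIdeal.under Γ(Y, V)).map
        ((algebraMap Γ(X, W) (X.presheaf.stalk x)).comp (algebraMap Γ(Y, V) Γ(X, W))) := by
    rw [hq, ← IsLocalization.AtPrime.map_eq_maximalIdeal (hV.primeIdealOf ⟨f x, hxV⟩).asIdeal
      (Y.presheaf.stalk (f x)), Ideal.map_map]
    congr 1
    have h9 : Y.presheaf.germ V (f x) hxV ≫ f.stalkMap x = f.appLE V W hWV ≫ X.presheaf.germ W x hxW := by
      rw [Scheme.Hom.germ_stalkMap, Scheme.Hom.appLE, Category.assoc, TopCat.Presheaf.germ_res]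
    exact congrArg CommRingCat.Hom.hom h9
  have hne : Module.length (X.presheaf.stalk x)
      (X.presheaf.stalk x ⧸ (maximalIdeal (Y.presheaf.stalk (f x))).map (f.stalkMap x).hom) ≠ ⊤ := by
    rw [hmap]
    let Sq := Localization.AtPrime P.asIdeal
    let p' := P.asIdeal.under Γ(Y, V)
    let r := PrimeSpectrum.primesOverOrderIsoFiber Γ(Y, V) Γ(X, W) p' (Ideal.primesOver.mk p' P.asIdeal)
    have hr : P.asIdeal = r.1.comap Algebra.TensorProduct.includeRight := by
      rw [← PrimeSpectrum.coe_primesOverOrderIsoFiber_symm_apply, OrderIso.symm_apply_apply]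
    let := Localization.AtPrime.algebraOfLiesOver p' (r.1.comap Algebra.TensorProduct.includeRight)
    have hart : IsArtinianRing (Sq ⧸ Ideal.map (algebraMap Γ(Y, V) Sq) p') := by
      convert (Ideal.Fiber.localizationAlgEquivQuotient p' r.1).toRingEquiv.isArtinianRing
    let e : Sq ≃+* X.presheaf.stalk x :=
      (IsLocalization.algEquiv P.asIdeal.primeCompl Sq (X.presheaf.stalk x)).toRingEquiv
    have hI : p'.map ((algebraMap Γ(X, W) (X.presheaf.stalk x)).comp (algebraMap Γ(Y, V) Γ(X, W))) =
        (Ideal.map (algebraMap Γ(Y, V) Sq) p').map e.toRingHom := by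
      rw [Ideal.map_map]
      congr 1
      refine RingHom.ext fun r => ?_
      simp only [RingHom.comp_apply]
      rw [IsScalarTower.algebraMap_apply Γ(Y, V) Γ(X, W) Sq]
      exact ((IsLocalization.algEquiv P.asIdeal.primeCompl Sq (X.presheaf.stalk x)).commutes _).symm
    have := (Ideal.quotientEquiv _ _ e hI).isArtinianRing
    rw [Module.length_eq_of_surjective (R := X.presheaf.stalk x ⧸
      p'.map ((algebraMap Γ(X, W) (X.presheaf.stalk x)).comp (algebraMap Γ(Y, V) Γ(X, W))))
      Ideal.Quotient.mk_surjective, Module.length_ne_top_iff, ← isArtinianRing_iff_isFiniteLength]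
    exact this
  have hfin := GeomLift.residueFieldMap_finite f x
  let := (f.residueFieldMap x).hom.toAlgebra
  have : Module.Finite (Y.residueField (f x)) (X.residueField x) := hfin
  refine mul_pos (Int.natCast_pos.mpr (ENat.toNat_pos hlen hne)) (Int.natCast_pos.mpr ?_)
  refine Nat.pos_of_mul_pos_left (a := Field.finSepDegree (Y.residueField (f x)) (X.residueField x)) ?_
  rw [Field.finSepDegree_mul_finInsepDegree]
  exact Module.finrank_pos

end Rank

end Groth.Agent.H54.WeightFlat
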