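import Groth.Agent.H54.EtaleSep

/-!
# Local decomposition of locally quasi-finite morphisms and base change of weightings
-/

universe u

open AlgebraicGeometry CategoryTheory Limits Topology Filter

namespace Groth.Agent.H54.Weighting

open GeomLift

section Integral

variable {P T V : Scheme.{u}}

lemma fibreIntegral_openImmersion (j : P ⟶ T) [IsOpenImmersion j] (π : T ⟶ V) (w : T → ℤ) (v : V) :
    MoreMor.fibreIntegral (j ≫ π) (fun p => w (j p)) v =
      MoreMor.fibreIntegral π ((Set.range j).indicator w) v := by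
  classical
  rw [FibreIntegral.fibreIntegral_eq, FibreIntegral.fibreIntegral_eq]
  let φ : {p : P // (j ≫ π) p = v} → {u : T // π u = v} := fun p => ⟨j p.1, p.2⟩
  have hφ : Function.Injective φ := fun a b h =>
    Subtype.ext (j.isOpenEmbedding.injective (congrArg Subtype.val h))
  let F : {u : T // π u = v} → ℤ := fun u => w u.1 * (FibreIntegral.sepDeg (π.residueFieldMap u.1).hom : ℤ)
  trans ∑ᶠ p, F (φ p)
  · refine finsum_congr fun p => ?_
    have h1 : (j ≫ π).residueFieldMap p.1 = π.residueFieldMap (j p.1) ≫ j.residueFieldMap p.1 :=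
      Scheme.residueFieldMap_comp j π p.1
    exact congrArg (fun n : ℕ => w (j p.1) * (n : ℤ))
      ((congrArg (fun ρ : V.residueField ((j ≫ π) p.1) ⟶ P.residueField p.1 => FibreIntegral.sepDeg ρ.hom) h1).trans
        (FibreIntegral.sepDeg_comp_bijective (π.residueFieldMap (j p.1)).hom (j.residueFieldMap p.1).hom
          (ConcreteCategory.bijective_of_isIso _)))
  rw [← finsum_mem_range hφ, finsum_mem_def]
  refine finsum_congr fun u => ?_
  by_cases h : u.1 ∈ Set.range j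
  · rw [Set.indicator_of_mem h]
    obtain ⟨p, hp⟩ := h
    have : (j ≫ π) p = v := by rw [Scheme.Hom.comp_apply, hp]; exact u.2
    exact Set.indicator_of_mem (show u ∈ Set.range φ from ⟨⟨p, this⟩, Subtype.ext hp⟩) F
  · rw [Set.indicator_of_notMem h, zero_mul]
    refine Set.indicator_of_notMem (fun hm => h ?_) F
    obtain ⟨p, rfl⟩ := hm
    exact ⟨p.1, rfl⟩

lemma fibreIntegral_congr_on (π : T ⟶ V) {w w' : T → ℤ} (v : V) (h : ∀ t, π t = v → w t = w' t) :
    MoreMor.fibreIntegral π w v = MoreMor.fibreIntegral π w' v :=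
  finsum_congr fun u => by rw [h u.1 u.2]

lemma fibreIntegral_finset_sum (π : T ⟶ V) {L : Type*} (s : Finset L) (g : L → T → ℤ) (v : V)
    (hfin : ∀ i ∈ s, {t : T | π t = v ∧ g i t ≠ 0}.Finite) :
    MoreMor.fibreIntegral π (fun t => ∑ i ∈ s, g i t) v =
      ∑ i ∈ s, MoreMor.fibreIntegral π (g i) v := by
  simp only [FibreIntegral.fibreIntegral_eq, Finset.sum_mul]
  refine finsum_sum_comm s _ fun i hi => ?_
  refine Set.Finite.subset ((hfin i hi).preimage Subtype.val_injective.injOn) fun u hu => ?_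
  exact ⟨u.2, fun h0 => hu (by simp [h0])⟩

lemma fibreIntegral_mono (π : T ⟶ V) {w w' : T → ℤ} (v : V) (hfin : (π ⁻¹' {v}).Finite)
    (h : ∀ t, π t = v → w t ≤ w' t) :
    MoreMor.fibreIntegral π w v ≤ MoreMor.fibreIntegral π w' v := by
  have : Finite {u : T // π u = v} := hfin.to_subtype
  let := Fintype.ofFinite {u : T // π u = v}
  rw [FibreIntegral.fibreIntegral_eq, FibreIntegral.fibreIntegral_eq, finsum_eq_sum_of_fintype,
    finsum_eq_sum_of_fintype]
  exact Finset.sum_le_sum fun u _ => mul_le_mul_of_nonneg_right (h u.1 u.2) (Int.natCast_nonneg _)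

/-- The restricted weighting condition, for a morphism rather than an open subset. -/
lemma isLocallyConstant_openImmersion {X Y : Scheme.{u}} {f : X ⟶ Y} {w : X → ℤ}
    (hw : MoreMor.IsWeighting f w) (g : V ⟶ Y) [Etale g] (j : P ⟶ pullback f g) [IsOpenImmersion j]
    (hfin : IsFinite (j ≫ pullback.snd f g)) :
    IsLocallyConstant (MoreMor.fibreIntegral (j ≫ pullback.snd f g)
      (fun p => w (pullback.fst f g (j p)))) := by
  have he : j.isoOpensRange.hom ≫ j.opensRange.ι = j := Scheme.Hom.isoOpensRange_hom_ι _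
  have hsnd : j.isoOpensRange.hom ≫ (j.opensRange.ι ≫ pullback.snd f g) = j ≫ pullback.snd f g := by
    rw [reassoc_of% he]
  have hlc := hw V g j.opensRange
    ((MorphismProperty.cancel_left_of_respectsIso @IsFinite j.isoOpensRange.hom _).mp (hsnd.symm ▸ hfin))
  convert hlc using 1
  funext v
  rw [← FibreIntegral.fibreIntegral_congr hsnd,
    ← FibreIntegral.fibreIntegral_comp_iso j.isoOpensRange.hom]
  congr 1
  funext p
  exact congrArg (fun m => w (pullback.fst f g (m p))) he.symm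

end Integral

variable {X Y : Scheme.{u}} {k : Type u} [Field k]

/-- An etale neighbourhood in which the geometric point `xb` is isolated by a finite open piece. -/
structure Datum (f : X ⟶ Y) (xb : Spec (CommRingCat.of k) ⟶ X) where
  V : Scheme.{u}
  a : V ⟶ Y
  etale : Etale a
  η : Spec (CommRingCat.of k) ⟶ V
  P : Scheme.{u}
  j : P ⟶ pullback f a
  openImm : IsOpenImmersion j
  fin : IsFinite (j ≫ pullback.snd f a)
  hη : η ≫ a = xb ≫ f
  p : Spec (CommRingCat.of k) ⟶ P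
  hp_snd : p ≫ j ≫ pullback.snd f a = η
  hp_fst : p ≫ j ≫ pullback.fst f a = xb
  uniq : ∀ q : Spec (CommRingCat.of k) ⟶ P, q ≫ j ≫ pullback.snd f a = η → q = p

attribute [instance] Datum.etale Datum.openImm Datum.fin

theorem nonempty_datum [IsAlgClosed k] (f : X ⟶ Y) [LocallyQuasiFinite f] [LocallyOfFiniteType f]
    (xb : Spec (CommRingCat.of k) ⟶ X) : Nonempty (Datum f xb) := by
  obtain ⟨V, a, h1, η, P, j, h2, p, h3, h4, h5, h6⟩ := EtaleSep.exists_datum f xb
  exact ⟨⟨V, a, h1, η, P, j, h2, h3, h4, p.1, p.2, h5, fun q hq => congrArg Subtype.val (h6 ⟨q, hq⟩)⟩⟩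

lemma range_subset_of_pt_mem {P T : Scheme.{u}} (i : P ⟶ T) (q : Spec (CommRingCat.of k) ⟶ T)
    (h : pt q ∈ Set.range i) : Set.range q ⊆ Set.range i := by
  rintro _ ⟨x, rfl⟩
  rwa [Subsingleton.elim x (IsLocalRing.closedPoint k)]

namespace Datum

variable {f : X ⟶ Y} {xb : Spec (CommRingCat.of k) ⟶ X} (D : Datum f xb) {W : Scheme.{u}}
  (b : W ⟶ Y) (c : W ⟶ D.V) (hc : c ≫ D.a = b)

/-- The comparison map between the two base changes. -/
noncomputable def toT : pullback f b ⟶ pullback f D.a :=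
  pullback.lift (pullback.fst f b) (pullback.snd f b ≫ c) (by rw [Category.assoc, hc, pullback.condition])

/-- The base change of the isolating piece. -/
noncomputable def piece : pullback D.j (D.toT b c hc) ⟶ pullback f b := pullback.snd _ _

instance : IsOpenImmersion (D.piece b c hc) := by delta piece; infer_instance

lemma isPullback_toT : IsPullback (D.toT b c hc) (pullback.snd f b) (pullback.snd f D.a) c :=
  IsPullback.of_right
    (by rw [toT, pullback.lift_fst, hc]; exact IsPullback.of_hasPullback f b)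
    (pullback.lift_snd _ _ _) (IsPullback.of_hasPullback f D.a)

lemma isPullback_piece : IsPullback (pullback.fst D.j (D.toT b c hc))
    (D.piece b c hc ≫ pullback.snd f b) (D.j ≫ pullback.snd f D.a) c :=
  (IsPullback.of_hasPullback D.j (D.toT b c hc)).paste_vert (D.isPullback_toT b c hc)

instance isFinite_piece : IsFinite (D.piece b c hc ≫ pullback.snd f b) :=
  MorphismProperty.of_isPullback (D.isPullback_piece b c hc) D.fin

lemma mem_range_piece {ξ : Spec (CommRingCat.of k) ⟶ W} (hξ : ξ ≫ c = D.η)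
    (q : Spec (CommRingCat.of k) ⟶ pullback f b) (h1 : q ≫ pullback.fst f b = xb)
    (h2 : q ≫ pullback.snd f b = ξ) : pt q ∈ Set.range (D.piece b c hc) := by
  have h : D.p ≫ D.j = q ≫ D.toT b c hc := by
    apply pullback.hom_ext
    · rw [Category.assoc, Category.assoc, toT, pullback.lift_fst, D.hp_fst, h1]
    · rw [Category.assoc, Category.assoc, toT, pullback.lift_snd, D.hp_snd, reassoc_of% h2, hξ]
  exact ⟨pt (pullback.lift D.p q h), by rw [← pt_comp, piece, pullback.lift_snd]⟩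

lemma uniq_piece {ξ : Spec (CommRingCat.of k) ⟶ W} (hξ : ξ ≫ c = D.η)
    (q : Spec (CommRingCat.of k) ⟶ pullback f b) (h2 : q ≫ pullback.snd f b = ξ)
    (hmem : pt q ∈ Set.range (D.piece b c hc)) : q ≫ pullback.fst f b = xb := by
  let q' := IsOpenImmersion.lift (D.piece b c hc) q (range_subset_of_pt_mem _ q hmem)
  have hq' : q' ≫ D.piece b c hc = q := IsOpenImmersion.lift_fac _ _ _
  have h3 : q' ≫ pullback.fst D.j (D.toT b c hc) = D.p := by
    apply D.uniq
    rw [Category.assoc, (D.isPullback_piece b c hc).w, ← Category.assoc _ _ c,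
      reassoc_of% hq', h2, hξ]
  calc q ≫ pullback.fst f b
      = q' ≫ D.piece b c hc ≫ D.toT b c hc ≫ pullback.fst f D.a := by
        rw [reassoc_of% hq', toT, pullback.lift_fst]
    _ = xb := by
        rw [piece, ← pullback.condition_assoc, reassoc_of% h3, D.hp_fst]

lemma isLocallyConstant_piece [LocallyQuasiFinite f] {w : X → ℤ} (hw : MoreMor.IsWeighting f w) :
    IsLocallyConstant (MoreMor.fibreIntegral (D.piece b c hc ≫ pullback.snd f b)
      (fun p => w (pullback.fst f b (D.piece b c hc p)))) := by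
  have h0 := isLocallyConstant_openImmersion hw D.a D.j D.fin
  convert h0.comp_continuous c.continuous using 1
  funext v
  rw [Function.comp_apply,
    ← fibreIntegral_baseChange (D.isPullback_piece b c hc) _ v
      (Scheme.Hom.finite_preimage_singleton (D.j ≫ pullback.snd f D.a) _)]
  congr 1
  funext p
  have : pullback.fst D.j (D.toT b c hc) ≫ D.j ≫ pullback.fst f D.a =
      D.piece b c hc ≫ pullback.fst f b := by
    rw [piece, pullback.condition_assoc]
    exact congrArg (pullback.snd D.j _ ≫ ·) (pullback.lift_fst _ _ _)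
  exact congrArg (fun m => w (m p)) this.symm

end Datum

/-- A common refinement of finitely many pointed etale neighbourhoods. -/
theorem exists_common {L : Type*} [Finite L] {V : Scheme.{u}} (b : V ⟶ Y)
    (ξ : Spec (CommRingCat.of k) ⟶ V) (Vs : L → Scheme.{u}) (a : ∀ s, Vs s ⟶ Y)
    [∀ s, Etale (a s)] (η : ∀ s, Spec (CommRingCat.of k) ⟶ Vs s) (h : ∀ s, η s ≫ a s = ξ ≫ b) :
    ∃ (W : Scheme.{u}) (φ : W ⟶ V) (_ : Etale φ) (ξ' : Spec (CommRingCat.of k) ⟶ W)
      (c : ∀ s, W ⟶ Vs s), ξ' ≫ φ = ξ ∧ (∀ s, c s ≫ a s = φ ≫ b) ∧ ∀ s, ξ' ≫ c s = η s := by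
  classical
  have key : ∀ S : Finset L, ∃ (W : Scheme.{u}) (φ : W ⟶ V) (_ : Etale φ)
      (ξ' : Spec (CommRingCat.of k) ⟶ W),
      ξ' ≫ φ = ξ ∧ ∀ s ∈ S, ∃ c, c ≫ a s = φ ≫ b ∧ ξ' ≫ c = η s := by
    intro S
    induction S using Finset.induction with
    | empty => exact ⟨V, 𝟙 V, inferInstance, ξ, Category.comp_id _, by simp⟩
    | insert s S _ ih =>
      obtain ⟨W, φ, _, ξ', hξ', hS⟩ := ih
      refine ⟨pullback (φ ≫ b) (a s), pullback.fst _ _ ≫ φ, inferInstance,
        pullback.lift ξ' (η s) (by rw [reassoc_of% hξ', h]),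
        by rw [pullback.lift_fst_assoc, hξ'], fun i hi => ?_⟩
      rcases Finset.mem_insert.mp hi with rfl | hi
      · exact ⟨pullback.snd _ _, by rw [← pullback.condition, Category.assoc], pullback.lift_snd _ _ _⟩
      · obtain ⟨c, hc1, hc2⟩ := hS i hi
        exact ⟨pullback.fst _ _ ≫ c, by rw [Category.assoc, hc1, Category.assoc],
          by rw [pullback.lift_fst_assoc, hc2]⟩
  let := Fintype.ofFinite L
  obtain ⟨W, φ, hφ, ξ', hξ', hc⟩ := key Finset.univ
  choose c hc1 hc2 using fun s => hc s (Finset.mem_univ s)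
  exact ⟨W, φ, hφ, ξ', c, hξ', hc1, hc2⟩

section Decomp

variable {T V : Scheme.{u}} (π : T ⟶ V) {ξ : Spec (CommRingCat.of k) ⟶ V} {L : Type*}
  (Q : L → Scheme.{u}) (i : ∀ s, Q s ⟶ T) (σ : L → (Spec (CommRingCat.of k) ⟶ T))

lemma eventually_fibre_mem {P : Scheme.{u}} {g : P → V} (hg : IsClosedMap g) {O : Set P}
    (hO : IsOpen O) {v : V} (h : ∀ p, g p = v → p ∈ O) : ∀ᶠ v' in 𝓝 v, ∀ p, g p = v' → p ∈ O := by
  filter_upwards [(hg _ hO.isClosed_compl).isOpen_compl.mem_nhds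
    (fun ⟨p, hp, hpv⟩ => hp (h p hpv))] with v' hv' p hp
  by_contra hc
  exact hv' ⟨p, hc, hp⟩

lemma isOpen_diff_range {P : Scheme.{u}} (j : P ⟶ T) [IsFinite (j ≫ π)] (U : T.Opens)
    [IsSeparated (U.ι ≫ π)] (N : V.Opens) (hN : ∀ p, π (j p) ∈ N → j p ∈ U) :
    IsOpen {t : T | t ∈ U ∧ π t ∈ N ∧ t ∉ Set.range j} := by
  let UN : T.Opens := U ⊓ π ⁻¹ᵁ N
  have hr : Set.range (UN.ι ≫ π) ⊆ Set.range N.ι := by
    rw [Scheme.Opens.range_ι]
    rintro _ ⟨x, rfl⟩
    exact x.2.2
  let πN := IsOpenImmersion.lift N.ι (UN.ι ≫ π) hr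
  have hπN : πN ≫ N.ι = UN.ι ≫ π := IsOpenImmersion.lift_fac _ _ _
  have : IsSeparated (UN.ι ≫ π) := by
    rw [← T.homOfLE_ι (inf_le_left : UN ≤ U), Category.assoc]; infer_instance
  have : IsSeparated πN := by
    have : IsSeparated (πN ≫ N.ι) := hπN ▸ ‹_›
    exact IsSeparated.of_comp _ N.ι
  have hr' : Set.range (((j ≫ π) ⁻¹ᵁ N).ι ≫ j) ⊆ Set.range UN.ι := by
    rw [Scheme.Opens.range_ι]
    rintro _ ⟨x, rfl⟩
    exact ⟨hN _ x.2, x.2⟩
  let jN := IsOpenImmersion.lift UN.ι (((j ≫ π) ⁻¹ᵁ N).ι ≫ j) hr'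
  have hjN : jN ≫ UN.ι = ((j ≫ π) ⁻¹ᵁ N).ι ≫ j := IsOpenImmersion.lift_fac _ _ _
  have hcomp : jN ≫ πN = (j ≫ π) ∣_ N := by
    rw [← cancel_mono N.ι, Category.assoc, hπN, reassoc_of% hjN, morphismRestrict_ι]
  have : IsFinite ((j ≫ π) ∣_ N) := IsZariskiLocalAtTarget.restrict ‹_› N
  have : IsFinite (jN ≫ πN) := hcomp ▸ ‹_›
  have : IsFinite jN := IsFinite.of_comp jN πN
  convert UN.ι.isOpenEmbedding.isOpenMap _ jN.isClosedMap.isClosed_range.isOpen_compl using 1
  ext t
  constructor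
  · rintro ⟨hU, hN', hnr⟩
    refine ⟨⟨t, hU, hN'⟩, fun ⟨p, hp⟩ => hnr ⟨p.1, ?_⟩, rfl⟩
    have := congrArg (fun m => m p) hjN
    simp only [Scheme.Hom.comp_apply, hp] at this
    exact this.symm
  · rintro ⟨x, hx, rfl⟩
    refine ⟨x.2.1, x.2.2, fun ⟨p, hp⟩ => hx ⟨⟨p, show π (j p) ∈ N by rw [hp]; exact x.2.2⟩, ?_⟩⟩
    apply UN.ι.isOpenEmbedding.injective
    rw [← Scheme.Hom.comp_apply, hjN]
    exact hp

variable [LocallyQuasiFinite π] [IsAlgClosed k]
  (huniq : ∀ s q, q ≫ π = ξ → pt q ∈ Set.range (i s) → q = σ s)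

include huniq

lemma eq_pt_of_mem {s : L} {t : T} (ht : t ∈ Set.range (i s)) (hπ : π t = pt ξ) : t = pt (σ s) := by
  obtain ⟨q, rfl⟩ := exists_lift π ξ t hπ
  rw [huniq s q.1 q.2 ht]

variable [∀ s, IsFinite (i s ≫ π)] [Finite L] (hσ : ∀ s, σ s ≫ π = ξ)
  (hinj : Function.Injective σ) (U : T.Opens) (hU : ∀ s, pt (σ s) ∈ U)

include hσ hinj hU

lemma eventually_disjoint [IsSeparated (U.ι ≫ π)] :
    ∀ᶠ v in 𝓝 (pt ξ), ∀ s p, π (i s p) = v → i s p ∈ U ∧ ∀ s', i s p ∈ Set.range (i s') → s' = s := by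
  have h1 : ∀ᶠ v in 𝓝 (pt ξ), ∀ s p, (i s ≫ π) p = v → i s p ∈ U :=
    eventually_all.mpr fun s => eventually_fibre_mem (i s ≫ π).isClosedMap
      (U.2.preimage (i s).continuous) fun p hp => by
        show i s p ∈ U
        rw [eq_pt_of_mem π Q i σ huniq ⟨p, rfl⟩ hp]; exact hU s
  obtain ⟨N, hN, hNo, hξN⟩ := eventually_nhds_iff.mp h1
  let N' : V.Opens := ⟨N, hNo⟩
  have h2 : ∀ᶠ v in 𝓝 (pt ξ), ∀ s' s p, (i s ≫ π) p = v → s' ≠ s → i s p ∉ Set.range (i s') := by
    refine eventually_all.mpr fun s' => eventually_all.mpr fun s => ?_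
    by_cases hss : s' = s
    · exact Eventually.of_forall fun _ p _ hne => (hne hss).elim
    filter_upwards [eventually_fibre_mem (i s ≫ π).isClosedMap
      ((isOpen_diff_range π (i s') U N' fun p hp => hN _ hp s' p rfl).preimage (i s).continuous)
      fun p hp => by
        have hp' := eq_pt_of_mem π Q i σ huniq ⟨p, rfl⟩ hp
        refine ⟨hp' ▸ hU s, by rw [show π (i s p) = pt ξ from hp]; exact hξN, fun hmem => hss ?_⟩
        rw [hp'] at hmem
        exact (hinj (huniq s' (σ s) (hσ s) hmem)).symm] with v hv p hp _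
    exact (hv p hp).2.2
  filter_upwards [h1, h2] with v h1 h2 s p hp
  exact ⟨h1 s p hp, fun s' hs' => by_contra fun hne => h2 s' s p hp hne hs'⟩

variable [∀ s, IsOpenImmersion (i s)] (hmem : ∀ s, pt (σ s) ∈ Set.range (i s))

/-- Near the base point the pieces give a sub-sum of the fibre integral. -/
lemma eventually_sum_eq [IsSeparated (U.ι ≫ π)] [Fintype L] (w : T → ℤ) :
    ∀ᶠ v in 𝓝 (pt ξ), ∑ s, MoreMor.fibreIntegral (i s ≫ π) (fun p => w (i s p)) v =
      MoreMor.fibreIntegral π (((⋃ s, Set.range (i s)) ∩ U).indicator w) v := by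
  classical
  filter_upwards [eventually_disjoint π Q i σ huniq hσ hinj U hU] with v hv
  simp only [fibreIntegral_openImmersion]
  rw [← fibreIntegral_finset_sum π Finset.univ (fun s => (Set.range (i s)).indicator w) v fun s _ => ?_]
  · refine fibreIntegral_congr_on π v fun t ht => ?_
    by_cases h : t ∈ ⋃ s, Set.range (i s)
    · obtain ⟨s, p, rfl⟩ := Set.mem_iUnion.mp h
      obtain ⟨h1, h2⟩ := hv s p ht
      rw [Set.indicator_of_mem (show i s p ∈ (⋃ s, Set.range (i s)) ∩ (U : Set T) from ⟨h, h1⟩), Finset.sum_eq_single s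
        (fun s' _ hne => Set.indicator_of_notMem (fun hm => hne (h2 s' hm)) w)
        (fun hs => (hs (Finset.mem_univ s)).elim),
        Set.indicator_of_mem (show i s p ∈ Set.range (i s) from ⟨p, rfl⟩)]
    · rw [Set.indicator_of_notMem fun hm => h hm.1]
      exact Finset.sum_eq_zero fun s _ =>
        Set.indicator_of_notMem (fun hm => h (Set.mem_iUnion.mpr ⟨s, hm⟩)) w
  · refine ((Scheme.Hom.finite_preimage_singleton (i s ≫ π) v).image (i s)).subset ?_
    rintro t ⟨ht, hne⟩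
    obtain ⟨p, rfl⟩ := Set.mem_of_indicator_ne_zero hne
    exact ⟨p, ht, rfl⟩

omit huniq hσ hinj hU [∀ s, IsFinite (i s ≫ π)] [Finite L] in
include hmem in
lemma eventually_cover (hcl : IsClosedMap (U.ι ≫ π))
    (hall : ∀ q, q ≫ π = ξ → pt q ∈ U → ∃ s, q = σ s) :
    ∀ᶠ v in 𝓝 (pt ξ), ∀ t ∈ U, π t = v → t ∈ ⋃ s, Set.range (i s) := by
  filter_upwards [eventually_fibre_mem hcl
    ((isOpen_iUnion fun s => (i s).isOpenEmbedding.isOpen_range).preimage U.ι.continuous)
    fun p hp => by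
      obtain ⟨q, hq⟩ := exists_lift π ξ p.1 hp
      obtain ⟨s, hs⟩ := hall q.1 q.2 (by rw [hq]; exact p.2)
      exact Set.mem_iUnion.mpr ⟨s, show p.1 ∈ Set.range (i s) by rw [← hq, hs]; exact hmem s⟩]
    with v hv t ht htv
  exact hv ⟨t, ht⟩ htv

end Decomp

/-- Local constancy descends along open maps. -/
lemma eventually_eq_of_comp {A : Type*} {W V : Scheme.{u}} (φ : W ⟶ V) (hφ : IsOpenMap φ)
    {F : V → A} {v : W} (h : ∀ᶠ v' in 𝓝 v, F (φ v') = F (φ v)) :
    ∀ᶠ x in 𝓝 (φ v), F x = F (φ v) :=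
  Filter.mem_of_superset (hφ.image_mem_nhds h) fun _ ⟨_, hv', e⟩ => e ▸ hv'

/-- Near a geometric point, the integral over a finite open part splits into the integrals over the
isolating pieces of its geometric lifts. -/
theorem eventually_decomp {K : Type u} [Field K] [IsAlgClosed K] (f : X ⟶ Y) [LocallyQuasiFinite f]
    {T U V W : Scheme.{u}} {p : T ⟶ X} {π : T ⟶ V} {b : V ⟶ Y} (hc : IsPullback p π f b)
    (j : U ⟶ T) [IsOpenImmersion j] [IsFinite (j ≫ π)] (ξ : Spec (CommRingCat.of K) ⟶ V)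
    [Fintype (Lift (j ≫ π) ξ)] (D : ∀ s : Lift (j ≫ π) ξ, Datum f (s.1 ≫ j ≫ p)) (φ : W ⟶ V)
    (ξ' : Spec (CommRingCat.of K) ⟶ W) (hξ' : ξ' ≫ φ = ξ)
    (c : ∀ s : Lift (j ≫ π) ξ, W ⟶ (D s).V) (hca : ∀ s, c s ≫ (D s).a = φ ≫ b)
    (hcη : ∀ s, ξ' ≫ c s = (D s).η) (w : X → ℤ) :
    ∀ᶠ v in 𝓝 (pt ξ'), MoreMor.fibreIntegral (j ≫ π) (fun x => w (p (j x))) (φ v) =
      ∑ s, MoreMor.fibreIntegral ((D s).piece (φ ≫ b) (c s) (hca s) ≫ pullback.snd f (φ ≫ b))
        (fun x => w (pullback.fst f (φ ≫ b) ((D s).piece (φ ≫ b) (c s) (hca s) x))) v := by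
  classical
  let π' := pullback.snd f (φ ≫ b)
  let toT : pullback f (φ ≫ b) ⟶ T :=
    hc.lift (pullback.fst _ _) (π' ≫ φ) (by rw [Category.assoc, pullback.condition])
  have htoT : IsPullback toT π' π φ :=
    IsPullback.of_right ((hc.lift_fst _ _ _).symm ▸ IsPullback.of_hasPullback f (φ ≫ b))
      (hc.lift_snd _ _ _) hc
  let u := pullback.snd j toT
  have : IsOpenImmersion u := inferInstanceAs (IsOpenImmersion (pullback.snd _ _))
  have hu : IsPullback (pullback.fst j toT) (u ≫ π') (j ≫ π) φ :=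
    (IsPullback.of_hasPullback j toT).paste_vert htoT
  have : IsFinite (u ≫ π') := MorphismProperty.of_isPullback hu ‹_›
  let σ : Lift (j ≫ π) ξ → (Spec (CommRingCat.of K) ⟶ pullback f (φ ≫ b)) := fun s =>
    htoT.lift (s.1 ≫ j) ξ' (by rw [Category.assoc, s.2, hξ'])
  have hσ1 : ∀ s, σ s ≫ π' = ξ' := fun s => htoT.lift_snd _ _ _
  have hσ2 : ∀ s, σ s ≫ toT = s.1 ≫ j := fun s => htoT.lift_fst _ _ _
  have hσ3 : ∀ s, σ s ≫ pullback.fst f (φ ≫ b) = s.1 ≫ j ≫ p := fun s => by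
    rw [← hc.lift_fst (pullback.fst f (φ ≫ b)) (π' ≫ φ), reassoc_of% hσ2]
    rw [Category.assoc, pullback.condition]
  have hinj : Function.Injective σ := fun s s' h => Subtype.ext <| by
    rw [← cancel_mono j, ← hσ2, h, hσ2]
  let i := fun s => (D s).piece (φ ≫ b) (c s) (hca s)
  have huniq : ∀ s q, q ≫ π' = ξ' → pt q ∈ Set.range (i s) → q = σ s := fun s q hq hm =>
    pullback.hom_ext (by rw [(D s).uniq_piece _ _ _ (hcη s) q hq hm, hσ3]) (hq.trans (hσ1 s).symm)
  have hmem : ∀ s, pt (σ s) ∈ Set.range (i s) := fun s =>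
    (D s).mem_range_piece _ _ _ (hcη s) _ (hσ3 s) (hσ1 s)
  let U' := u.opensRange
  have hU'π : u.isoOpensRange.hom ≫ U'.ι ≫ π' = u ≫ π' := by
    rw [← Category.assoc, Scheme.Hom.isoOpensRange_hom_ι]
  have : IsFinite (U'.ι ≫ π') :=
    (MorphismProperty.cancel_left_of_respectsIso @IsFinite u.isoOpensRange.hom _).mp (hU'π ▸ ‹_›)
  have hUmem : ∀ s, pt (σ s) ∈ U' := fun s =>
    ⟨pt (pullback.lift s.1 (σ s) (hσ2 s).symm), by rw [← pt_comp, pullback.lift_snd]⟩
  have hall : ∀ q, q ≫ π' = ξ' → pt q ∈ U' → ∃ s, q = σ s := fun q hq hm => by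
    let q' := IsOpenImmersion.lift u q (range_subset_of_pt_mem _ q hm)
    have hq' : q' ≫ u = q := IsOpenImmersion.lift_fac _ _ _
    refine ⟨⟨q' ≫ pullback.fst j toT, ?_⟩, htoT.hom_ext ?_ (hq.trans (hσ1 _).symm)⟩
    · rw [Category.assoc, hu.w, Category.assoc, reassoc_of% hq', reassoc_of% hq, hξ']
    · rw [hσ2]
      have : q' ≫ u ≫ toT = q' ≫ pullback.fst j toT ≫ j := by rw [pullback.condition]
      rw [reassoc_of% hq'] at this
      exact this.trans (Category.assoc _ _ _).symm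
  let G := MoreMor.fibreIntegral (u ≫ π') (fun x => w (pullback.fst f (φ ≫ b) (u x)))
  have hG : ∀ v, MoreMor.fibreIntegral (j ≫ π) (fun x => w (p (j x))) (φ v) = G v := fun v => by
    rw [← fibreIntegral_baseChange hu _ v (Scheme.Hom.finite_preimage_singleton (j ≫ π) _)]
    congr 1
    funext x
    have : pullback.fst j toT ≫ j ≫ p = u ≫ pullback.fst f (φ ≫ b) := by
      rw [pullback.condition_assoc, hc.lift_fst]
    exact congrArg (fun m => w (m x)) this
  have hsum : ∀ᶠ v in 𝓝 (pt ξ'), G v = ∑ s, MoreMor.fibreIntegral (i s ≫ π')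
      (fun x => w (pullback.fst f (φ ≫ b) (i s x))) v := by
    filter_upwards [eventually_sum_eq π' _ i σ huniq hσ1 hinj U' hUmem
        (fun t => w (pullback.fst f (φ ≫ b) t)),
      eventually_cover π' _ i σ U' hmem (U'.ι ≫ π').isClosedMap hall] with v h1 h2
    rw [h1]
    refine (fibreIntegral_openImmersion u π' (fun t => w (pullback.fst f (φ ≫ b) t)) v).trans
      (fibreIntegral_congr_on π' v fun t ht => ?_)
    by_cases h : t ∈ U'
    · exact (Set.indicator_of_mem (show t ∈ Set.range u from h) _).trans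
        (Set.indicator_of_mem (show t ∈ (⋃ s, Set.range (i s)) ∩ (U' : Set _) from ⟨h2 t h ht, h⟩) (fun t => w (pullback.fst f (φ ≫ b) t))).symm
    · exact (Set.indicator_of_notMem (show t ∉ Set.range u from h) _).trans
        (Set.indicator_of_notMem (show t ∉ (⋃ s, Set.range (i s)) ∩ (U' : Set _) from fun hm => h hm.2) (fun t => w (pullback.fst f (φ ≫ b) t))).symm
  filter_upwards [hsum] with v hv
  rw [hG, hv]

/-- Weightings are stable under arbitrary base change. -/
theorem isLocallyConstant_baseChange (f : X ⟶ Y) [LocallyQuasiFinite f] [LocallyOfFiniteType f]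
    {w : X → ℤ} (hw : MoreMor.IsWeighting f w) {T U V : Scheme.{u}} {p : T ⟶ X} {π : T ⟶ V}
    {b : V ⟶ Y} (hc : IsPullback p π f b) (j : U ⟶ T) [IsOpenImmersion j] [IsFinite (j ≫ π)] :
    IsLocallyConstant (MoreMor.fibreIntegral (j ≫ π) (fun x => w (p (j x)))) := by
  classical
  rw [IsLocallyConstant.iff_eventually_eq]
  intro v
  obtain ⟨K, _, _, ξ, rfl⟩ := exists_pt_eq v
  have := finite_lift (j ≫ π) ξ (Scheme.Hom.finite_preimage_singleton (j ≫ π) _)
  let := Fintype.ofFinite (Lift (j ≫ π) ξ)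
  let D : ∀ s : Lift (j ≫ π) ξ, Datum f (s.1 ≫ j ≫ p) := fun s => (nonempty_datum f _).some
  obtain ⟨W, φ, _, ξ', c, hξ', hca, hcη⟩ := exists_common b ξ (fun s => (D s).V) (fun s => (D s).a)
    (fun s => (D s).η) (fun s => by
      rw [(D s).hη, Category.assoc, Category.assoc, hc.w, ← Category.assoc j, ← Category.assoc,
        s.2])
  have hconst : ∀ᶠ v in 𝓝 (pt ξ'), ∀ s, MoreMor.fibreIntegral
      ((D s).piece (φ ≫ b) (c s) (hca s) ≫ pullback.snd f (φ ≫ b))
      (fun x => w (pullback.fst f (φ ≫ b) ((D s).piece (φ ≫ b) (c s) (hca s) x))) v =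
      MoreMor.fibreIntegral ((D s).piece (φ ≫ b) (c s) (hca s) ≫ pullback.snd f (φ ≫ b))
      (fun x => w (pullback.fst f (φ ≫ b) ((D s).piece (φ ≫ b) (c s) (hca s) x))) (pt ξ') :=
    eventually_all.mpr fun s => ((D s).isLocallyConstant_piece _ _ (hca s) hw).eventually_eq _
  have hsum := eventually_decomp f hc j ξ D φ ξ' hξ' c hca hcη w
  rw [← hξ', pt_comp]
  refine eventually_eq_of_comp φ φ.isOpenMap ?_
  filter_upwards [hsum, hconst] with v h1 h2
  rw [h1, hsum.self_of_nhds, Finset.sum_congr rfl fun s _ => h2 s]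

end Groth.Agent.H54.Weighting
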