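import Groth.Agent.H54.WeightingOpen

/-!
# Composition of weightings
-/

universe u

open AlgebraicGeometry CategoryTheory Limits Topology Filter

namespace Groth.Agent.H54.Weighting

open GeomLift

/-- The fibre integral along a composition is the iterated fibre integral. -/
lemma fibreIntegral_comp {U W V : Scheme.{u}} (a : U ⟶ W) (b : W ⟶ V) [IsFinite a] [IsFinite b]
    (F : U → ℤ) (G : W → ℤ) (v : V) :
    MoreMor.fibreIntegral (a ≫ b) (fun x => F x * G (a x)) v =
      MoreMor.fibreIntegral b (fun y => MoreMor.fibreIntegral a F y * G y) v := by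
  classical
  obtain ⟨K, _, _, ξ, rfl⟩ := exists_pt_eq v
  have := finite_lift b ξ (Scheme.Hom.finite_preimage_singleton b _)
  have := finite_lift (a ≫ b) ξ (Scheme.Hom.finite_preimage_singleton (a ≫ b) _)
  have : ∀ t : Lift b ξ, Finite (Lift a t.1) := fun t =>
    finite_lift a t.1 (Scheme.Hom.finite_preimage_singleton a _)
  let := Fintype.ofFinite (Lift b ξ)
  let := fun t : Lift b ξ => Fintype.ofFinite (Lift a t.1)
  let := Fintype.ofFinite (Lift (a ≫ b) ξ)
  rw [fibreIntegral_eq_sum (a ≫ b) ξ, fibreIntegral_eq_sum b ξ, finsum_eq_sum_of_fintype,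
    finsum_eq_sum_of_fintype, ← Equiv.sum_comp (compEquiv a b ξ).symm, Fintype.sum_sigma]
  refine Finset.sum_congr rfl fun t _ => ?_
  rw [fibreIntegral_eq_sum a t.1, finsum_eq_sum_of_fintype, Finset.sum_mul]
  refine Finset.sum_congr rfl fun s _ => ?_
  show F (pt s.1) * G (a (pt s.1)) = _
  rw [apply_pt s]

lemma fibreIntegral_mul_const {U V : Scheme.{u}} (π : U ⟶ V) (F : U → ℤ) (c : ℤ) (v : V)
    (hfin : (π ⁻¹' {v}).Finite) :
    MoreMor.fibreIntegral π (fun x => c * F x) v = c * MoreMor.fibreIntegral π F v := by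
  have : Finite {u : U // π u = v} := hfin.to_subtype
  let := Fintype.ofFinite {u : U // π u = v}
  simp only [FibreIntegral.fibreIntegral_eq, finsum_eq_sum_of_fintype, Finset.mul_sum, mul_assoc]

lemma fibreIntegral_morphismRestrict {U V : Scheme.{u}} (π : U ⟶ V) [IsFinite π] (N : V.Opens)
    (F : U → ℤ) (v : V) (hv : v ∈ N) :
    MoreMor.fibreIntegral (π ∣_ N) (fun x => F ((π ⁻¹ᵁ N).ι x)) ⟨v, hv⟩ =
      MoreMor.fibreIntegral π F v :=
  fibreIntegral_baseChange (isPullback_morphismRestrict π N).flip F ⟨v, hv⟩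
    (Scheme.Hom.finite_preimage_singleton π _)

variable {X Y Z : Scheme.{u}} {f : X ⟶ Y} {g : Y ⟶ Z} [LocallyQuasiFinite f] [LocallyOfFiniteType f]
  {wf : X → ℤ} {wg : Y → ℤ}

/-- The integral over a piece of a composite is locally constant at its geometric point. -/
lemma eventually_piece_comp (hf : MoreMor.IsWeighting f wf) {W : Scheme.{u}} (b : W ⟶ Z)
    {Q S : Scheme.{u}} (i : Q ⟶ pullback (f ≫ g) b) (e : S ⟶ pullback g b) [IsOpenImmersion i]
    [IsOpenImmersion e] [IsFinite (i ≫ pullback.snd (f ≫ g) b)] [IsFinite (e ≫ pullback.snd g b)]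
    (q : pullback (f ≫ g) b ⟶ pullback g b) (hq₁ : q ≫ pullback.fst g b = pullback.fst (f ≫ g) b ≫ f)
    (hq₂ : q ≫ pullback.snd g b = pullback.snd (f ≫ g) b)
    (hlc : IsLocallyConstant (MoreMor.fibreIntegral (e ≫ pullback.snd g b)
      (fun p => wg (pullback.fst g b (e p)))))
    (w₀ : W) (p₀ : S) (hS : ∀ p, (e ≫ pullback.snd g b) p = w₀ → p = p₀)
    (hQ : ∀ p, (i ≫ pullback.snd (f ≫ g) b) p = w₀ → q (i p) ∈ Set.range e) :
    ∀ᶠ v in 𝓝 w₀,
      MoreMor.fibreIntegral (i ≫ pullback.snd (f ≫ g) b)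
        (fun x => wf (pullback.fst (f ≫ g) b (i x)) * wg (f (pullback.fst (f ≫ g) b (i x)))) v =
      MoreMor.fibreIntegral (i ≫ pullback.snd (f ≫ g) b)
        (fun x => wf (pullback.fst (f ≫ g) b (i x)) * wg (f (pullback.fst (f ≫ g) b (i x)))) w₀ := by
  let π := i ≫ pullback.snd (f ≫ g) b
  let π₁ := e ≫ pullback.snd g b
  obtain ⟨N', hN, hNo, hw₀⟩ := eventually_nhds_iff.mp (eventually_fibre_mem π.isClosedMap
    (e.isOpenEmbedding.isOpen_range.preimage (i ≫ q).continuous) fun p hp => hQ p hp)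
  let N : W.Opens := ⟨N', hNo⟩
  let QN := π ⁻¹ᵁ N
  let SN := π₁ ⁻¹ᵁ N
  have hr : Set.range (QN.ι ≫ i ≫ q) ⊆ Set.range (SN.ι ≫ e) := by
    rintro _ ⟨x, rfl⟩
    obtain ⟨y, hy⟩ := hN _ x.2 x.1 rfl
    have hyN : π₁ y ∈ N := by
      have h1 : (q ≫ pullback.snd g b) (i x.1) = pullback.snd (f ≫ g) b (i x.1) := by rw [hq₂]
      show pullback.snd g b (e y) ∈ N
      rw [hy]
      exact (show pullback.snd g b (q (i x.1)) = _ from h1) ▸ x.2
    exact ⟨⟨y, hyN⟩, hy⟩
  let j : (QN : Scheme.{u}) ⟶ SN := IsOpenImmersion.lift (SN.ι ≫ e) (QN.ι ≫ i ≫ q) hr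
  have hj : j ≫ SN.ι ≫ e = QN.ι ≫ i ≫ q := IsOpenImmersion.lift_fac _ _ _
  have hjπ : j ≫ π₁ ∣_ N = π ∣_ N := by
    rw [← cancel_mono N.ι, Category.assoc, morphismRestrict_ι, morphismRestrict_ι]
    show j ≫ SN.ι ≫ e ≫ pullback.snd g b = QN.ι ≫ i ≫ pullback.snd (f ≫ g) b
    rw [← hq₂]
    simpa only [Category.assoc] using congrArg (· ≫ pullback.snd g b) hj
  have : IsFinite (π ∣_ N) := IsZariskiLocalAtTarget.restrict (inferInstanceAs (IsFinite π)) N
  have : IsFinite (π₁ ∣_ N) := IsZariskiLocalAtTarget.restrict (inferInstanceAs (IsFinite π₁)) N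
  have : IsFinite (j ≫ π₁ ∣_ N) := hjπ ▸ ‹_›
  have : IsFinite j := IsFinite.of_comp j (π₁ ∣_ N)
  let e' := SN.ι ≫ e
  have hbig : IsPullback (pullback.fst (f ≫ g) b) q f (pullback.fst g b) :=
    IsPullback.of_bot (hq₂.symm ▸ IsPullback.of_hasPullback (f ≫ g) b) hq₁.symm
      (IsPullback.of_hasPullback g b)
  let k : (QN : Scheme.{u}) ⟶ pullback q e' :=
    pullback.lift (QN.ι ≫ i) j (by rw [Category.assoc]; exact hj.symm)
  have : IsOpenImmersion (k ≫ pullback.fst q e') := by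
    rw [pullback.lift_fst]; infer_instance
  have : IsOpenImmersion k := IsOpenImmersion.of_comp k (pullback.fst q e')
  have hk : k ≫ pullback.snd q e' = j := pullback.lift_snd _ _ _
  have : IsFinite (k ≫ pullback.snd q e') := hk.symm ▸ ‹_›
  let F : QN.toScheme → ℤ := fun x => wf (pullback.fst (f ≫ g) b (i (QN.ι x)))
  let G : SN.toScheme → ℤ := fun y => wg (pullback.fst g b (e (SN.ι y)))
  have hlcf : IsLocallyConstant (MoreMor.fibreIntegral j F) := by
    have h := isLocallyConstant_baseChange f hf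
      ((IsPullback.of_hasPullback q e').paste_horiz hbig) k
    convert h using 2
    · exact hk.symm
    · funext x
      have : k ≫ pullback.fst q e' ≫ pullback.fst (f ≫ g) b = QN.ι ≫ i ≫ pullback.fst (f ≫ g) b := by
        rw [pullback.lift_fst_assoc, Category.assoc]
      exact congrArg (fun m => wf (m x)) this.symm
  by_cases hne : ∃ p, π₁ p = w₀
  swap
  · filter_upwards [hNo.mem_nhds hw₀, eventually_fibre_mem π₁.isClosedMap isOpen_empty
      fun p hp => hne ⟨p, hp⟩] with v hv hv'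
    have e0 : ∀ w, w ∈ N' → (∀ p, π₁ p = w → False) → IsEmpty {p : Q // π p = w} := fun w hw h => ⟨fun p => by
      obtain ⟨y, hy⟩ := hN w hw p.1 p.2
      refine h y ?_
      show pullback.snd g b (e y) = w
      rw [hy]
      exact (congrArg (fun m => m (i p.1)) hq₂).trans p.2⟩
    have := e0 v hv fun p hp => hv' p hp
    have := e0 w₀ hw₀ fun p hp => hne ⟨p, hp⟩
    rw [FibreIntegral.fibreIntegral_eq, FibreIntegral.fibreIntegral_eq, finsum_of_isEmpty, finsum_of_isEmpty]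
  obtain ⟨p, hp⟩ := hne
  obtain rfl := hS p hp
  let p' : (SN : Scheme.{u}) := ⟨p, show π₁ p ∈ N by rw [hp]; exact hw₀⟩
  let c := MoreMor.fibreIntegral j F p'
  have hconst : ∀ᶠ v in 𝓝 w₀, ∀ y : (SN : Scheme.{u}), π₁ y.1 = v → MoreMor.fibreIntegral j F y = c := by
    obtain ⟨O, hOo, hO⟩ := isOpen_induced_iff.mp (hlcf.isOpen_fiber c)
    filter_upwards [eventually_fibre_mem π₁.isClosedMap hOo (fun y hy => by
      rw [hS y hy]
      exact (Set.ext_iff.mp hO p').mpr rfl)] with v hv y hy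
    exact (Set.ext_iff.mp hO y).mp (hv y.1 hy)
  have key : ∀ v, v ∈ N' → (∀ y : (SN : Scheme.{u}), π₁ y.1 = v → MoreMor.fibreIntegral j F y = c) →
      MoreMor.fibreIntegral π
        (fun x => wf (pullback.fst (f ≫ g) b (i x)) * wg (f (pullback.fst (f ≫ g) b (i x)))) v =
      c * MoreMor.fibreIntegral π₁ (fun y => wg (pullback.fst g b (e y))) v := by
    intro v hv hc
    rw [← fibreIntegral_morphismRestrict π N _ v hv, ← fibreIntegral_morphismRestrict π₁ N _ v hv,
      ← FibreIntegral.fibreIntegral_congr hjπ,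
      ← fibreIntegral_mul_const _ _ _ _ (Scheme.Hom.finite_preimage_singleton _ _)]
    refine Eq.trans ?_ ((fibreIntegral_comp j (π₁ ∣_ N) F G ⟨v, hv⟩).trans
      (fibreIntegral_congr_on (π₁ ∣_ N) _ fun y hy => ?_))
    · refine congrArg (fun w => MoreMor.fibreIntegral (j ≫ π₁ ∣_ N) w ⟨v, hv⟩) (funext fun x => ?_)
      show _ * _ = F x * wg (pullback.fst g b ((SN.ι ≫ e) (j x)))
      have : j ≫ (SN.ι ≫ e) ≫ pullback.fst g b = QN.ι ≫ i ≫ pullback.fst (f ≫ g) b ≫ f := by
        rw [← hq₁, ← Category.assoc, hj]; simp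
      exact congrArg (F x * ·) (congrArg (fun m => wg (m x)) this).symm
    · have hy' : π₁ y.1 = v := by
        have := congrArg Subtype.val hy
        exact (morphismRestrict_base_coe ..).symm.trans this
      rw [hc y hy']
  filter_upwards [hNo.mem_nhds hw₀, hconst, hlc.eventually_eq w₀] with v hv hc he
  exact (key v hv hc).trans ((congrArg (c * ·) he).trans (key w₀ hw₀ hconst.self_of_nhds).symm)

theorem isWeighting_comp [LocallyQuasiFinite g] [LocallyOfFiniteType g]
    (hf : MoreMor.IsWeighting f wf) (hg : MoreMor.IsWeighting g wg) :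
    MoreMor.IsWeighting (f ≫ g) (fun x => wf x * wg (f x)) := by
  classical
  intro V g₀ _ U hU
  rw [IsLocallyConstant.iff_eventually_eq]
  intro v
  obtain ⟨K, _, _, ξ, rfl⟩ := exists_pt_eq v
  let π₂ := pullback.snd (f ≫ g) g₀
  have := finite_lift (U.ι ≫ π₂) ξ (Scheme.Hom.finite_preimage_singleton (U.ι ≫ π₂) _)
  let := Fintype.ofFinite (Lift (U.ι ≫ π₂) ξ)
  let L := Lift (U.ι ≫ π₂) ξ
  let D : ∀ s : L, Datum (f ≫ g) (s.1 ≫ U.ι ≫ pullback.fst (f ≫ g) g₀) := fun s =>
    (nonempty_datum _ _).some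
  let E : ∀ s : L, Datum g ((s.1 ≫ U.ι ≫ pullback.fst (f ≫ g) g₀) ≫ f) := fun s =>
    (nonempty_datum _ _).some
  let Vs : L ⊕ L → Scheme.{u} := Sum.elim (fun s => (D s).V) (fun s => (E s).V)
  let as : ∀ x, Vs x ⟶ Z := fun | .inl s => (D s).a | .inr s => (E s).a
  have : ∀ x, Etale (as x) := fun | .inl s => (D s).etale | .inr s => (E s).etale
  let ηs : ∀ x, Spec (CommRingCat.of K) ⟶ Vs x := fun | .inl s => (D s).η | .inr s => (E s).η
  have hb : ∀ s : L, (s.1 ≫ U.ι ≫ pullback.fst (f ≫ g) g₀) ≫ f ≫ g = ξ ≫ g₀ := fun s => by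
    rw [Category.assoc, Category.assoc, pullback.condition, ← Category.assoc U.ι, ← Category.assoc,
      s.2]
  obtain ⟨W, φ, _, ξ', c, hξ', hca, hcη⟩ := exists_common g₀ ξ Vs as ηs (by
    rintro (s | s)
    · exact (D s).hη.trans (hb s)
    · exact (E s).hη.trans ((Category.assoc _ _ _).trans (hb s)))
  let b := φ ≫ g₀
  let q : pullback (f ≫ g) b ⟶ pullback g b :=
    pullback.lift (pullback.fst _ _ ≫ f) (pullback.snd _ _) (by rw [Category.assoc, pullback.condition])
  have hq₁ : q ≫ pullback.fst g b = pullback.fst (f ≫ g) b ≫ f := pullback.lift_fst _ _ _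
  have hq₂ : q ≫ pullback.snd g b = pullback.snd (f ≫ g) b := pullback.lift_snd _ _ _
  have hsum := eventually_decomp (f ≫ g) (IsPullback.of_hasPullback (f ≫ g) g₀) U.ι ξ D φ ξ' hξ'
    (fun s => c (.inl s)) (fun s => hca (.inl s)) (fun s => hcη (.inl s)) (fun x => wf x * wg (f x))
  have hconst' := fun s : L => eventually_piece_comp (f := f) (g := g) (wf := wf)
    (wg := wg) hf b ((D s).piece b (c (.inl s)) (hca (.inl s))) ((E s).piece b (c (.inr s)) (hca (.inr s)))
    q hq₁ hq₂ ((E s).isLocallyConstant_piece _ _ _ hg) (pt ξ')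
  have hp0 : ∀ s : L, ∃ p₀ : (pullback (E s).j ((E s).toT b (c (.inr s)) (hca (.inr s))) : Scheme.{u}),
      (∀ p, ((E s).piece b (c (.inr s)) (hca (.inr s)) ≫ pullback.snd g b) p = pt ξ' → p = p₀) ∧
      ∀ p, ((D s).piece b (c (.inl s)) (hca (.inl s)) ≫ pullback.snd (f ≫ g) b) p = pt ξ' →
        q ((D s).piece b (c (.inl s)) (hca (.inl s)) p) ∈ Set.range ((E s).piece b (c (.inr s)) (hca (.inr s))) := by
    intro s
    let σ : Spec (CommRingCat.of K) ⟶ pullback g b :=
      pullback.lift ((s.1 ≫ U.ι ≫ pullback.fst (f ≫ g) g₀) ≫ f) ξ' (by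
        rw [Category.assoc, hb s, reassoc_of% hξ'])
    obtain ⟨p₀, hp₀⟩ := (E s).mem_range_piece b _ (hca (.inr s)) (hcη (.inr s)) σ
      (pullback.lift_fst _ _ _) (pullback.lift_snd _ _ _)
    have huniq : ∀ r : Spec (CommRingCat.of K) ⟶ pullback g b, r ≫ pullback.snd g b = ξ' →
        pt r ∈ Set.range ((E s).piece b (c (.inr s)) (hca (.inr s))) → r = σ := fun r hr hm =>
      pullback.hom_ext (((E s).uniq_piece b _ _ (hcη (.inr s)) r hr hm).trans
        (pullback.lift_fst _ _ _).symm) (hr.trans (pullback.lift_snd _ _ _).symm)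
    refine ⟨p₀, fun p hp => ((E s).piece b _ _).isOpenEmbedding.injective ?_, fun p hp => ?_⟩
    · obtain ⟨r, hr⟩ := exists_lift _ ξ' p hp
      show _ = (E s).piece b (c (.inr s)) (hca (.inr s)) p₀
      rw [hp₀, ← huniq (r.1 ≫ (E s).piece b _ _) (by rw [Category.assoc]; exact r.2) ⟨pt r.1, rfl⟩,
        pt_comp, hr]
    · obtain ⟨r, hr⟩ := exists_lift _ ξ' p hp
      let r' := r.1 ≫ (D s).piece b (c (.inl s)) (hca (.inl s))
      have hr₂ : r' ≫ pullback.snd (f ≫ g) b = ξ' := by rw [Category.assoc]; exact r.2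
      have h1 := (D s).uniq_piece b _ (hca (.inl s)) (hcη (.inl s)) r' hr₂ ⟨pt r.1, rfl⟩
      have h2 : r' ≫ q = σ := pullback.hom_ext
        (by rw [Category.assoc, hq₁, reassoc_of% h1, pullback.lift_fst]; simp only [Category.assoc])
        (by rw [Category.assoc, hq₂, hr₂]; exact (pullback.lift_snd _ _ _).symm)
      refine ⟨p₀, ?_⟩
      rw [hp₀, ← h2, pt_comp, ← hr]
      rfl
  choose p₀ hS hQ using hp0
  have hconst' := eventually_all.mpr fun s => hconst' s (p₀ s) (hS s) (hQ s)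
  show ∀ᶠ y in 𝓝 (pt ξ), _
  rw [← hξ', pt_comp]
  refine eventually_eq_of_comp φ φ.isOpenMap ?_
  filter_upwards [hsum, hconst'] with v h1 h2
  exact h1.trans ((Finset.sum_congr rfl fun s _ => h2 s).trans hsum.self_of_nhds.symm)

end Groth.Agent.H54.Weighting
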