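import Groth.Agent.H54.WeightingOpen
import Mathlib.AlgebraicGeometry.Morphisms.FlatDescent
import Mathlib.AlgebraicGeometry.ZariskisMainTheorem
import Mathlib.Topology.Semicontinuity.Basic

/-!
# Finiteness over the locus of maximal fibre integral
-/

universe u

open AlgebraicGeometry CategoryTheory Limits Topology Filter MorphismProperty

namespace Groth.Agent.H54.Weighting

open GeomLift

lemma sepDeg_pos {U V : Scheme.{u}} (π : U ⟶ V) [LocallyQuasiFinite π] (u : U) :
    0 < FibreIntegral.sepDeg (π.residueFieldMap u).hom := by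
  let := (π.residueFieldMap u).hom.toAlgebra
  have : Module.Finite (V.residueField (π u)) (U.residueField u) := residueFieldMap_finite π u
  exact Nat.pos_of_ne_zero (NeZero.ne (Field.finSepDegree (V.residueField (π u)) (U.residueField u)))

lemma eq_of_fibreIntegral_eq {U V : Scheme.{u}} (π : U ⟶ V) [LocallyQuasiFinite π] {w w' : U → ℤ}
    (v : V) (hfin : (π ⁻¹' {v}).Finite) (h : ∀ t, π t = v → w t ≤ w' t)
    (heq : MoreMor.fibreIntegral π w v = MoreMor.fibreIntegral π w' v) (t : U) (ht : π t = v) :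
    w t = w' t := by
  have : Finite {u : U // π u = v} := hfin.to_subtype
  let := Fintype.ofFinite {u : U // π u = v}
  rw [FibreIntegral.fibreIntegral_eq, FibreIntegral.fibreIntegral_eq, finsum_eq_sum_of_fintype,
    finsum_eq_sum_of_fintype] at heq
  have := (Finset.sum_eq_sum_iff_of_le fun u _ =>
    mul_le_mul_of_nonneg_right (h u.1 u.2) (Int.natCast_nonneg _)).mp heq ⟨t, ht⟩ (Finset.mem_univ _)
  exact mul_right_cancel₀ (Int.natCast_pos.mpr (sepDeg_pos π t)).ne' this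

/-- A morphism covered by finitely many universally closed pieces is universally closed. -/
lemma universallyClosed_of_jointly_surjective {L : Type*} [Finite L] {Q : L → Scheme.{u}} {T V : Scheme.{u}}
    (π : T ⟶ V) (i : ∀ s, Q s ⟶ T) [∀ s, UniversallyClosed (i s ≫ π)]
    (h : ∀ t : T, ∃ s, t ∈ Set.range (i s)) : UniversallyClosed π := by
  refine ⟨universally_mk' _ _ fun {V'} g _ S hS => ?_⟩
  let r := fun s => pullback.snd (i s) (pullback.snd g π)
  have hr : ∀ s, IsPullback (pullback.fst (i s) (pullback.snd g π)) (r s ≫ pullback.fst g π)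
      (i s ≫ π) g := fun s =>
    (IsPullback.of_hasPullback (i s) (pullback.snd g π)).paste_vert (IsPullback.of_hasPullback g π).flip
  have : ∀ s, UniversallyClosed (r s ≫ pullback.fst g π) := fun s =>
    MorphismProperty.of_isPullback (hr s) inferInstance
  have heq : pullback.fst g π '' S = ⋃ s, (r s ≫ pullback.fst g π) '' (r s ⁻¹' S) := by
    ext v
    simp only [Set.mem_image, Set.mem_iUnion, Set.mem_preimage, Scheme.Hom.comp_apply]
    refine ⟨fun ⟨x, hx, hxv⟩ => ?_, fun ⟨s, x, hx, hxv⟩ => ⟨r s x, hx, hxv⟩⟩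
    obtain ⟨s, q, hq⟩ := h (pullback.snd g π x)
    obtain ⟨z, -, rfl⟩ := Scheme.Pullback.exists_preimage_pullback (f := i s) (g := pullback.snd g π) q x hq
    exact ⟨s, z, hx, hxv⟩
  rw [heq]
  exact isClosed_iUnion_of_finite fun s => (r s ≫ pullback.fst g π).isClosedMap _ (hS.preimage (r s).continuous)

theorem isFinite_restrict_max {X Y : Scheme.{u}} {f : X ⟶ Y} [LocallyQuasiFinite f]
    [LocallyOfFiniteType f] [IsSeparated f] {w : X → ℤ} (hw : MoreMor.IsWeighting f w)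
    (hpos : ∀ x, 0 < w x) (hfin : ∀ y : Y, (f ⁻¹' {y}).Finite) (d : ℤ)
    (hmax : ∀ y : Y, MoreMor.fibreIntegral f w y ≤ d) :
    ∃ h : IsOpen {y : Y | MoreMor.fibreIntegral f w y = d},
      IsFinite (f ∣_ ⟨{y : Y | MoreMor.fibreIntegral f w y = d}, h⟩) := by
  classical
  have hY : IsOpen {y : Y | MoreMor.fibreIntegral f w y = d} := by
    rw [show {y : Y | MoreMor.fibreIntegral f w y = d} = MoreMor.fibreIntegral f w ⁻¹' Set.Ioi (d - 1) by
      ext y; simp only [Set.mem_preimage, Set.mem_Ioi, Set.mem_ofPred_eq]; have := hmax y; omega]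
    exact lowerSemicontinuous_iff_isOpen_preimage.mp
      (lowerSemicontinuous_integral hw (fun x => (hpos x).le) hfin) _
  refine ⟨hY, ?_⟩
  set Yd : Y.Opens := ⟨{y : Y | MoreMor.fibreIntegral f w y = d}, hY⟩
  suffices ∀ y ∈ Yd, ∃ M : Y.Opens, y ∈ M ∧ IsFinite (f ∣_ M) by
    choose M hM hMfin using this
    refine IsZariskiLocalAtTarget.of_iSup_eq_top (fun y : Yd => Yd.ι ⁻¹ᵁ M y.1 y.2)
      (top_le_iff.mp fun y _ => TopologicalSpace.Opens.mem_iSup.mpr ⟨y, hM y.1 y.2⟩) fun y => ?_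
    rw [(MorphismProperty.arrow_mk_iso_iff @IsFinite (morphismRestrictRestrict f Yd _))]
    have h1 : Yd.ι ''ᵁ (Yd.ι ⁻¹ᵁ M y.1 y.2) = Yd ⊓ M y.1 y.2 :=
      by rw [Scheme.Hom.image_preimage_eq_opensRange_inf, Scheme.Opens.opensRange_ι, inf_comm]
    rw [h1]
    have h2 := IsZariskiLocalAtTarget.restrict (hMfin y.1 y.2) ((M y.1 y.2).ι ⁻¹ᵁ Yd)
    rw [(MorphismProperty.arrow_mk_iso_iff @IsFinite (morphismRestrictRestrict f _ _))] at h2
    have h3 : (M y.1 y.2).ι ''ᵁ ((M y.1 y.2).ι ⁻¹ᵁ Yd) = Yd ⊓ M y.1 y.2 :=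
      by rw [Scheme.Hom.image_preimage_eq_opensRange_inf, Scheme.Opens.opensRange_ι, inf_comm]
    rwa [h3] at h2
  intro y hy
  obtain ⟨K, _, _, ξ, rfl⟩ := exists_pt_eq y
  have := finite_lift f ξ (hfin _)
  let := Fintype.ofFinite (Lift f ξ)
  obtain ⟨W, φ, _, η, Q, i, _, _, hη, h⟩ := exists_separated_pieces hw hfin ξ
  obtain ⟨N, hN, hNo, hηN⟩ := eventually_nhds_iff.mp h
  let M : Y.Opens := ⟨φ '' N, φ.isOpenMap _ hNo⟩
  refine ⟨M, ⟨pt η, hηN, congrArg pt hη⟩, ?_⟩
  have hcover : ∀ t : (pullback f φ : Scheme.{u}), pullback.snd f φ t ∈ N → ∃ s, t ∈ Set.range (i s) := by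
    intro t ht
    obtain ⟨h1, h2, h3⟩ := hN _ ht
    by_contra hcon
    have hle : ∀ a, pullback.snd f φ a = pullback.snd f φ t →
        (⋃ s, Set.range (i s)).indicator (fun t => w (pullback.fst f φ t)) a ≤ w (pullback.fst f φ a) :=
      fun a _ => Set.indicator_le_self' (fun b _ => (hpos _).le) a
    have heq := eq_of_fibreIntegral_eq _ _ h3 hle (le_antisymm (fibreIntegral_mono _ _ h3 hle) ?_) t rfl
    · rw [Set.indicator_of_notMem (fun hm => hcon (Set.mem_iUnion.mp hm))] at heq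
      exact (hpos _).ne heq
    · rw [← h1, ← h2, show MoreMor.fibreIntegral f w (pt ξ) = d from hy]
      exact hmax _
  let NW : W.Opens := ⟨N, hNo⟩
  have : ∀ s, UniversallyClosed ((i s) ∣_ (pullback.snd f φ ⁻¹ᵁ NW) ≫ pullback.snd f φ ∣_ NW) := fun s => by
    have h4 : IsFinite ((i s ≫ pullback.snd f φ) ∣_ NW) := IsZariskiLocalAtTarget.restrict (inferInstanceAs (IsFinite (i s ≫ pullback.snd f φ))) NW
    have h5 : UniversallyClosed ((i s ≫ pullback.snd f φ) ∣_ NW) :=
      (IsFinite.iff_isProper_and_isAffineHom.mp h4).1.toUniversallyClosed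
    rwa [morphismRestrict_comp] at h5
  have huc : UniversallyClosed (pullback.snd f φ ∣_ NW) := by
    refine universallyClosed_of_jointly_surjective _ (fun s => i s ∣_ (pullback.snd f φ ⁻¹ᵁ NW)) fun t => ?_
    obtain ⟨s, p, hp⟩ := hcover t.1 t.2
    refine ⟨s, ⟨p, show i s p ∈ pullback.snd f φ ⁻¹ᵁ NW by rw [hp]; exact t.2⟩, Subtype.ext ?_⟩
    exact (morphismRestrict_base_coe ..).trans hp
  have hφr : Set.range (NW.ι ≫ φ) ⊆ Set.range M.ι := by
    rw [Scheme.Opens.range_ι]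
    rintro _ ⟨x, rfl⟩
    exact ⟨x.1, x.2, rfl⟩
  let φN := IsOpenImmersion.lift M.ι (NW.ι ≫ φ) hφr
  have hφN : φN ≫ M.ι = NW.ι ≫ φ := IsOpenImmersion.lift_fac _ _ _
  have : Etale (φN ≫ M.ι) := hφN ▸ inferInstanceAs (Etale (NW.ι ≫ φ))
  have : Etale φN := Etale.of_comp φN M.ι
  have : Surjective φN := ⟨fun m => by
    obtain ⟨x, hx, hxm⟩ := m.2
    refine ⟨⟨x, hx⟩, Subtype.ext ?_⟩
    exact (congrArg (fun e => e ⟨x, hx⟩) hφN).trans hxm⟩
  have hsq : IsPullback ((pullback.snd f φ ⁻¹ᵁ NW).ι ≫ pullback.fst f φ) (pullback.snd f φ ∣_ NW) f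
      (φN ≫ M.ι) :=
    hφN.symm ▸ (isPullback_morphismRestrict _ NW).flip.paste_horiz (IsPullback.of_hasPullback f φ)
  let ψ := (isPullback_morphismRestrict f M).flip.lift _ (pullback.snd f φ ∣_ NW ≫ φN)
    (hsq.w.trans (Category.assoc _ _ _).symm)
  have hpb : IsPullback ψ (pullback.snd f φ ∣_ NW) (f ∣_ M) φN :=
    IsPullback.of_right (by rw [IsPullback.lift_fst]; exact hsq) (IsPullback.lift_snd _ _ _ _)
      (isPullback_morphismRestrict f M).flip
  have : UniversallyClosed (f ∣_ M) :=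
    MorphismProperty.of_isPullback_of_descendsAlong (Q := @Surjective ⊓ @Flat ⊓ @LocallyOfFinitePresentation)
      hpb.flip ⟨⟨inferInstance, inferInstance⟩, inferInstance⟩ huc
  have : IsProper (f ∣_ M) := { }
  exact IsFinite.of_isProper_of_locallyQuasiFinite _

end Groth.Agent.H54.Weighting
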