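import Groth.Agent.H54.Member
import Groth.Agent.H54.CountLevel
import Groth.Agent.Lib.Lim.FPDescend
import Groth.Agent.Lib.Lim.SmoothEtale
import Groth.Agent.Lib.Lim.Props
import Groth.Agent.Lib.LimTop.Descend

/-!
# Weightings descend along limits of affine schemes
-/

universe u

open AlgebraicGeometry CategoryTheory Limits Topology

namespace Groth.Agent.H54.WeightingLimit

open GeomLift
open Groth.Agent
open Lib.Lim.Basic

/-- A map with constructible level sets from an affine scheme has finite range. -/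
lemma finite_range_of_levels {X : Scheme.{u}} [IsAffine X] {F : X → ℤ}
    (h : ∀ n, IsConstructible {x | F x = n}) : (Set.range F).Finite := by
  have := LevelSets.spectralSpace_of_isAffine X
  obtain ⟨T, hT⟩ := @IsCompact.elim_finite_subcover X (constructibleTopology _) Set.univ ℤ
    (@isCompact_univ _ (constructibleTopology _) Lib.Spectral.Basic.compactSpace_cons)
    (fun n => {x | F x = n})
    (fun n => (Lib.Spectral.Basic.isClopen_cons_of_isConstructible (h n)).2)
    (fun x _ => Set.mem_iUnion.mpr ⟨_, rfl⟩)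
  refine T.finite_toSet.subset ?_
  rintro _ ⟨x, rfl⟩
  obtain ⟨n, hn, hxn⟩ := Set.mem_iUnion₂.mp (hT (Set.mem_univ x))
  exact (show F x = n from hxn) ▸ hn

variable {I : Type u} [SmallCategory I] [IsCofiltered I] {D : I ⥤ Scheme.{u}} {c : Cone D}
  [∀ i, IsAffine (D.obj i)] (hc : IsLimit c)

section LC

variable {i : I} {W₀ W : Scheme.{u}} [IsAffine W₀] {b₀ : W₀ ⟶ D.obj i} {b : W ⟶ c.pt} {gW : W ⟶ W₀}
  (hW : IsPullback gW b b₀ (c.π.app i))

include hc hW in
/-- Local constancy descends for maps with constructible level sets. -/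
lemma exists_isLocallyConstant {F : W₀ → ℤ} (hF : ∀ n, IsConstructible {v | F v = n})
    (hFc : IsLocallyConstant (F ∘ gW)) :
    ∃ j : Over i, IsLocallyConstant (F ∘ pullback.fst b₀ (D.map j.hom)) := by
  classical
  let k₀ : Over i := Over.mk (𝟙 i)
  let p₀ : (bcDiagram D b₀).obj k₀ ⟶ W₀ := pullback.fst b₀ (D.map (𝟙 i))
  have := compactSpace_bcDiagram D b₀ k₀
  have key : ∀ n ∈ (finite_range_of_levels hF).toFinset, ∃ (j : Over i) (φ : j ⟶ k₀),
      IsOpen (⇑((bcDiagram D b₀).map φ) ⁻¹' (⇑p₀ ⁻¹' {v | F v = n})) := fun n _ => by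
    refine (Lib.LimTop.Descend.isOpen_preimage_iff (isLimitBcCone hc hW) k₀
      ((Lib.LimTop.PC.IsPC.of_isConstructible (hF n)).preimage p₀)
      ((Lib.LimTop.PC.IsPC.compl_of_isConstructible (hF n)).preimage p₀)).mp ?_
    rw [← Set.preimage_comp]
    have e : ⇑p₀ ∘ ⇑((bcCone hW.w).π.app k₀) = ⇑gW :=
      congrArg (fun m : W ⟶ W₀ => ⇑m) (bcCone_π_fst hW.w k₀)
    rw [e]
    exact hFc.isOpen_fiber n
  obtain ⟨j, φ, hj⟩ := Lib.LimTop.Descend.exists_common_finset (i := k₀) _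
    (P := fun n j φ => IsOpen (⇑((bcDiagram D b₀).map φ) ⁻¹' (⇑p₀ ⁻¹' {v | F v = n})))
    (fun n j k ψ φ h => by
      rw [Functor.map_comp]; exact h.preimage ((bcDiagram D b₀).map ψ).continuous) key
  refine ⟨j, IsLocallyConstant.iff_isOpen_fiber.mpr fun n => ?_⟩
  by_cases hn : n ∈ (finite_range_of_levels hF).toFinset
  · have e : ⇑p₀ ∘ ⇑((bcDiagram D b₀).map φ) = ⇑(pullback.fst b₀ (D.map j.hom)) :=
      congrArg (fun m : (bcDiagram D b₀).obj j ⟶ W₀ => ⇑m) (bcDiagram_map_fst D b₀ φ)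
    have := hj n hn
    rw [← Set.preimage_comp, e] at this
    exact this
  · convert isOpen_empty
    exact Set.eq_empty_of_forall_notMem fun v hv =>
      hn ((finite_range_of_levels hF).mem_toFinset.mpr ⟨_, hv⟩)

end LC

/-- A member from a finite model of its piece over another base. -/
lemma exists_member_of_finite {X Y X' Y' : Scheme.{u}} {f : X ⟶ Y} {f' : X' ⟶ Y'} {h : X' ⟶ X}
    {g : Y' ⟶ Y} (hb : IsPullback h f' f g) {W T P : Scheme.{u}} (b : W ⟶ Y) [Etale b] (p : T ⟶ X)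
    (π : T ⟶ W) (hc : IsPullback p π f b) (j : P ⟶ T) [IsOpenImmersion j] {P' W' : Scheme.{u}}
    (b' : W' ⟶ Y') (eW : W' ⟶ W) (hY : IsPullback eW b' b g) (π' : P' ⟶ W') (eP : P' ⟶ P)
    (hX : IsPullback eP π' (j ≫ π) eW) [IsFinite π'] :
    ∃ (M : Members.Member f') (uP : M.P ⟶ P) (uW : M.W ⟶ W),
      IsPullback uP (M.j ≫ M.π) (j ≫ π) uW ∧ IsPullback uW M.b b g ∧
        uP ≫ j ≫ p = M.j ≫ M.p ≫ h := by
  let q : pullback f' b' ⟶ T := hc.lift (pullback.fst f' b' ≫ h) (pullback.snd f' b' ≫ eW) (by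
    rw [Category.assoc, hb.w, pullback.condition_assoc, Category.assoc, hY.w])
  have hqp : q ≫ p = pullback.fst f' b' ≫ h := hc.lift_fst _ _ _
  have hqπ : q ≫ π = pullback.snd f' b' ≫ eW := hc.lift_snd _ _ _
  have hq : IsPullback q (pullback.snd f' b') π eW := by
    refine IsPullback.of_right ?_ hqπ hc
    rw [hqp, hY.w]
    exact (IsPullback.of_hasPullback f' b').paste_horiz hb
  let j' : P' ⟶ pullback f' b' := hq.lift (eP ≫ j) π' (by rw [Category.assoc]; exact hX.w)
  have hj'q : j' ≫ q = eP ≫ j := hq.lift_fst _ _ _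
  have hj'π : j' ≫ pullback.snd f' b' = π' := hq.lift_snd _ _ _
  have hj : IsPullback eP j' j q := by
    refine IsPullback.of_bot ?_ hj'q.symm hq
    rw [hj'π]; exact hX
  refine ⟨{ W := W', b := b', etale := MorphismProperty.of_isPullback hY ‹_›
            T := pullback f' b', p := pullback.fst _ _, π := pullback.snd _ _
            hc := IsPullback.of_hasPullback _ _, P := P', j := j'
            openImm := MorphismProperty.of_isPullback hj ‹_›
            fin := by rw [hj'π]; infer_instance }, eP, eW, ?_, hY, ?_⟩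
  · show IsPullback eP (j' ≫ pullback.snd f' b') (j ≫ π) eW
    rw [hj'π]; exact hX
  · show eP ≫ j ≫ p = j' ≫ pullback.fst f' b' ≫ h
    rw [← reassoc_of% hj'q, hqp]

/-- A finite piece which is a base change of another one. -/
lemma member_comparison {X Y X' Y' : Scheme.{u}} {f : X ⟶ Y} {f' : X' ⟶ Y'} {h : X' ⟶ X}
    (M' : Members.Member f') (M : Members.Member f) {e : M'.P ⟶ M.P} {gW : M'.W ⟶ M.W}
    (hsq : IsPullback e (M'.j ≫ M'.π) (M.j ≫ M.π) gW)
    (hX : e ≫ M.j ≫ M.p = M'.j ≫ M'.p ≫ h) :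
    (⇑h '' M'.cover ⊆ M.cover) ∧ ∀ u : X → ℤ, M'.F (u ∘ h) = M.F u ∘ gW := by
  constructor
  · rintro _ ⟨_, ⟨p, hp, rfl⟩, rfl⟩
    obtain ⟨K, _, _, q, rfl⟩ := exists_pt_eq p
    refine ⟨pt (q ≫ e), ?_, ?_⟩
    · rw [Members.mem_alone_iff] at hp ⊢
      refine @Equiv.subsingleton _ _ (Equiv.trans
        (Equiv.cast (congrArg (Lift (M.j ≫ M.π)) ?_)) (baseChangeEquiv hsq _).symm) hp
      rw [Category.assoc, hsq.w]; simp only [Category.assoc]
    · exact congrArg pt (show q ≫ e ≫ M.j ≫ M.p = q ≫ M'.j ≫ M'.p ≫ h by rw [hX])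
  · intro u
    funext v
    refine Eq.trans ?_ (fibreIntegral_baseChange hsq (fun x => u (M.p (M.j x))) v
      (Scheme.Hom.finite_preimage_singleton (M.j ≫ M.π) _))
    unfold Members.Member.F
    congr 1
    funext x
    exact congrArg (fun m : M'.P ⟶ X => u (m x)) hX.symm

/-- The covered set is constructible. -/
lemma isConstructible_cover {X Y : Scheme.{u}} [IsAffine X] {f : X ⟶ Y}
    [LocallyOfFinitePresentation f] (M : Members.Member f) [IsAffine M.W] :
    IsConstructible M.cover := by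
  have : IsAffine M.P := isAffine_of_isAffineHom (M.j ≫ M.π)
  have : LocallyOfFinitePresentation M.π := MorphismProperty.of_isPullback M.hc ‹_›
  have : LocallyOfFinitePresentation M.b := inferInstance
  have : LocallyOfFinitePresentation M.p := MorphismProperty.of_isPullback M.hc.flip ‹_›
  exact (M.j ≫ M.p).isConstructible_image (Members.isConstructible_alone _)

variable {i₀ : I} {X₀ : Scheme.{u}} [IsAffine X₀] (f₀ : X₀ ⟶ D.obj i₀) [LocallyQuasiFinite f₀]
  [LocallyOfFinitePresentation f₀]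

/-- A subset of a stage is under a member on which the fibre integral is locally constant. -/
def Good (u₀ : X₀ → ℤ) (k : Over i₀) (A : Set ((bcDiagram D f₀).obj k)) : Prop :=
  ∃ M : Members.Member (pullback.snd f₀ (D.map k.hom)), IsAffine M.W ∧
    IsLocallyConstant (M.F (u₀ ∘ pullback.fst f₀ (D.map k.hom))) ∧ A ⊆ M.cover

omit [IsCofiltered I] [IsAffine X₀] [LocallyOfFinitePresentation f₀] [LocallyQuasiFinite f₀] in
lemma Good.map {u₀ : X₀ → ℤ} {k l : Over i₀} (φ : l ⟶ k) {A : Set ((bcDiagram D f₀).obj k)}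
    (h : Good f₀ u₀ k A) : Good f₀ u₀ l (⇑((bcDiagram D f₀).map φ) ⁻¹' A) := by
  obtain ⟨M, hM, hLC, hA⟩ := h
  have hb := isPullback_bcDiagram_map D f₀ φ
  have : IsAffine M.W := hM
  refine ⟨M.baseChange hb, inferInstanceAs (IsAffine (pullback _ _)), ?_,
    (Set.preimage_mono hA).trans (M.preimage_cover_subset hb)⟩
  have e : (u₀ ∘ pullback.fst f₀ (D.map k.hom)) ∘ (bcDiagram D f₀).map φ =
      u₀ ∘ pullback.fst f₀ (D.map l.hom) := funext fun x =>
    congrArg (fun m : (bcDiagram D f₀).obj l ⟶ X₀ => u₀ (m x)) (bcDiagram_map_fst D f₀ φ)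
  exact e ▸ M.isLocallyConstant_baseChange hb _ hLC

variable {f₀} {X : Scheme.{u}} {f : X ⟶ c.pt} {pX : X ⟶ X₀}
  (hX : IsPullback pX f f₀ (c.π.app i₀))

include hc hX in
/-- Members descend to some stage. -/
theorem exists_good (u₀ : X₀ → ℤ) (hu : ∀ n, IsConstructible {x | u₀ x = n})
    (M : Members.Member f) [IsAffine M.W] (hM : IsLocallyConstant (M.F (u₀ ∘ pX))) :
    ∃ (k : Over i₀) (A : Set ((bcDiagram D f₀).obj k)), IsConstructible A ∧
      M.cover ⊆ ⇑((bcCone hX.w).π.app k) ⁻¹' A ∧ Good f₀ u₀ k A := by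
  classical
  have : IsAffine c.pt := Scheme.isAffine_of_isLimit _ hc
  have : IsAffineHom (c.π.app i₀) := isAffineHom_π hc i₀
  have : IsAffineHom pX := MorphismProperty.of_isPullback hX.flip ‹_›
  have : IsAffine X := isAffine_of_isAffineHom pX
  have : LocallyOfFinitePresentation M.b := inferInstance
  have : IsAffine M.P := isAffine_of_isAffineHom (M.j ≫ M.π)
  -- the étale neighbourhood
  obtain ⟨i₁, W₁, b₁, g₁, _, _, _, hW₁⟩ := Lib.Lim.FPDescend.exists_descent hc M.b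
  obtain ⟨i₂, a₁, a₀, -⟩ := IsCofilteredOrEmpty.cone_objs i₁ i₀
  have hW₂ := Lib.Lim.FPDescend.move hW₁ a₁
  have := Lib.Lim.FPDescend.compactSpace_stage b₁ a₁
  have := Lib.Lim.FPDescend.quasiSeparatedSpace_stage b₁ a₁
  obtain ⟨i₃, a₂, het⟩ := Lib.Lim.SmoothEtale.etale_descends D c hc (fun _ _ _ => inferInstance) i₂
    inferInstance inferInstance (pullback.snd b₁ (D.map a₁)) inferInstance inferInstance
    inferInstance M.b _ hW₂ M.etale
  have := het
  have hW₃ := Lib.Lim.FPDescend.move hW₂ a₂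
  let b₂ := pullback.snd (pullback.snd b₁ (D.map a₁)) (D.map a₂)
  have := Lib.Lim.FPDescend.compactSpace_stage (pullback.snd b₁ (D.map a₁)) a₂
  have := Lib.Lim.FPDescend.quasiSeparatedSpace_stage (pullback.snd b₁ (D.map a₁)) a₂
  have := fun j => compactSpace_bcDiagram D b₂ (i₀ := i₃) j
  have := fun j => quasiSeparatedSpace_bcDiagram D b₂ (i₀ := i₃) j
  have : IsAffine (bcCone hW₃.w).pt := ‹IsAffine M.W›
  obtain ⟨l, hl⟩ := Scheme.exists_isAffine_of_isLimit _ _ (isLimitBcCone hc hW₃)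
  let km : Over i₀ := Over.mk (l.hom ≫ a₂ ≫ a₀)
  let b₃ : pullback b₂ (D.map l.hom) ⟶ D.obj l.left := pullback.snd b₂ (D.map l.hom)
  have : IsAffine (pullback b₂ (D.map l.hom)) := hl
  have : Etale b₃ := MorphismProperty.pullback_snd (P := @Etale) _ _ het
  let gW₃ : M.W ⟶ pullback b₂ (D.map l.hom) := (bcCone hW₃.w).π.app l
  have hW : IsPullback gW₃ M.b b₃ (c.π.app l.left) := isPullback_bcCone_π hW₃ l
  -- the open piece
  let fm : pullback f₀ (D.map km.hom) ⟶ D.obj l.left := pullback.snd f₀ (D.map km.hom)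
  let gm : X ⟶ pullback f₀ (D.map km.hom) := (bcCone hX.w).π.app km
  have hXm : IsPullback gm f fm (c.π.app l.left) := isPullback_bcCone_π hX km
  let hT : pullback fm b₃ ⟶ D.obj l.left := pullback.snd fm b₃ ≫ b₃
  let gT : M.T ⟶ pullback fm b₃ := pullback.lift (M.p ≫ gm) (M.π ≫ gW₃) (by
    rw [Category.assoc, Category.assoc, hXm.w, hW.w, ← Category.assoc, ← Category.assoc, M.hc.w])
  have hT₁ : IsPullback gT M.π (pullback.snd fm b₃) gW₃ := by
    refine IsPullback.of_right ?_ (pullback.lift_snd _ _ _) (IsPullback.of_hasPullback fm b₃)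
    rw [pullback.lift_fst, hW.w]
    exact M.hc.paste_horiz hXm
  have hT₂ : IsPullback gT (M.π ≫ M.b) hT (c.π.app l.left) := hT₁.paste_vert hW
  have := fun j => compactSpace_bcDiagram D hT (i₀ := l.left) j
  obtain ⟨n, -, V₀, hVc₀, hV₀⟩ := Lib.LimTop.Descend.exists_open_preimage_eq (isLimitBcCone hc hT₂)
    (Over.mk (𝟙 l.left)) (U := Set.range M.j) M.j.isOpenEmbedding.isOpen_range
    (isCompact_range M.j.continuous)
  let kn : Over i₀ := Over.mk (n.hom ≫ l.hom ≫ a₂ ≫ a₀)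
  let ψ : kn ⟶ km := Over.homMk n.hom rfl
  let fn : pullback f₀ (D.map kn.hom) ⟶ D.obj n.left := pullback.snd f₀ (D.map kn.hom)
  let t : pullback f₀ (D.map kn.hom) ⟶ pullback f₀ (D.map km.hom) := (bcDiagram D f₀).map ψ
  have hXnm : IsPullback t fn fm (D.map n.hom) :=
    isPullback_bcDiagram_map D f₀ ψ
  let b₄ : pullback b₃ (D.map n.hom) ⟶ D.obj n.left := pullback.snd b₃ (D.map n.hom)
  let π₄ : pullback hT (D.map n.hom) ⟶ pullback b₃ (D.map n.hom) :=
    pullback.lift (pullback.fst hT (D.map n.hom) ≫ pullback.snd fm b₃) (pullback.snd _ _)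
      (by rw [Category.assoc]; exact pullback.condition)
  have hπ₄fst : π₄ ≫ pullback.fst b₃ (D.map n.hom) =
      pullback.fst hT (D.map n.hom) ≫ pullback.snd fm b₃ := pullback.lift_fst _ _ _
  have hπ₄snd : π₄ ≫ b₄ = pullback.snd hT (D.map n.hom) := pullback.lift_snd _ _ _
  have hπ₄ : IsPullback (pullback.fst hT (D.map n.hom)) π₄ (pullback.snd fm b₃)
      (pullback.fst b₃ (D.map n.hom)) := by
    refine IsPullback.of_bot ?_ hπ₄fst.symm (IsPullback.of_hasPullback b₃ (D.map n.hom))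
    rw [hπ₄snd]; exact IsPullback.of_hasPullback hT (D.map n.hom)
  let p₄ : pullback hT (D.map n.hom) ⟶ pullback f₀ (D.map kn.hom) :=
    hXnm.lift (pullback.fst hT (D.map n.hom) ≫ pullback.fst fm b₃) (π₄ ≫ b₄) (by
      rw [hπ₄snd, Category.assoc]
      exact (congrArg (pullback.fst hT (D.map n.hom) ≫ ·) pullback.condition).trans pullback.condition)
  have hp₄fst : p₄ ≫ t = pullback.fst hT (D.map n.hom) ≫ pullback.fst fm b₃ := hXnm.lift_fst _ _ _
  have hp₄snd : p₄ ≫ fn = π₄ ≫ b₄ := hXnm.lift_snd _ _ _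
  have hc₄ : IsPullback p₄ π₄ fn b₄ := by
    refine IsPullback.of_right ?_ hp₄snd hXnm
    rw [hp₄fst, show b₄ ≫ D.map n.hom = pullback.fst b₃ (D.map n.hom) ≫ b₃ from
      pullback.condition.symm]
    exact hπ₄.paste_horiz (IsPullback.of_hasPullback fm b₃)
  have : Etale b₄ := MorphismProperty.pullback_snd (P := @Etale) _ _ ‹Etale b₃›
  let gn : X ⟶ pullback f₀ (D.map kn.hom) := (bcCone hX.w).π.app kn
  have hXn : IsPullback gn f fn (c.π.app n.left) := isPullback_bcCone_π hX kn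
  let gW₄ : M.W ⟶ pullback b₃ (D.map n.hom) := (bcCone hW.w).π.app n
  have hW₄ : IsPullback gW₄ M.b b₄ (c.π.app n.left) := isPullback_bcCone_π hW n
  let gT₄ : M.T ⟶ pullback hT (D.map n.hom) := (bcCone hT₂.w).π.app n
  have hgT₄fst : gT₄ ≫ pullback.fst hT (D.map n.hom) = gT := bcCone_π_fst hT₂.w n
  have hgW₄fst : gW₄ ≫ pullback.fst b₃ (D.map n.hom) = gW₃ := bcCone_π_fst hW.w n
  have hgW₄snd : gW₄ ≫ b₄ = M.b ≫ c.π.app n.left := bcCone_π_snd hW.w n
  have hgT₄snd : gT₄ ≫ pullback.snd hT (D.map n.hom) = (M.π ≫ M.b) ≫ c.π.app n.left :=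
    bcCone_π_snd hT₂.w n
  have hgn : gn ≫ t = gm := (bcCone hX.w).w ψ
  obtain ⟨V, hVc, hV⟩ : ∃ V : (pullback hT (D.map n.hom)).Opens,
      IsCompact (V : Set ↥(pullback hT (D.map n.hom))) ∧
      ⇑gT₄ ⁻¹' (V : Set ↥(pullback hT (D.map n.hom))) = Set.range M.j := ⟨V₀, hVc₀, hV₀⟩
  have hgT₄π : gT₄ ≫ π₄ = M.π ≫ gW₄ := by
    apply pullback.hom_ext
    · rw [Category.assoc, hπ₄fst, reassoc_of% hgT₄fst, Category.assoc, hgW₄fst]
      exact hT₁.w
    · change (gT₄ ≫ π₄) ≫ b₄ = (M.π ≫ gW₄) ≫ b₄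
      rw [Category.assoc, hπ₄snd, Category.assoc, hgW₄snd, hgT₄snd, Category.assoc]
  have hgT₄p : gT₄ ≫ p₄ = M.p ≫ gn := by
    apply hXnm.hom_ext
    · rw [Category.assoc, hp₄fst, reassoc_of% hgT₄fst, Category.assoc, hgn]
      exact pullback.lift_fst _ _ _
    · rw [Category.assoc, hp₄snd, reassoc_of% hgT₄π, hgW₄snd, Category.assoc, hXn.w,
        ← Category.assoc, ← Category.assoc, M.hc.w]
  have hT₄ : IsPullback gT₄ M.π π₄ gW₄ := by
    refine IsPullback.of_right ?_ hgT₄π hπ₄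
    rw [hgT₄fst, hgW₄fst]
    exact hT₁
  -- finiteness
  have hrange : Set.range (M.j ≫ gT₄) ⊆ Set.range V.ι := by
    rw [Scheme.Opens.range_ι]
    rintro _ ⟨x, rfl⟩
    exact (hV.symm ▸ Set.mem_range_self x : M.j x ∈ ⇑gT₄ ⁻¹' (V : Set ↥(pullback hT (D.map n.hom))))
  let gP : M.P ⟶ V.toScheme := IsOpenImmersion.lift V.ι (M.j ≫ gT₄) hrange
  have hgP : gP ≫ V.ι = M.j ≫ gT₄ := IsOpenImmersion.lift_fac _ _ _
  have hP₄ : IsPullback gP M.j V.ι gT₄ := IsOpenImmersion.isPullback gP M.j V.ι gT₄ hgP.symm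
    (TopologicalSpace.Opens.ext (by
      rw [Scheme.Opens.opensRange_ι, Scheme.Hom.coe_preimage, Scheme.Hom.coe_opensRange]
      exact hV))
  have : LocallyOfFinitePresentation π₄ := MorphismProperty.of_isPullback hc₄ inferInstance
  have : CompactSpace V.toScheme := isCompact_iff_compactSpace.mp hVc
  have : QuasiSeparatedSpace V.toScheme :=
    QuasiSeparatedSpace.of_isOpenEmbedding V.ι.isOpenEmbedding
  obtain ⟨i₅, a₅, P₅, W₅, π₅, b₅, pW, pP, hY₅, hX₅, hfin₅⟩ :=
    Lib.Lim.Descend.descend_over Lib.Lim.Props.isFinite_descends D c hc n.left (V.ι ≫ π₄) b₄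
      (M.j ≫ M.π) M.b gW₄ gP hW₄ (hP₄.paste_vert hT₄)
      (show LocallyOfFiniteType (V.ι ≫ π₄) from inferInstance) M.fin
  have := hfin₅
  let k₅ : Over i₀ := Over.mk (a₅ ≫ kn.hom)
  let ψ₅ : k₅ ⟶ kn := Over.homMk a₅ rfl
  let t₅ : pullback f₀ (D.map k₅.hom) ⟶ pullback f₀ (D.map kn.hom) := (bcDiagram D f₀).map ψ₅
  have hb₅ : IsPullback t₅ (pullback.snd f₀ (D.map k₅.hom)) fn (D.map a₅) :=
    isPullback_bcDiagram_map D f₀ ψ₅
  obtain ⟨N, uP, uW, hNsq, hNW, hNp⟩ := exists_member_of_finite hb₅ b₄ p₄ π₄ hc₄ V.ι b₅ pW hY₅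
    π₅ pP hX₅
  -- comparison with the limit
  let g₅ : X ⟶ pullback f₀ (D.map k₅.hom) := (bcCone hX.w).π.app k₅
  have hg₅ : g₅ ≫ t₅ = gn := (bcCone hX.w).w ψ₅
  let eW : M.W ⟶ N.W := hNW.lift gW₄ (M.b ≫ c.π.app i₅) (by rw [hW₄.w, Category.assoc, c.w])
  have heW : IsPullback eW M.b N.b (c.π.app i₅) := by
    refine IsPullback.of_right ?_ (hNW.lift_snd _ _ _) hNW
    rw [hNW.lift_fst, c.w]; exact hW₄
  let e : M.P ⟶ N.P := hNsq.lift gP ((M.j ≫ M.π) ≫ eW) (by
    rw [Category.assoc, hNW.lift_fst]; exact (hP₄.paste_vert hT₄).w)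
  have he : IsPullback e (M.j ≫ M.π) (N.j ≫ N.π) eW := by
    refine IsPullback.of_right ?_ (hNsq.lift_snd _ _ _) hNsq
    rw [hNsq.lift_fst, hNW.lift_fst]
    exact hP₄.paste_vert hT₄
  have hep : e ≫ N.j ≫ N.p = M.j ≫ M.p ≫ g₅ := by
    apply hb₅.hom_ext
    · rw [Category.assoc, Category.assoc, ← hNp, hNsq.lift_fst_assoc, reassoc_of% hgP, hgT₄p,
        Category.assoc, Category.assoc, hg₅]
    · rw [Category.assoc, Category.assoc, Category.assoc, Category.assoc, N.hc.w,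
        ← Category.assoc N.j, ← Category.assoc e, he.w, Category.assoc, heW.w]
      have h5 : g₅ ≫ pullback.snd f₀ (D.map k₅.hom) = f ≫ c.π.app i₅ := bcCone_π_snd hX.w k₅
      rw [h5, ← Category.assoc M.p, M.hc.w]
      simp only [Category.assoc]
  obtain ⟨hcov, hF⟩ := member_comparison M N he hep
  have : IsAffine N.W := by
    have : IsAffine (pullback b₃ (D.map n.hom)) := inferInstance
    exact IsAffine.of_isIso hNW.isoPullback.hom
  have : LocallyOfFinitePresentation (pullback.snd f₀ (D.map k₅.hom)) := inferInstance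
  have : IsAffine (pullback f₀ (D.map k₅.hom)) := inferInstance
  have : LocallyOfFinitePresentation N.π := MorphismProperty.of_isPullback N.hc ‹_›
  -- local constancy
  have : IsAffine N.P := isAffine_of_isAffineHom (N.j ≫ N.π)
  let u₅ : ↥(pullback f₀ (D.map k₅.hom)) → ℤ := u₀ ∘ pullback.fst f₀ (D.map k₅.hom)
  have hlev : ∀ m, IsConstructible {p | u₅ (N.p (N.j p)) = m} := fun m =>
    (N.j ≫ N.p ≫ pullback.fst f₀ (D.map k₅.hom)).isConstructible_preimage (hu m)
  have hlev' : ∀ m, IsConstructible {v | N.F u₅ v = m} := fun m =>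
    CountLevel.isConstructible_levelSet (N.j ≫ N.π) _ hlev (finite_range_of_levels hlev) m
  have hu₅ : u₅ ∘ g₅ = u₀ ∘ pX := funext fun x =>
    congrArg (fun m : X ⟶ X₀ => u₀ (m x)) (bcCone_π_fst hX.w k₅)
  obtain ⟨l₆, h₆⟩ := exists_isLocallyConstant hc heW hlev' (by rw [← hF, hu₅]; exact hM)
  let k₆ : Over i₀ := Over.mk (l₆.hom ≫ k₅.hom)
  let ψ₆ : k₆ ⟶ k₅ := Over.homMk l₆.hom rfl
  let t₆ : pullback f₀ (D.map k₆.hom) ⟶ pullback f₀ (D.map k₅.hom) := (bcDiagram D f₀).map ψ₆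
  have hb₆ : IsPullback t₆ (pullback.snd f₀ (D.map k₆.hom))
      (pullback.snd f₀ (D.map k₅.hom)) (D.map l₆.hom) := isPullback_bcDiagram_map D f₀ ψ₆
  have hG : Good f₀ u₀ k₆ (⇑(t₆) ⁻¹' N.cover) := by
    refine ⟨N.baseChange hb₆, inferInstanceAs (IsAffine (pullback _ _)), ?_,
      N.preimage_cover_subset hb₆⟩
    have e₆ : u₀ ∘ pullback.fst f₀ (D.map k₆.hom) = u₅ ∘ t₆ := funext fun x =>
      congrArg (fun m : pullback f₀ (D.map k₆.hom) ⟶ X₀ => u₀ (m x)) (bcDiagram_map_fst D f₀ ψ₆).symm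
    rw [e₆, show (N.baseChange hb₆).F (u₅ ∘ t₆) =
      N.F u₅ ∘ pullback.fst N.b (D.map l₆.hom) from funext (N.F_baseChange hb₆ u₅)]
    exact h₆
  refine ⟨k₆, _, t₆.isConstructible_preimage (isConstructible_cover N),
    fun x hx => ?_, hG⟩
  show t₆ ((bcCone hX.w).π.app k₆ x) ∈ N.cover
  have e₇ : t₆ ((bcCone hX.w).π.app k₆ x) = g₅ x :=
    congrArg (fun m : X ⟶ _ => m x) ((bcCone hX.w).w ψ₆)
  rw [e₇]
  exact hcov ⟨x, hx, rfl⟩

include hc hX in
/-- A function on a stage with constructible level sets which pulls back to a weighting is a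
weighting at a later stage. -/
theorem exists_isWeighting (u₀ : X₀ → ℤ) (hu : ∀ n, IsConstructible {x | u₀ x = n})
    (hw : MoreMor.IsWeighting f (u₀ ∘ pX)) :
    ∃ k : Over i₀, MoreMor.IsWeighting (pullback.snd f₀ (D.map k.hom))
      (u₀ ∘ pullback.fst f₀ (D.map k.hom)) := by
  classical
  have : IsAffine c.pt := Scheme.isAffine_of_isLimit _ hc
  have : IsAffineHom (c.π.app i₀) := isAffineHom_π hc i₀
  have : IsAffineHom pX := MorphismProperty.of_isPullback hX.flip ‹_›
  have : IsAffine X := isAffine_of_isAffineHom pX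
  have : LocallyQuasiFinite f := MorphismProperty.of_isPullback hX ‹_›
  have : LocallyOfFiniteType f :=
    MorphismProperty.of_isPullback hX (show LocallyOfFiniteType f₀ from inferInstance)
  have key : ∀ x : X, ∃ (k : Over i₀) (A : Set ((bcDiagram D f₀).obj k)), IsConstructible A ∧
      (bcCone hX.w).π.app k x ∈ A ∧ Good f₀ u₀ k A := fun x => by
    obtain ⟨M, hMW, hM, hx⟩ := Members.exists_member hw x
    obtain ⟨k, A, hA, hcov, hG⟩ := exists_good hc hX u₀ hu M hM
    exact ⟨k, A, hA, hcov hx, hG⟩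
  choose k A hA hxA hG using key
  have haff : ∀ j, IsAffine ((bcDiagram D f₀).obj j) := fun j =>
    inferInstanceAs (IsAffine (pullback _ _))
  have := LevelSets.spectralSpace_of_isAffine X
  let g : ∀ x, X ⟶ pullback f₀ (D.map (k x).hom) := fun x => (bcCone hX.w).π.app (k x)
  obtain ⟨S, hS⟩ := @IsCompact.elim_finite_subcover X (constructibleTopology _) Set.univ X
    (@isCompact_univ _ (constructibleTopology _) Lib.Spectral.Basic.compactSpace_cons)
    (fun x => ⇑(g x) ⁻¹' A x)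
    (fun x => (Lib.Spectral.Basic.isClopen_cons_of_isConstructible
      ((g x).isConstructible_preimage (hA x))).2)
    (fun x _ => Set.mem_iUnion.mpr ⟨x, hxA x⟩)
  obtain ⟨m, hm⟩ := IsCofiltered.inf_objs_exists (S.image k)
  have φ : ∀ x : S, m ⟶ k x := fun x => (hm (Finset.mem_image_of_mem k x.2)).some
  let U : Set ((bcDiagram D f₀).obj m) := ⋃ x : S, ⇑((bcDiagram D f₀).map (φ x)) ⁻¹' A x
  have hU : IsConstructible U := IsConstructible.iUnion fun x =>
    Lib.LimTop.Descend.isConstructible_preimage _ (hA x.1)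
  obtain ⟨n, ψ, hn⟩ := Lib.LimTop.Points.exists_map_preimage_subset (isLimitBcCone hc hX) m
    Lib.LimTop.PC.IsPC.univ (Lib.LimTop.PC.IsPC.compl_of_isConstructible hU) (fun x _ => by
      obtain ⟨y, hy, hxy⟩ := Set.mem_iUnion₂.mp (hS (Set.mem_univ x))
      refine Set.mem_iUnion.mpr ⟨⟨y, hy⟩, ?_⟩
      show (bcDiagram D f₀).map (φ ⟨y, hy⟩) ((bcCone hX.w).π.app m x) ∈ A y
      rw [show (bcDiagram D f₀).map (φ ⟨y, hy⟩) ((bcCone hX.w).π.app m x) =
        (bcCone hX.w).π.app (k y) x from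
        congrArg (fun g : X ⟶ _ => g x) ((bcCone hX.w).w (φ ⟨y, hy⟩))]
      exact hxy)
  refine ⟨n, Members.isWeighting _ fun z => ?_⟩
  obtain ⟨y, hy⟩ := Set.mem_iUnion.mp (hn (Set.mem_univ z))
  obtain ⟨M, -, hLC, hMc⟩ := ((hG y.1).map f₀ (φ y)).map f₀ ψ
  exact ⟨M, hLC, hMc hy⟩

end Groth.Agent.H54.WeightingLimit

namespace Groth.Agent.H54.WeightingLimit

open GeomLift
open Groth.Agent
open Lib.Lim.Basic

variable {I : Type u} [SmallCategory I] [IsCofiltered I] {D : I ⥤ Scheme.{u}} {c : Cone D}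
  [∀ i, IsAffine (D.obj i)] (hc : IsLimit c)
  {i₀ : I} {X₀ : Scheme.{u}} [IsAffine X₀] (f₀ : X₀ ⟶ D.obj i₀)
  {X : Scheme.{u}} {f : X ⟶ c.pt} {pX : X ⟶ X₀} (hX : IsPullback pX f f₀ (c.π.app i₀))

include hc hX in
/-- Functions with constructible level sets come from a stage. -/
theorem exists_stage_function [LocallyQuasiFinite f₀] [LocallyOfFiniteType f₀] (w : X → ℤ)
    (hw : MoreMor.IsWeighting f w) :
    ∃ (k : Over i₀) (u : ↥(pullback f₀ (D.map k.hom)) → ℤ),
      (∀ n, IsConstructible {x | u x = n}) ∧ u ∘ ⇑((bcCone hX.w).π.app k) = w := by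
  classical
  have : IsAffine c.pt := Scheme.isAffine_of_isLimit _ hc
  have : IsAffineHom (c.π.app i₀) := isAffineHom_π hc i₀
  have : IsAffineHom pX := MorphismProperty.of_isPullback hX.flip ‹_›
  have : IsAffine X := isAffine_of_isAffineHom pX
  have : LocallyQuasiFinite f := MorphismProperty.of_isPullback hX ‹_›
  have : LocallyOfFiniteType f := MorphismProperty.of_isPullback hX ‹_›
  have haff : ∀ j, IsAffine ((bcDiagram D f₀).obj j) := fun j =>
    inferInstanceAs (IsAffine (pullback _ _))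
  have hlev : ∀ n, IsConstructible {x | w x = n} := fun n => by
    have := (X.topIso.inv).isConstructible_preimage
      (LevelSets.isConstructible_levelSet hw ⊤ (isAffineOpen_top X) n)
    convert this using 1
    ext x
    simp only [Set.mem_preimage, Set.mem_ofPred_eq]
    rw [show (⊤ : X.Opens).ι (X.topIso.inv x) = x from
      congrArg (fun m : X ⟶ X => m x) X.topIso.inv_hom_id]
  let S : Finset ℤ := (finite_range_of_levels hlev).toFinset
  let k₀ : Over i₀ := Over.mk (𝟙 i₀)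
  choose k _ A hA hAeq using fun n : ℤ => Lib.LimTop.Descend.exists_constructible_preimage_eq
    (isLimitBcCone hc hX) k₀ (hlev n)
  obtain ⟨m, hm⟩ := IsCofiltered.inf_objs_exists (S.image k)
  have φ : ∀ n : S, m ⟶ k n := fun n => (hm (Finset.mem_image_of_mem k n.2)).some
  let t : ∀ n : S, pullback f₀ (D.map m.hom) ⟶ pullback f₀ (D.map (k n).hom) :=
    fun n => (bcDiagram D f₀).map (φ n)
  let B : S → Set ↥(pullback f₀ (D.map m.hom)) := fun n => ⇑(t n) ⁻¹' A n
  let val : (S → Bool) → ℤ := fun v => ∑ n : S, if v n then (n : ℤ) else 0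
  let G : ↥(pullback f₀ (D.map m.hom)) → (S → Bool) := fun x n => decide (x ∈ B n)
  refine ⟨m, val ∘ G, fun z => ?_, funext fun x => ?_⟩
  · rw [show {x | (val ∘ G) x = z} = ⋃ v : {v : S → Bool // val v = z},
        ⋂ n : S, if v.1 n then B n else (B n)ᶜ by
      ext x
      simp only [Set.mem_ofPred_eq, Set.mem_iUnion, Set.mem_iInter, Function.comp_apply]
      constructor
      · intro h
        refine ⟨⟨G x, h⟩, fun n => ?_⟩
        by_cases hx : x ∈ B n <;> simp [G, hx]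
      · rintro ⟨⟨v, hv⟩, h⟩
        rw [show G x = v from funext fun n => ?_]
        · exact hv
        have := h n
        cases hvn : v n <;> simp_all [G]]
    refine IsConstructible.iUnion fun v => IsConstructible.iInter fun n => ?_
    have hB : IsConstructible (B n) := (t n).isConstructible_preimage (hA n.1)
    split_ifs
    · exact hB
    · exact hB.compl
  · have hmem : ∀ n : S, ((bcCone hX.w).π.app m x ∈ B n ↔ w x = n) := fun n => by
      show t n ((bcCone hX.w).π.app m x) ∈ A n ↔ _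
      rw [show t n ((bcCone hX.w).π.app m x) = (bcCone hX.w).π.app (k n) x from
        congrArg (fun g : X ⟶ _ => g x) ((bcCone hX.w).w (φ n))]
      exact Set.ext_iff.mp (hAeq n.1) x
    have hx : w x ∈ S := (finite_range_of_levels hlev).mem_toFinset.mpr ⟨x, rfl⟩
    show val (G ((bcCone hX.w).π.app m x)) = w x
    rw [show val (G ((bcCone hX.w).π.app m x)) = ∑ n : S, if n = ⟨w x, hx⟩ then (n : ℤ) else 0 from
      Finset.sum_congr rfl fun n _ => if_congr (by
        simp only [G, decide_eq_true_eq]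
        exact (hmem n).trans ⟨fun h => Subtype.ext h.symm, fun h => h ▸ rfl⟩) rfl rfl]
    simp

end Groth.Agent.H54.WeightingLimit
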