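import Groth.Agent.H54.WeightingFinite

/-!
# An affine scheme finite surjective over the locus of maximal fibre integral

For `X` affine, `Y` separated and a positive weighting `w` with maximal fibre integral `n + 1`, the
tuples of `n + 1` points of a geometric fibre in which every geometric point `x` occurs at most `w x`
times form a closed subscheme of the `(n + 1)`-fold fibre power, finite and surjective over the locus
where the integral is maximal.
-/

universe u

open AlgebraicGeometry CategoryTheory Limits Topology Filter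

namespace Groth.Agent.H54.WeightingTuples

open GeomLift Weighting

/-- An `(n + 1)`-fold fibre power of `f`, with the properties we need. -/
structure Pow {X Y : Scheme.{u}} (f : X ⟶ Y) (n : ℕ) where
  P : Scheme.{u}
  q : P ⟶ Y
  c : Fin (n + 1) → (P ⟶ X)
  fac : ∀ i, c i ≫ f = q
  aff : IsAffine P
  lift : ∀ (T : Scheme.{u}) (g : Fin (n + 1) → (T ⟶ X)) (h : T ⟶ Y), (∀ i, g i ≫ f = h) →
    ∃ l : T ⟶ P, ∀ i, l ≫ c i = g i
  fin : ∀ U : Y.Opens, IsFinite (f ∣_ U) → IsFinite (q ∣_ U)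
  lfp : LocallyOfFinitePresentation f → LocallyOfFinitePresentation q

variable {X Y : Scheme.{u}} {f : X ⟶ Y}

theorem nonempty_pow [IsAffine X] [Y.IsSeparated] (n : ℕ) : Nonempty (Pow f n) := by
  induction n with
  | zero =>
    refine ⟨⟨X, f, fun _ => 𝟙 X, fun _ => Category.id_comp _, inferInstance,
      fun T g h _ => ⟨g 0, fun i => by rw [Category.comp_id, Fin.fin_one_eq_zero i]⟩, fun _ h => h, fun h => h⟩⟩
  | succ n ih =>
    obtain ⟨Q⟩ := ih
    have := Q.aff
    have : IsAffineHom (Q.q ≫ terminal.from Y) := inferInstance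
    have : IsAffineHom Q.q := IsAffineHom.of_comp Q.q (terminal.from Y)
    have : IsAffine (pullback Q.q f) := isAffine_of_isAffineHom (pullback.snd Q.q f)
    refine ⟨⟨pullback Q.q f, pullback.fst _ _ ≫ Q.q,
      Fin.snoc (fun i => pullback.fst _ _ ≫ Q.c i) (pullback.snd _ _), ?_, inferInstance, ?_, ?_,
      fun hf => have := hf; have := Q.lfp hf; inferInstance⟩⟩
    · intro i
      refine Fin.lastCases ?_ (fun i => ?_) i
      · rw [Fin.snoc_last, pullback.condition]
      · rw [Fin.snoc_castSucc, Category.assoc, Q.fac]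
    · intro T g h hg
      obtain ⟨l, hl⟩ := Q.lift T (fun i => g i.castSucc) h fun i => hg _
      refine ⟨pullback.lift l (g (Fin.last _)) ?_, fun i => ?_⟩
      · rw [hg, ← hg (Fin.castSucc 0), ← hl 0, Category.assoc, Q.fac]
      · refine Fin.lastCases ?_ (fun i => ?_) i
        · rw [Fin.snoc_last, pullback.lift_snd]
        · rw [Fin.snoc_castSucc, pullback.lift_fst_assoc, hl]
    · intro U hU
      have h1 := Q.fin U hU
      have h2 : IsPullback ((pullback.fst Q.q f ⁻¹ᵁ (Q.q ⁻¹ᵁ U)).ι ≫ pullback.snd Q.q f)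
          (pullback.fst Q.q f ∣_ (Q.q ⁻¹ᵁ U)) f ((Q.q ⁻¹ᵁ U).ι ≫ Q.q) :=
        (isPullback_morphismRestrict _ _).flip.paste_horiz (IsPullback.of_hasPullback Q.q f).flip
      rw [← morphismRestrict_ι] at h2
      have h4 : IsPullback
          ((isPullback_morphismRestrict f U).flip.lift _ (pullback.fst Q.q f ∣_ (Q.q ⁻¹ᵁ U) ≫ Q.q ∣_ U)
            (h2.w.trans (Category.assoc _ _ _).symm))
          (pullback.fst Q.q f ∣_ (Q.q ⁻¹ᵁ U)) (f ∣_ U) (Q.q ∣_ U) :=
        IsPullback.of_right (by rw [IsPullback.lift_fst]; exact h2) (IsPullback.lift_snd _ _ _ _)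
          (isPullback_morphismRestrict f U).flip
      have h5 : IsFinite (pullback.fst Q.q f ∣_ (Q.q ⁻¹ᵁ U)) := MorphismProperty.of_isPullback h4 hU
      rw [morphismRestrict_comp]
      exact MorphismProperty.comp_mem @IsFinite _ _ h5 h1

variable {n : ℕ} (Q : Pow f n)

/-- The locus where two coordinates agree. -/
def agree (i j : Fin (n + 1)) : Set Q.P :=
  pullback.lift (f := f) (g := f) (Q.c i) (Q.c j) (by rw [Q.fac, Q.fac]) ⁻¹'
    Set.range (pullback.diagonal f)

lemma mem_agree_iff [IsSeparated f] {K : Type u} [Field K] [IsAlgClosed K]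
    (t : Spec (CommRingCat.of K) ⟶ Q.P) (i j : Fin (n + 1)) :
    pt t ∈ agree Q i j ↔ t ≫ Q.c i = t ≫ Q.c j := by
  set δ : Q.P ⟶ pullback f f := pullback.lift (f := f) (g := f) (Q.c i) (Q.c j) (by rw [Q.fac, Q.fac])
  constructor
  · rintro ⟨x, hx⟩
    have : LocallyQuasiFinite (pullback.diagonal f) := inferInstance
    obtain ⟨⟨s, hs⟩, -⟩ := exists_lift (pullback.diagonal f) (t ≫ δ) x hx
    rw [show t ≫ Q.c i = (t ≫ δ) ≫ pullback.fst f f by rw [Category.assoc, pullback.lift_fst],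
      show t ≫ Q.c j = (t ≫ δ) ≫ pullback.snd f f by rw [Category.assoc, pullback.lift_snd], ← hs,
      Category.assoc, Category.assoc, pullback.diagonal_fst, pullback.diagonal_snd]
  · intro h
    refine ⟨pt (t ≫ Q.c i), ?_⟩
    have : (t ≫ Q.c i) ≫ pullback.diagonal f = t ≫ δ := by
      apply pullback.hom_ext
      · rw [Category.assoc, pullback.diagonal_fst, Category.comp_id, Category.assoc, pullback.lift_fst]
      · rw [Category.assoc, pullback.diagonal_snd, Category.comp_id, Category.assoc, pullback.lift_snd, h]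
    exact congrArg pt this

open scoped Classical in
/-- How many coordinates agree with the `i`-th one. -/
noncomputable def cnt (p : Q.P) (i : Fin (n + 1)) : ℕ :=
  (Finset.univ.filter fun j => p ∈ agree Q j i).card

open scoped Classical in
lemma cnt_eq [IsSeparated f] {K : Type u} [Field K] [IsAlgClosed K]
    (t : Spec (CommRingCat.of K) ⟶ Q.P) (i : Fin (n + 1)) :
    cnt Q (pt t) i = (Finset.univ.filter fun j => t ≫ Q.c j = t ≫ Q.c i).card := by
  unfold cnt
  exact congrArg Finset.card (Finset.filter_congr fun j _ => mem_agree_iff Q t j i)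

/-- Tuples in which no coordinate occurs more often than its weight. -/
def good (w : X → ℤ) : Set Q.P := {p | ∀ i, (cnt Q p i : ℤ) ≤ w (Q.c i p)}

variable {w : X → ℤ} [LocallyQuasiFinite f] [LocallyOfFiniteType f] [IsSeparated f]

open scoped Classical in
theorem isClosed_good (hw : MoreMor.IsWeighting f w) (hpos : ∀ x, 0 < w x) :
    IsClosed (good Q w) := by
  rw [← isOpen_compl_iff, isOpen_iff_mem_nhds]
  intro p hp
  simp only [good, Set.mem_compl_iff, Set.mem_ofPred_eq, not_forall, not_le] at hp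
  obtain ⟨i, hi⟩ := hp
  obtain ⟨K, _, _, t, rfl⟩ := exists_pt_eq p
  rw [cnt_eq] at hi
  obtain ⟨D⟩ := nonempty_datum f (t ≫ Q.c i)
  obtain ⟨N, hN, hNo, hηN⟩ := eventually_nhds_iff.mp (D.eventually_integral_eq hw)
  let J := Finset.univ.filter fun j => t ≫ Q.c j = t ≫ Q.c i
  let T := pullback Q.q D.a
  let t' : Spec (CommRingCat.of K) ⟶ T :=
    pullback.lift t D.η (by rw [D.hη, Category.assoc, Q.fac])
  let c' : Fin (n + 1) → (T ⟶ pullback f D.a) := fun j =>
    pullback.lift (pullback.fst Q.q D.a ≫ Q.c j) (pullback.snd Q.q D.a)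
      (by rw [Category.assoc, Q.fac, pullback.condition])
  have hc' : ∀ j ∈ J, t' ≫ c' j = D.p ≫ D.j := fun j hj => by
    apply pullback.hom_ext
    · rw [Category.assoc, Category.assoc, pullback.lift_fst, pullback.lift_fst_assoc, D.hp_fst]
      exact (Finset.mem_filter.mp hj).2
    · rw [Category.assoc, Category.assoc, pullback.lift_snd, pullback.lift_snd, D.hp_snd]
  let O : Set T := (⋂ j ∈ J, c' j ⁻¹' Set.range D.j) ∩ pullback.snd Q.q D.a ⁻¹' N
  have hO : IsOpen O := (J.finite_toSet.isOpen_biInter fun j _ =>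
    D.j.isOpenEmbedding.isOpen_range.preimage (c' j).continuous).inter
      (hNo.preimage (pullback.snd Q.q D.a).continuous)
  have htO : pt t' ∈ O := by
    refine ⟨Set.mem_iInter₂.mpr fun j hj => ⟨pt D.p, (congrArg pt (hc' j hj)).symm⟩, ?_⟩
    show pt (t' ≫ pullback.snd Q.q D.a) ∈ N
    rw [pullback.lift_snd]; exact hηN
  refine Filter.mem_of_superset ((pullback.fst Q.q D.a).isOpenMap _ hO |>.mem_nhds
    ⟨_, htO, congrArg pt (pullback.lift_fst t D.η _)⟩) ?_
  rintro _ ⟨o, ⟨ho1, ho2⟩, rfl⟩ hgood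
  obtain ⟨K', _, _, τ, rfl⟩ := exists_pt_eq o
  have hv := hN _ ho2
  rw [← pt_comp] at hv
  rw [← pt_comp] at hgood
  have hπfin := Scheme.Hom.finite_preimage_singleton (D.j ≫ pullback.snd f D.a)
    (pt (τ ≫ pullback.snd Q.q D.a))
  have := finite_lift (D.j ≫ pullback.snd f D.a) (τ ≫ pullback.snd Q.q D.a) hπfin
  let := Fintype.ofFinite (Lift (D.j ≫ pullback.snd f D.a) (τ ≫ pullback.snd Q.q D.a))
  have hr : ∀ j : {j // j ∈ J}, ∃ r : Lift (D.j ≫ pullback.snd f D.a) (τ ≫ pullback.snd Q.q D.a),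
      r.1 ≫ D.j ≫ pullback.fst f D.a = τ ≫ pullback.fst Q.q D.a ≫ Q.c j.1 := fun j => by
    have hm : pt (τ ≫ c' j.1) ∈ Set.range D.j := Set.mem_iInter₂.mp ho1 j.1 j.2
    refine ⟨⟨IsOpenImmersion.lift D.j _ (range_subset_of_pt_mem _ _ hm), ?_⟩, ?_⟩
    · rw [IsOpenImmersion.lift_fac_assoc, Category.assoc, pullback.lift_snd]
    · dsimp only
      rw [IsOpenImmersion.lift_fac_assoc, Category.assoc, pullback.lift_fst]
  choose r hr using hr
  rw [fibreIntegral_eq_sum, finsum_eq_sum_of_fintype] at hv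
  have hcard : (J.card : ℤ) = ∑ s, ((Finset.univ.filter fun j => r j = s).card : ℤ) := by
    rw [← Nat.cast_sum, ← Finset.card_eq_sum_card_fiberwise (fun j _ => Finset.mem_univ (r j)),
      Finset.card_univ, Fintype.card_coe]
  have hle : ∀ s, ((Finset.univ.filter fun j => r j = s).card : ℤ) ≤
      w (pullback.fst f D.a (D.j (pt s.1))) := fun s => by
    rcases (Finset.univ.filter fun j => r j = s).eq_empty_or_nonempty with he | ⟨j₀, hj₀⟩
    · rw [he]; exact_mod_cast (hpos _).le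
    obtain rfl := (Finset.mem_filter.mp hj₀).2
    have e1 : pullback.fst f D.a (D.j (pt (r j₀).1)) = Q.c j₀.1 (pt (τ ≫ pullback.fst Q.q D.a)) :=
      (congrArg pt (hr j₀)).trans (congrArg pt (Category.assoc _ _ _).symm)
    rw [e1]
    refine le_trans ?_ (hgood j₀.1)
    rw [cnt_eq, Nat.cast_le]
    refine Finset.card_le_card_of_injOn Subtype.val (fun j hj => ?_) Subtype.val_injective.injOn
    refine Finset.mem_filter.mpr ⟨Finset.mem_univ _, ?_⟩
    rw [Category.assoc, Category.assoc, ← hr, ← hr, (Finset.mem_filter.mp hj).2]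
  have := Finset.sum_le_sum (s := Finset.univ) fun s _ => hle s
  rw [← hcard, hv] at this
  exact absurd this (not_le.mpr hi)

variable (hfin : ∀ y : Y, (f ⁻¹' {y}).Finite)
include hfin

omit [LocallyOfFiniteType f] in
open scoped Classical in
lemma integral_of_good (hpos : ∀ x, 0 < w x)
    (hmax : ∀ y : Y, MoreMor.fibreIntegral f w y ≤ ((n : ℤ) + 1)) {p : Q.P} (hp : p ∈ good Q w) :
    MoreMor.fibreIntegral f w (Q.q p) = (n : ℤ) + 1 := by
  obtain ⟨K, _, _, t, rfl⟩ := exists_pt_eq p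
  refine le_antisymm (hmax _) ?_
  rw [← pt_comp]
  have := finite_lift f (t ≫ Q.q) (hfin _)
  let := Fintype.ofFinite (Lift f (t ≫ Q.q))
  rw [fibreIntegral_eq_sum, finsum_eq_sum_of_fintype]
  let r : Fin (n + 1) → Lift f (t ≫ Q.q) := fun j => ⟨t ≫ Q.c j, by rw [Category.assoc, Q.fac]⟩
  have hcard : ((n : ℤ) + 1) = ∑ s, ((Finset.univ.filter fun j => r j = s).card : ℤ) := by
    rw [← Nat.cast_sum, ← Finset.card_eq_sum_card_fiberwise (fun j _ => Finset.mem_univ (r j)),
      Finset.card_univ, Fintype.card_fin]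
    push_cast; rfl
  rw [hcard]
  refine Finset.sum_le_sum fun s _ => ?_
  rcases (Finset.univ.filter fun j => r j = s).eq_empty_or_nonempty with he | ⟨j₀, hj₀⟩
  · rw [he]; exact_mod_cast (hpos _).le
  obtain rfl := (Finset.mem_filter.mp hj₀).2
  refine le_trans ?_ (hp j₀)
  rw [cnt_eq, Nat.cast_le]
  exact Finset.card_le_card fun j hj => Finset.mem_filter.mpr
    ⟨Finset.mem_univ _, congrArg Subtype.val (Finset.mem_filter.mp hj).2⟩

omit [LocallyOfFiniteType f] in
open scoped Classical in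
lemma exists_good (hpos : ∀ x, 0 < w x) {y : Y}
    (hy : MoreMor.fibreIntegral f w y = (n : ℤ) + 1) : ∃ p ∈ good Q w, Q.q p = y := by
  obtain ⟨K, _, _, ξ, rfl⟩ := exists_pt_eq y
  have := finite_lift f ξ (hfin _)
  let := Fintype.ofFinite (Lift f ξ)
  rw [fibreIntegral_eq_sum, finsum_eq_sum_of_fintype] at hy
  let m : Lift f ξ → ℕ := fun s => (w (pt s.1)).toNat
  have hm : ∀ s, ((m s : ℕ) : ℤ) = w (pt s.1) := fun s => Int.toNat_of_nonneg (hpos _).le
  have hc : Fintype.card (Σ s : Lift f ξ, Fin (m s)) = n + 1 := by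
    rw [Fintype.card_sigma, ← @Nat.cast_inj ℤ]
    simp only [Fintype.card_fin]
    push_cast
    rw [Finset.sum_congr rfl fun s _ => hm s, hy]
  let e := (Fintype.equivFinOfCardEq hc).symm
  obtain ⟨l, hl⟩ := Q.lift _ (fun j => (e j).1.1) ξ fun j => (e j).1.2
  have hlq : l ≫ Q.q = ξ := by rw [← Q.fac 0, reassoc_of% hl 0]; exact (e 0).1.2
  refine ⟨pt l, fun i => ?_, congrArg pt hlq⟩
  rw [cnt_eq, ← pt_comp, hl, ← hm, Nat.cast_le]
  refine le_of_le_of_eq (Finset.card_le_card_of_injOn e (t := Finset.univ.filter fun x => x.1 = (e i).1)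
    (fun j hj => ?_) e.injective.injOn) ?_
  · have := (Finset.mem_filter.mp hj).2
    replace this := (hl j).symm.trans this
    exact Finset.mem_filter.mpr ⟨Finset.mem_univ _, Subtype.ext this⟩
  · rw [← Fintype.card_subtype, Fintype.card_congr (Equiv.sigmaSubtype (e i).1), Fintype.card_fin]

omit hfin in
/-- An affine scheme finite surjective over the locus of maximal fibre integral. -/
theorem exists_affine_cover [IsAffine X] [Y.IsSeparated] (hfin : ∀ y : Y, (f ⁻¹' {y}).Finite)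
    (hw : MoreMor.IsWeighting f w) (hpos : ∀ x, 0 < w x) (d : ℤ) (hd : 0 < d)
    (hmax : ∀ y : Y, MoreMor.fibreIntegral f w y ≤ d) :
    ∃ (h : IsOpen {y : Y | MoreMor.fibreIntegral f w y = d}) (Z : Scheme.{u})
      (r : Z ⟶ Scheme.Opens.toScheme (⟨{y : Y | MoreMor.fibreIntegral f w y = d}, h⟩ : Y.Opens)),
      IsAffine Z ∧ IsFinite r ∧ Surjective r := by
  obtain ⟨n, rfl⟩ : ∃ n : ℕ, d = (n : ℤ) + 1 := ⟨(d - 1).toNat, by omega⟩
  obtain ⟨h, hfinite⟩ := isFinite_restrict_max hw hpos hfin ((n : ℤ) + 1) hmax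
  refine ⟨h, ?_⟩
  set Yd : Y.Opens := ⟨{y : Y | MoreMor.fibreIntegral f w y = (n : ℤ) + 1}, h⟩
  obtain ⟨Q⟩ := nonempty_pow (f := f) n
  have := Q.aff
  let I := Scheme.IdealSheafData.vanishingIdeal ⟨good Q w, isClosed_good Q hw hpos⟩
  have hrange : Set.range I.subschemeι = good Q w := by
    rw [I.range_subschemeι]
    simp only [I, Scheme.IdealSheafData.coe_support_vanishingIdeal]
    rfl
  have : IsAffine I.subscheme := isAffine_of_isAffineHom I.subschemeι
  have hsub : Set.range I.subschemeι ⊆ Set.range (Q.q ⁻¹ᵁ Yd).ι := by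
    rw [hrange, Scheme.Opens.range_ι]
    exact fun p hp => integral_of_good Q hfin hpos hmax hp
  let i := IsOpenImmersion.lift (Q.q ⁻¹ᵁ Yd).ι I.subschemeι hsub
  have hi : i ≫ (Q.q ⁻¹ᵁ Yd).ι = I.subschemeι := IsOpenImmersion.lift_fac _ _ _
  have : IsClosedImmersion (i ≫ (Q.q ⁻¹ᵁ Yd).ι) := hi ▸ inferInstance
  have : IsClosedImmersion i := IsClosedImmersion.of_comp i (Q.q ⁻¹ᵁ Yd).ι
  have : IsFinite (Q.q ∣_ Yd) := Q.fin Yd hfinite
  refine ⟨I.subscheme, i ≫ Q.q ∣_ Yd, inferInstance, inferInstance, ⟨fun y => ?_⟩⟩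
  obtain ⟨p, hp, hpy⟩ := exists_good Q hfin hpos y.2
  rw [← hrange] at hp
  obtain ⟨z, rfl⟩ := hp
  refine ⟨z, Subtype.ext ?_⟩
  refine (congrArg (fun m => m z) (show (i ≫ Q.q ∣_ Yd) ≫ Yd.ι = I.subschemeι ≫ Q.q by
    rw [Category.assoc, morphismRestrict_ι, reassoc_of% hi])).trans hpy

end Groth.Agent.H54.WeightingTuples
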